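import Mathlib
import Cfsg.Agent.LFourA.FieldInv
import Cfsg.Agent.TwoFusion.NormalSL2

/-!
# Automorphisms of `SL(2,F)` of 2-power order that are trivial on a Sylow 2-subgroup (S0510, fact (F))

`F` a finite field of odd order, `L ≃* SL(2,F)`, `α` an automorphism of `L` with `α ^ 2 ^ k = 1` which fixes
every element of a Sylow 2-subgroup of `L`. Then `α = 1`.
-/

set_option autoImplicit false

namespace Cfsg.Agent.LFourB.AutSylow

open Matrix Cfsg.Agent.Lib.SL2Mat Cfsg.Agent.Lib.AutSL2 Cfsg.Agent.Lib.AutSL2Out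
  Cfsg.Agent.Lib.PSL2Inv Cfsg.Agent.LFourA.FieldInv

section field

variable {F : Type*} [Field F] [Finite F]

theorem odd_card_of_two_ne {K : Type*} [Field K] [Finite K] (h2 : (2 : K) ≠ 0) : Odd (Nat.card K) := by
  have : Fintype K := Fintype.ofFinite K
  rw [Nat.card_eq_fintype_card, Nat.odd_iff]
  apply FiniteField.odd_card_of_char_ne_two
  intro h
  apply h2
  have : CharP K 2 := by rw [← h]; exact ringChar.charP K
  exact CharTwo.two_eq_zero

/-- `x σ(x) = x ^ (r + 1)` for an involutory automorphism `σ` with fixed field of order `r` -/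
theorem pow_of_involutory (σ : F ≃+* F) (hσ2 : ∀ a, σ (σ a) = a) {K : Subfield F}
    (hK : ∀ a, a ∈ K ↔ σ a = a) (hσ : ∃ a, σ a ≠ a) (t : F) :
    σ t = t ^ Nat.card K := by
  classical
  have : Fintype K := Fintype.ofFinite K
  have : Fintype F := Fintype.ofFinite F
  rw [Nat.card_eq_fintype_card]
  set φ := FiniteField.frobeniusAlgHom K F with hφ
  have hφ' : ∀ t, φ t = t ^ Fintype.card K := fun t => rfl
  rw [← hφ']
  have key : ∀ t, φ t = t ∨ φ t = σ t := by
    intro t
    have hT : t + σ t ∈ K := by rw [hK, map_add, hσ2, add_comm]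
    have hN : t * σ t ∈ K := by rw [hK, map_mul, hσ2, mul_comm]
    have h2 : t * t - algebraMap K F ⟨_, hT⟩ * t + algebraMap K F ⟨_, hN⟩ = 0 := by
      change t * t - (t + σ t) * t + t * σ t = 0
      ring
    have h3 := congrArg φ h2
    rw [map_add, map_sub, map_mul, map_mul, map_zero, AlgHom.commutes, AlgHom.commutes] at h3
    change φ t * φ t - (t + σ t) * φ t + t * σ t = 0 at h3
    have h4 : (φ t - t) * (φ t - σ t) = 0 := by linear_combination h3
    rcases mul_eq_zero.1 h4 with h | h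
    · exact Or.inl (sub_eq_zero.1 h)
    · exact Or.inr (sub_eq_zero.1 h)
  have hfix : ∀ t, φ t = t → σ t = t := by
    intro t ht
    have hq1 : 1 < Fintype.card K := Fintype.one_lt_card
    have hne : (Polynomial.X ^ Fintype.card K - Polynomial.X : Polynomial F) ≠ 0 :=
      FiniteField.X_pow_card_sub_X_ne_zero F hq1
    have hsub : (Finset.univ : Finset K).image (algebraMap K F) ⊆
        (Polynomial.X ^ Fintype.card K - Polynomial.X : Polynomial F).roots.toFinset := by
      intro y hy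
      obtain ⟨a, -, rfl⟩ := Finset.mem_image.1 hy
      rw [Multiset.mem_toFinset, Polynomial.mem_roots hne, Polynomial.IsRoot.def, Polynomial.eval_sub,
        Polynomial.eval_pow, Polynomial.eval_X, ← map_pow, FiniteField.pow_card, sub_self]
    have hcard : (Polynomial.X ^ Fintype.card K - Polynomial.X : Polynomial F).roots.toFinset.card ≤
        ((Finset.univ : Finset K).image (algebraMap K F)).card := by
      rw [Finset.card_image_of_injective _ (algebraMap K F).injective, Finset.card_univ]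
      refine (Multiset.toFinset_card_le _).trans ((Polynomial.card_roots' _).trans ?_)
      rw [FiniteField.X_pow_card_sub_X_natDegree_eq F hq1]
    have heq := Finset.eq_of_subset_of_card_le hsub hcard
    have ht' : t ∈ (Finset.univ : Finset K).image (algebraMap K F) := by
      rw [heq, Multiset.mem_toFinset, Polynomial.mem_roots hne, Polynomial.IsRoot.def,
        Polynomial.eval_sub, Polynomial.eval_pow, Polynomial.eval_X, ← hφ', ht, sub_self]
    obtain ⟨a, -, h⟩ := Finset.mem_image.1 ht'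
    rw [← hK, ← h]
    exact a.2
  obtain ⟨t₀, ht₀⟩ := hσ
  have h0 : φ t₀ = σ t₀ := by
    rcases key t₀ with h | h
    · exact absurd (hfix _ h) ht₀
    · exact h
  by_cases ht : σ t = t
  · have h1 : σ (t + t₀) ≠ t + t₀ := by
      rw [map_add, ht]
      intro h
      exact ht₀ (add_left_cancel h)
    have h2 : φ (t + t₀) = σ (t + t₀) := by
      rcases key (t + t₀) with h | h
      · exact absurd (hfix _ h) h1
      · exact h
    rw [map_add, map_add, h0] at h2
    exact (add_right_cancel h2).symm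
  · rcases key t with h | h
    · exact absurd (hfix _ h) ht
    · exact h.symm

/-- an involutory field automorphism moves `ζ + ζ⁻¹` for some `ζ` of 2-power order -/
theorem exists_moved (h2 : (2 : F) ≠ 0) (σ : F ≃+* F) (hσ2 : ∀ a, σ (σ a) = a) (hσ : ∃ a, σ a ≠ a) :
    ∃ (ζ : F) (n : ℕ), ζ ≠ 0 ∧ ζ ^ 2 ^ n = 1 ∧ σ (ζ + ζ⁻¹) ≠ ζ + ζ⁻¹ := by
  classical
  obtain ⟨K, hK, hcard⟩ := exists_fixed σ hσ2 hσ
  have hpow := pow_of_involutory σ hσ2 hK hσ
  have hK2 : (2 : K) ≠ 0 := by
    intro h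
    exact h2 (congrArg Subtype.val h)
  have hodd := odd_card_of_two_ne hK2
  obtain ⟨r, hr⟩ : ∃ r, r = Nat.card K := ⟨_, rfl⟩
  rw [← hr] at hodd hcard hpow
  have hr1 : 1 < r := by
    rw [hr]
    exact Finite.one_lt_card
  have : Fintype F := Fintype.ofFinite F
  -- a generator of the multiplicative group
  obtain ⟨g, hg⟩ := IsCyclic.exists_ofOrder_eq_natCard (α := Fˣ)
  have hcu : Nat.card Fˣ = (r - 1) * (r + 1) := by
    rw [Nat.card_units, hcard]
    obtain ⟨s, rfl⟩ : ∃ s, r = s + 1 := ⟨r - 1, by omega⟩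
    have : (s + 1) ^ 2 - 1 = s * (s + 2) := by
      have : (s + 1) ^ 2 = s * (s + 2) + 1 := by ring
      omega
    rw [this]
    congr 1
  rw [hcu] at hg
  -- the odd part
  obtain ⟨n, m, hm, hnm⟩ := Nat.exists_eq_two_pow_mul_odd (n := (r - 1) * (r + 1)) (by
    have : 0 < r - 1 := by omega
    positivity)
  by_contra hcon
  push Not at hcon
  have hz : (g ^ m) ^ 2 ^ n = 1 := by
    rw [← pow_mul, mul_comm m, ← hnm, ← hg, pow_orderOf_eq_one]
  have h1 := hcon ((g ^ m : Fˣ) : F) n (Units.ne_zero _) (by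
    have := congrArg Units.val hz
    rwa [Units.val_pow_eq_pow_val, Units.val_one] at this)
  set ζ : F := ((g ^ m : Fˣ) : F) with hζ
  have hζ0 : ζ ≠ 0 := Units.ne_zero _
  rw [map_add, map_inv₀] at h1
  have h3 : (σ ζ - ζ) * (ζ * σ ζ - 1) = 0 := by
    have hs0 : σ ζ ≠ 0 := by rwa [ne_eq, map_eq_zero]
    field_simp at h1
    linear_combination h1
  rw [hpow] at h3
  have hdvd : ∀ j : ℕ, ζ ^ j = 1 → (r - 1) * (r + 1) ∣ m * j := by
    intro j hj
    rw [← hg]
    apply orderOf_dvd_of_pow_eq_one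
    apply Units.ext
    rw [pow_mul, Units.val_pow_eq_pow_val, hj, Units.val_one]
  rcases mul_eq_zero.1 h3 with h | h
  · have h4 : ζ ^ (r - 1) = 1 := by
      have h5 : ζ ^ (r - 1) * ζ = 1 * ζ := by
        rw [← pow_succ, Nat.sub_add_cancel hr1.le, one_mul]
        exact sub_eq_zero.1 h
      exact mul_right_cancel₀ hζ0 h5
    have h5 := hdvd _ h4
    rw [mul_comm m, Nat.mul_dvd_mul_iff_left (by omega)] at h5
    have h6 : Even (r + 1) := hodd.add_one
    exact (Nat.not_even_iff_odd.2 hm) (h6.trans_dvd h5)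
  · have h4 : ζ ^ (r + 1) = 1 := by
      rw [pow_succ', ← sub_eq_zero]
      exact h
    have h5 := hdvd _ h4
    rw [Nat.mul_dvd_mul_iff_right (by omega)] at h5
    have h6 : Even (r - 1) := by
      obtain ⟨k, hk⟩ := hodd
      exact ⟨k, by omega⟩
    exact (Nat.not_even_iff_odd.2 hm) (h6.trans_dvd h5)

end field

section main

variable {F : Type*} [Field F]

/-- a matrix commuting with two matrices that do not commute is scalar -/
theorem scalar_of_noncomm {X x y : Matrix (Fin 2) (Fin 2) F} (hx : X * x = x * X) (hy : X * y = y * X)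
    (hxy : x * y ≠ y * x) : X = X 0 0 • (1 : Matrix (Fin 2) (Fin 2) F) := by
  have x00 := congrFun (congrFun hx 0) 0
  have x01 := congrFun (congrFun hx 0) 1
  have x10 := congrFun (congrFun hx 1) 0
  have y00 := congrFun (congrFun hy 0) 0
  have y01 := congrFun (congrFun hy 0) 1
  have y10 := congrFun (congrFun hy 1) 0
  simp only [Matrix.mul_apply, Fin.sum_univ_two] at x00 x01 x10 y00 y01 y10
  have hfin : ¬ (x 0 1 * y 1 0 = y 0 1 * x 1 0 ∧ (x 0 0 - x 1 1) * y 0 1 = (y 0 0 - y 1 1) * x 0 1 ∧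
      (x 0 0 - x 1 1) * y 1 0 = (y 0 0 - y 1 1) * x 1 0) := by
    rintro ⟨h1, h2, h3⟩
    apply hxy
    ext i j
    fin_cases i <;> fin_cases j <;> simp [Matrix.mul_apply, Fin.sum_univ_two]
    · linear_combination h1
    · linear_combination h2
    · linear_combination -h3
    · linear_combination -h1
  obtain ⟨a, ha⟩ : ∃ a, a = X 0 1 := ⟨_, rfl⟩
  obtain ⟨b, hb⟩ : ∃ b, b = X 1 0 := ⟨_, rfl⟩
  obtain ⟨d, hd⟩ : ∃ d, d = X 0 0 - X 1 1 := ⟨_, rfl⟩
  have e1 : a * x 1 0 = x 0 1 * b := by rw [ha, hb]; linear_combination x00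
  have e2 : d * x 0 1 = (x 0 0 - x 1 1) * a := by rw [ha, hd]; linear_combination x01
  have e3 : d * x 1 0 = (x 0 0 - x 1 1) * b := by rw [hb, hd]; linear_combination -x10
  have f1 : a * y 1 0 = y 0 1 * b := by rw [ha, hb]; linear_combination y00
  have f2 : d * y 0 1 = (y 0 0 - y 1 1) * a := by rw [ha, hd]; linear_combination y01
  have f3 : d * y 1 0 = (y 0 0 - y 1 1) * b := by rw [hb, hd]; linear_combination -y10
  have hsub : ∀ u v w : F, u ≠ 0 → u * (v - w) = 0 → v = w := fun u v w hu h =>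
    sub_eq_zero.1 ((mul_eq_zero.1 h).resolve_left hu)
  have ha0 : a = 0 := by
    by_contra hne
    apply hfin
    have k2 : (x 0 0 - x 1 1) * y 0 1 = (y 0 0 - y 1 1) * x 0 1 := by
      apply hsub a _ _ hne
      linear_combination -(y 0 1) * e2 + x 0 1 * f2
    refine ⟨?_, k2, ?_⟩
    · apply hsub a _ _ hne
      linear_combination x 0 1 * f1 - y 0 1 * e1
    · apply hsub a _ _ hne
      linear_combination (x 0 0 - x 1 1) * f1 - (y 0 0 - y 1 1) * e1 + b * k2
  have hb0 : b = 0 := by
    by_contra hne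
    apply hfin
    rw [ha0] at e1 e2 f1 f2
    have k3 : (x 0 0 - x 1 1) * y 1 0 = (y 0 0 - y 1 1) * x 1 0 := by
      apply hsub b _ _ hne
      linear_combination -(y 1 0) * e3 + x 1 0 * f3
    have hx0 : x 0 1 = 0 := by
      rw [zero_mul] at e1
      exact (mul_eq_zero.1 e1.symm).resolve_right hne
    have hy0 : y 0 1 = 0 := by
      rw [zero_mul] at f1
      exact (mul_eq_zero.1 f1.symm).resolve_right hne
    refine ⟨?_, ?_, k3⟩
    · rw [hx0, hy0]; ring
    · rw [hx0, hy0]; ring
  have hd0 : d = 0 := by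
    by_contra hne
    apply hfin
    rw [ha0, mul_zero] at e2 f2
    rw [hb0, mul_zero] at e3 f3
    have hx0 := (mul_eq_zero.1 e2).resolve_left hne
    have hy0 := (mul_eq_zero.1 f2).resolve_left hne
    have hx1 := (mul_eq_zero.1 e3).resolve_left hne
    have hy1 := (mul_eq_zero.1 f3).resolve_left hne
    rw [hx0, hy0, hx1, hy1]
    refine ⟨?_, ?_, ?_⟩ <;> ring
  have r1 : X 0 1 = 0 := by rw [← ha, ha0]
  have r2 : X 1 0 = 0 := by rw [← hb, hb0]
  have r3 : X 1 1 = X 0 0 := by
    rw [hd] at hd0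
    exact (sub_eq_zero.1 hd0).symm
  ext i' j'
  fin_cases i' <;> fin_cases j' <;> simp [r1, r2, r3]

theorem dg_pow (ζ : F) (hζ : ζ ≠ 0) (n : ℕ) : (dg ζ hζ) ^ n = dg (ζ ^ n) (pow_ne_zero n hζ) := by
  induction n with
  | zero =>
    refine ext_ent ?_ ?_ ?_ ?_ <;> simp
  | succ n ih =>
    rw [pow_succ, ih]
    refine ext_ent ?_ ?_ ?_ ?_ <;> simp [ent_mul, pow_succ]
    · field_simp

/-- the automorphisms of order at most 2 -/
theorem eq_one_of_invol [Finite F] (h2 : (2 : F) ≠ 0) {β : MulAut (Matrix.SpecialLinearGroup (Fin 2) F)}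
    (hβ : ∀ x, β (β x) = x) (Q : Sylow 2 (Matrix.SpecialLinearGroup (Fin 2) F)) (hQ : ∀ x ∈ Q, β x = x) :
    β = 1 := by
  classical
  have hconj : ∀ P : Subgroup (Matrix.SpecialLinearGroup (Fin 2) F), IsPGroup 2 P →
      ∃ g : Matrix.SpecialLinearGroup (Fin 2) F, ∀ x ∈ P, g * x * g⁻¹ ∈ Q := by
    intro P hP
    obtain ⟨R, hR⟩ := hP.exists_le_sylow
    obtain ⟨g, hg⟩ := MulAction.exists_smul_eq (Matrix.SpecialLinearGroup (Fin 2) F) R Q
    refine ⟨g, fun x hx => ?_⟩
    rw [← hg, mem_smul_sylow]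
    have : g⁻¹ * (g * x * g⁻¹) * g = x := by group
    rw [this]
    exact hR hx
  obtain ⟨g, σ, hgσ⟩ := exists_gl_ringEquiv (MonoidHom.id (Matrix.SpecialLinearGroup (Fin 2) F))
    Function.surjective_id (by rw [MonoidHom.ker_id]; exact bot_le) β
  simp only [MonoidHom.id_apply] at hgσ
  have hsemi : ∀ (k : GL (Fin 2) F) (x), fieldAut σ (conjGL k x) =
      conjGL (Matrix.GeneralLinearGroup.map σ.toRingHom k) (fieldAut σ x) := by
    intro k x
    have := DFunLike.congr_fun (fieldAut_mul_conjGL σ k) x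
    rwa [MulAut.mul_apply, MulAut.mul_apply] at this
  -- the square
  have hsq : ∀ x, conjGL (g * Matrix.GeneralLinearGroup.map σ.toRingHom g) (fieldAut (σ * σ) x) = x ∨
      conjGL (g * Matrix.GeneralLinearGroup.map σ.toRingHom g) (fieldAut (σ * σ) x) = -x := by
    intro x
    have h1 := hβ x
    rw [hgσ, hgσ, hsemi] at h1
    have h5 : conjGL (g * Matrix.GeneralLinearGroup.map σ.toRingHom g) (fieldAut (σ * σ) x) =
        conjGL g (conjGL (Matrix.GeneralLinearGroup.map σ.toRingHom g) (fieldAut σ (fieldAut σ x))) := by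
      rw [map_mul, map_mul]; rfl
    rw [h5]
    exact Or.inl h1
  obtain ⟨hσ, -⟩ := eq_one_of_map h2 hsq
  have hσ2 : ∀ a, σ (σ a) = a := fun a => DFunLike.congr_fun hσ a
  -- traces of the elements of `Q` are fixed by `σ`
  have htr : ∀ x ∈ Q, σ (tr x) = tr x := by
    intro x hx
    have h1 := congrArg tr (hQ x hx)
    rw [hgσ, tr_conjGL, tr_fieldAut] at h1
    exact h1
  have hσ1 : ∀ a, σ a = a := by
    by_contra hne
    push Not at hne
    obtain ⟨ζ, n, hζ0, hζ, hmove⟩ := exists_moved h2 σ hσ2 hne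
    obtain ⟨k, hk⟩ := hconj (Subgroup.zpowers (dg ζ hζ0)) (by
      rintro ⟨_, m, rfl⟩
      refine ⟨n, ?_⟩
      apply Subtype.ext
      change ((dg ζ hζ0) ^ m) ^ 2 ^ n = 1
      rw [← zpow_natCast, zpow_comm, zpow_natCast, dg_pow]
      have : dg (ζ ^ 2 ^ n) (pow_ne_zero _ hζ0) = 1 := by
        refine ext_ent ?_ ?_ ?_ ?_ <;> simp [hζ]
      rw [this, _root_.one_zpow])
    have h1 := htr _ (hk _ (Subgroup.mem_zpowers _))
    rw [← conjGL_toGL, tr_conjGL] at h1
    apply hmove
    have h3 : tr (dg ζ hζ0) = ζ + ζ⁻¹ := by simp [tr]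
    rwa [h3] at h1
  have hfa : ∀ x, fieldAut σ x = x := by
    intro x
    have : σ = 1 := RingEquiv.ext hσ1
    rw [this, map_one, MulAut.one_apply]
  obtain ⟨R, hR, i, hi, j, hj, hij⟩ := Cfsg.Agent.TwoFusion.NormalSL2.exists_two_subgroup (F := F) h2
  obtain ⟨k, hk⟩ := hconj R hR
  have hx := hQ _ (hk i hi)
  have hy := hQ _ (hk j hj)
  rw [hgσ, hfa] at hx hy
  have hs := scalar_of_noncomm (comm_of_conj hx) (comm_of_conj hy) (by
    intro h
    apply hij
    have h1 : (k * i * k⁻¹) * (k * j * k⁻¹) = (k * j * k⁻¹) * (k * i * k⁻¹) := Subtype.ext h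
    have h3 : k * (i * j) * k⁻¹ = k * (j * i) * k⁻¹ := by
      calc _ = (k * i * k⁻¹) * (k * j * k⁻¹) := by group
        _ = _ := by rw [h1]; group
    exact mul_left_cancel (mul_right_cancel h3))
  ext x
  rw [MulAut.one_apply, hgσ, hfa, conjGL_scalar hs]

/-- **Fact (F).** An automorphism of order at most 2 of `L ≃* SL(2,F)` that fixes every element of a Sylow
2-subgroup is trivial. -/
theorem eq_one_of_sylow_invol [Finite F] (h2 : (2 : F) ≠ 0) {L : Type*} [Group L]
    (e : L ≃* Matrix.SpecialLinearGroup (Fin 2) F) {α : MulAut L} (hα : ∀ x, α (α x) = x)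
    (Q : Sylow 2 L) (hQ : ∀ x ∈ Q, α x = x) : α = 1 := by
  have hfin : Finite L := Finite.of_equiv _ e.symm.toEquiv
  obtain ⟨P, hP⟩ : ∃ P : Sylow 2 (Matrix.SpecialLinearGroup (Fin 2) F), ∀ x ∈ P, e.symm x ∈ Q := by
    refine ⟨Q.mapSurjective (f := e.toMonoidHom) e.surjective, ?_⟩
    rintro _ ⟨y, hy, rfl⟩
    change e.symm (e y) ∈ Q
    rw [e.symm_apply_apply]
    exact hy
  have h1 : MulAut.congr e α = 1 := by
    apply eq_one_of_invol h2 (Q := P)
    · intro x
      change e (α (e.symm (e (α (e.symm x))))) = x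
      rw [e.symm_apply_apply, hα, e.apply_symm_apply]
    · intro x hx
      change e (α (e.symm x)) = x
      rw [hQ _ (hP x hx), e.apply_symm_apply]
  ext x
  have h3 := DFunLike.congr_fun h1 (e x)
  change e (α (e.symm (e x))) = e x at h3
  rw [e.symm_apply_apply] at h3
  exact e.injective h3

/-- **Fact (F).** An automorphism of 2-power order of `L ≃* SL(2,F)` that fixes every element of a Sylow
2-subgroup is trivial. -/
theorem eq_one_of_sylow [Finite F] (h2 : (2 : F) ≠ 0) {L : Type*} [Group L]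
    (e : L ≃* Matrix.SpecialLinearGroup (Fin 2) F) {α : MulAut L} {n : ℕ} (hα : α ^ 2 ^ n = 1)
    (Q : Sylow 2 L) (hQ : ∀ x ∈ Q, α x = x) : α = 1 := by
  induction n with
  | zero => simpa using hα
  | succ n ih =>
    apply ih
    apply eq_one_of_sylow_invol h2 e _ Q
    · intro x hx
      have : ∀ k : ℕ, (α ^ k) x = x := by
        intro k
        induction k with
        | zero => rfl
        | succ k ih => rw [pow_succ, MulAut.mul_apply, hQ x hx, ih]
      exact this _
    · intro x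
      rw [← MulAut.mul_apply, ← pow_add, ← two_mul, ← pow_succ', hα, MulAut.one_apply]

/-- **Fact (F), conjugation form.** `L` a subgroup of `H`, `L ≃* SL(2,F)`; a 2-element of `N(L)` that centralises
a Sylow 2-subgroup of `L` centralises `L`. -/
theorem commute_of_sylow [Finite F] (h2 : (2 : F) ≠ 0) {H : Type*} [Group H] {L : Subgroup H}
    (e : L ≃* Matrix.SpecialLinearGroup (Fin 2) F) {a : H} {n : ℕ} (ha : a ^ 2 ^ n ∈ Subgroup.centralizer (L : Set H))
    (haL : ∀ x ∈ L, a * x * a⁻¹ ∈ L) (Q : Sylow 2 L) (hQ : ∀ x ∈ Q, a * (x : H) = x * a) :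
    ∀ x ∈ L, a * x = x * a := by
  have hfin : Finite L := Finite.of_equiv _ e.symm.toEquiv
  have hinj : Function.Injective (fun x : L => (⟨a * x * a⁻¹, haL x x.2⟩ : L)) := by
    intro x y h
    have := congrArg Subtype.val h
    exact Subtype.ext (mul_left_cancel (mul_right_cancel this))
  let f : L →* L :=
    { toFun := fun x => ⟨a * x * a⁻¹, haL x x.2⟩
      map_one' := by apply Subtype.ext; simp
      map_mul' := fun x y => by
        apply Subtype.ext
        simp only [Subgroup.coe_mul]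
        group }
  let α : MulAut L := MulEquiv.ofBijective f (Finite.injective_iff_bijective.1 hinj)
  have hα : ∀ x : L, ((α x : L) : H) = a * x * a⁻¹ := fun x => rfl
  have hαk : ∀ (k : ℕ) (x : L), (((α ^ k) x : L) : H) = a ^ k * x * (a ^ k)⁻¹ := by
    intro k
    induction k with
    | zero => intro x; simp
    | succ k ih =>
      intro x
      rw [pow_succ, MulAut.mul_apply, ih, hα, pow_succ]
      group
  have h1 : α = 1 := by
    apply eq_one_of_sylow h2 e (n := n) _ Q
    · intro x hx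
      apply Subtype.ext
      rw [hα, hQ x hx, mul_inv_cancel_right]
    · ext x
      rw [hαk, MulAut.one_apply, ← Subgroup.mem_centralizer_iff.1 ha x x.2, mul_inv_cancel_right]
  intro x hx
  have h3 := hα ⟨x, hx⟩
  rw [h1, MulAut.one_apply] at h3
  exact (eq_mul_inv_iff_mul_eq.1 h3).symm

end main

end Cfsg.Agent.LFourB.AutSylow
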