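import Mathlib
import Cfsg.Agent.LFourA.FieldInv
import Cfsg.Agent.LFourA.AutTwo
import Cfsg.Agent.PLocal.SLTwoSylow

/-!
# An involutory automorphism of `SL(2,F)`, `F` finite of odd order, that fixes a Sylow 2-subgroup pointwise is trivial
(S0510, [F] of #6991)
-/

set_option autoImplicit false

namespace Cfsg.Agent.LFourB.FixQuat

open Matrix Cfsg.Agent.Lib.SL2Mat Cfsg.Agent.Lib.PSL2Inv

variable {F : Type*} [Field F] [Finite F]

/-- a field automorphism of order 2 is the power map of the fixed field -/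
theorem exists_pow_card (σ : F ≃+* F) (hσ2 : ∀ a, σ (σ a) = a) (hσ : ∃ a, σ a ≠ a) :
    ∃ q₀ : ℕ, Nat.card F = q₀ ^ 2 ∧ ∀ a, σ a = a ^ q₀ := by
  classical
  obtain ⟨K, hK, hc⟩ := Cfsg.Agent.LFourA.FieldInv.exists_fixed σ hσ2 hσ
  refine ⟨Nat.card K, hc, ?_⟩
  have : Fintype K := Fintype.ofFinite _
  have : Algebra.IsAlgebraic K F := Algebra.IsAlgebraic.of_finite K F
  let σ' : F ≃ₐ[K] F := AlgEquiv.ofRingEquiv (f := σ) (fun r => (hK r.1).mp r.2)
  have hσ' : ∀ x, σ' x = σ x := fun x => rfl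
  have hfin : Module.finrank K F = 2 := by
    have h1 : Nat.card F = Nat.card K ^ Module.finrank K F := Module.natCard_eq_pow_finrank
    rw [hc] at h1
    have h2 : 1 < Nat.card K := Finite.one_lt_card
    exact (Nat.pow_right_injective h2 h1).symm
  obtain ⟨j, hj⟩ := (FiniteField.bijective_frobeniusAlgEquivOfAlgebraic_pow K F).2 σ'
  have hj2 : (j : ℕ) < 2 := by have := j.2; omega
  change (FiniteField.frobeniusAlgEquivOfAlgebraic K F) ^ (j : ℕ) = σ' at hj
  have hpow : ∀ (i : ℕ) (x : F),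
      ((FiniteField.frobeniusAlgEquivOfAlgebraic K F) ^ i) x = x ^ (Fintype.card K ^ i) := by
    intro i x
    have h1 := congrFun (FiniteField.coe_frobeniusAlgEquivOfAlgebraic_iterate K F i) x
    rw [← h1, AlgEquiv.coe_pow]
  intro a
  rcases Nat.lt_succ_iff_lt_or_eq.mp hj2 with h | h
  · exfalso
    have hj0 : (j : ℕ) = 0 := by omega
    obtain ⟨b, hb⟩ := hσ
    apply hb
    rw [← hσ', ← hj, hpow, hj0, pow_zero, pow_one]
  · rw [← hσ', ← hj, hpow, h, pow_one, Nat.card_eq_fintype_card]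

/-- the Sylow 2-subgroups are not commutative -/
theorem exists_not_comm (h2 : (2 : F) ≠ 0) (Q : Sylow 2 (Matrix.SpecialLinearGroup (Fin 2) F)) :
    ∃ x ∈ Q, ∃ y ∈ Q, x * y ≠ y * x := by
  by_contra hcon
  push Not at hcon
  obtain ⟨p, hpc⟩ := CharP.exists F
  have : CharP F p := hpc
  have hp : Fact p.Prime := ⟨CharP.char_is_prime F p⟩
  have hp2 : p ≠ 2 := by
    rintro rfl
    exact h2 (CharP.cast_eq_zero F 2)
  have hup : ∀ b : F, up b ^ p = 1 := by
    intro b
    rw [Cfsg.Agent.Lib.AutSL2.up_pow, CharP.cast_eq_zero, zero_mul, up_zero]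
  have hlo : ∀ b : F, lo b ^ p = 1 := by
    intro b
    have h1 : ∀ n : ℕ, lo b ^ n = lo (n * b) := by
      intro n
      induction n with
      | zero => rw [pow_zero, Nat.cast_zero, zero_mul, lo_zero]
      | succ n ih => rw [pow_succ, ih, lo_mul]; congr 1; push_cast; ring
    rw [h1, CharP.cast_eq_zero, zero_mul, lo_zero]
  have hgen : Subgroup.closure {x : Matrix.SpecialLinearGroup (Fin 2) F | ∃ n : ℕ, x ^ p ^ n = 1} = ⊤ := by
    rw [eq_top_iff]
    intro x _
    have hu : ∀ b : F, up b ∈ Subgroup.closure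
        {x : Matrix.SpecialLinearGroup (Fin 2) F | ∃ n : ℕ, x ^ p ^ n = 1} :=
      fun b => Subgroup.subset_closure ⟨1, by rw [pow_one]; exact hup b⟩
    have hl : ∀ b : F, lo b ∈ Subgroup.closure
        {x : Matrix.SpecialLinearGroup (Fin 2) F | ∃ n : ℕ, x ^ p ^ n = 1} :=
      fun b => Subgroup.subset_closure ⟨1, by rw [pow_one]; exact hlo b⟩
    obtain ⟨a, b, c, d, h⟩ := exists_up_lo x
    rw [h]
    exact mul_mem (mul_mem (mul_mem (hu _) (hl _)) (hu _)) (hl _)
  have h3 := Cfsg.Agent.PLocal.SLTwoSylow.isPGroup_of_sylow_two_comm (p := p) (k := F) hp2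
    (MonoidHom.id (Matrix.SpecialLinearGroup (Fin 2) F)) (fun _ _ h => h) hgen Q hcon
  obtain ⟨n, hn⟩ := h3 (-1)
  have hodd : Odd (p ^ n) := (hp.out.odd_of_ne_two hp2).pow
  rw [hodd.neg_pow, one_pow] at hn
  exact Cfsg.Agent.LFourA.AutTwo.one_ne_neg h2 hn.symm

/-- **[F]** -/
theorem sl_eq_one (h2 : (2 : F) ≠ 0) (Q : Sylow 2 (Matrix.SpecialLinearGroup (Fin 2) F))
    {α : MulAut (Matrix.SpecialLinearGroup (Fin 2) F)} (hα : α * α = 1) (hQ : ∀ x ∈ Q, α x = x) : α = 1 := by
  classical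
  obtain ⟨g, σ, hgσ⟩ := Cfsg.Agent.Lib.AutSL2.exists_gl_ringEquiv
    (MonoidHom.id (Matrix.SpecialLinearGroup (Fin 2) F)) Function.surjective_id
    (by rw [MonoidHom.ker_id]; exact bot_le) α
  have hgσ' : ∀ x, α x = conjGL g (fieldAut σ x) := fun x => hgσ x
  have htr : ∀ x, tr (α x) = σ (tr x) := by
    intro x
    rw [hgσ', tr_conjGL, tr_fieldAut]
  have hσσ : ∀ a, σ (σ a) = a := by
    intro a
    obtain ⟨x, rfl⟩ := exists_tr a
    rw [← htr, ← htr, ← MulAut.mul_apply, hα, MulAut.one_apply]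
  by_cases hσ : ∃ a, σ a ≠ a
  · exfalso
    obtain ⟨q₀, hq, hpow⟩ := exists_pow_card σ hσσ hσ
    -- the torus
    have hcyc : IsCyclic Fˣ := inferInstance
    obtain ⟨ζ, hζ⟩ := hcyc.exists_ofOrder_eq_natCard
    have hcard : Nat.card Fˣ = q₀ ^ 2 - 1 := by
      have := Fintype.ofFinite F
      rw [Nat.card_eq_fintype_card, Fintype.card_units, ← Nat.card_eq_fintype_card, hq]
    have hoddF : Odd (q₀ ^ 2) := by
      rw [← hq, Nat.odd_iff]
      exact Cfsg.Agent.Lib.PSL2Torus.odd_card h2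
    have hq1 : 1 < q₀ := by
      have h1 : 1 < Nat.card F := Finite.one_lt_card
      rw [hq] at h1
      by_contra hcon
      have h3 : q₀ ≤ 1 := by omega
      have h4 : q₀ ^ 2 ≤ 1 ^ 2 := Nat.pow_le_pow_left h3 2
      omega
    have hoddq : Odd q₀ := by
      rcases Nat.even_or_odd q₀ with h | h
      · exact absurd hoddF (Nat.not_odd_iff_even.mpr (h.pow_of_ne_zero (by norm_num)))
      · exact h
    have hfac : q₀ ^ 2 - 1 = (q₀ + 1) * (q₀ - 1) := by
      have := Nat.sq_sub_sq q₀ 1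
      rwa [one_pow] at this
    set N := q₀ ^ 2 - 1 with hN
    have hN0 : N ≠ 0 := by
      rw [hfac]
      exact Nat.mul_ne_zero (by omega) (by omega)
    set n := N.factorization 2 with hn
    obtain ⟨M, hM, hMo⟩ : ∃ M, N = 2 ^ n * M ∧ ¬ 2 ∣ M :=
      ⟨N / 2 ^ n, (Nat.ordProj_mul_ordCompl_eq_self N 2).symm, Nat.not_dvd_ordCompl Nat.prime_two hN0⟩
    set a : Fˣ := ζ ^ M with ha
    have haord : orderOf a = 2 ^ n := by
      rw [ha, orderOf_pow, hζ, hcard, hM]
      have hM0 : 0 < M := Nat.pos_of_ne_zero (by rintro rfl; exact hMo (dvd_zero 2))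
      rw [Nat.gcd_mul_left_left, Nat.mul_div_cancel _ hM0]
    let x : Matrix.SpecialLinearGroup (Fin 2) F := dg (a : F) a.ne_zero
    have hxtr : tr x = (a : F) + (a : F)⁻¹ := rfl
    have hxpow : ∀ k : ℕ, ent (x ^ k) 0 0 = (a : F) ^ k ∧ ent (x ^ k) 1 1 = ((a : F)⁻¹) ^ k ∧
        ent (x ^ k) 0 1 = 0 ∧ ent (x ^ k) 1 0 = 0 := by
      intro k
      induction k with
      | zero => exact ⟨by simp, by simp, by simp, by simp⟩
      | succ k ih =>
        obtain ⟨h1, h3, h4, h5⟩ := ih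
        rw [pow_succ]
        refine ⟨?_, ?_, ?_, ?_⟩ <;> rw [ent_mul] <;>
          simp only [x, dg_00, dg_01, dg_10, dg_11, h1, h3, h4, h5, pow_succ] <;> ring
    have hx2 : x ^ 2 ^ n = 1 := by
      obtain ⟨h1, h3, h4, h5⟩ := hxpow (2 ^ n)
      have h6 : (a : F) ^ 2 ^ n = 1 := by
        rw [← Units.val_pow_eq_pow_val, ← haord, pow_orderOf_eq_one, Units.val_one]
      refine ext_ent ?_ ?_ ?_ ?_
      · rw [h1, h6, ent_one_00]
      · rw [h4, ent_one_01]
      · rw [h5, ent_one_10]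
      · rw [h3, inv_pow, h6, inv_one, ent_one_11]
    have hxp : IsPGroup 2 (Subgroup.zpowers x) := by
      rw [IsPGroup.iff_orderOf]
      rintro ⟨y, hy⟩
      obtain ⟨m, rfl⟩ := Subgroup.mem_zpowers_iff.mp hy
      have h1 : orderOf (x ^ m) ∣ 2 ^ n := by
        apply orderOf_dvd_of_pow_eq_one
        rw [← zpow_natCast, ← _root_.zpow_mul, mul_comm, _root_.zpow_mul, zpow_natCast, hx2, _root_.one_zpow]
      obtain ⟨k, -, hk⟩ := (Nat.dvd_prime_pow Nat.prime_two).mp h1
      exact ⟨k, by rw [Subgroup.orderOf_mk]; exact hk⟩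
    obtain ⟨P, hP⟩ := hxp.exists_le_sylow
    obtain ⟨k, hk⟩ := MulAction.exists_smul_eq (Matrix.SpecialLinearGroup (Fin 2) F) P Q
    have hy : k * x * k⁻¹ ∈ Q := by
      have h1 : x ∈ (P : Subgroup (Matrix.SpecialLinearGroup (Fin 2) F)) := hP (Subgroup.mem_zpowers x)
      rw [← hk]
      exact ⟨x, h1, rfl⟩
    have hytr : tr (k * x * k⁻¹) = tr x := by
      have h1 : tr (conjGL (k : GL (Fin 2) F) x) = tr x := tr_conjGL _ _
      rwa [conjGL_toGL] at h1
    have h5 : σ (tr x) = tr x := by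
      rw [← hytr, ← htr, hQ _ hy]
    rw [hxtr, map_add, map_inv₀] at h5
    have ha0 : (a : F) ≠ 0 := a.ne_zero
    have hsa0 : σ (a : F) ≠ 0 := by
      intro h
      exact ha0 (σ.injective (by rw [h, map_zero]))
    have h6 : (σ (a : F) - a) * (σ (a : F) * a - 1) = 0 := by
      field_simp at h5
      linear_combination h5
    have h7 : (a : F) ^ (q₀ - 1) = 1 ∨ (a : F) ^ (q₀ + 1) = 1 := by
      rcases mul_eq_zero.mp h6 with h | h
      · left
        have h8 : (a : F) ^ q₀ = a := by rw [← hpow]; linear_combination h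
        have h9 : (a : F) ^ (q₀ - 1) * a = 1 * a := by
          rw [← pow_succ, Nat.sub_add_cancel hq1.le, h8, one_mul]
        exact mul_right_cancel₀ ha0 h9
      · right
        rw [pow_succ, ← hpow]
        linear_combination h
    have h8 : 2 ^ n ∣ q₀ - 1 ∨ 2 ^ n ∣ q₀ + 1 := by
      rcases h7 with h | h
      · left
        rw [← haord]
        apply orderOf_dvd_of_pow_eq_one
        ext
        rw [Units.val_pow_eq_pow_val, h, Units.val_one]
      · right
        rw [← haord]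
        apply orderOf_dvd_of_pow_eq_one
        ext
        rw [Units.val_pow_eq_pow_val, h, Units.val_one]
    have h9 : ¬ 2 ^ (n + 1) ∣ N := by
      rw [hn]
      exact Nat.pow_succ_factorization_not_dvd hN0 Nat.prime_two
    apply h9
    obtain ⟨r, hr⟩ := hoddq
    rw [hfac, pow_succ]
    rcases h8 with h | h
    · rw [mul_comm (2 ^ n)]
      exact mul_dvd_mul ⟨r + 1, by omega⟩ h
    · exact mul_dvd_mul h ⟨r, by omega⟩
  · push Not at hσ
    have hσ1 : ∀ x, fieldAut σ x = x := by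
      intro x
      refine ext_ent ?_ ?_ ?_ ?_ <;> rw [fieldAut_ent, hσ]
    have hconj : ∀ x, α x = conjGL g x := fun x => by rw [hgσ', hσ1]
    obtain ⟨x, hx, y, hy, hxy⟩ := exists_not_comm h2 Q
    have hcomm : ∀ z ∈ Q, z.1 * g.1 = g.1 * z.1 := by
      intro z hz
      have h1 := congrArg Subtype.val (hQ z hz)
      rw [hconj, conjGL_val] at h1
      calc z.1 * g.1 = (g.1 * z.1 * g⁻¹.1) * g.1 := by rw [h1]
        _ = g.1 * z.1 * (g⁻¹.1 * g.1) := by simp only [Matrix.mul_assoc]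
        _ = g.1 * z.1 := by rw [inv_val_mul_val, Matrix.mul_one]
    by_cases hsc : ∀ c : F, g.1 ≠ c • (1 : Matrix (Fin 2) (Fin 2) F)
    · exfalso
      apply hxy
      apply Subtype.ext
      exact Cfsg.Agent.PLocal.SLTwoSylow.comm_of_comm_nonscalar g.1 x.1 y.1 hsc (hcomm x hx) (hcomm y hy)
    · push Not at hsc
      obtain ⟨c, hc⟩ := hsc
      ext1 z
      rw [hconj, MulAut.one_apply]
      apply Subtype.ext
      rw [conjGL_val]
      have h1 : g.1 * z.1 = z.1 * g.1 := by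
        rw [hc, Matrix.smul_mul, Matrix.mul_smul, Matrix.one_mul, Matrix.mul_one]
      have h3 : g.1 * g⁻¹.1 = 1 := by
        have := congrArg Units.val (mul_inv_cancel g)
        exact this
      rw [h1, Matrix.mul_assoc, h3, Matrix.mul_one]

/-- **[F]** for a group isomorphic to `SL(2,F)` -/
theorem eq_one {L : Type*} [Group L] (h2 : (2 : F) ≠ 0) (e : L ≃* Matrix.SpecialLinearGroup (Fin 2) F)
    (Q : Sylow 2 L) {α : MulAut L} (hα : α * α = 1) (hQ : ∀ x ∈ Q, α x = x) : α = 1 := by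
  have : Finite L := Finite.of_injective e e.injective
  let β : MulAut (Matrix.SpecialLinearGroup (Fin 2) F) := (e.symm.trans α).trans e
  have hβ : ∀ x, β x = e (α (e.symm x)) := fun x => rfl
  have hβ1 : β = 1 := by
    refine sl_eq_one h2 (Q.mapSurjective (f := e.toMonoidHom) e.surjective) ?_ ?_
    · ext1 x
      rw [MulAut.mul_apply, hβ, hβ, e.symm_apply_apply, ← MulAut.mul_apply, hα, MulAut.one_apply,
        e.apply_symm_apply, MulAut.one_apply]
    · intro x hx
      obtain ⟨y, hy, rfl⟩ := hx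
      change e (α (e.symm (e y))) = e y
      rw [e.symm_apply_apply, hQ y hy]
  ext1 x
  have h1 := DFunLike.congr_fun hβ1 (e x)
  rw [hβ, e.symm_apply_apply, MulAut.one_apply] at h1
  exact e.injective h1

/-- **[F]**, any 2-subgroup containing a Sylow 2-subgroup; the form with a subgroup and an element acting by conjugation -/
theorem centralizes {G : Type*} [Group G] {A : Subgroup G} (h2 : (2 : F) ≠ 0)
    (e : A ≃* Matrix.SpecialLinearGroup (Fin 2) F) {Q : Subgroup G} (hQp : IsPGroup 2 Q)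
    (hQi : Odd (Q.relIndex A)) {g : G} (hg : g ∈ Subgroup.normalizer (A : Set G))
    (hg2 : ∀ a ∈ A, g * g * a = a * (g * g)) (hgQ : ∀ x ∈ Q, g * x = x * g) : ∀ a ∈ A, g * a = a * g := by
  have : Finite A := Finite.of_injective e e.injective
  have hidx : (Q.subgroupOf A).index = Q.relIndex A := rfl
  have hp : IsPGroup 2 (Q.subgroupOf A) := hQp.comap_of_injective A.subtype A.subtype_injective
  let P : Sylow 2 A := hp.toSylow (by
    rw [hidx]
    exact fun h => (Nat.not_even_iff_odd.mpr hQi) (even_iff_two_dvd.mpr h))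
  have h1 : A.normalizerMonoidHom ⟨g, hg⟩ = 1 := by
    refine eq_one h2 e P ?_ ?_
    · rw [← map_mul]
      ext1 a
      rw [MulAut.one_apply]
      exact (Cfsg.Agent.LFourA.AutTwo.conj_apply_eq (mul_mem hg hg) a).mpr (hg2 a a.2)
    · intro x hx
      exact (Cfsg.Agent.LFourA.AutTwo.conj_apply_eq hg x).mpr (hgQ x (Subgroup.mem_subgroupOf.mp hx))
  intro y hy
  exact (Cfsg.Agent.LFourA.AutTwo.conj_apply_eq hg ⟨y, hy⟩).mp (by rw [h1, MulAut.one_apply])

end Cfsg.Agent.LFourB.FixQuat
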