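import Cfsg.Agent.LFourB.EFactI

/-!
# Fusion in `PSL 4 q`, `q = 1 mod 8`: Steps 3, 4 from the element `d`
-/

set_option autoImplicit false
set_option linter.unusedSectionVars false

namespace Cfsg.Agent.LFourB

open Subgroup FusA EF

variable {G : Type*} [Group G] {m : ℕ} {f : R m → R m → R m → G} {u w : G}

namespace BOne

section

variable [Finite G] {P : Sylow 2 G} {d : G}

/-- `d` fuses `x1` to `u`. -/
theorem fus_d_u (h : BOne (P : Subgroup G) m f u w) (hb : ∀ b ∈ Bu f, d * b = b * d)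
    (h1 : d * h1 f * d⁻¹ = u * x1 f) : IsConj u (X f 0) := by
  have hgM : Good (0 : R m) 0 (M m) := e_good_Ttwo (by ring) (by ring) four_mul_M
  have hbM : f 0 0 (M m) ∈ Bu f := h.mem_Bu.2 ⟨0, M m, hgM, rfl⟩
  have e1 : x1 f = LFourB.h1 f * f 0 0 (M m) := by
    rw [x1, LFourB.h1, h.f_mul _ _ _ _ _ _ goodh1 hgM]
    congr 1 <;> ring
  have e2 : d * x1 f * d⁻¹ = u * x1 f * f 0 0 (M m) := by
    rw [e1]
    calc d * (LFourB.h1 f * f 0 0 (M m)) * d⁻¹ = (d * LFourB.h1 f * d⁻¹) * (d * f 0 0 (M m) * d⁻¹) := by group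
      _ = u * x1 f * f 0 0 (M m) := by rw [h1, hb _ hbM, mul_inv_cancel_right]
      _ = u * (LFourB.h1 f * f 0 0 (M m)) * f 0 0 (M m) := by rw [← e1]
  have e3 : u * x1 f * f 0 0 (M m) = f (N m) 0 (M m + N m) * u := by
    have hg : Good (N m) 0 (M m) := good_of_N (Or.inr rfl) (Or.inl rfl) four_mul_M
    rw [mul_assoc, x1, h.f_mul _ _ _ _ _ _ goodx1 hgM]
    have e4 : N m + 0 = N m := by ring
    have e5 : (0 : R m) + 0 = 0 := by ring
    have e6 : (0 : R m) + M m = M m := by ring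
    rw [e4, e5, e6, h.u_f _ _ _ hg, neg_N]
  have hg : Good (N m) 0 (M m + N m) := good_of_N (Or.inr rfl) (Or.inl rfl)
    (by linear_combination four_mul_M (m := m) + 2 * two_mul_N (m := m))
  -- conjugate to `u`
  have hgc : Good (-M m) (M m) 0 := ⟨0, by ring⟩
  have e7 : f (-M m) (M m) 0 * (f (N m) 0 (M m + N m) * u) * (f (-M m) (M m) 0)⁻¹ = u := by
    have hg8 : Good (2 * -M m) 0 (- -M m) := ⟨0, by ring⟩
    rw [h.e_conj_u hgc hg, ← mul_assoc, h.f_mul _ _ _ _ _ _ hg8 hg]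
    have e8 : 2 * -M m + N m = 0 := by linear_combination -two_mul_M (m := m)
    have e9 : - -M m + (M m + N m) = 0 := by linear_combination two_mul_M (m := m) + two_mul_N (m := m)
    rw [e8, e9, add_zero, h.f_zero, one_mul]
  have h3 : IsConj (x1 f) (f (N m) 0 (M m + N m) * u) := isConj_iff.2 ⟨d, by rw [e2, e3]⟩
  have h4 : IsConj (f (N m) 0 (M m + N m) * u) u := isConj_iff.2 ⟨_, e7⟩
  exact (h3.trans h4).symm

/-- `d` fuses `z2` to `x4 u`. -/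
theorem fus_d_xu (h : BOne (P : Subgroup G) m f u w) (hb : ∀ b ∈ Bu f, d * b = b * d)
    (h1 : d * h1 f * d⁻¹ = u * x1 f) : IsConj (x4 f * u) (z2 f) := by
  have hgM : Good (0 : R m) (N m) (M m) := goodh2
  have hbM : f 0 (N m) (M m) ∈ Bu f := h.mem_Bu.2 ⟨N m, M m, hgM, rfl⟩
  have e1 : z2 f = LFourB.h1 f * f 0 (N m) (M m) := by
    rw [z2, LFourB.h1, h.f_mul _ _ _ _ _ _ goodh1 hgM]
    congr 1 <;> ring
  have e2 : d * z2 f * d⁻¹ = u * x1 f * f 0 (N m) (M m) := by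
    rw [e1]
    calc d * (LFourB.h1 f * f 0 (N m) (M m)) * d⁻¹ = (d * LFourB.h1 f * d⁻¹) * (d * f 0 (N m) (M m) * d⁻¹) := by group
      _ = u * x1 f * f 0 (N m) (M m) := by rw [h1, hb _ hbM, mul_inv_cancel_right]
  have e3 : u * x1 f * f 0 (N m) (M m) = f (N m) (N m) (M m + N m) * u := by
    have hg : Good (N m) (N m) (M m) := good_of_N (Or.inr rfl) (Or.inr rfl) four_mul_M
    rw [mul_assoc, x1, h.f_mul _ _ _ _ _ _ goodx1 hgM]
    have e4 : N m + 0 = N m := by ring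
    have e5 : (0 : R m) + N m = N m := by ring
    have e6 : (0 : R m) + M m = M m := by ring
    rw [e4, e5, e6, h.u_f _ _ _ hg, neg_N]
  have hg : Good (N m) (N m) (M m + N m) := good_of_N (Or.inr rfl) (Or.inr rfl)
    (by linear_combination four_mul_M (m := m) + 2 * two_mul_N (m := m))
  have hgc : Good (M m) (-M m) 0 := ⟨0, by ring⟩
  have e7 : f (M m) (-M m) 0 * (f (N m) (N m) (M m + N m) * u) * (f (M m) (-M m) 0)⁻¹ = x4 f * u := by
    have hg8 : Good (2 * M m) 0 (-M m) := ⟨0, by ring⟩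
    rw [h.e_conj_u hgc hg, ← mul_assoc, h.f_mul _ _ _ _ _ _ hg8 hg]
    have e8 : 2 * M m + N m = 0 := by linear_combination two_mul_M (m := m) + two_mul_N (m := m)
    have e9 : -M m + (M m + N m) = N m := by ring
    rw [e8, e9, zero_add, x4]
  have h3 : IsConj (z2 f) (f (N m) (N m) (M m + N m) * u) := isConj_iff.2 ⟨d, by rw [e2, e3]⟩
  have h4 : IsConj (f (N m) (N m) (M m + N m) * u) (x4 f * u) := isConj_iff.2 ⟨_, e7⟩
  exact (h3.trans h4).symm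

/-- Homomorphisms of `C(z1)` into `±1` kill `u x1`. -/
theorem fus_d_hom (h : BOne (P : Subgroup G) m f u w) (hb : ∀ b ∈ Bu f, d * b = b * d)
    (h1 : d * h1 f * d⁻¹ = u * x1 f) (h2 : d * (u * x1 f) * d⁻¹ = LFourB.h1 f * (u * x1 f))
    (φ : ↥(centralizer ({z1 f} : Set G)) →* ℤˣ) (hx : u * x1 f ∈ centralizer ({z1 f} : Set G)) :
    φ ⟨u * x1 f, hx⟩ = 1 := by
  have hPL : (P : Subgroup G) ≤ centralizer ({z1 f} : Set G) := P_le_cent h.e_sf
  have hdc : d ∈ centralizer ({z1 f} : Set G) := mem_centralizer_singleton_iff.2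
    (hb _ (h.mem_Bu.2 ⟨0, N m, good1, rfl⟩))
  have hh : LFourB.h1 f ∈ centralizer ({z1 f} : Set G) := hPL (h.f_mem_S goodh1)
  have e1 : (⟨d, hdc⟩ * ⟨LFourB.h1 f, hh⟩ * ⟨d, hdc⟩⁻¹ : ↥(centralizer ({z1 f} : Set G))) = ⟨u * x1 f, hx⟩ :=
    Subtype.ext h1
  have e2 : (⟨d, hdc⟩ * ⟨u * x1 f, hx⟩ * ⟨d, hdc⟩⁻¹ : ↥(centralizer ({z1 f} : Set G))) =
      ⟨LFourB.h1 f, hh⟩ * ⟨u * x1 f, hx⟩ := Subtype.ext h2
  have e3 := congrArg φ e1
  have e4 := congrArg φ e2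
  rw [map_mul, map_mul, map_inv, mul_comm (φ ⟨d, hdc⟩), mul_inv_cancel_right] at e3
  rw [map_mul, map_mul, map_mul, map_inv, mul_comm (φ ⟨d, hdc⟩), mul_inv_cancel_right] at e4
  have e5 : φ ⟨LFourB.h1 f, hh⟩ = 1 := mul_eq_right.1 e4.symm
  rw [← e3, e5]

/-- **Steps 3 and 4, final form.** -/
theorem fus_main [IsSimpleGroup G] (h : BOne (P : Subgroup G) m f u w) (hb : ∀ b ∈ Bu f, d * b = b * d)
    (h1 : d * h1 f * d⁻¹ = u * x1 f) (h2 : d * (u * x1 f) * d⁻¹ = LFourB.h1 f * (u * x1 f)) :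
    (∃ g : G, g * z1 f * g⁻¹ = z2 f) ∧
    (∀ ρ : Equiv.Perm (Fin 4), ∃ n ∈ normalizer (Tor f : Set G), ∀ i, n * X f i * n⁻¹ = X f (ρ i)) ∧
    (∃ H0 : Subgroup G, H0 ≤ centralizer ({z1 f} : Set G) ∧ H0.relIndex (centralizer ({z1 f} : Set G)) = 2 ∧
      centralizer ({z1 f} : Set G) ≤ normalizer (H0 : Set G) ∧ (P : Subgroup G) ⊓ H0 = TVp f u w) := by
  have h3 := h.fus_isConj (Or.inl ⟨0, h.fus_d_u hb h1⟩) (Or.inr (h.fus_d_xu hb h1))
  exact ⟨h3, h.fus_perm h3, h.fus_index_two (fun φ hx => h.fus_d_hom hb h1 h2 φ hx)⟩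

end

end BOne

end Cfsg.Agent.LFourB
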