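import Cfsg.Agent.LFourB.EssSix
import Cfsg.Agent.SylowL.Fus

/-!
# The automorphism of order three of `B ⟨h1, u⟩` (global form)

`main`: for `u' = u` or `u' = x4 u` (which satisfies the same relations) there is an element `d` of odd order
of `C(x4) ∩ N(B ⟨h1, u⟩)` with `d : h1 → u' x1 → h1 u' x1`, centralising `B`.
-/

set_option autoImplicit false

namespace Cfsg.Agent.LFourB.EssSeven

open Subgroup Cfsg.Agent.LFourB.EssHalf Cfsg.Agent.LFourB.EssOne
open Cfsg.Agent.LFourB.EssTwo Cfsg.Agent.LFourB.EssThree Cfsg.Agent.LFourB.EssFour Cfsg.Agent.LFourB.EssFive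
open Cfsg.Agent.LFourB.EssSix
open Cfsg.Agent.Transfer.FusionBasic Cfsg.Agent.Lib.EssentialFusion

/-! ### Change of frame -/

section Twist

variable {G : Type*} [Group G] {S : Subgroup G} {m : ℕ} {f : R m → R m → R m → G} {u w : G}

theorem ub_twist (h : BOne S m f u w) : ub (x4 f * u) w = x2 f * ub u w := by
  rw [ub, ub, ← mul_assoc, h.w_x4]
  group

theorem rep_twist (h : BOne S m f u w) (i j l : Bool) :
    ∃ c ∈ Tor f, BOne.rep (x4 f * u) w i j l = c * BOne.rep u w i j l := by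
  have k1 := h.X_mem 0
  have k2 := h.X_mem 1
  have k4 := h.X_mem 3
  have k1' : x1 f ∈ Tor f := k1
  have k2' : x2 f ∈ Tor f := k2
  have k4' : x4 f ∈ Tor f := k4
  refine ⟨(if i then x4 f else 1) * (if j then (if i then x1 f else x2 f) else 1), ?_, ?_⟩
  · cases i <;> cases j <;> simp [k1', k2', k4', mul_mem]
  · have e1 : x4 f * u * (x2 f * ub u w) = x4 f * x1 f * (u * ub u w) := by
      calc x4 f * u * (x2 f * ub u w) = x4 f * (u * x2 f) * ub u w := by group
        _ = _ := by rw [h.u_x2]; group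
    cases i <;> cases j <;> cases l <;> simp [BOne.rep, ub_twist h, mul_assoc]
    · rw [← mul_assoc, ← mul_assoc]
      have := e1
      simpa [mul_assoc] using this
    · have := congrArg (fun x => x * w) e1
      simpa [mul_assoc] using this

theorem mem_iff_rep (h : BOne S m f u w) {g : G} : g ∈ S ↔ ∃ t ∈ Tor f, ∃ i j l, g = t * BOne.rep u w i j l := by
  constructor
  · exact h.exists_rep
  · rintro ⟨t, ht, i, j, l, rfl⟩
    exact S.mul_mem (h.Tor_le ht) (h.rep_mem i j l)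

/-- The relations are preserved by `u ↦ x4 u`. -/
theorem twist (h : BOne S m f u w) : BOne S m f (x4 f * u) w where
  f_mul := h.f_mul
  f_inj := h.f_inj
  u_u := (EssFour.twist (half h)).u_u
  w_w := h.w_w
  u_f := (EssFour.twist (half h)).u_f
  w_f := h.w_f
  comm := by
    have e0 : w * (x4 f * u) * w = x2 f * ub u w := ub_twist h
    have e1 : x4 f * u * (x2 f * ub u w) = x4 f * x1 f * (u * ub u w) := by
      calc x4 f * u * (x2 f * ub u w) = x4 f * (u * x2 f) * ub u w := by group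
        _ = _ := by rw [h.u_x2]; group
    have e2 : x2 f * ub u w * (x4 f * u) = x2 f * x3 f * (u * ub u w) := by
      calc x2 f * ub u w * (x4 f * u) = x2 f * (ub u w * x4 f) * u := by group
        _ = x2 f * x3 f * (ub u w * u) := by rw [ub_x4 h]; group
        _ = _ := by rw [h.ub_mul_u]
    have e3 : x4 f * x1 f = x2 f * x3 f := by
      rw [x4, x1, x2, x3, h.f_mul _ _ _ _ _ _ BOne.goodx4 BOne.goodx1, h.f_mul _ _ _ _ _ _ BOne.goodx2 BOne.goodx3]
      congr 1 <;> ring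
    have e4 : x4 f * u * (w * (x4 f * u) * w) = w * (x4 f * u) * w * (x4 f * u) := by
      rw [e0, e1, e2, e3]
    calc x4 f * u * (w * (x4 f * u) * w) = w * (x4 f * u) * w * (x4 f * u) := e4
      _ = _ := by group
  mem_iff := by
    intro g
    have key : (∃ p q r, Good p q r ∧ ∃ d, BOne.Rep (x4 f * u) w d ∧ g = f p q r * d) ↔
        ∃ t ∈ Tor f, ∃ i j l, g = t * BOne.rep (x4 f * u) w i j l := by
      constructor
      · rintro ⟨p, q, r, hg, d, hd, rfl⟩
        obtain ⟨i, j, l, rfl⟩ := BOne.Rep_iff.mp hd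
        exact ⟨_, h.f_mem_Tor hg, i, j, l, rfl⟩
      · rintro ⟨t, ht, i, j, l, rfl⟩
        obtain ⟨p, q, r, hg, rfl⟩ := h.mem_Tor.1 ht
        exact ⟨p, q, r, hg, _, BOne.Rep_iff.mpr ⟨i, j, l, rfl⟩, rfl⟩
    refine Iff.trans ?_ key.symm
    rw [mem_iff_rep h]
    constructor
    · rintro ⟨t, ht, i, j, l, rfl⟩
      obtain ⟨c, hc, k⟩ := rep_twist h i j l
      exact ⟨t * c⁻¹, mul_mem ht (inv_mem hc), i, j, l, by rw [k]; group⟩
    · rintro ⟨t, ht, i, j, l, rfl⟩
      obtain ⟨c, hc, k⟩ := rep_twist h i j l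
      exact ⟨t * c, mul_mem ht hc, i, j, l, by rw [k]; group⟩

theorem Sx_twist (h : BOne S m f u w) : Sx f (x4 f * u) = Sx f u := by
  ext g
  rw [mem_Sx_iff h, mem_Sx_iff (twist h)]

theorem Pu_twist (h : BOne S m f u w) : Pu f (x4 f * u) = Pu f u := by
  ext g
  rw [h.mem_Pu, (twist h).mem_Pu]
  have k : x4 f ∈ Bu f := (half h).x4_mem
  have k2 : x4 f * x4 f = 1 := x4_sq (half h)
  constructor
  · rintro ⟨b, hb, rfl | rfl⟩
    · exact ⟨g, hb, Or.inl rfl⟩
    · exact ⟨b * x4 f, mul_mem hb k, Or.inr (by group)⟩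
  · rintro ⟨b, hb, rfl | rfl⟩
    · exact ⟨g, hb, Or.inl rfl⟩
    · refine ⟨b * x4 f, mul_mem hb k, Or.inr ?_⟩
      calc b * u = b * (x4 f * x4 f) * u := by rw [k2, mul_one]
        _ = _ := by group

end Twist

/-! ### The Sylow subgroup of `C(x4)` -/

section Sylow

variable {G : Type*} [Group G] {m : ℕ} {f : R m → R m → R m → G} {u w : G}

theorem pow_ne_x4 {S : Subgroup G} (h : BOne S m f u w) {t : G} (ht : t ∈ Tor f) : t ^ 2 ^ (m + 2) ≠ x4 f := by
  obtain ⟨p, q, r, hg, rfl⟩ := h.mem_Tor.1 ht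
  rw [(half h).f_pow hg, x4]
  intro hc
  have k := (h.f_eq_iff (hg.pow _) BOne.goodx4).1 hc
  obtain ⟨k1, k2, -⟩ := k
  have e1 : ((2 ^ (m + 2) : ℕ) : R m) = N m := rfl
  rw [e1] at k1 k2
  obtain ⟨c, hc⟩ := hg
  have k4 : (2 : R m) * N m = 0 := two_mul_N
  apply N_ne_zero (m := m)
  linear_combination (N m) * hc - k1 - k2 + (2 * c - r) * k4

theorem z_pow {S : Subgroup G} (h : BOne S m f u w) {z : G} (hz : z = 1 ∨ z = z1 f ∨ z = z2 f ∨ z = z3 f) :
    ∃ t ∈ Tor f, t ^ 2 ^ (m + 2) = z := by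
  have e1 : ((2 ^ (m + 2) : ℕ) : R m) = N m := rfl
  have k4 : (2 : R m) * N m = 0 := two_mul_N
  rcases hz with rfl | rfl | rfl | rfl
  · exact ⟨1, one_mem _, one_pow _⟩
  · have hg : Good (0 : R m) 2 3 := ⟨2, by ring⟩
    refine ⟨_, h.f_mem_Tor hg, ?_⟩
    rw [(half h).f_pow hg, e1, z1]
    congr 1
    · ring
    · linear_combination k4
    · linear_combination k4
  · have hg : Good (1 : R m) (-1) 0 := ⟨0, by ring⟩
    refine ⟨_, h.f_mem_Tor hg, ?_⟩
    rw [(half h).f_pow hg, e1, z2]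
    congr 1
    · ring
    · linear_combination -k4
    · ring
  · have hg : Good (1 : R m) 1 1 := ⟨1, by ring⟩
    refine ⟨_, h.f_mem_Tor hg, ?_⟩
    rw [(half h).f_pow hg, e1, z3]
    congr 1 <;> ring

/-- `N(T)` maps `x4` to some `x_i`. -/
theorem norm_x4 {S : Subgroup G} (h : BOne S m f u w) {n : G} (hn : n ∈ normalizer (Tor f : Set G)) :
    ∃ s ∈ S, s * (n * x4 f * n⁻¹) * s⁻¹ = x4 f := by
  have hx4 : x4 f ∈ Tor f := h.X_mem 3
  have hT : n * x4 f * n⁻¹ ∈ Tor f := (mem_normalizer_iff.1 hn _).1 hx4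
  have hsq : n * x4 f * n⁻¹ * (n * x4 f * n⁻¹) = 1 := by
    have e : n * x4 f * n⁻¹ * (n * x4 f * n⁻¹) = n * (x4 f * x4 f) * n⁻¹ := by group
    rw [e, x4_sq (half h), mul_one, mul_inv_cancel]
  have hz : ¬ (n * x4 f * n⁻¹ = 1 ∨ n * x4 f * n⁻¹ = z1 f ∨ n * x4 f * n⁻¹ = z2 f ∨ n * x4 f * n⁻¹ = z3 f) := by
    intro hz
    obtain ⟨t, ht, hte⟩ := z_pow h hz
    refine pow_ne_x4 h (t := n⁻¹ * t * n) ?_ ?_
    · have := (mem_normalizer_iff.1 (inv_mem hn) t).1 ht
      rwa [inv_inv] at this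
    · have e : (n⁻¹ * t * n) ^ 2 ^ (m + 2) = n⁻¹ * t ^ 2 ^ (m + 2) * n := by
        have := conj_pow (i := 2 ^ (m + 2)) (a := n⁻¹) (b := t)
        rwa [inv_inv] at this
      rw [e, hte]; group
  have hw : ∀ a b : G, w * a = b * w → w * a * w⁻¹ = b := fun a b e => by rw [e, mul_inv_cancel_right]
  rcases h.involution_Tor hT hsq with k | k | k | k | k | k | k | k
  · exact absurd (Or.inl k) hz
  · exact absurd (Or.inr (Or.inl k)) hz
  · exact absurd (Or.inr (Or.inr (Or.inl k))) hz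
  · exact absurd (Or.inr (Or.inr (Or.inr k))) hz
  · refine ⟨w * u, S.mul_mem h.w_mem h.u_mem, ?_⟩
    rw [k]
    calc w * u * x1 f * (w * u)⁻¹ = w * (u * x1 f) * u⁻¹ * w⁻¹ := by group
      _ = w * x2 f * w⁻¹ := by rw [h.u_x1]; group
      _ = _ := by rw [h.w_x2, mul_inv_cancel_right]
  · refine ⟨w, h.w_mem, ?_⟩
    rw [k, h.w_x2, mul_inv_cancel_right]
  · refine ⟨ub u w, h.ub_mem, ?_⟩
    rw [k, ub_x3 h, mul_inv_cancel_right]
  · exact ⟨1, S.one_mem, by rw [k, one_mul, inv_one, mul_one]⟩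

variable [Finite G] {S : Sylow 2 G}

theorem sylIn_Sx (h : BOne (S : Subgroup G) m f u w) : SylIn 2 (Sx f u) (centralizer {x4 f}) := by
  refine ⟨?_, S.isPGroup'.to_le (Sx_le h), ?_⟩
  · intro s hs
    rw [mem_centralizer_singleton_iff]
    exact ((mem_Sx_iff h).1 hs).2
  · intro R hR hRL hRp
    obtain ⟨g, -, hg⟩ := (sylIn_top S).conj_le le_top hRp
    have hgN : g ∈ normalizer (Tor f : Set G) := by
      refine mem_normalizer_of_conj_mem (wcl h fun t ht => hg t (hR ?_))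
      exact (half h).Tor_le ht
    obtain ⟨s, hs, hsx⟩ := norm_x4 h hgN
    have hc : ∀ r ∈ R, (s * g) * r * (s * g)⁻¹ ∈ Sx f u := by
      intro r hr
      rw [mem_Sx_iff h]
      constructor
      · have e : (s * g) * r * (s * g)⁻¹ = s * (g * r * g⁻¹) * s⁻¹ := by group
        rw [e]
        exact mul_mem (mul_mem hs (hg r hr)) (inv_mem hs)
      · have k1 : r * x4 f = x4 f * r := mem_centralizer_singleton_iff.1 (hRL hr)
        have k2 : (s * g) * x4 f * (s * g)⁻¹ = x4 f := by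
          have e : (s * g) * x4 f * (s * g)⁻¹ = s * (g * x4 f * g⁻¹) * s⁻¹ := by group
          rw [e, hsx]
        calc (s * g) * r * (s * g)⁻¹ * x4 f = (s * g) * r * (s * g)⁻¹ * ((s * g) * x4 f * (s * g)⁻¹) := by rw [k2]
          _ = (s * g) * (r * x4 f) * (s * g)⁻¹ := by group
          _ = (s * g) * x4 f * (s * g)⁻¹ * ((s * g) * r * (s * g)⁻¹) := by rw [k1]; group
          _ = _ := by rw [k2]
    have hle : Nat.card R ≤ Nat.card (Sx f u) := by
      rw [← card_map_conj R (s * g)]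
      exact Subgroup.card_le_of_le (map_conj_le_iff.2 hc)
    exact (Subgroup.eq_of_le_of_card_ge hR hle).symm

end Sylow

/-! ### Essential subgroups of a subgroup, seen in the whole group -/

section Ess

variable {G : Type*} [Group G] [Finite G] {L : Subgroup G} {P : Sylow 2 L} {X : Subgroup L} {Q : Subgroup G}

omit [Finite G] in
theorem mem_map_iff {Y : Subgroup L} {y : G} : y ∈ Y.map L.subtype ↔ ∃ hy : y ∈ L, (⟨y, hy⟩ : L) ∈ Y := by
  constructor
  · rintro ⟨y, hy, rfl⟩; exact ⟨y.2, hy⟩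
  · rintro ⟨hy, h⟩; exact ⟨_, h, rfl⟩

theorem mem_normalizer_map {g : G} (hg : g ∈ L) :
    g ∈ normalizer ((X.map L.subtype : Subgroup G) : Set G) ↔ (⟨g, hg⟩ : L) ∈ normalizer (X : Set L) := by
  constructor
  · intro h
    refine mem_normalizer_of_conj_mem fun a ha => ?_
    obtain ⟨k1, k2⟩ := mem_map_iff.1 ((mem_normalizer_iff.1 h (a : G)).1 (mem_map_iff.2 ⟨a.2, ha⟩))
    exact k2
  · intro h
    refine mem_normalizer_of_conj_mem fun a ha => ?_
    obtain ⟨k1, k2⟩ := mem_map_iff.1 ha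
    exact mem_map_iff.2 ⟨mul_mem (mul_mem hg k1) (inv_mem hg), (mem_normalizer_iff.1 h _).1 k2⟩

theorem of_ess (hP : (P : Subgroup L).map L.subtype = Q) (hX : Ess P X) :
    X.map L.subtype ≤ Q ∧ centralizer ((X.map L.subtype : Subgroup G) : Set G) ⊓ Q ≤ X.map L.subtype ∧
      (∃ g ∈ normalizer ((X.map L.subtype : Subgroup G) : Set G), g ∈ L ∧ ¬ 2 ∣ orderOf g ∧
        g ∉ centralizer ((X.map L.subtype : Subgroup G) : Set G)) ∧
      ∀ k ∈ normalizer ((X.map L.subtype : Subgroup G) : Set G), k ∈ L → ∀ n : ℕ, k ^ 2 ^ n = 1 →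
        ∃ g ∈ normalizer ((X.map L.subtype : Subgroup G) : Set G), g ∈ L ∧ g * k * g⁻¹ ∈ Q := by
  refine ⟨hP ▸ map_mono hX.lt.le, ?_, ?_, ?_⟩
  · rintro c ⟨hc, hcQ⟩
    rw [← hP] at hcQ
    obtain ⟨hcL, hcP⟩ := mem_map_iff.1 hcQ
    refine mem_map_iff.2 ⟨hcL, hX.centric ⟨?_, hcP⟩⟩
    refine mem_centralizer_iff.2 fun x hx => Subtype.ext ?_
    exact mem_centralizer_iff.1 hc x (mem_map_iff.2 ⟨x.2, hx⟩)
  · obtain ⟨g, hg, ho, hgc⟩ := exists_odd hX
    refine ⟨g, (mem_normalizer_map g.2).2 hg, g.2, by rwa [Subgroup.orderOf_coe], ?_⟩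
    intro hc
    apply hgc
    refine mem_centralizer_iff.2 fun x hx => Subtype.ext ?_
    exact mem_centralizer_iff.1 hc x (mem_map_iff.2 ⟨x.2, hx⟩)
  · intro k hk hkL n hn
    have hk' := (mem_normalizer_map (X := X) hkL).1 hk
    have hkz : IsPGroup 2 (zpowers (⟨k, hkL⟩ : L)) := by
      obtain ⟨j, -, hj⟩ := (Nat.dvd_prime_pow Nat.prime_two).1 (orderOf_dvd_of_pow_eq_one hn)
      refine IsPGroup.of_card (n := j) ?_
      rw [Nat.card_zpowers, ← hj, ← Subgroup.orderOf_coe]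
    obtain ⟨g, hg, hgP⟩ := Cfsg.Agent.Lib.GoldschmidtFusion.exists_conj_le_in
      (R := (P : Subgroup L) ⊓ normalizer (X : Set L)) (P.isPGroup'.to_le inf_le_left) hX.full
      (zpowers_le.2 hk') hkz
    refine ⟨g, (mem_normalizer_map g.2).2 hg, g.2, ?_⟩
    rw [← hP]
    have k1 := (hgP ⟨_, mem_zpowers _, rfl⟩ : _).1
    exact ⟨_, k1, rfl⟩

end Ess

/-! ### The main theorem -/

section Main

variable {G : Type*} [Group G] [Finite G] {S : Sylow 2 G} {m : ℕ} {f : R m → R m → R m → G} {u w : G}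

/-- There is an essential subgroup of `T ⟨u⟩` in `C(x4)` which does not contain the torus. -/
theorem exists_ess (h : BOne (S : Subgroup G) m f u w) (hG : ∀ φ : G →* ℤˣ, φ u = 1)
    {P : Sylow 2 (centralizer {x4 f} : Subgroup G)}
    (hP : (P : Subgroup (centralizer {x4 f} : Subgroup G)).map (centralizer {x4 f} : Subgroup G).subtype = Sx f u) :
    ∃ X : Subgroup (centralizer {x4 f} : Subgroup G), Ess P X ∧
      ¬ (Tor f).subgroupOf (centralizer {x4 f}) ≤ X := by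
  by_contra hcon
  push Not at hcon
  apply not_SC h hG
  have hL : ∀ {g : G}, g ∈ (centralizer {x4 f} : Subgroup G) ↔ g * x4 f = x4 f * g := mem_centralizer_singleton_iff
  have hTL : Tor f ≤ (centralizer {x4 f} : Subgroup G) := fun t ht =>
    hL.2 (h.Tor_comm ht (h.Bu_le (half h).x4_mem))
  set D : Subgroup (centralizer {x4 f} : Subgroup G) := (Tor f).subgroupOf (centralizer {x4 f}) with hD
  have hDP : D ≤ (P : Subgroup (centralizer {x4 f} : Subgroup G)) := by
    intro t ht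
    have ht' : (t : G) ∈ Tor f := ht
    have k : (t : G) ∈ (P : Subgroup (centralizer {x4 f} : Subgroup G)).map
        (centralizer {x4 f} : Subgroup G).subtype := by
      rw [hP]; exact (half h).Tor_le ht'
    obtain ⟨_, k2⟩ := mem_map_iff.1 k
    exact k2
  have hPS : ∀ t : (centralizer {x4 f} : Subgroup G), t ∈ (P : Subgroup (centralizer {x4 f} : Subgroup G)) →
      (t : G) ∈ (S : Subgroup G) := by
    intro t ht
    apply Sx_le h
    rw [← hP]
    exact ⟨t, ht, rfl⟩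
  have hnorm : ∀ Y : Subgroup (centralizer {x4 f} : Subgroup G), Y ≤ P → D ≤ Y →
      normalizer (Y : Set (centralizer {x4 f} : Subgroup G)) ≤ normalizer (D : Set (centralizer {x4 f} : Subgroup G)) := by
    intro Y hYP hDY n hn
    refine mem_normalizer_of_conj_mem fun a ha => ?_
    refine wcl h (g := (n : G)) ?_ (a : G) ha
    intro t ht
    exact hPS (n * ⟨t, hTL ht⟩ * n⁻¹) (hYP ((mem_normalizer_iff.1 hn ⟨t, hTL ht⟩).1 (hDY ht)))
  have hclosed := Cfsg.Agent.SylowL.Fus.stronglyClosed_of (S := P) (D := D) hDP (hnorm _ le_rfl hDP)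
    (fun X hX => hnorm X hX.lt.le (hcon X hX))
  intro g hg t ht hgt
  have hgL : g ∈ (centralizer {x4 f} : Subgroup G) := hL.2 hg
  have k1 : (⟨g, hgL⟩ : (centralizer {x4 f} : Subgroup G)) * ⟨t, hTL ht⟩ * ⟨g, hgL⟩⁻¹ ∈
      (P : Subgroup (centralizer {x4 f} : Subgroup G)) := by
    rw [← hP] at hgt
    obtain ⟨_, k2⟩ := mem_map_iff.1 hgt
    exact k2
  exact hclosed.2 ⟨t, hTL ht⟩ ht _ k1

theorem exists_data (h : BOne (S : Subgroup G) m f u w) (hG : ∀ φ : G →* ℤˣ, φ u = 1) :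
    Full (Sx f u) (Ru f u) f ∧ ∃ g ∈ normalizer (Ru f u : Set G), g * x4 f = x4 f * g ∧ ¬ 2 ∣ orderOf g ∧
      g ∉ centralizer (Ru f u : Set G) := by
  obtain ⟨P, hP⟩ := (sylIn_Sx h).exists_sylow
  obtain ⟨X, hX, hTX⟩ := exists_ess h hG hP
  obtain ⟨k1, k2, ⟨g, hg, hgL, ho, hgc⟩, k3⟩ := of_ess hP hX
  have hgx : g * x4 f = x4 f * g := mem_centralizer_singleton_iff.1 hgL
  have hh := half h
  rcases eq_Tor_or hh k1 k2 hgx hg ho hgc with k | ⟨y, hy, k⟩
  · exfalso
    apply hTX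
    intro t ht
    have ht' : (t : G) ∈ Tor f := ht
    rw [← k] at ht'
    obtain ⟨_, k4⟩ := mem_map_iff.1 ht'
    exact k4
  · rw [k] at hg hgc k3
    have hyx : y * x4 f = x4 f * y := h.Tor_comm hy (h.Bu_le hh.x4_mem)
    have hF : Full (Sx f u) ((Ru f u).map (MulAut.conj y).toMonoidHom) f := by
      intro c hc hcx n hn
      obtain ⟨g', hg', hgL', hgS⟩ := k3 c hc (mem_centralizer_singleton_iff.2 hcx) n hn
      exact ⟨g', hg', mem_centralizer_singleton_iff.1 hgL', hgS⟩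
    refine ⟨full_map hh hy hF, y⁻¹ * g * y, mem_normalizer_conj hg, ?_, ?_, ?_⟩
    · have c1 : Commute y (x4 f) := hyx
      have c3 : Commute g (x4 f) := hgx
      exact ((c1.inv_left.mul_left c3).mul_left c1).eq
    · have e1 : y⁻¹ * g * y = MulAut.conj y⁻¹ g := by simp
      rw [e1, MulEquiv.orderOf_eq]
      exact ho
    · intro hc
      apply hgc
      rw [mem_centralizer_iff] at hc ⊢
      rintro _ ⟨r, hr, rfl⟩
      have k5 := hc r hr
      show y * r * y⁻¹ * g = g * (y * r * y⁻¹)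
      calc y * r * y⁻¹ * g = y * (r * (y⁻¹ * g * y)) * y⁻¹ := by group
        _ = y * ((y⁻¹ * g * y) * r) * y⁻¹ := by rw [k5]
        _ = _ := by group

/-- **Step 2.** After replacing `u` by `x4 u` if necessary there is an automorphism of odd order of `B ⟨h1, u⟩`
induced in `C(x4)` with `h1 → u x1 → h1 u x1`. -/
theorem main (h : BOne (S : Subgroup G) m f u w) (hG : ∀ φ : G →* ℤˣ, φ u = 1) :
    ∃ u', (u' = u ∨ u' = x4 f * u) ∧ BOne (S : Subgroup G) m f u' w ∧ Full (Sx f u') (Ru f u') f ∧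
      ∃ d, d * x4 f = x4 f * d ∧ DData f u' d := by
  obtain ⟨hF, g, hg, hgx, ho, hgc⟩ := exists_data h hG
  obtain ⟨u', hu', d, hd⟩ := exists_std (half h) hF hgx hg ho hgc
  refine ⟨u', hu', ?_, ?_, d, hd.comm _ (half h).x4_mem, hd⟩
  · rcases hu' with rfl | rfl
    · exact h
    · exact twist h
  · rcases hu' with rfl | rfl
    · exact hF
    · rw [Sx_twist h, Ru_twist (half h)]
      exact hF

end Main

end Cfsg.Agent.LFourB.EssSeven
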