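import Cfsg.Agent.LFourB.CentXSwap
import Cfsg.Agent.LFourB.EssSeven
import Cfsg.Agent.LFourB.EFactJ

/-!
# The data in `C(x4)` from Steps 1-4
-/

set_option autoImplicit false
set_option linter.unusedSectionVars false

namespace Cfsg.Agent.LFourB.CentXFinal

open Subgroup Cfsg.Agent.Lib.EssentialFusion Cfsg.Agent.LFourB Cfsg.Agent.LFourB.CentXEss Cfsg.Agent.LFourB.BOne
open Cfsg.Agent.LFourB.EssFive (DData)

universe v

section Half

variable {C : Type v} [Group C] {P : Subgroup C} {m : ℕ} {f : R m → R m → R m → C} {u : C}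

theorem ux1_e (h : Cfsg.Agent.LFourB.Half P m f u) : f 0 0 (M m) * u = h1 f * (u * x1 f) := by
  have g2 : Good (N m : R m) 0 (N m) := BOne.goodx2
  have g1 : Good (N m : R m) 0 0 := BOne.goodx1
  have hu : u * x1 f = x2 f * u := by
    rw [x1, x2, h.u_f _ _ _ g1, neg_N, zero_add]
  rw [hu, ← mul_assoc, h1, x2, h.f_mul _ _ _ _ _ _ BOne.goodh1 g2, N_add_N, add_zero]
  congr 2
  rw [← two_mul_M]; ring

theorem ux1_sq (h : Cfsg.Agent.LFourB.Half P m f u) : (u * x1 f) * (u * x1 f) = z1 f := by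
  have g1 : Good (N m : R m) 0 0 := BOne.goodx1
  have e : (u * x1 f) * (u * x1 f) = (u * x1 f * u) * x1 f := by group
  rw [e, x1, h.u_f_u g1, h.f_mul _ _ _ _ _ _ g1.actu g1, z1, neg_N, N_add_N, add_zero, zero_add, add_zero]

theorem oddA_of (h : Cfsg.Agent.LFourB.Half P m f u) {d : C} (hd : d ∈ normalizer (Ru f u : Set C)) (ho : ¬ 2 ∣ orderOf d)
    (hc : ∀ b ∈ Bu f, d * b = b * d) (k1 : d * h1 f * d⁻¹ = u * x1 f)
    (k2 : d * (u * x1 f) * d⁻¹ = h1 f * (u * x1 f)) : OddA f u (Ru f u) (d ^ 2) 1 0 := by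
  have he : (1 : C) * (f 0 0 (M m) * u) * 1⁻¹ = h1 f * (u * x1 f) := by rw [ux1_e h]; group
  have hhm : h1 f ∈ Ru f u := (le_sup_right : _ ≤ Ru f u) (subset_closure (by simp))
  have hum : u ∈ Ru f u := (le_sup_right : _ ≤ Ru f u) (subset_closure (by simp))
  have hb0 : f 0 0 (M m) ∈ Bu f := h.f_mem_Bu (good_e (Or.inl rfl))
  have e1 : d ^ 2 * h1 f * (d ^ 2)⁻¹ = h1 f * (u * x1 f) := by
    have : d ^ 2 * h1 f * (d ^ 2)⁻¹ = d * (d * h1 f * d⁻¹) * d⁻¹ := by rw [pow_two]; group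
    rw [this, k1, k2]
  refine ⟨one_mem _, Or.inl rfl, pow_mem hd 2, ?_, ?_, ?_, ?_, ?_⟩
  · intro h2
    apply ho
    have h3 : orderOf (d ^ 2) ∣ orderOf d := orderOf_pow_dvd 2
    exact h2.trans h3
  · intro b hb
    exact (Commute.pow_left (hc b hb) 2).eq
  · rw [one_mul, inv_one, mul_one]
    exact mul_mem ((le_sup_left : Bu f ≤ Ru f u) hb0) hum
  · rw [he, e1]
  · right
    rw [he]
    have hz : ∀ e ∈ P, z1 f * e = e * z1 f := fun e he => h.Bu_comm h.z1_mem he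
    have hxP : u * x1 f ∈ P := mul_mem h.u_mem (h.Tor_le (h.f_mem_Tor BOne.goodx1))
    have hhP : h1 f ∈ P := h.Tor_le h.h1_mem
    have e2 : d ^ 2 * (h1 f * (u * x1 f)) * (d ^ 2)⁻¹ = u * x1 f := by
      have e3 : d ^ 2 * (h1 f * (u * x1 f)) * (d ^ 2)⁻¹ =
          d * ((d * h1 f * d⁻¹) * (d * (u * x1 f) * d⁻¹)) * d⁻¹ := by rw [pow_two]; group
      have e4 : d * ((u * x1 f) * (h1 f * (u * x1 f))) * d⁻¹ =
          (d * (u * x1 f) * d⁻¹) * ((d * h1 f * d⁻¹) * (d * (u * x1 f) * d⁻¹)) := by group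
      rw [e3, k1, k2, e4, k1, k2]
      calc h1 f * (u * x1 f) * (u * x1 f * (h1 f * (u * x1 f)))
          = h1 f * ((u * x1 f) * (u * x1 f)) * (h1 f * (u * x1 f)) := by group
        _ = h1 f * (z1 f * h1 f) * (u * x1 f) := by rw [ux1_sq h]; group
        _ = (h1 f * h1 f) * z1 f * (u * x1 f) := by rw [hz _ hhP]; group
        _ = u * x1 f := by rw [h.h1_sq, h.z1_sq, one_mul]
    rw [e2]
    have e5 : h1 f * (h1 f * (u * x1 f)) * z1 f = (h1 f * h1 f) * ((u * x1 f) * z1 f) := by group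
    rw [e5, ← hz _ hxP, h.h1_sq, ← mul_assoc, h.z1_sq, one_mul]

end Half

variable {G : Type v} [Group G] [Finite G] {P : Sylow 2 G} {m : ℕ} {f : R m → R m → R m → G} {u w : G}

theorem exists_val_aux (h : BOne (P : Subgroup G) m f u w) (hG : ∀ φ : G →* ℤˣ, φ u = 1)
    {C : Subgroup G} (hC : C = centralizer ({x4 f} : Set G)) (hTC : Tor f ≤ C) (huC : u ∈ C)
    {Q : Sylow 2 C} (hQ : (Q : Subgroup C) = (Sx f u).subgroupOf C)
    {d : G} (hd : DData f u d) (hdx : d * x4 f = x4 f * d) :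
    ∃ (X : Subgroup C) (g y : C), Ess Q X ∧ ¬ Tor (lft C f) ≤ X ∧ OddA (lft C f) (⟨u, huC⟩ : C) X g y 0 := by
  have hhalf := h.cx_half hTC huC
  have hx4 : ∀ g : C, g * x4 (lft C f) = x4 (lft C f) * g := by
    intro g
    apply Subtype.ext
    change (g : G) * (lft _ f 0 (N m) (N m) : C) = (lft _ f 0 (N m) (N m) : C) * (g : G)
    rw [h.cx_lft_coe hTC goodx4]
    exact mem_centralizer_singleton_iff.1 (hC ▸ g.2)
  -- essential subgroups
  have hQmap : (Q : Subgroup C).map C.subtype = Sx f u := by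
    rw [hQ, subgroupOf_map_subtype, inf_eq_left.2 (hC ▸ h.cx_Sx_le_cent)]
  obtain ⟨X, hX, hT⟩ : ∃ X : Subgroup C, Ess Q X ∧ ¬ (Tor f).subgroupOf C ≤ X := by
    subst hC
    exact EssSeven.exists_ess h hG hQmap
  rw [← h.cx_Tor_lft hTC huC] at hT
  have hhalfQ := hhalf
  rw [← hQ] at hhalfQ
  obtain ⟨g, hg, ho, hgc⟩ := CentXOne.exists_odd hX
  obtain ⟨y, q, ha⟩ := exists_oddA hhalfQ hx4 hX hT hg ho hgc
  -- the element `d`
  have hdC : d ∈ C := hC ▸ mem_centralizer_singleton_iff.2 hdx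
  have hBC : ∀ b : C, b ∈ Bu (lft C f) → (b : G) ∈ Bu f := by
    intro b hb
    obtain ⟨q, r, hg, rfl⟩ := hhalf.mem_Bu.1 hb
    rw [h.cx_lft_coe hTC hg]
    exact h.mem_Bu.2 ⟨q, r, hg, rfl⟩
  have hBC' : ∀ b : C, (b : G) ∈ Bu f → b ∈ Bu (lft C f) := by
    intro b hb
    obtain ⟨q, r, hg, hbe⟩ := h.mem_Bu.1 hb
    exact hhalf.mem_Bu.2 ⟨q, r, hg, Subtype.ext (by rw [hbe, h.cx_lft_coe hTC hg])⟩
  have hh1 : ((h1 (lft C f) : C) : G) = h1 f := h.cx_lft_coe hTC goodh1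
  have hx1 : ((x1 (lft C f) : C) : G) = x1 f := h.cx_lft_coe hTC goodx1
  have hRu : Ru (lft C f) (⟨u, huC⟩ : C) = (Ru f u).subgroupOf C := by
    apply le_antisymm
    · refine sup_le ?_ ?_
      · intro b hb
        rw [mem_subgroupOf]
        exact (le_sup_left : Bu f ≤ Ru f u) (hBC b hb)
      · rw [closure_le]
        rintro a (k | k)
        · rw [k, SetLike.mem_coe, mem_subgroupOf, hh1]
          exact (le_sup_right : _ ≤ Ru f u) (subset_closure (by simp))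
        · have k : a = ⟨u, huC⟩ := k
          rw [k, SetLike.mem_coe, mem_subgroupOf]
          exact (le_sup_right : _ ≤ Ru f u) (subset_closure (by simp))
    · -- both sides have the same image in `G`
      have hle : Ru f u ≤ (Ru (lft C f) (⟨u, huC⟩ : C)).map C.subtype := by
        refine sup_le ?_ ?_
        · intro b hb
          exact ⟨⟨b, hTC (h.Bu_le hb)⟩, (le_sup_left : Bu (lft C f) ≤ _) (hBC' _ hb), rfl⟩
        · rw [closure_le]
          rintro a (k | k)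
          · rw [k]
            exact ⟨h1 (lft C f), (le_sup_right : _ ≤ Ru (lft C f) _) (subset_closure (by simp)), hh1⟩
          · have k : a = u := k
            rw [k]
            exact ⟨⟨u, huC⟩, (le_sup_right : _ ≤ Ru (lft C f) _) (subset_closure (by simp)), rfl⟩
      intro a haR
      rw [mem_subgroupOf] at haR
      obtain ⟨b, hb, hba⟩ := hle haR
      have : b = a := Subtype.ext hba
      rwa [← this]
  have hdN : (⟨d, hdC⟩ : C) ∈ normalizer (Ru (lft C f) (⟨u, huC⟩ : C) : Set C) := by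
    rw [mem_normalizer_iff]
    intro a
    rw [hRu, mem_subgroupOf, mem_subgroupOf]
    exact mem_normalizer_iff.1 hd.norm a
  have ha0 : OddA (lft C f) (⟨u, huC⟩ : C) (Ru (lft C f) ⟨u, huC⟩) ((⟨d, hdC⟩ : C) ^ 2) 1 0 := by
    refine oddA_of hhalfQ hdN ?_ ?_ ?_ ?_
    · rw [← Subgroup.orderOf_coe]; exact hd.odd
    · intro b hb
      exact Subtype.ext (hd.comm b (hBC b hb))
    · apply Subtype.ext
      rw [Subgroup.coe_mul, Subgroup.coe_mul, Subgroup.coe_inv, Subgroup.coe_mul, hh1, hx1]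
      exact hd.one
    · apply Subtype.ext
      simp only [Subgroup.coe_mul, Subgroup.coe_inv, hh1, hx1]
      exact hd.two
  have hq := unique hhalfQ ha0 hX hT ha (by
    have e : (1 : C)⁻¹ * (⟨d, hdC⟩ : C) ^ 2 * 1 = (⟨d, hdC⟩ : C) ^ 2 := by group
    rw [e]
    exact pow_mem hdN 2)
  rw [← hq] at ha
  exact ⟨X, g, y, hX, hT, ha⟩

/-- The value `q = 0` is attained. -/
theorem exists_val (h : BOne (P : Subgroup G) m f u w) (hG : ∀ φ : G →* ℤˣ, φ u = 1)
    {Q : Sylow 2 (centralizer ({x4 f} : Set G))}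
    (hQ : (Q : Subgroup (centralizer ({x4 f} : Set G))) = (Sx f u).subgroupOf (centralizer ({x4 f} : Set G)))
    {d : G} (hd : DData f u d) (hdx : d * x4 f = x4 f * d) :
    ∃ (X : Subgroup (centralizer ({x4 f} : Set G))) (g y : centralizer ({x4 f} : Set G)), Ess Q X ∧
      ¬ Tor (lft (centralizer ({x4 f} : Set G)) f) ≤ X ∧
      OddA (lft (centralizer ({x4 f} : Set G)) f) (⟨u, h.cx_u_mem_cent⟩ : centralizer ({x4 f} : Set G)) X g y 0 :=
  exists_val_aux h hG rfl h.cx_T_le_cent h.cx_u_mem_cent hQ hd hdx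

/-- **Steps 1-4 and the data in `C(x4)`.** -/
theorem exists_xdat [IsSimpleGroup G] (h : BOne (P : Subgroup G) m f u w) (hG : ∀ φ : G →* ℤˣ, φ u = 1)
    {d : G} (hd : DData f u d) (hdx : d * x4 f = x4 f * d) :
    ∃ Q : Sylow 2 (centralizer ({x4 f} : Set G)),
      (Q : Subgroup (centralizer ({x4 f} : Set G))) = (Sx f u).subgroupOf (centralizer ({x4 f} : Set G)) ∧
      ∃ ρ, XDat Q m (lft (centralizer ({x4 f} : Set G)) f) ⟨u, h.cx_u_mem_cent⟩ ρ := by
  obtain ⟨Q, hQ⟩ := h.cx_exists_sylow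
  exact ⟨Q, hQ, h.cx_exists_xdat (h.fus_main hd.comm hd.one hd.two).1 hQ (exists_val h hG hQ hd hdx)⟩

end Cfsg.Agent.LFourB.CentXFinal
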