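import Cfsg.Agent.LFourB.ClBIn
import Cfsg.Agent.LFourB.CentXFinal

/-!
# Closing of type `B1`: from the data in `C(x4)` and the isomorphism type of the simple section to `C(x4) ≤ M`
-/

set_option autoImplicit false

namespace Cfsg.Agent.LFourB

open Subgroup BOne

/-- The possible isomorphism types of the simple section of `C(x4)`. -/
def Typ (L : Type*) [Group L] : Prop :=
  (∃ (F1 : Type) (_ : Field F1) (_ : Fintype F1), Fintype.card F1 % 8 = 1 ∧
      Nonempty (L ≃* Matrix.ProjectiveSpecialLinearGroup (Fin 3) F1)) ∨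
    (∃ (F1 : Type) (_ : Field F1) (_ : Fintype F1) (r : ℕ), Fintype.card F1 = r ^ 2 ∧ r % 8 = 7 ∧
      Nonempty (L ≃* Cfsg.PSU 3 F1 r))

theorem two_ne_zero_of_odd {F : Type*} [Field F] [Fintype F] (h : Fintype.card F % 2 = 1) : (2 : F) ≠ 0 := by
  intro h2
  have h3 : (Fintype.card F : F) = 0 := FiniteField.cast_card_eq_zero F
  have h4 : Fintype.card F = 2 * (Fintype.card F / 2) + 1 := by omega
  rw [h4] at h3
  push_cast at h3
  rw [h2, zero_mul, zero_add] at h3
  exact one_ne_zero h3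

theorem Typ.gen4 {L : Type*} [Group L] (h : Typ L) : Gen4 L := by
  rcases h with ⟨F, _, _, hF, ⟨e⟩⟩ | ⟨F, _, _, r, hF, hr, ⟨e⟩⟩
  · exact Gen4.of_equiv e.symm (gen4_psl (two_ne_zero_of_odd (by omega)))
  · refine Gen4.of_equiv e.symm (gen4_psu hF (two_ne_zero_of_odd ?_) (by omega))
    rw [hF, Nat.pow_mod, show r % 2 = 1 by omega]

namespace ClDat

variable {G : Type*} [Group G] [Finite G] {m : ℕ} {f : R m → R m → R m → G} {u w : G} {M : Subgroup G}
  {P : Sylow 2 G}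

/-- **`C(x4) ≤ M`** from the data in `C(x4)`. -/
theorem cent_x4_le_of (h : ClDat (P : Subgroup G) f u w M)
    {Q : Sylow 2 (centralizer ({x4 f} : Set G))}
    (hQ : (Q : Subgroup (centralizer ({x4 f} : Set G))) = (Sx f u).subgroupOf (centralizer ({x4 f} : Set G)))
    {ρ : centralizer ({x4 f} : Set G)}
    (hx : XDat Q m (lft (centralizer ({x4 f} : Set G)) f) ⟨u, h.toBOne.cx_u_mem_cent⟩ ρ)
    {L : Subgroup ((centralizer ({x4 f} : Set G) : Subgroup G) ⧸
      Cfsg.pPrimeCore 2 (centralizer ({x4 f} : Set G) : Subgroup G))}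
    (hL : CentXTail.Out Q hx.Wr (Dd (lft (centralizer ({x4 f} : Set G)) f) ρ) L) (hG : Gen4 L) :
    centralizer ({x4 f} : Set G) ≤ M := by
  have hT := h.toBOne.cx_T_le_cent
  have hu := h.toBOne.cx_u_mem_cent
  have hTS : Tor f ≤ Sx f u := le_sup_left
  have hmap : (Q : Subgroup (centralizer ({x4 f} : Set G))).map (centralizer ({x4 f} : Set G)).subtype = Sx f u := by
    rw [hQ, subgroupOf_map_subtype, inf_eq_left.2 h.toBOne.cx_Sx_le_cent]
  have hz1 : z1 (lft (centralizer ({x4 f} : Set G)) f) ∈ hx.Wr :=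
    hx.mem_Wr_of_phi (hx.Tor_le (hx.f_mem_Tor BOne.good1)) hx.phi_z1
  have hz3 : z3 (lft (centralizer ({x4 f} : Set G)) f) ∈ hx.Wr := by
    apply hx.Tone_le_Wr
    rw [← hx.ρ_z1]
    apply hx.ρ_mem_Tone
    refine ⟨hx.f_mem_Tor BOne.good1, ?_⟩
    have h1 := hx.phi_z1
    have h2 : z1 (lft (centralizer ({x4 f} : Set G)) f) ∈ Tor (lft (centralizer ({x4 f} : Set G)) f) :=
      hx.f_mem_Tor BOne.good1
    rwa [hx.phi_T h2] at h1
  refine h.cent_x4_le hL hx.P_eq ?_ ?_ ?_ (a := z1 (lft (centralizer ({x4 f} : Set G)) f))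
    (b := z3 (lft (centralizer ({x4 f} : Set G)) f)) ?_ ?_ hz1 hz3 hG
  · rw [hmap]; exact h.toBOne.cx_Sx_le
  · rw [hmap]; exact hTS
  · refine le_trans (Subgroup.map_mono hx.Dd_le) ?_
    rw [h.toBOne.cx_Tor_lft hT hu, subgroupOf_map_subtype]
    exact inf_le_left
  · exact h.toBOne.cx_lft_coe hT BOne.good1
  · exact h.toBOne.cx_lft_coe hT BOne.good3

/-- **Closing of type `B1`** from the data in `C(x4)` and the isomorphism type of the simple section. -/
theorem eq_top_of_typ (h : ClDat (P : Subgroup G) f u w M)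
    {Q : Sylow 2 (centralizer ({x4 f} : Set G))}
    (hQ : (Q : Subgroup (centralizer ({x4 f} : Set G))) = (Sx f u).subgroupOf (centralizer ({x4 f} : Set G)))
    {ρ : centralizer ({x4 f} : Set G)}
    (hx : XDat Q m (lft (centralizer ({x4 f} : Set G)) f) ⟨u, h.toBOne.cx_u_mem_cent⟩ ρ)
    {L : Subgroup ((centralizer ({x4 f} : Set G) : Subgroup G) ⧸
      Cfsg.pPrimeCore 2 (centralizer ({x4 f} : Set G) : Subgroup G))}
    (hL : CentXTail.Out Q hx.Wr (Dd (lft (centralizer ({x4 f} : Set G)) f) ρ) L) (hG : Typ L)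
    (hne : ¬ IsConj (z1 f) (x4 f)) : M = ⊤ :=
  h.eq_top (h.cent_x4_le_of hQ hx hL hG.gen4) hne

end ClDat

end Cfsg.Agent.LFourB
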