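import Cfsg.Agent.LFourB.RConD

/-!
# The recognition end of type B1: construction of `RIn`
-/

set_option autoImplicit false
set_option linter.unusedSectionVars false

namespace Cfsg.Agent.LFourB.RCon

open Subgroup Cfsg Cfsg.Agent.LFourB Cfsg.Agent.LFourB.BOne Cfsg.Agent.LFourB.RDefs Cfsg.Agent.LFourB.CzB
open Cfsg.Agent.LFourA.CzCt Cfsg.Agent.StandardComponent.CentCore

variable {G X : Type*} [Group G] [Group X] [Finite G]
  {P : Sylow 2 G} {m : ℕ} {f : R m → R m → R m → G} {u w : G}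
  {p : ↥(centralizer ({z1 f} : Set G)) →* X} {K₁ K₂ : Subgroup X} {F : Type*} [Field F] [Fintype F]

/-- Everything needed about `C(z1)`. -/
structure In (P : Sylow 2 G) (m : ℕ) (f : R m → R m → R m → G) (u w : G) (F : Type*) [Field F]
    (p : ↥(centralizer ({z1 f} : Set G)) →* X) (K₁ K₂ : Subgroup X) (y : G) : Prop where
  model : BOne (P : Subgroup G) m f u w
  hz : CZB (z1 f) F p K₁ K₂
  perf₁ : ⁅K₁, K₁⁆ = K₁
  perf₂ : ⁅K₂, K₂⁆ = K₂
  q₁ : Qone f u ≤ up p K₁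
  q₂ : Qtwo f u w ≤ up p K₂
  s₁ : ∀ s ∈ (P : Subgroup G), s ∈ up p K₁ → s ∈ Qone f u
  s₂ : ∀ s ∈ (P : Subgroup G), s ∈ up p K₂ → s ∈ Qtwo f u w
  yz : y * z1 f = z1 f * y
  yy : y * y = 1
  inv : ∀ a ∈ centralizerPPrimeCore 2 (z1 f), y * a * y⁻¹ = a⁻¹
  sw₁ : ∀ x ∈ K₁, p ⟨y, mem_centralizer_singleton_iff.2 yz⟩ * x * (p ⟨y, mem_centralizer_singleton_iff.2 yz⟩)⁻¹ ∈ K₂
  sw₂ : ∀ x ∈ K₂, p ⟨y, mem_centralizer_singleton_iff.2 yz⟩ * x * (p ⟨y, mem_centralizer_singleton_iff.2 yz⟩)⁻¹ ∈ K₁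
  cz2 : ∀ a ∈ centralizerPPrimeCore 2 (z1 f), a * z2 f = z2 f * a

namespace In

variable {y : G}

theorem P_le (I : In P m f u w F p K₁ K₂ y) : (P : Subgroup G) ≤ centralizer ({z1 f} : Set G) := fun _ hs =>
  mem_centralizer_singleton_iff.2 (S_comm_z1 I.model hs)

theorem ab (I : In P m f u w F p K₁ K₂ y) : ∀ a ∈ centralizerPPrimeCore 2 (z1 f),
    ∀ b ∈ centralizerPPrimeCore 2 (z1 f), a * b = b * a := core_abelian I.inv

theorem o₁ (I : In P m f u w F p K₁ K₂ y) : ∀ a ∈ centralizerPPrimeCore 2 (z1 f), ∀ x ∈ perf (up p K₁), a * x = x * a :=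
  perf_up_comm I.hz.ker I.hz.comm I.yz I.yy I.inv I.sw₁

theorem o₂ (I : In P m f u w F p K₁ K₂ y) : ∀ a ∈ centralizerPPrimeCore 2 (z1 f), ∀ x ∈ perf (up p K₂), a * x = x * a :=
  perf_up_comm I.hz.ker (fun x hx y hy => (I.hz.comm y hy x hx).symm) I.yz I.yy I.inv I.sw₂

theorem z1_ne (I : In P m f u w F p K₁ K₂ y) : z1 f ≠ 1 := by
  intro h
  exact N_ne_zero ((I.model.f_eq_one_iff good1).1 h).2.2

theorem z1_sq (I : In P m f u w F p K₁ K₂ y) : z1 f * z1 f = 1 := by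
  have h := I.model.f_mul _ _ _ _ _ _ (good1 (m := m)) good1
  rw [add_zero, N_add_N, I.model.f_zero] at h
  exact h

theorem z1_mem_P (I : In P m f u w F p K₁ K₂ y) : z1 f ∈ (P : Subgroup G) := I.model.f_mem_S good1

theorem pz_ne (I : In P m f u w F p K₁ K₂ y) : p (self (z1 f)) ≠ 1 := fun h =>
  I.z1_ne (p_inj I.model I.hz.ker (x := self (z1 f)) I.z1_mem_P h)

theorem pz_sq (I : In P m f u w F p K₁ K₂ y) : p (self (z1 f)) * p (self (z1 f)) = 1 := by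
  rw [← map_mul, ← map_one p]
  congr 1
  exact Subtype.ext I.z1_sq

theorem card_Q (I : In P m f u w F p K₁ K₂ y) : Nat.card (Qtwo f u w) = Nat.card (Qone f u) := by
  rw [← conj_Qone I.model, card_cj]

theorem sixteen (I : In P m f u w F p K₁ K₂ y) : 16 ∣ Nat.card (Qone f u) := by
  have h1 := card_Qone_ge I.model
  have h2 : IsPGroup 2 (Qone f u) := P.isPGroup'.to_le (Qone_le_S I.model)
  obtain ⟨n, hn⟩ := IsPGroup.iff_card.1 h2
  rw [hn] at h1 ⊢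
  have h3 : 4 ≤ n := by
    have := (Nat.pow_le_pow_iff_right (by norm_num : 1 < 2)).1 h1
    omega
  have : (16 : ℕ) = 2 ^ 4 := by norm_num
  rw [this]
  exact pow_dvd_pow 2 h3

/-- the image of `Qone` in `K₁` -/
theorem exists_sylow [Finite X] (I : In P m f u w F p K₁ K₂ y) {K : Subgroup X} {Q : Subgroup G}
    (hQP : Q ≤ (P : Subgroup G)) (hQ : Q ≤ up p K) (hc : ∀ R : Sylow 2 K, Nat.card R ≤ Nat.card Q) :
    ∃ R : Sylow 2 K, ∀ x ∈ R, ∃ q ∈ Q, ∃ hq : q ∈ centralizer ({z1 f} : Set G), p ⟨q, hq⟩ = (x : X) := by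
  have hQC : Q ≤ centralizer ({z1 f} : Set G) := hQP.trans I.P_le
  have hmem : ∀ q : Q, pq p hQC q ∈ K := by
    rintro ⟨q, hq⟩
    obtain ⟨m1, h1⟩ := mem_up.1 (hQ hq)
    exact h1
  let φ : Q →* K := (pq p hQC).codRestrict K hmem
  have hφ : Function.Injective φ := by
    intro a b hab
    exact pq_inj I.model I.hz.ker hQC hQP (congrArg Subtype.val hab)
  have h1 : IsPGroup 2 φ.range := by
    have : IsPGroup 2 Q := P.isPGroup'.to_le hQP
    exact this.of_surjective φ.rangeRestrict φ.rangeRestrict_surjective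
  obtain ⟨R, hR⟩ := h1.exists_le_sylow
  have h2 : Nat.card φ.range = Nat.card Q := (Nat.card_congr (MonoidHom.ofInjective hφ).toEquiv).symm
  have h3 : φ.range = (R : Subgroup K) := eq_of_le_of_card_ge hR (by
    rw [h2]
    exact hc R)
  refine ⟨R, ?_⟩
  intro x hx
  have hx' : x ∈ φ.range := by rw [h3]; exact hx
  obtain ⟨q, rfl⟩ := hx'
  exact ⟨q, q.2, hQC q.2, rfl⟩

theorem finite_X (I : In P m f u w F p K₁ K₂ y) : Finite X := Finite.of_surjective _ I.hz.surj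

theorem card_sylow (I : In P m f u w F p K₁ K₂ y) : (∀ R : Sylow 2 K₁, Nat.card R ≤ Nat.card (Qone f u)) ∧
    ∀ R : Sylow 2 K₂, Nat.card R ≤ Nat.card (Qtwo f u w) := by
  have := I.finite_X
  refine ⟨fun R => card_sylow_le I.model I.hz I.P_le I.s₁ I.s₂ I.card_Q R, fun R => ?_⟩
  have hz' : CZB (z1 f) F p K₂ K₁ := {
    surj := I.hz.surj
    ker := I.hz.ker
    comm := fun x hx y hy => (I.hz.comm y hy x hx).symm
    z₁ := I.hz.z₂
    z₂ := I.hz.z₁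
    inf := fun x hx hx' => I.hz.inf x hx' hx
    norm := fun g => (I.hz.norm g).imp (fun h => ⟨h.2, h.1⟩) (fun h => ⟨h.2, h.1⟩)
    cent := fun g ho h1 h2 => I.hz.cent g ho h2 h1
    e₁ := I.hz.e₂
    e₂ := I.hz.e₁ }
  exact card_sylow_le I.model hz' I.P_le I.s₂ I.s₁ I.card_Q.symm R

theorem three_lt (I : In P m f u w F p K₁ K₂ y) (h2 : (2 : F) ≠ 0) : 3 < Fintype.card F := by
  obtain ⟨e⟩ := I.hz.e₁
  refine RCon.three_lt h2 e (I.sixteen.trans ?_)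
  have hQC : Qone f u ≤ centralizer ({z1 f} : Set G) := (Qone_le_S I.model).trans I.P_le
  have hmem : ∀ q : Qone f u, pq p hQC q ∈ K₁ := by
    rintro ⟨q, hq⟩
    obtain ⟨m1, h1⟩ := mem_up.1 (I.q₁ hq)
    exact h1
  have hinj : Function.Injective ((pq p hQC).codRestrict K₁ hmem) := by
    intro a b hab
    exact pq_inj I.model I.hz.ker hQC (Qone_le_S I.model) (congrArg Subtype.val hab)
  exact card_dvd_of_injective _ hinj

theorem c0_comm_q1 (h : BOne (P : Subgroup G) m f u w) : ∀ q ∈ Qone f u, f 0 0 (M m) * q = q * f 0 0 (M m) := by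
  have hg : Good (0 : R m) 0 (M m) := RIn.goodc0
  have h1 : Qone f u ≤ centralizer ({f 0 0 (M m)} : Set G) := by
    unfold Qone
    rw [closure_le]
    rintro x (⟨a, rfl⟩ | hx)
    · exact mem_centralizer_singleton_iff.2 (h.f_comm (goodq1 a) hg)
    · rw [Set.mem_singleton_iff.1 hx]
      refine mem_centralizer_singleton_iff.2 ?_
      have hu : u * f 0 0 (M m) = f 0 0 (M m) * u := by rw [h.u_f _ _ _ hg]; simp
      have hx1 : x1 f * f 0 0 (M m) = f 0 0 (M m) * x1 f := h.f_comm goodx1 hg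
      rw [mul_assoc, hx1, ← mul_assoc, hu, mul_assoc]
  intro q hq
  exact (mem_centralizer_singleton_iff.1 (h1 hq)).symm

theorem c0_comm_q2 (h : BOne (P : Subgroup G) m f u w) : ∀ q ∈ Qtwo f u w, f 0 0 (M m) * q = q * f 0 0 (M m) := by
  have hg : Good (0 : R m) 0 (M m) := RIn.goodc0
  have h1 : Qtwo f u w ≤ centralizer ({f 0 0 (M m)} : Set G) := by
    unfold Qtwo
    rw [closure_le]
    rintro x (⟨a, rfl⟩ | hx)
    · exact mem_centralizer_singleton_iff.2 (h.f_comm (goodq2 a) hg)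
    · rw [Set.mem_singleton_iff.1 hx]
      refine mem_centralizer_singleton_iff.2 ?_
      have hu : ub u w * f 0 0 (M m) = f 0 0 (M m) * ub u w := by rw [h.ub_f hg]; simp
      have hx1 : x3 f * f 0 0 (M m) = f 0 0 (M m) * x3 f := h.f_comm goodx3 hg
      rw [mul_assoc, hx1, ← mul_assoc, hu, mul_assoc]
  intro q hq
  exact (mem_centralizer_singleton_iff.1 (h1 hq)).symm

/-- an element of order four of `Qone` -/
theorem h1_sq' (h : BOne (P : Subgroup G) m f u w) : h1 f * h1 f = z1 f := by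
  have hh : h1 f = f (N m) 0 (-M m) := rfl
  rw [hh, h.f_mul _ _ _ _ _ _ goodh1 goodh1, z1]
  congr 1
  · exact N_add_N
  · ring
  · rw [← neg_add, M_add_M, neg_N]

theorem h1_mem' : h1 f ∈ Qone f u := by
  have hh : h1 f = f (2 * M m) 0 (-M m) := by rw [two_mul_M]; rfl
  rw [hh]
  exact q_mem

theorem h2_mem' : h2 f ∈ Qtwo f u w := by
  have hh : h2 f = f 0 (2 * M m) (M m) := by rw [two_mul_M]; rfl
  rw [hh]
  exact subset_closure (Or.inl ⟨_, rfl⟩)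

theorem h2_sq' (h : BOne (P : Subgroup G) m f u w) : h2 f * h2 f = z1 f := by
  have hh : h2 f = f 0 (N m) (M m) := rfl
  rw [hh, h.f_mul _ _ _ _ _ _ goodh2 goodh2, z1]
  congr 1
  · ring
  · exact N_add_N
  · exact M_add_M

/-- `c0` centralises `L1`; the general form -/
theorem comm_c0 (I : In P m f u w F p K₁ K₂ y) (h2 : (2 : F) ≠ 0) {K K' : Subgroup X} {Q : Subgroup G} {h0 : G}
    (e : Nonempty (K ≃* Matrix.SpecialLinearGroup (Fin 2) F))
    (hzc : ∀ x ∈ K, p (self (z1 f)) * x = x * p (self (z1 f)))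
    (hQP : Q ≤ (P : Subgroup G)) (hQ : Q ≤ up p K) (hc : ∀ R : Sylow 2 K, Nat.card R ≤ Nat.card Q)
    (hcQ : ∀ q ∈ Q, f 0 0 (M m) * q = q * f 0 0 (M m)) (h0Q : h0 ∈ Q) (h0z : h0 * h0 = z1 f)
    (hnorm : ∀ g : X, (∀ x ∈ K, g * x * g⁻¹ ∈ K) ∨ (∀ x ∈ K, g * x * g⁻¹ ∈ K'))
    (hinf : ∀ x ∈ K, x ∈ K' → x = 1 ∨ x = p (self (z1 f)))
    (ho : ∀ a ∈ centralizerPPrimeCore 2 (z1 f), ∀ x ∈ perf (up p K), a * x = x * a) :
    ∀ x ∈ perf (up p K), x * f 0 0 (M m) = f 0 0 (M m) * x := by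
  have := I.finite_X
  have hg : Good (0 : R m) 0 (M m) := RIn.goodc0
  have hcP : f 0 0 (M m) ∈ (P : Subgroup G) := I.model.f_mem_S hg
  have hcC : f 0 0 (M m) ∈ centralizer ({z1 f} : Set G) := I.P_le hcP
  have hcc : f 0 0 (M m) * f 0 0 (M m) = z1 f := by
    rw [I.model.f_mul _ _ _ _ _ _ hg hg, add_zero, M_add_M]; rfl
  have hpc : ∀ q ∈ Q, ∀ hq : q ∈ centralizer ({z1 f} : Set G),
      p ⟨f 0 0 (M m), hcC⟩ * p ⟨q, hq⟩ = p ⟨q, hq⟩ * p ⟨f 0 0 (M m), hcC⟩ := by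
    intro q hq hqC
    rw [← map_mul, ← map_mul]
    congr 1
    exact Subtype.ext (hcQ q hq)
  have hh0C : h0 ∈ centralizer ({z1 f} : Set G) := I.P_le (hQP h0Q)
  have hnK : ∀ x ∈ K, p ⟨f 0 0 (M m), hcC⟩ * x * (p ⟨f 0 0 (M m), hcC⟩)⁻¹ ∈ K := by
    rcases hnorm (p ⟨f 0 0 (M m), hcC⟩) with h3 | h3
    · exact h3
    · exfalso
      obtain ⟨m1, h4⟩ := mem_up.1 (hQ h0Q)
      have h5 := h3 _ h4
      rw [hpc h0 h0Q, mul_inv_cancel_right] at h5
      rcases hinf _ h4 h5 with h6 | h6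
      · have h7 := p_inj I.model I.hz.ker (x := ⟨h0, m1⟩) (hQP h0Q) h6
        simp only at h7
        rw [h7, one_mul] at h0z
        exact I.z1_ne h0z.symm
      · have h7 : p (⟨h0, m1⟩ * (self (z1 f))⁻¹) = 1 := by rw [map_mul, map_inv, h6, mul_inv_cancel]
        have h8 := p_inj I.model I.hz.ker (x := ⟨h0, m1⟩ * (self (z1 f))⁻¹)
          (mul_mem (hQP h0Q) (inv_mem I.z1_mem_P)) h7
        have h9 : h0 = z1 f := by
          have : h0 * (z1 f)⁻¹ = 1 := h8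
          exact mul_inv_eq_one.1 this
        rw [h9, I.z1_sq] at h0z
        exact I.z1_ne h0z.symm
  obtain ⟨R, hR⟩ := I.exists_sylow hQP hQ hc
  obtain ⟨e⟩ := e
  have hk : ∀ k ∈ K, p ⟨f 0 0 (M m), hcC⟩ * k = k * p ⟨f 0 0 (M m), hcC⟩ := by
    refine AutSylow.commute_of_sylow h2 e (a := p ⟨f 0 0 (M m), hcC⟩) (n := 1) ?_ hnK R ?_
    · have h5 : p ⟨f 0 0 (M m), hcC⟩ ^ 2 ^ 1 = p (self (z1 f)) := by
        rw [pow_one, pow_two, ← map_mul]
        congr 1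
        exact Subtype.ext hcc
      rw [h5, mem_centralizer_iff]
      intro x hx
      exact (hzc x hx).symm
    · intro x hx
      obtain ⟨q, hq, hqC, hqx⟩ := hR x hx
      rw [← hqx]
      exact hpc q hq hqC
  exact comm_of_comm_p I.hz.ker I.ab ho hcC hk

theorem pz_comm (I : In P m f u w F p K₁ K₂ y) (x : X) : p (self (z1 f)) * x = x * p (self (z1 f)) := by
  obtain ⟨g, rfl⟩ := I.hz.surj x
  rw [← map_mul, ← map_mul]
  congr 1
  exact Subtype.ext (mem_centralizer_singleton_iff.1 g.2).symm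

/-- elements of `perf (up p K)` with square `z1` are conjugate -/
theorem four (I : In P m f u w F p K₁ K₂ y) (h2 : (2 : F) ≠ 0) {K : Subgroup X}
    (e : Nonempty (K ≃* Matrix.SpecialLinearGroup (Fin 2) F)) (hperf : ⁅K, K⁆ = K)
    (ho : ∀ a ∈ centralizerPPrimeCore 2 (z1 f), ∀ x ∈ perf (up p K), a * x = x * a) :
    ∀ a ∈ perf (up p K), ∀ b ∈ perf (up p K), a * a = z1 f → b * b = z1 f → ∃ l ∈ perf (up p K), l * a * l⁻¹ = b := by
  intro a ha b hb haa hbb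
  obtain ⟨e⟩ := e
  obtain ⟨ma, pa⟩ := mem_up.1 (perf_le _ ha)
  obtain ⟨mb, pb⟩ := mem_up.1 (perf_le _ hb)
  have hsq : ∀ c, ∀ mc : c ∈ centralizer ({z1 f} : Set G), c * c = z1 f → p ⟨c, mc⟩ * p ⟨c, mc⟩ = p (self (z1 f)) := by
    intro c mc hc
    rw [← map_mul]
    congr 1
    exact Subtype.ext hc
  obtain ⟨k, hk, hkab⟩ := conj_four h2 e pa pb I.pz_ne I.pz_sq (hsq a ma haa) (hsq b mb hbb)
  obtain ⟨l, hl, ml, hpl⟩ := exists_lift I.hz.surj hperf hk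
  refine ⟨l, hl, ?_⟩
  have h3 : p (⟨l, ml⟩ * ⟨a, ma⟩ * (⟨l, ml⟩)⁻¹) = p ⟨b, mb⟩ := by
    rw [map_mul, map_mul, map_inv, hpl, hkab]
  obtain ⟨o, hoO, hoe⟩ := exists_core I.hz.ker h3
  simp only [Subgroup.coe_mul, InvMemClass.coe_inv] at hoe
  have hc : Commute b o := (ho o hoO b hb).symm
  have h4 : (l * a * l⁻¹) * (l * a * l⁻¹) = z1 f := by
    have e1 : (l * a * l⁻¹) * (l * a * l⁻¹) = l * (a * a) * l⁻¹ := by group
    rw [e1, haa, mem_centralizer_singleton_iff.1 ml, mul_inv_cancel_right]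
  rw [hoe] at h4
  have h5 : b * o * (b * o) = (b * b) * (o * o) := by
    have := hc.eq
    calc b * o * (b * o) = b * (o * b) * o := by group
      _ = b * (b * o) * o := by rw [this]
      _ = _ := by group
  rw [h5, hbb] at h4
  have h6 : o * o = 1 := mul_eq_left.1 h4
  have h7 : o = 1 := by
    have h8 := core_odd_order hoO
    have h9 : orderOf o ∣ 2 := orderOf_dvd_of_pow_eq_one (by rw [pow_two]; exact h6)
    exact orderOf_eq_one_iff.1 (Nat.eq_one_of_dvd_coprimes (Nat.coprime_two_right.2 h8) dvd_rfl h9)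
  rw [hoe, h7, mul_one]

/-- normal subgroups of odd order of `perf (up p K)` are central -/
theorem odd (I : In P m f u w F p K₁ K₂ y) (h2 : (2 : F) ≠ 0) {K : Subgroup X}
    (e : Nonempty (K ≃* Matrix.SpecialLinearGroup (Fin 2) F)) (hperf : ⁅K, K⁆ = K)
    (ho : ∀ a ∈ centralizerPPrimeCore 2 (z1 f), ∀ x ∈ perf (up p K), a * x = x * a) :
    ∀ N ≤ perf (up p K), (∀ l ∈ perf (up p K), cj l N = N) → ¬ 2 ∣ Nat.card N →
      ∀ x ∈ N, ∀ l ∈ perf (up p K), x * l = l * x := by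
  intro N hN hn hodd x hx l hl
  obtain ⟨e⟩ := e
  have hNC : N ≤ centralizer ({z1 f} : Set G) := (hN.trans (perf_le _)).trans (up_le p K)
  let N' : Subgroup X := (pq p hNC).range
  have hN' : N' ≤ K := by
    rintro _ ⟨⟨n, hn⟩, rfl⟩
    obtain ⟨mn, pn⟩ := mem_up.1 (perf_le _ (hN hn))
    exact pn
  have h1 : ∀ k ∈ K, ∀ a ∈ N', k * a * k⁻¹ ∈ N' := by
    rintro k hk _ ⟨⟨n, hnN⟩, rfl⟩
    obtain ⟨g, hg, mg, hpg⟩ := exists_lift I.hz.surj hperf hk
    have h3 : g * n * g⁻¹ ∈ N := by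
      have := conj_mem_cj (g := g) hnN
      rwa [hn g hg] at this
    refine ⟨⟨g * n * g⁻¹, h3⟩, ?_⟩
    change p ⟨g * n * g⁻¹, _⟩ = k * p ⟨n, _⟩ * k⁻¹
    rw [← hpg, ← map_mul, ← map_inv, ← map_mul]
    rfl
  have h3 : ¬ 2 ∣ Nat.card N' := by
    intro h4
    exact hodd (h4.trans (card_range_dvd _))
  have h4 := normal_odd h2 (I.three_lt h2) e hN' h1 h3 (p ⟨x, hNC hx⟩) ⟨⟨x, hx⟩, rfl⟩
  exact ho x ((I.hz.ker ⟨x, hNC hx⟩).1 h4) l hl

/-- **Construction of the input of the recognition end.** -/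
theorem rin (I : In P m f u w F p K₁ K₂ y) (h2 : (2 : F) ≠ 0)
    (hperm : ∀ ρ : Equiv.Perm (Fin 4), ∃ n, Ind f n ρ)
    (hpermn : ∀ n ∈ normalizer (Tor f : Set G), ∃ ρ, Ind f n ρ) :
    RIn P f u w (perf (up p K₁)) (perf (up p K₂)) := by
  have htwo : ∀ x ∈ (P : Subgroup G), ∃ n : ℕ, x ^ 2 ^ n = 1 := by
    intro x hx
    obtain ⟨n, hn⟩ := P.isPGroup' ⟨x, hx⟩
    exact ⟨n, congrArg Subtype.val hn⟩
  have hq1 : Qone f u ≤ perf (up p K₁) := by
    intro x hx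
    obtain ⟨n, hn⟩ := htwo x (Qone_le_S I.model hx)
    exact mem_perf_of_pow I.hz.ker I.hz.surj I.perf₁ I.o₁ (I.q₁ hx) hn
  have hq2 : Qtwo f u w ≤ perf (up p K₂) := by
    intro x hx
    obtain ⟨n, hn⟩ := htwo x (Qtwo_le_S I.model hx)
    exact mem_perf_of_pow I.hz.ker I.hz.surj I.perf₂ I.o₂ (I.q₂ hx) hn
  have hc1 := I.comm_c0 h2 (K' := K₂) I.hz.e₁ (fun x _ => I.pz_comm x) (Qone_le_S I.model) I.q₁
    I.card_sylow.1 (c0_comm_q1 I.model) h1_mem' (h1_sq' I.model)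
    (fun g => (I.hz.norm g).imp (fun h => h.1) (fun h => h.1)) I.hz.inf I.o₁
  have hc2 := I.comm_c0 h2 (K' := K₁) I.hz.e₂ (fun x _ => I.pz_comm x) (Qtwo_le_S I.model) I.q₂
    I.card_sylow.2 (c0_comm_q2 I.model) h2_mem' (h2_sq' I.model)
    (fun g => (I.hz.norm g).imp (fun h => h.2) (fun h => h.2)) (fun x hx hx' => I.hz.inf x hx' hx) I.o₂
  refine
    { model := I.model
      perm := hperm
      permn := hpermn
      le1 := (perf_le _).trans (up_le p _)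
      le2 := (perf_le _).trans (up_le p _)
      comm := perf_comm_perf I.hz I.ab I.o₁
      norm := fun g hg => cj_perf_up I.hz (mem_centralizer_singleton_iff.1 hg)
      q1 := hq1
      q2 := hq2
      c1 := fun x hx => (hc1 x hx).symm
      c2 := fun x hx => (hc2 x hx).symm
      four1 := I.four h2 I.hz.e₁ I.perf₁ I.o₁
      four2 := I.four h2 I.hz.e₂ I.perf₂ I.o₂
      perf1 := perf_comm _
      odd1 := I.odd h2 I.hz.e₁ I.perf₁ I.o₁
      core := ?_ }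
  intro a ha ha1 ha2
  have hz1 : z1 f ∈ perf (up p K₁) := hq1 (by
    rw [← h1_sq' I.model]
    exact mul_mem h1_mem' h1_mem')
  have mC : a ∈ centralizer ({z1 f} : Set G) := mem_centralizer_singleton_iff.2 (ha1 _ hz1)
  refine I.cz2 a ((I.hz.ker ⟨a, mC⟩).1 ?_)
  have hcov : ∀ K : Subgroup X, ⁅K, K⁆ = K → (∀ x ∈ perf (up p K), a * x = x * a) →
      ∀ k ∈ K, p ⟨a, mC⟩ * k = k * p ⟨a, mC⟩ := by
    intro K hK hKa k hk
    obtain ⟨l, hl, ml, hpl⟩ := exists_lift I.hz.surj hK hk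
    rw [← hpl, ← map_mul, ← map_mul]
    congr 1
    exact Subtype.ext (hKa l hl)
  refine I.hz.cent _ ?_ (hcov K₁ I.perf₁ ha1) (hcov K₂ I.perf₂ ha2)
  have h3 : orderOf (p ⟨a, mC⟩) ∣ orderOf (⟨a, mC⟩ : ↥(centralizer ({z1 f} : Set G))) := orderOf_map_dvd p _
  rw [Subgroup.orderOf_mk] at h3
  exact Odd.of_dvd_nat ha h3

end In

end Cfsg.Agent.LFourB.RCon
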