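import Cfsg.Agent.LFourB.RBEnd
import Cfsg.Agent.LFourB.RCon
import Cfsg.Agent.LFourB.ClBGlue

/-!
# Type B1: from the data in `C(z1)` and `C(x4)` to `PSL₄(q)`, `PSU₄(q)`
-/

set_option autoImplicit false
set_option linter.unusedSectionVars false

namespace Cfsg.Agent.LFourB.BOneEnd

open Subgroup Cfsg Cfsg.Agent.LFourB Cfsg.Agent.LFourB.BOne Cfsg.Agent.LFourB.RDefs Cfsg.Agent.LFourB.CzB
open Cfsg.Agent.LFourB.RDefs.RIn Cfsg.Agent.LFourA.CzCt Cfsg.Agent.LFourB.RCon Cfsg.Agent.J2Sylow.Functor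

variable {G E : Type*} [Group G] [Group E] [Finite G]
  {P : Sylow 2 G} {m : ℕ} {f : R m → R m → R m → G} {u w : G}
  {p : ↥(centralizer ({z1 f} : Set G)) →* E} {K₁ K₂ : Subgroup E} {F : Type*} [Field F] [Fintype F] {y : G}

/-- The homomorphism `L1 → SL₂(F)`. -/
theorem exists_pi (I : RCon.In P m f u w F p K₁ K₂ y) :
    ∃ π : perf (up p K₁) →* Matrix.SpecialLinearGroup (Fin 2) F, Function.Surjective π ∧
      π.ker ≤ center (perf (up p K₁)) ∧ Odd (Nat.card π.ker) := by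
  obtain ⟨e⟩ := I.hz.e₁
  have hle : perf (up p K₁) ≤ centralizer ({z1 f} : Set G) := (perf_le _).trans (up_le p _)
  have hK : ∀ x : perf (up p K₁), p (inclusion hle x) ∈ K₁ := by
    intro x
    obtain ⟨mx, hx⟩ := mem_up.1 (perf_le _ x.2)
    exact hx
  let π0 : perf (up p K₁) →* K₁ := (p.comp (inclusion hle)).codRestrict K₁ hK
  have hker : ∀ x, (e.toMonoidHom.comp π0) x = 1 ↔ (x : G) ∈ centralizerPPrimeCore 2 (z1 f) := by
    intro x
    have h1 : (e.toMonoidHom.comp π0) x = e (π0 x) := rfl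
    rw [h1, map_eq_one_iff e e.injective]
    have h2 : π0 x = 1 ↔ p (inclusion hle x) = 1 :=
      ⟨fun h => congrArg Subtype.val h, fun h => Subtype.ext h⟩
    rw [h2, I.hz.ker]
    rfl
  refine ⟨e.toMonoidHom.comp π0, ?_, ?_, ?_⟩
  · intro k
    obtain ⟨k', rfl⟩ := e.surjective k
    obtain ⟨x, hx, mx, hxk⟩ := exists_lift I.hz.surj I.perf₁ k'.2
    refine ⟨⟨x, hx⟩, ?_⟩
    change e (π0 ⟨x, hx⟩) = e k'
    congr 1
    exact Subtype.ext hxk
  · intro x hx
    rw [mem_center_iff]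
    intro g
    have h1 := (hker x).1 hx
    exact Subtype.ext (I.o₁ _ h1 _ g.2).symm
  · have h1 : ((e.toMonoidHom.comp π0).ker).map (perf (up p K₁)).subtype ≤ centralizerPPrimeCore 2 (z1 f) := by
      rintro _ ⟨x, hx, rfl⟩
      exact (hker x).1 hx
    have h2 := card_dvd_of_le h1
    rw [card_map_of_injective (subtype_injective _)] at h2
    exact Odd.of_dvd_nat (K_odd (z1 f)) h2

/-- a group of type B1 is not abelian, so a simple one has trivial centre -/
theorem center_eq_bot [IsSimpleGroup G] (h : BOne (P : Subgroup G) m f u w) : Subgroup.center G = ⊥ := by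
  rcases (inferInstance : (Subgroup.center G).Normal).eq_bot_or_eq_top with h1 | h1
  · exact h1
  · exfalso
    apply h.u_not_mem_Tor
    refine h.mem_Tor_of_comm h.u_mem fun i => ?_
    have h2 : u ∈ Subgroup.center G := by rw [h1]; exact Subgroup.mem_top u
    exact (Subgroup.mem_center_iff.1 h2 _).symm

/-- `G₀ = G` -/
theorem GZ_eq_top [IsSimpleGroup G] {L1 L2 : Subgroup G} (hR : RIn P f u w L1 L2)
    (hN : normalizer (GZ f L1 : Set G) = ⊤) : GZ f L1 = ⊤ := by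
  have hn : (GZ f L1).Normal := Subgroup.normalizer_eq_top_iff.1 hN
  rcases hn.eq_bot_or_eq_top with h1 | h1
  · exfalso
    have h2 : z1 f ∈ GZ f L1 := L1_le_GZ hR.z1_mem
    rw [h1, mem_bot] at h2
    exact RFive.z1_ne hR h2
  · exact h1

/-- **Type B1**: the end. -/
theorem conclLU [IsSimpleGroup G] (I : RCon.In P m f u w F p K₁ K₂ y) (hF : Odd (Fintype.card F))
    (hperm : ∀ ρ : Equiv.Perm (Fin 4), ∃ n ∈ normalizer (Tor f : Set G), ∀ i, n * X f i * n⁻¹ = X f (ρ i))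
    (hcent : ∀ n ∈ normalizer (Tor f : Set G), (∀ i, n * X f i = X f i * n) → ∀ t ∈ Tor f, n * t = t * n)
    (hd : ∃ d, DD f u d 0)
    {Q : Sylow 2 (centralizer ({x4 f} : Set G))}
    (hQ : (Q : Subgroup (centralizer ({x4 f} : Set G))) = (Sx f u).subgroupOf (centralizer ({x4 f} : Set G)))
    {ρ : centralizer ({x4 f} : Set G)}
    (hx : XDat Q m (lft (centralizer ({x4 f} : Set G)) f) ⟨u, I.model.cx_u_mem_cent⟩ ρ)
    {L : Subgroup ((centralizer ({x4 f} : Set G) : Subgroup G) ⧸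
      Cfsg.pPrimeCore 2 (centralizer ({x4 f} : Set G) : Subgroup G))}
    (hL : CentXTail.Out Q hx.Wr (Dd (lft (centralizer ({x4 f} : Set G)) f) ρ) L) (hT : Typ L) : LFour.ConclLU G := by
  have h2 : (2 : F) ≠ 0 := RIn.two_ne_zero_of_odd_card hF
  have h3 : 3 < Nat.card F := by rw [Nat.card_eq_fintype_card]; exact I.three_lt h2
  have hR := I.rin h2 (fun ρ => by
    obtain ⟨n, hn, hn'⟩ := hperm ρ
    exact ⟨n, hn, hn'⟩) (fun n hn => by
    obtain ⟨σ, hσ⟩ := FusA.exists_perm I.model.e_sf hn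
    exact ⟨σ, hn, hσ⟩)
  have hcl : ClDat (P : Subgroup G) f u w (normalizer (GZ f (perf (up p K₁)) : Set G)) :=
    { toBOne := I.model
      hz := hR.cent_z1_le
      hT := RIn.normalizer_Tor_le
      hperm := hperm
      hcent := hcent
      hd := by
        obtain ⟨d, hd⟩ := hd
        exact ⟨d, 0, hd⟩ }
  have hne : ¬ IsConj (z1 f) (x4 f) := by
    rintro hc
    obtain ⟨g, hg⟩ := isConj_iff.1 hc
    exact I.model.fus_z1_X g 3 hg
  have hN := hcl.eq_top_of_typ hQ hx hL hT hne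
  have hG := GZ_eq_top hR hN
  have hc : Subgroup.center G = ⊥ := center_eq_bot I.model
  obtain ⟨π, hπ, hπk, hπo⟩ := exists_pi I
  refine hR.conclLU hG hc h2 h3 hπ hπk hπo (L := L) hL.normal hL.odd ?_
  rcases hT with ⟨F1, _, _, hF1, he⟩ | ⟨F1, _, _, r, hF1, hr, he⟩
  · exact Or.inl ⟨F1, _, _, Nat.odd_iff.2 (by omega), he⟩
  · exact Or.inr ⟨F1, _, _, r, hF1, Nat.odd_iff.2 (by omega), he⟩

end Cfsg.Agent.LFourB.BOneEnd
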