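import Mathlib
import Cfsg.Prelude.Def_CaseTheorems
import Cfsg.Agent.S0243
import Cfsg.Agent.S0280

/-!
# Identification of the simple section of `C(x4)`: the simple groups with wreathed Sylow 2-subgroups of large order

`exists_model` gives `PSL₃` or `PSU₃` from the theorem on wreathed Sylow 2-subgroups, `plus` and `minus` are the
numerical conditions on the field.
-/

set_option autoImplicit false

namespace Cfsg.Agent.LFourB.CentXId

universe u

/-- The two linear types. -/
def Mdl (K : Type u) [Group K] : Prop :=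
  (∃ (F : Type) (_ : Field F) (_ : Fintype F), Odd (Fintype.card F) ∧
      Nonempty (K ≃* Matrix.ProjectiveSpecialLinearGroup (Fin 3) F)) ∨
    (∃ (F : Type) (_ : Field F) (_ : Fintype F) (q : ℕ), Fintype.card F = q ^ 2 ∧ Odd q ∧
      Nonempty (K ≃* Cfsg.PSU 3 F q))

/-- A simple group with wreathed Sylow 2-subgroup of order divisible by `2 ^ 7` is `PSL₃` or `PSU₃`. -/
theorem exists_model
    (h523 : ∀ (K : Type u) [Group K] [Finite K] [IsSimpleGroup K] (S : Sylow 2 K),
      Cfsg.IsWreathed (S : Subgroup K) →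
      (∃ (F : Type) (_ : Field F) (_ : Fintype F), Odd (Fintype.card F) ∧
          Nonempty (K ≃* Matrix.ProjectiveSpecialLinearGroup (Fin 3) F)) ∨
        (∃ (F : Type) (_ : Field F) (_ : Fintype F) (q : ℕ), Fintype.card F = q ^ 2 ∧ Odd q ∧
          Nonempty (K ≃* Cfsg.PSU 3 F q)) ∨
        Cfsg.IsM11 K)
    {K : Type u} [Group K] [Finite K] [IsSimpleGroup K] (T : Sylow 2 K) (hT : Cfsg.IsWreathed (T : Subgroup K))
    (h7 : 2 ^ 7 ∣ Nat.card K) : Mdl K := by
  rcases h523 K T hT with h | h | h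
  · exact Or.inl h
  · exact Or.inr h
  · exfalso
    have h2 : Nat.card K = 7920 := h.2
    rw [h2] at h7
    norm_num at h7

theorem fact_mul {a b : ℕ} (ha : a ≠ 0) (hb : b ≠ 0) :
    (a * b).factorization 2 = a.factorization 2 + b.factorization 2 := by
  rw [Nat.factorization_mul ha hb]; rfl

theorem fact_odd {a : ℕ} (ha : a % 2 = 1) : a.factorization 2 = 0 :=
  Nat.factorization_eq_zero_of_not_dvd (by omega)

theorem dvd_of_fact {a k : ℕ} (ha : a ≠ 0) (h : a.factorization 2 = k) : 2 ^ k ∣ a ∧ ¬ 2 ^ (k + 1) ∣ a := by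
  constructor
  · rw [← h]; exact Nat.ordProj_dvd a 2
  · intro h1
    have h2 := (Nat.Prime.pow_dvd_iff_le_factorization Nat.prime_two ha).mp h1
    omega

theorem gcd_three_odd (a : ℕ) : Nat.gcd 3 a % 2 = 1 := by
  have h1 : Nat.gcd 3 a ∣ 3 := Nat.gcd_dvd_left 3 a
  rcases (Nat.dvd_prime Nat.prime_three).mp h1 with h2 | h2 <;> rw [h2]

theorem num_plus {g a b N o p : ℕ} (hg : g % 2 = 1) (ha : a ≠ 0) (hb : b ≠ 0) (hN : N ≠ 0) (ho : o % 2 = 1)
    (hp : p % 2 = 1) (h : g * (a * N) = a * o * (p * (a * b)) * (p ^ 2 * a)) :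
    N.factorization 2 = a.factorization 2 + (a.factorization 2 + b.factorization 2) := by
  have hg0 : g ≠ 0 := by rintro rfl; omega
  have ho0 : o ≠ 0 := by rintro rfl; omega
  have hp0 : p ≠ 0 := by rintro rfl; omega
  have hp2 : p ^ 2 % 2 = 1 := by rw [Nat.pow_mod, hp]
  have h3 := congrArg (fun n : ℕ => n.factorization 2) h
  rw [fact_mul hg0 (mul_ne_zero ha hN), fact_mul ha hN, fact_odd hg,
    fact_mul (by positivity) (by positivity), fact_mul (by positivity) (by positivity),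
    fact_mul ha ho0, fact_mul hp0 (mul_ne_zero ha hb), fact_mul ha hb, fact_mul (by positivity) ha,
    fact_odd ho, fact_odd hp, fact_odd hp2] at h3
  omega

theorem num_minus {g a b N o p : ℕ} (hg : g % 2 = 1) (ha : a ≠ 0) (hb : b ≠ 0) (hN : N ≠ 0) (ho : o % 2 = 1)
    (hp : p % 2 = 1) (h : g * (b * N) = p * (b * (a * b) * (b * o))) :
    N.factorization 2 = b.factorization 2 + (a.factorization 2 + b.factorization 2) := by
  have hg0 : g ≠ 0 := by rintro rfl; omega
  have ho0 : o ≠ 0 := by rintro rfl; omega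
  have hp0 : p ≠ 0 := by rintro rfl; omega
  have h3 := congrArg (fun n : ℕ => n.factorization 2) h
  rw [fact_mul hg0 (mul_ne_zero hb hN), fact_mul hb hN, fact_odd hg,
    fact_mul hp0 (by positivity), fact_mul (by positivity) (by positivity),
    fact_mul hb (mul_ne_zero ha hb), fact_mul ha hb, fact_mul hb ho0,
    fact_odd ho, fact_odd hp] at h3
  omega

/-- The linear case. -/
theorem plus {F : Type*} [Field F] [Fintype F] (hodd : Odd (Fintype.card F)) {K : Type*} [Group K]
    (e : K ≃* Matrix.ProjectiveSpecialLinearGroup (Fin 3) F) {m : ℕ}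
    (h1 : (Nat.card K).factorization 2 = 2 * m + 7)
    (h2 : (Fintype.card F * (Fintype.card F ^ 2 - 1)).factorization 2 = m + 4) :
    2 ^ (m + 3) ∣ Fintype.card F - 1 ∧ ¬ 2 ^ (m + 4) ∣ Fintype.card F - 1 ∧ Fintype.card F % 8 = 1 := by
  classical
  have hc := Cfsg.Agent.S0243.result (F := F) (q := Fintype.card F) rfl 3 (by norm_num)
  rw [← Nat.card_congr e.toEquiv] at hc
  have hq1 : 1 < Fintype.card F := Fintype.one_lt_card
  generalize Fintype.card F = q at *
  obtain ⟨k, rfl⟩ := hodd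
  have hk : 0 < k := by omega
  have hN : Nat.card K ≠ 0 := by
    intro h3
    rw [h3, Nat.factorization_zero] at h1
    simp at h1
  -- the order formula
  have e1 : 2 * k + 1 - 1 = 2 * k := by omega
  have e2 : (2 * k + 1) ^ 2 - 1 = 2 * k * (2 * (k + 1)) := by
    rw [Nat.sub_eq_iff_eq_add (Nat.one_le_pow _ _ (by omega))]; ring
  have e3 : (2 * k + 1) ^ 3 - 1 = 2 * k * (4 * k * k + 6 * k + 3) := by
    rw [Nat.sub_eq_iff_eq_add (Nat.one_le_pow _ _ (by omega))]; ring
  have e4 : (2 * k + 1) ^ 3 - (2 * k + 1) = (2 * k + 1) * (2 * k * (2 * (k + 1))) := by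
    rw [Nat.sub_eq_iff_eq_add (by nlinarith [Nat.zero_le k, Nat.zero_le (k * k), Nat.zero_le (k * k * k)])]; ring
  have e5 : (2 * k + 1) ^ 3 - (2 * k + 1) ^ 2 = (2 * k + 1) ^ 2 * (2 * k) := by
    rw [Nat.sub_eq_iff_eq_add (Nat.pow_le_pow_right (by omega) (by norm_num))]; ring
  rw [e1, Fin.prod_univ_three] at hc
  simp only [Fin.val_zero, Fin.val_one, Fin.val_two, pow_zero, pow_one] at hc
  rw [e3, e4, e5] at hc
  rw [e2, fact_mul (by omega) (by positivity), fact_odd (by omega), zero_add,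
    fact_mul (by positivity) (by positivity)] at h2
  have h3 := num_plus (gcd_three_odd (2 * k)) (by omega) (by omega) hN (by
      have h4 : 4 * k * k + 6 * k + 3 = 2 * (2 * k * k + 3 * k + 1) + 1 := by ring
      omega) (show (2 * k + 1) % 2 = 1 by omega) hc
  have h4 : (2 * k).factorization 2 = m + 3 := by omega
  obtain ⟨h5, h6⟩ := dvd_of_fact (by omega) h4
  rw [e1]
  refine ⟨h5, h6, ?_⟩
  have h7 : 2 ^ 3 ∣ 2 * k := (Nat.pow_dvd_pow 2 (by omega)).trans h5
  omega

/-- The unitary case. -/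
theorem minus {F : Type*} [Field F] [Fintype F] {r : ℕ} (hF : Fintype.card F = r ^ 2) (hodd : Odd r) {K : Type*}
    [Group K] (e : K ≃* Cfsg.PSU 3 F r) {m : ℕ}
    (h1 : (Nat.card K).factorization 2 = 2 * m + 7)
    (h2 : (r * (r ^ 2 - 1)).factorization 2 = m + 4) :
    2 ^ (m + 3) ∣ r + 1 ∧ ¬ 2 ^ (m + 4) ∣ r + 1 ∧ r % 8 = 7 := by
  classical
  have hc := Cfsg.Agent.S0280.result (F := F) (q := r) hF 3 (by norm_num)
  rw [← Nat.card_congr e.toEquiv] at hc
  have hq1 : 1 < r ^ 2 := hF ▸ Fintype.one_lt_card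
  obtain ⟨k, rfl⟩ := hodd
  have hk : 0 < k := by
    rcases Nat.eq_zero_or_pos k with h | h
    · rw [h] at hq1; norm_num at hq1
    · exact h
  have hN : Nat.card K ≠ 0 := by
    intro h3
    rw [h3, Nat.factorization_zero] at h1
    simp at h1
  have e1 : 2 * k + 1 + 1 = 2 * (k + 1) := by omega
  have e2 : (2 * k + 1) ^ 2 - 1 = 2 * k * (2 * (k + 1)) := by
    rw [Nat.sub_eq_iff_eq_add (Nat.one_le_pow _ _ (by omega))]; ring
  have e3 : (2 * k + 1) ^ 3 + 1 = 2 * (k + 1) * (4 * k * k + 2 * k + 1) := by ring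
  rw [Finset.prod_range_succ, Finset.prod_range_succ, Finset.prod_range_one] at hc
  simp only [Even.zero, if_true, Nat.not_even_one, if_false, even_two, zero_add, pow_one] at hc
  rw [show 1 + 1 = 2 by norm_num, show 2 + 1 = 3 by norm_num, e1, e2, e3] at hc
  rw [e2, fact_mul (by omega) (by positivity), fact_odd (by omega), zero_add,
    fact_mul (by positivity) (by positivity)] at h2
  have h3 := num_minus (gcd_three_odd (2 * (k + 1))) (show 2 * k ≠ 0 by omega) (by omega) hN (by
      have h4 : 4 * k * k + 2 * k + 1 = 2 * (2 * k * k + k) + 1 := by ring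
      omega) (by
      rw [Nat.pow_mod, show (2 * k + 1) % 2 = 1 by omega, one_pow]; rfl) hc
  have h4 : (2 * (k + 1)).factorization 2 = m + 3 := by omega
  obtain ⟨h5, h6⟩ := dvd_of_fact (by omega) h4
  rw [e1]
  refine ⟨h5, h6, ?_⟩
  have h7 : 2 ^ 3 ∣ 2 * (k + 1) := (Nat.pow_dvd_pow 2 (by omega)).trans h5
  omega

end Cfsg.Agent.LFourB.CentXId
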