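import Cfsg.Agent.LFourB.MSevenFf

/-!
# The element `ρ` of `N(S0)` (S0510, piece F-B5, case (a2))

`ρ` normalises `V1` and `V2`, maps `z → ze → ze z`, and multiplies the coordinates `a`, `b` by `ω ^ 2`.
-/

set_option autoImplicit false

namespace Cfsg.Agent.LFourB.MQ

open Subgroup Cfsg.Agent.Lib.GoldschmidtFusion M7

/-! ### Kernel facts -/

theorem V1_index' : ∀ u v : M7, u ∈ V1 → v ∈ V1 → u ∈ Q ∨ v ∈ Q ∨ v * u ∈ Q := by decide +kernel

theorem W1_types : ∀ u : M7, u ∈ V1 → u ∈ Q → u = 1 ∨ u = z ∨ (∃ s : M7, s * ze * s⁻¹ = u) ∨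
    ((∃ s : M7, s * x1 * s⁻¹ = u) ∧ ∃ s : M7, s * (x1 * z) * s⁻¹ = u) := by decide +kernel

section

variable {G : Type*} [Group G] [Finite G] {P : Sylow 2 G} {φ : M7 →* G}

/-- **Perp lemma.** If `N(V1) ∩ C(z)` normalises `W1 = V1 ⊓ Q` and `N(V1)` is transitive on `V1 \ {1}`, then no element of
`N(V1) ∩ N(W1)` maps `z` to `ze`. -/
theorem perp (h : Emb7 (P : Subgroup G) φ) {σ : G} (hσ : Sig φ σ)
    (htr : ∃ n : G, Nm φ V1 n ∧ n * φ z * n⁻¹ = φ x2)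
    (hiso : ∀ n ∈ Cz φ, Nm φ V1 n → Nm φ W1 n) {ρ : G} (hV : Nm φ V1 ρ) (hW : Nm φ W1 ρ)
    (hρ : ρ * φ z * ρ⁻¹ = φ ze) : False := by
  -- the elements `n_u`
  have hn : ∀ u : M7, u ∈ V1 → u ∈ Q → u ≠ 1 → ∃ n : G, Nm φ V1 n ∧ Nm φ W1 n ∧ n * φ z * n⁻¹ = φ u := by
    intro u hu huQ hu1
    rcases W1_types u hu huQ with h1 | h1 | ⟨s, hs⟩ | ⟨⟨s, hs⟩, ⟨s', hs'⟩⟩
    · exact absurd h1 hu1
    · exact ⟨1, Nm.one, Nm.one, by rw [h1]; simp⟩
    · refine ⟨φ s * ρ, (Nm.image φ V1_normal s).mul hV, (Nm.image φ W1_normal s).mul hW, ?_⟩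
      rw [← hs, map_mul, map_mul, map_inv, ← hρ]; group
    · obtain ⟨m, hm, hm'⟩ := hσ.aze
      have hσW : Nm φ W1 σ := hiso σ hσ.cz hσ.nV1
      rcases Z1_cases m hm with h1 | h1
      · refine ⟨φ s * (σ * ρ), (Nm.image φ V1_normal s).mul (hσ.nV1.mul hV),
          (Nm.image φ W1_normal s).mul (hσW.mul hW), ?_⟩
        rw [← hs, map_mul, map_mul, map_inv]
        rw [h1, mul_one] at hm'
        rw [← hm', ← hρ]; group
      · refine ⟨φ s' * (σ * ρ), (Nm.image φ V1_normal s').mul (hσ.nV1.mul hV),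
          (Nm.image φ W1_normal s').mul (hσW.mul hW), ?_⟩
        rw [h1] at hm'
        rw [← hs', map_mul φ (s' * (x1 * z)), map_mul φ s', map_inv, ← hm', ← hρ]; group
  obtain ⟨n, hnV, hnz⟩ := htr
  -- an element of `W1 ⊓ n W1 n⁻¹`
  have hu : ∃ u' u : M7, u' ∈ V1 ∧ u' ∈ Q ∧ u' ≠ 1 ∧ u ∈ V1 ∧ u ∈ Q ∧ n * φ u' * n⁻¹ = φ u := by
    obtain ⟨a, ha, ha'⟩ := hnV.exists (m := ze) (by decide)
    obtain ⟨b, hb, hb'⟩ := hnV.exists (m := x1) (by decide)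
    rcases V1_index' a b ha hb with h1 | h1 | h1
    · exact ⟨ze, a, by decide, by decide, by decide, ha, h1, ha'⟩
    · exact ⟨x1, b, by decide, by decide, by decide, hb, h1, hb'⟩
    · refine ⟨x1 * ze, b * a, by decide, by decide, by decide, V1.mul_mem hb ha, h1, ?_⟩
      rw [map_mul, map_mul, ← ha', ← hb']; group
  obtain ⟨u', u, hu', huQ', hu1', hu, huQ, huu⟩ := hu
  have hu1 : u ≠ 1 := by
    intro h1
    apply hu1'
    apply h.inj
    rw [h1, map_one] at huu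
    have h2 : φ u' = n⁻¹ * (n * φ u' * n⁻¹) * n := by group
    rw [h2, huu, map_one]; group
  obtain ⟨c, hcV, hcW, hcz⟩ := hn u' hu' huQ' hu1'
  obtain ⟨d, hdV, hdW, hdz⟩ := hn u hu huQ hu1
  have hk : d⁻¹ * n * c ∈ Cz φ := by
    apply mem_Cz_of_conj
    calc d⁻¹ * n * c * φ z * (d⁻¹ * n * c)⁻¹ = d⁻¹ * (n * (c * φ z * c⁻¹) * n⁻¹) * d := by group
      _ = d⁻¹ * (d * φ z * d⁻¹) * d := by rw [hcz, huu, hdz]
      _ = φ z := by group
  have hkW := hiso _ hk ((hdV.inv.mul hnV).mul hcV)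
  have hnW : Nm φ W1 n := by
    have h1 := (hdW.mul hkW).mul hcW.inv
    have e : d * (d⁻¹ * n * c) * c⁻¹ = n := by group
    rwa [e] at h1
  obtain ⟨t, ht, ht'⟩ := hnW.exists z_mem_W1
  have h2 : x2 = t := h.inj (by rw [← ht', hnz])
  rw [← h2] at ht
  exact absurd (Subgroup.mem_inf.1 ht).2 (by decide)

end

/-! ### Linear maps of `K4` over the prime field -/

/-- The additive map with `1 ↦ x`, `ω ↦ y`. -/
def lin (x y : K4) : K4 → K4
  | .o => .o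
  | .i => x
  | .w => y
  | .v => x + y

theorem lin_cases : ∀ x y : K4, x ≠ .o → y ≠ .o → x ≠ y →
    (x = .i ∧ y = .w) ∨ (x = .w ∧ y = .v) ∨ (x = .v ∧ y = .i) ∨
      ((∀ a, lin x y (lin x y a) = a) ∧ ¬ ∀ a, lin x y a = a) := by decide

theorem lin_mul_i : ∀ a : K4, lin .i .w a = .i * a := by decide
theorem lin_mul_w : ∀ a : K4, lin .w .v a = .w * a := by decide
theorem lin_mul_v : ∀ a : K4, lin .v .i a = .v * a := by decide

theorem iterate_odd {α : Type*} {g : α → α} (hg : ∀ a, g (g a) = a) {n : ℕ} (hn : Odd n) (a : α) :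
    g^[n] a = g a := by
  obtain ⟨k, rfl⟩ := hn
  have h1 : g^[2] = id := by
    funext b
    exact hg b
  have h2 : g^[2 * k + 1] a = g^[2 * k] (g a) := Function.iterate_succ_apply g (2 * k) a
  rw [h2, Function.iterate_mul, h1, Function.iterate_id]
  rfl

/-- An additive map of `K4` of odd order is the multiplication by a non-zero element. -/
theorem exists_mul {g : K4 → K4} (hadd : ∀ a b, g (a + b) = g a + g b) (hinj : ∀ a, g a = .o → a = .o)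
    {n : ℕ} (hn : Odd n) (hgn : ∀ a, g^[n] a = a) : ∃ l : K4, l ≠ .o ∧ ∀ a, g a = l * a := by
  have h0 : g .o = .o := by
    have h1 : g (K4.i + K4.i) = g .i + g .i := hadd .i .i
    rw [K4.add_self, K4.add_self (g .i)] at h1
    exact h1
  have hl : ∀ a, g a = lin (g .i) (g .w) a := by
    intro a
    cases a
    · exact h0
    · rfl
    · rfl
    · exact hadd .i .w
  have hl' : g = lin (g .i) (g .w) := funext hl
  have h1 : g .i ≠ .o := fun h => absurd (hinj _ h) (by decide)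
  have h2 : g .w ≠ .o := fun h => absurd (hinj _ h) (by decide)
  have h3 : g .i ≠ g .w := by
    intro h
    have h4 : g .v = .o := by
      have h5 : g (K4.i + K4.w) = g .i + g .w := hadd .i .w
      rw [h, K4.add_self] at h5
      exact h5
    exact absurd (hinj _ h4) (by decide)
  rcases lin_cases _ _ h1 h2 h3 with ⟨c1, c2⟩ | ⟨c1, c2⟩ | ⟨c1, c2⟩ | ⟨c1, c2⟩
  · exact ⟨.i, by decide, fun a => by rw [hl a, c1, c2]; exact lin_mul_i a⟩
  · exact ⟨.w, by decide, fun a => by rw [hl a, c1, c2]; exact lin_mul_w a⟩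
  · exact ⟨.v, by decide, fun a => by rw [hl a, c1, c2]; exact lin_mul_v a⟩
  · exfalso
    apply c2
    intro a
    rw [← hl a]
    have h4 : ∀ a, g (g a) = a := by
      intro a
      have h5 := c1 a
      rw [← hl a, ← hl] at h5
      exact h5
    rw [← iterate_odd h4 hn a]
    exact hgn a

/-! ### Kernel facts on coordinates -/

theorem V1_mul_a : ∀ m n : M7, m ∈ V1 → n ∈ V1 → (m * n).a = m.a + n.a := by
  intro m n hm _
  rw [mul_a, ((mem_V1 m).1 hm).2]; rfl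
theorem V2_mul_b : ∀ m n : M7, m ∈ V2 → n ∈ V2 → (m * n).b = m.b + n.b := by
  intro m n hm _
  rw [mul_b, ((mem_V2 m).1 hm).2]; rfl
theorem mem_Z_iff : ∀ m : M7, m ∈ Z ↔ m ∈ V1 ∧ m ∈ V2 := by decide +kernel
theorem V1_zero : ∀ m : M7, m ∈ V1 → (m.a = .o ↔ m ∈ Z) := by decide +kernel
theorem V2_zero : ∀ m : M7, m ∈ V2 → (m.b = .o ↔ m ∈ Z) := by decide +kernel
theorem comm_coord : ∀ m n : M7, m ∈ V1 → n ∈ V2 → m * n * m⁻¹ * n⁻¹ = ⟨.o, .o, m.a * n.b, false⟩ := by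
  decide +kernel

/-- elements with given `a` coordinate -/
def xa (a : K4) : M7 := ⟨a, .o, .o, false⟩
/-- elements with given `b` coordinate -/
def yb (b : K4) : M7 := ⟨.o, b, .o, false⟩

theorem xa_mem : ∀ a : K4, xa a ∈ V1 := by decide
theorem yb_mem : ∀ a : K4, yb a ∈ V2 := by decide

section

variable {G : Type*} [Group G] {P : Subgroup G} {φ : M7 →* G}

theorem Nm.pow {K : Subgroup M7} {g : G} (h : Nm φ K g) (n : ℕ) : Nm φ K (g ^ n) := by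
  induction n with
  | zero => rw [pow_zero]; exact Nm.one
  | succ n ih => rw [pow_succ]; exact ih.mul h

theorem Nm.Z (h : Emb7 P φ) {g : G} (h1 : Nm φ V1 g) (h2 : Nm φ V2 g) {m : M7} (hm : m ∈ M7.Z) :
    ∃ m' ∈ M7.Z, g * φ m * g⁻¹ = φ m' := by
  obtain ⟨m1, hm1, hm1'⟩ := h1.exists ((mem_Z_iff m).1 hm).1
  obtain ⟨m2, hm2, hm2'⟩ := h2.exists ((mem_Z_iff m).1 hm).2
  have h3 : m1 = m2 := h.inj (by rw [← hm1', hm2'])
  exact ⟨m1, (mem_Z_iff m1).2 ⟨hm1, h3 ▸ hm2⟩, hm1'⟩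

/-- The action of `g ∈ N(V1) ∩ N(V2)` on `V1 / Z`. -/
theorem exists_alpha (h : Emb7 P φ) {g : G} (h1 : Nm φ V1 g) (h2 : Nm φ V2 g) {n : ℕ} (hn : Odd n)
    (hgn : g ^ n = 1) :
    ∃ l : K4, l ≠ .o ∧ ∀ m ∈ V1, ∃ m' ∈ V1, g * φ m * g⁻¹ = φ m' ∧ m'.a = l * m.a := by
  have hch : ∀ a : K4, ∃ m' ∈ V1, g * φ (xa a) * g⁻¹ = φ m' := fun a => h1.exists (xa_mem a)
  choose F hF hF' using hch
  -- the `a` coordinate of the image depends only on the `a` coordinate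
  have hdep : ∀ m ∈ V1, ∀ m' ∈ V1, g * φ m * g⁻¹ = φ m' → m'.a = (F m.a).a := by
    intro m hm m' hm' hmm
    have h3 : (xa m.a)⁻¹ * m ∈ M7.Z := by
      have : ∀ m : M7, m ∈ V1 → (xa m.a)⁻¹ * m ∈ M7.Z := by decide +kernel
      exact this m hm
    obtain ⟨c, hc, hc'⟩ := Nm.Z h h1 h2 h3
    have h4 : m' = F m.a * c := by
      apply h.inj
      rw [map_mul, ← hc', ← hF', ← hmm, map_mul, map_inv]
      group
    have hc1 : c ∈ V1 := ((mem_Z_iff c).1 hc).1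
    rw [h4, V1_mul_a _ _ (hF _) hc1, (V1_zero c hc1).2 hc]
    exact add_zero _
  have hadd : ∀ a b, (F (a + b)).a = (F a).a + (F b).a := by
    intro a b
    rw [← V1_mul_a _ _ (hF a) (hF b)]
    have h3 : g * φ (xa a * xa b) * g⁻¹ = φ (F a * F b) := by
      rw [map_mul, map_mul, ← hF', ← hF']; group
    rw [hdep _ (V1.mul_mem (xa_mem a) (xa_mem b)) _ (V1.mul_mem (hF a) (hF b)) h3,
      V1_mul_a _ _ (xa_mem a) (xa_mem b)]
    rfl
  have hinj : ∀ a, (F a).a = .o → a = .o := by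
    intro a ha
    obtain ⟨c, hc, hc'⟩ := Nm.Z h h1.inv h2.inv ((V1_zero _ (hF a)).1 ha)
    have h3 : xa a = c := by
      apply h.inj
      rw [← hc', ← hF']
      group
    have h4 := (V1_zero _ (xa_mem a)).2 (h3 ▸ hc)
    exact h4
  -- iterates
  have hit : ∀ (k : ℕ) (m : M7), m ∈ V1 → ∀ m' ∈ V1, g ^ k * φ m * (g ^ k)⁻¹ = φ m' →
      m'.a = (fun a => (F a).a)^[k] m.a := by
    intro k
    induction k with
    | zero =>
      intro m hm m' hm' hmm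
      have h3 : m = m' := h.inj (by simpa using hmm)
      rw [h3]; rfl
    | succ k ih =>
      intro m hm m' hm' hmm
      obtain ⟨t, ht, ht'⟩ := (h1.pow k).exists hm
      have h3 : g * φ t * g⁻¹ = φ m' := by
        rw [← ht', ← hmm, pow_succ']
        group
      rw [Function.iterate_succ_apply', ← ih m hm t ht ht']
      exact hdep t ht m' hm' h3
  obtain ⟨l, hl, hl'⟩ := exists_mul (g := fun a => (F a).a) hadd hinj hn (fun a => by
    have h3 := hit n (xa a) (xa_mem a) (xa a) (xa_mem a) (by rw [hgn]; simp)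
    exact h3.symm)
  refine ⟨l, hl, fun m hm => ?_⟩
  obtain ⟨m', hm', hmm⟩ := h1.exists hm
  exact ⟨m', hm', hmm, by rw [hdep m hm m' hm' hmm]; exact hl' m.a⟩

/-! ### Rotation of `Z` -/

/-- `g` maps `z → ze → ze z → z`. -/
def Rot (φ : M7 →* G) (g : G) : Prop := g * φ z * g⁻¹ = φ ze ∧ g * φ ze * g⁻¹ = φ (ze * z)

theorem conj_pow_four (g x : G) : g ^ 4 * x * (g ^ 4)⁻¹ = g * (g * (g * (g * x * g⁻¹) * g⁻¹) * g⁻¹) * g⁻¹ := by
  simp only [pow_succ, pow_zero, one_mul, mul_inv_rev, mul_assoc]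

theorem Rot.pow4 {g : G} (h : Rot φ g) : Rot φ (g ^ 4) := by
  obtain ⟨h1, h2⟩ := h
  have h3 : g * φ (ze * z) * g⁻¹ = φ z := by
    have e : g * (φ ze * φ z) * g⁻¹ = g * φ ze * g⁻¹ * (g * φ z * g⁻¹) := by group
    rw [map_mul, e, h2, h1, ← map_mul]
    congr 1
  exact ⟨by rw [conj_pow_four, h1, h2, h3, h1], by rw [conj_pow_four, h2, h3, h1, h2]⟩

theorem Rot.pow4_pow {g : G} (h : Rot φ g) (k : ℕ) : Rot φ (g ^ 4 ^ k) := by
  induction k with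
  | zero => simpa using h
  | succ k ih =>
    rw [pow_succ, pow_mul]
    exact ih.pow4

theorem exists_odd_pow [Finite G] (g : G) : ∃ k m : ℕ, Odd m ∧ (g ^ 4 ^ k) ^ m = 1 := by
  obtain ⟨k, m, hm, hk⟩ := Nat.exists_eq_two_pow_mul_odd (orderOf_pos g).ne'
  refine ⟨k, m, hm, ?_⟩
  have h4 : (4 : ℕ) ^ k = 2 ^ k * 2 ^ k := by rw [← mul_pow]; norm_num
  rw [← pow_mul, h4, mul_assoc, ← hk, mul_comm, pow_mul, pow_orderOf_eq_one, one_pow]

/-- The element `ρ`. -/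
structure Rho (φ : M7 →* G) (ρ : G) : Prop where
  nV1 : Nm φ V1 ρ
  nV2 : Nm φ V2 ρ
  rot : Rot φ ρ
  ra : ∀ m ∈ V1, ∃ m' ∈ V1, ρ * φ m * ρ⁻¹ = φ m' ∧ m'.a = .v * m.a
  rb : ∀ m ∈ V2, ∃ m' ∈ V2, ρ * φ m * ρ⁻¹ = φ m' ∧ m'.b = .v * m.b
  odd : ∃ n : ℕ, Odd n ∧ ρ ^ n = 1

theorem Q_of_a (m m' : M7) (hm : m ∈ V1) (hmQ : m ∈ Q) (hm' : m' ∈ V1) (h : m'.a = .i * m.a) : m' ∈ Q := by
  have h1 : ∀ m : M7, m ∈ V1 → (m ∈ Q ↔ (m.a = .o ∨ m.a = .i)) := by decide +kernel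
  rw [h1 m' hm', h]
  rcases (h1 m hm).1 hmQ with h2 | h2
  · rw [h2]; left; rfl
  · rw [h2]; right; rfl

theorem lmu : ∀ l u : K4, (⟨.o, .o, l * u, false⟩ : M7) = ze → l = .i ∨ u = .i ∨ (l = .v ∧ u = .v) := by decide

/-- **Existence of `ρ`.** -/
theorem exists_rho [Finite G] (h : Emb7 P φ)
    {n : G} (hn1 : Nm φ V1 n) (hn2 : Nm φ V2 n) (hn : n * φ ze * n⁻¹ = φ z)
    (hp1 : ∀ g : G, Nm φ V1 g → Nm φ W1 g → g * φ z * g⁻¹ = φ ze → False)
    (hp2 : ∀ g : G, Nm (φ.comp swap.toMonoidHom) V1 g → Nm (φ.comp swap.toMonoidHom) W1 g →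
      g * φ z * g⁻¹ = φ ze → False) : ∃ ρ : G, Rho φ ρ := by
  -- a rotation
  have hz : ∃ g : G, Nm φ V1 g ∧ Nm φ V2 g ∧ Rot φ g := by
    have key : ∀ n : G, Nm φ V1 n → Nm φ V2 n → n * φ ze * n⁻¹ = φ z → n * φ z * n⁻¹ = φ (ze * z) →
        ∃ g : G, Nm φ V1 g ∧ Nm φ V2 g ∧ Rot φ g := by
      intro n h1 h2 h3 h4
      refine ⟨n⁻¹, h1.inv, h2.inv, ?_, ?_⟩
      · rw [← h3]; group
      · have h5 : n * φ (ze * z) * n⁻¹ = φ ze := by
          have e : n * (φ ze * φ z) * n⁻¹ = n * φ ze * n⁻¹ * (n * φ z * n⁻¹) := by group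
          rw [map_mul, e, h3, h4, ← map_mul]
          congr 1
        rw [← h5]; group
    obtain ⟨c, hc, hc'⟩ := Nm.Z h hn1 hn2 (m := z) (by decide)
    have h1 : c ≠ 1 := by
      rintro rfl
      rw [map_one] at hc'
      have h2 : φ z = 1 := by
        calc φ z = n⁻¹ * (n * φ z * n⁻¹) * n := by group
          _ = 1 := by rw [hc']; group
      exact absurd (h.inj (h2.trans (map_one φ).symm)) (by decide)
    have h2 : c ≠ z := by
      rintro rfl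
      have h3 : φ ze = φ z := by
        calc φ ze = n⁻¹ * (n * φ ze * n⁻¹) * n := by group
          _ = n⁻¹ * (n * φ z * n⁻¹) * n := by rw [hn, hc']
          _ = φ z := by group
      exact absurd (h.inj h3) (by decide)
    have h3 : ∀ c : M7, c ∈ M7.Z → c ≠ 1 → c ≠ z → c = ze ∨ c = ze * z := by decide +kernel
    rcases h3 c hc h1 h2 with rfl | rfl
    · refine key (φ f * n) ((Nm.image φ V1_normal f).mul hn1) ((Nm.image φ V2_normal f).mul hn2) ?_ ?_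
      · calc φ f * n * φ ze * (φ f * n)⁻¹ = φ f * (n * φ ze * n⁻¹) * (φ f)⁻¹ := by group
          _ = φ (f * z * f⁻¹) := by rw [hn, map_mul, map_mul, map_inv]
          _ = φ z := by congr 1
      · calc φ f * n * φ z * (φ f * n)⁻¹ = φ f * (n * φ z * n⁻¹) * (φ f)⁻¹ := by group
          _ = φ (f * ze * f⁻¹) := by rw [hc', map_mul φ (f * ze), map_mul φ f, map_inv]
          _ = φ (ze * z) := by congr 1
    · exact key n hn1 hn2 hn hc'
  obtain ⟨g, hg1, hg2, hg⟩ := hz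
  obtain ⟨k, m, hm, hkm⟩ := exists_odd_pow g
  obtain ⟨ρ, hρ⟩ : ∃ ρ, ρ = g ^ 4 ^ k := ⟨_, rfl⟩
  rw [← hρ] at hkm
  have r1 : Nm φ V1 ρ := hρ ▸ hg1.pow _
  have r2 : Nm φ V2 ρ := hρ ▸ hg2.pow _
  have r3 : Rot φ ρ := hρ ▸ hg.pow4_pow _
  obtain ⟨l, hl, hl'⟩ := exists_alpha h r1 r2 hm hkm
  have r1' : Nm (φ.comp swap.toMonoidHom) V1 ρ := by
    unfold Nm
    rw [Emb7.V1_comp_swap]; exact r2
  have r2' : Nm (φ.comp swap.toMonoidHom) V2 ρ := by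
    unfold Nm
    rw [Emb7.V2_comp_swap]; exact r1
  obtain ⟨u, hu, hu'⟩ := exists_alpha h.comp_swap r1' r2' hm hkm
  have ra : ∀ m ∈ V1, ∃ m' ∈ V1, ρ * φ m * ρ⁻¹ = φ m' ∧ m'.a = l * m.a := hl'
  have rb : ∀ m ∈ V2, ∃ m' ∈ V2, ρ * φ m * ρ⁻¹ = φ m' ∧ m'.b = u * m.b := by
    intro m hm
    obtain ⟨m', hm', hmm, hma⟩ := hu' (swap m) ((swap_mem_V1 m).2 hm)
    refine ⟨swap m', ?_, ?_, ?_⟩
    · rw [← swap_mem_V1, swap_swap]; exact hm'
    · have h1 : ρ * φ (swap (swap m)) * ρ⁻¹ = φ (swap m') := hmm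
      rwa [swap_swap] at h1
    · exact hma
  -- the product
  have hlu : (⟨.o, .o, l * u, false⟩ : M7) = ze := by
    obtain ⟨m, hm, hm1, hm2⟩ := ra x1 (by decide)
    obtain ⟨m', hm', hm1', hm2'⟩ := rb y1 (by decide)
    have h1 := comm_coord m m' hm hm'
    rw [hm2, hm2'] at h1
    have h2 : φ ze = φ (m * m' * m⁻¹ * m'⁻¹) := by
      rw [← r3.1, map_mul, map_mul, map_mul, map_inv, map_inv, ← hm1, ← hm1']
      have h3 : z = x1 * y1 * x1⁻¹ * y1⁻¹ := by decide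
      rw [h3, map_mul, map_mul, map_mul, map_inv, map_inv]
      group
    have h4 := h.inj h2
    rw [h4, h1]
    have h5 : ∀ l u : K4, (l * x1.a) * (u * y1.b) = l * u := by decide
    rw [h5]
  rcases lmu l u hlu with hh | hh | ⟨hh, hh'⟩
  · exfalso
    refine hp1 ρ r1 (Nm.of_forall fun m hm => ?_) r3.1
    obtain ⟨m', hm', hm1, hm2⟩ := ra m (Subgroup.mem_inf.1 hm).1
    rw [hh] at hm2
    exact ⟨m', Subgroup.mem_inf.2 ⟨hm', Q_of_a m m' (Subgroup.mem_inf.1 hm).1 (Subgroup.mem_inf.1 hm).2 hm' hm2⟩, hm1⟩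
  · exfalso
    refine hp2 ρ r1' (Nm.of_forall fun m hm => ?_) r3.1
    obtain ⟨m', hm', hm1, hm2⟩ := hu' m (Subgroup.mem_inf.1 hm).1
    rw [hh] at hm2
    exact ⟨m', Subgroup.mem_inf.2 ⟨hm', Q_of_a m m' (Subgroup.mem_inf.1 hm).1 (Subgroup.mem_inf.1 hm).2 hm' hm2⟩, hm1⟩
  · rw [hh] at ra
    rw [hh'] at rb
    exact ⟨ρ, r1, r2, r3, ra, rb, m, hm, hkm⟩

end

end Cfsg.Agent.LFourB.MQ

namespace Cfsg.Agent.LFourB.MSevenFf.Fus

open Subgroup M7 MSevenFb MSevenFc MSevenFe MQ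
open MSevenFd (Tau)
open MSevenFa (S_le_H)
open Cfsg.Agent.SylowL5.Weak
open Cfsg.Agent.SignalizersComponents.RelSylow

universe u

variable {G : Type u} [Group G] [Finite G] {S : Sylow 2 G} {φ : M7 →* G}

theorem V1_type2 : ∀ m : M7, m ∈ V1 → m ∉ Q → ∃ s : M7, s * m * s⁻¹ = x2 := by decide +kernel

theorem nm_W1 {ψ : M7 →* G} (h : Emb7 (S : Subgroup G) ψ) (hτ : ¬ Tau ψ) {n : G} (hn : n ∈ Cz ψ) (hV : Nm ψ V1 n) :
    Nm ψ W1 n := by
  refine Nm.of_forall fun m hm => ?_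
  obtain ⟨m', hm', hmm⟩ := hV.exists (Subgroup.mem_inf.1 hm).1
  refine ⟨m', Subgroup.mem_inf.2 ⟨hm', ?_⟩, hmm⟩
  by_contra hq
  obtain ⟨s, hs⟩ := V1_type2 m' hm' hq
  have hn' : n ∈ centralizer {ψ z} := hn
  have h1 : (ψ s * n)⁻¹ * ψ x2 * (ψ s * n)⁻¹⁻¹ = ψ m := by
    calc (ψ s * n)⁻¹ * ψ x2 * (ψ s * n)⁻¹⁻¹ = n⁻¹ * ((ψ s)⁻¹ * ψ (s * m' * s⁻¹) * ψ s) * n := by rw [hs]; group
      _ = n⁻¹ * ψ m' * n := by rw [map_mul, map_mul, map_inv]; group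
      _ = ψ m := by rw [← hmm]; group
  have h2 := isol h hτ (inv_mem (mul_mem (S_le_H h (h.mem s)) hn')) h1
  have h3 : ∀ m : M7, m ∈ Q → K4.pr m.a = true := by decide +kernel
  rw [h3 m (Subgroup.mem_inf.1 hm).2] at h2
  exact absurd h2.2 (by decide)

/-- **`ρ` in the patterns (a2).** -/
theorem exists_rho (F : Fus S φ) (hτ : ¬ Tau φ) (hQ : Q2 φ) : ∃ ρ : G, Rho φ ρ := by
  obtain ⟨n, hn1, hn2, hn⟩ := F.norm
  obtain ⟨σ, hσ⟩ := F.exists_sigma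
  obtain ⟨σ', hσ'⟩ : ∃ σ' : G, Sig (φ.comp swap.toMonoidHom) σ' := by
    obtain ⟨n, hn, hn1, hn2⟩ := hQ
    exact MQ.exists_sigma F.emb.comp_swap hn hn1 hn2
  have hall2 : ∃ n : G, cj n (V2.map φ) = V2.map φ ∧ n * φ z * n⁻¹ = φ y2 := by
    rcases F.dich with h | ⟨h, _⟩
    · exact h y2 (by decide) (by decide)
    · exfalso
      obtain ⟨m, hm, hm1, hm2⟩ := hQ
      have h1 : m * φ ze * m⁻¹ = φ y1 := hm2
      have h2 := h (m * n⁻¹) y1 (by decide) (by rw [← hn, ← h1]; group)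
      exact absurd h2 (by decide)
  refine MQ.exists_rho F.emb (n := n) hn1 hn2 hn ?_ ?_
  · intro g h1 h2 h3
    obtain ⟨m, _, hm, hmx⟩ := F.all1 x2 (by decide) (by decide)
    exact perp F.emb hσ ⟨m, hm, hmx⟩ (fun n hn hV => nm_W1 F.emb hτ hn hV) h1 h2 h3
  · intro g h1 h2 h3
    obtain ⟨m, hm, hmx⟩ := hall2
    refine perp F.emb.comp_swap hσ' ⟨m, ?_, hmx⟩
      (fun n hn hV => nm_W1 F.emb.comp_swap (not_tau_swap hτ) hn hV) h1 h2 h3
    unfold Nm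
    rw [Emb7.V1_comp_swap]
    exact hm

end Cfsg.Agent.LFourB.MSevenFf.Fus
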