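import Cfsg.Agent.LFourB.StepEight
import Cfsg.Agent.LFourB.MSevenRho

/-!
# Type B5, pattern (a2): the closing theorem

A subgroup of the simple group `G` that contains `C(z)` and `ρ` is `G`: it contains the centralizers of all its
involutions.
-/

set_option autoImplicit false
set_option linter.unusedSectionVars false

namespace Cfsg.Agent.LFourB.ClBFive

open Subgroup Cfsg K4 M7 MSevenFa MSevenFb MSevenFf MQ StepEight
open Cfsg.Agent.SignalizersComponents.RelSylow
open Cfsg.Agent.SylowL5.Weak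

universe u

/-! ### kernel part -/

/-- the classes of involutions of `M7` -/
theorem classes : ∀ m : M7, m * m = 1 → m ≠ 1 → m = z ∨ (∃ s : M7, s * m * s⁻¹ = ze) ∨ (∃ s : M7, s * m * s⁻¹ = x1) ∨
    (∃ s : M7, s * m * s⁻¹ = x2) ∨ (∃ s : M7, s * m * s⁻¹ = y1) ∨ (∃ s : M7, s * m * s⁻¹ = y2) ∨
    (∃ s : M7, s * m * s⁻¹ = f) := by decide +kernel

theorem rot_x : ∀ m : M7, m ∈ V1 → m.a = .v * x1.a → ∃ s : M7, s * m * s⁻¹ = x2 := by decide +kernel

theorem rot_y : ∀ m : M7, m ∈ V2 → m.b = .v * y1.b → ∃ s : M7, s * m * s⁻¹ = y2 := by decide +kernel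

theorem center_eq : ∀ m : M7, (∀ s : M7, s * m = m * s) → m = 1 ∨ m = z := by decide +kernel

theorem z_comm : ∀ s : M7, s * z = z * s := by decide +kernel

section

variable {G : Type u} [Group G] {S : Sylow 2 G} {φ : M7 →* G}

/-- `N(S) ≤ C(z)` -/
theorem normalizer_le (h : Emb7 (S : Subgroup G) φ) :
    normalizer ((S : Subgroup G) : Set G) ≤ centralizer ({φ z} : Set G) := by
  intro n hn
  rw [Subgroup.mem_normalizer_iff] at hn
  obtain ⟨m, hm⟩ := h.exists_eq ((hn (φ z)).1 (h.mem z))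
  have h1 : ∀ s : M7, s * m = m * s := by
    intro s
    obtain ⟨t, ht⟩ := h.exists_eq (by
      have h2 := (hn (n⁻¹ * φ s * n)).2 (by
        have e : n * (n⁻¹ * φ s * n) * n⁻¹ = φ s := by group
        rw [e]; exact h.mem s)
      exact h2)
    have hs : φ s = n * φ t * n⁻¹ := by rw [ht]; group
    apply h.inj
    rw [map_mul, map_mul, hs, hm]
    calc n * φ t * n⁻¹ * (n * φ z * n⁻¹) = n * (φ (t * z)) * n⁻¹ := by rw [map_mul]; group
      _ = n * (φ (z * t)) * n⁻¹ := by rw [z_comm]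
      _ = n * φ z * n⁻¹ * (n * φ t * n⁻¹) := by rw [map_mul]; group
  rcases center_eq m h1 with h2 | h2
  · exfalso
    rw [h2, map_one] at hm
    have h3 : φ z = 1 := by
      calc φ z = n⁻¹ * (n * φ z * n⁻¹) * n := by group
        _ = 1 := by rw [← hm]; group
    exact absurd (h.inj (h3.trans (map_one φ).symm)) (by decide)
  · rw [h2] at hm
    rw [mem_centralizer_singleton_iff]
    calc n * φ z = n * φ z * n⁻¹ * n := by group
      _ = φ z * n := by rw [← hm]

end

variable {G : Type u} [Group G] [Finite G] {S : Sylow 2 G} {φ : M7 →* G}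

/-- every involution of `S` is conjugate to `z` in `M` -/
theorem exists_conj (F : Fus S φ) (hQ : Q2 φ) {ρ : G} (hρ : Rho φ ρ) {M : Subgroup G}
    (hC : centralizer ({φ z} : Set G) ≤ M) (hρM : ρ ∈ M) :
    ∀ t ∈ (S : Subgroup G), orderOf t = 2 → ∃ g ∈ M, g * t * g⁻¹ = φ z := by
  have hSM : ∀ s : M7, φ s ∈ M := fun s => hC (S_le_H F.emb (F.emb.mem s))
  -- the relation
  let R : G → G → Prop := fun a b => ∃ g ∈ M, g * a * g⁻¹ = b
  have hsymm : ∀ {a b : G}, R a b → R b a := by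
    rintro a b ⟨g, hg, rfl⟩
    exact ⟨g⁻¹, inv_mem hg, by group⟩
  have htrans : ∀ {a b c : G}, R a b → R b c → R a c := by
    rintro a b c ⟨g, hg, rfl⟩ ⟨k, hk, rfl⟩
    exact ⟨k * g, mul_mem hk hg, by group⟩
  have hconj : ∀ {m n : M7}, (∃ s : M7, s * m * s⁻¹ = n) → R (φ m) (φ n) := by
    rintro m n ⟨s, rfl⟩
    exact ⟨φ s, hSM s, by rw [map_mul, map_mul, map_inv]⟩
  have h1 : R (φ ze) (φ z) := hsymm ⟨ρ, hρM, hρ.rot.1⟩
  have h2 : R (φ x1) (φ z) := by
    obtain ⟨n, hn, -, e⟩ := F.q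
    exact htrans (hsymm ⟨n, hC hn, e⟩) h1
  have h3 : R (φ y1) (φ z) := by
    obtain ⟨n, hn, -, e⟩ := hQ
    exact htrans (hsymm ⟨n, hC hn, e⟩) h1
  have h4 : R (φ x2) (φ z) := by
    obtain ⟨m, hm, e, hma⟩ := hρ.ra x1 (by decide)
    exact htrans (htrans (hsymm (hconj (rot_x m hm hma))) (hsymm ⟨ρ, hρM, e⟩)) h2
  have h5 : R (φ y2) (φ z) := by
    obtain ⟨m, hm, e, hma⟩ := hρ.rb y1 (by decide)
    exact htrans (htrans (hsymm (hconj (rot_y m hm hma))) (hsymm ⟨ρ, hρM, e⟩)) h3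
  have h6 : R (φ f) (φ z) := by
    obtain ⟨c, hc, e⟩ := F.y1_f
    exact htrans (hsymm ⟨c, hC hc, e⟩) h3
  intro t ht ht2
  obtain ⟨m, rfl⟩ := F.emb.exists_eq ht
  have hm1 : m ≠ 1 := by
    rintro rfl
    rw [map_one, orderOf_one] at ht2
    exact absurd ht2 (by norm_num)
  have hm2 : m * m = 1 := by
    apply F.emb.inj
    rw [map_mul, ← pow_two, map_one]
    exact orderOf_dvd_iff_pow_eq_one.1 (by rw [ht2])
  rcases classes m hm2 hm1 with h | h | h | h | h | h | h
  · rw [h]; exact ⟨1, one_mem _, by group⟩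
  · exact htrans (hconj h) h1
  · exact htrans (hconj h) h2
  · exact htrans (hconj h) h4
  · exact htrans (hconj h) h3
  · exact htrans (hconj h) h5
  · exact htrans (hconj h) h6

/-- a proper subgroup containing `C(z)` and `ρ` is strongly embedded -/
theorem stronglyEmbedded (F : Fus S φ) (hQ : Q2 φ) {ρ : G} (hρ : Rho φ ρ) {M : Subgroup G}
    (hC : centralizer ({φ z} : Set G) ≤ M) (hρM : ρ ∈ M) (hne : M ≠ ⊤) : IsStronglyEmbedded M := by
  have hSM : (S : Subgroup G) ≤ M := (S_le_H F.emb).trans hC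
  refine Cfsg.Agent.J2Sylow.BalancedEnd.stronglyEmbedded_of_centralizer S hne hSM
    ((normalizer_le F.emb).trans hC) ?_ ?_
  · rw [even_iff_two_dvd]
    have h1 : 2 ∣ Nat.card (S : Subgroup G) := by rw [F.emb.card]; norm_num
    exact h1.trans (Subgroup.card_dvd_of_le hSM)
  · intro t htM ht2
    have hP : IsPGroup 2 (zpowers t) := by
      rw [IsPGroup.iff_card]
      exact ⟨1, by rw [Nat.card_zpowers, ht2, pow_one]⟩
    obtain ⟨m, hm, hmx⟩ := exists_conj_mem hSM hP (by rw [zpowers_le]; exact htM)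
    obtain ⟨g, hg, e⟩ := exists_conj F hQ hρ hC hρM _ (hmx t (mem_zpowers t)) (by
      rw [← ht2]
      exact orderOf_injective (MulAut.conj m).toMonoidHom (MulAut.conj m).injective t)
    have hgm : g * m ∈ M := mul_mem hg hm
    have e' : (g * m) * t * (g * m)⁻¹ = φ z := by rw [← e]; group
    intro c hc
    rw [mem_centralizer_singleton_iff] at hc
    have h1 : (g * m) * c * (g * m)⁻¹ ∈ centralizer ({φ z} : Set G) := by
      rw [mem_centralizer_singleton_iff, ← e']
      calc (g * m) * c * (g * m)⁻¹ * ((g * m) * t * (g * m)⁻¹) = (g * m) * (c * t) * (g * m)⁻¹ := by group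
        _ = (g * m) * (t * c) * (g * m)⁻¹ := by rw [hc]
        _ = (g * m) * t * (g * m)⁻¹ * ((g * m) * c * (g * m)⁻¹) := by group
    have h3 : c = (g * m)⁻¹ * ((g * m) * c * (g * m)⁻¹) * (g * m) := by group
    rw [h3]
    exact mul_mem (mul_mem (inv_mem hgm) (hC h1)) hgm

/-- `S` is not abelian -/
theorem nonabelian (h : Emb7 (S : Subgroup G) φ) : ∃ a ∈ (S : Subgroup G), ∃ b ∈ (S : Subgroup G), a * b ≠ b * a := by
  refine ⟨φ x1, h.mem _, φ y1, h.mem _, fun e => ?_⟩
  rw [← map_mul, ← map_mul] at e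
  exact absurd (h.inj e) (by decide)

/-- **Closing of type B5, pattern (a2)** -/
theorem closed (F : Fus S φ) (hQ : Q2 φ) {ρ : G} (hρ : Rho φ ρ) (hben : Bender G) :
    ∀ M : Subgroup G, centralizer ({φ z} : Set G) ≤ M → ρ ∈ M → M = ⊤ := by
  intro M hC hρM
  by_contra hne
  exact SevenCmp.not_bender S (by rw [F.emb.card]; norm_num) (nonabelian F.emb)
    (hben M (stronglyEmbedded F hQ hρ hC hρM hne))

end Cfsg.Agent.LFourB.ClBFive
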