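import Mathlib
import Cfsg.Agent.Lib.SymParam

/-!
# The symplectic form from the orbits of `N_G(E)`

`E` elementary abelian of order 16, `z ∈ H ≤ E`, `|H| = 8`, `N_G(E)` transitive on `E#`, `N_G(E) ∩ C(z)` transitive on
`H - ⟨z⟩` and on `E - H`, and normalising `H`.  Then `a ⊥ b :⇔ b ∈ H ^ g` (`z ^ g = a`) is given by a symplectic form.
-/

set_option autoImplicit false

namespace Cfsg.Agent.LFourB.KForm

open Subgroup
open Cfsg

variable {G : Type*} [Group G]

/-- Orbits of `N_G(E)` on `E`. -/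
structure Orb (z : G) (E H : Subgroup G) : Prop where
  elem : IsElementaryAbelian 2 E
  card : Nat.card E = 16
  le : H ≤ E
  cardH : Nat.card H = 8
  z_mem : z ∈ H
  z_ne : z ≠ 1
  trans : ∀ a ∈ E, a ≠ 1 → ∃ g ∈ normalizer (E : Set G), g * a * g⁻¹ = z
  norm : ∀ g ∈ normalizer (E : Set G), g * z = z * g → ∀ x ∈ H, g * x * g⁻¹ ∈ H
  trans₁ : ∀ a ∈ H, a ≠ 1 → a ≠ z → ∀ b ∈ H, b ≠ 1 → b ≠ z →
    ∃ g ∈ normalizer (E : Set G), g * z = z * g ∧ g * a * g⁻¹ = b
  trans₂ : ∀ a ∈ E, a ∉ H → ∀ b ∈ E, b ∉ H →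
    ∃ g ∈ normalizer (E : Set G), g * z = z * g ∧ g * a * g⁻¹ = b

/-- `a ⊥ b` -/
def Perp (z : G) (E H : Subgroup G) (a b : G) : Prop :=
  ∃ g ∈ normalizer (E : Set G), g * a * g⁻¹ = z ∧ g * b * g⁻¹ ∈ H

namespace Orb

variable {z : G} {E H : Subgroup G}

theorem comm (h : Orb z E H) {a b : G} (ha : a ∈ E) (hb : b ∈ E) : a * b = b * a :=
  congrArg Subtype.val (h.elem.1.is_comm.comm (⟨a, ha⟩ : E) ⟨b, hb⟩)

theorem sq (h : Orb z E H) {a : G} (ha : a ∈ E) : a * a = 1 := by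
  have := h.elem.2 a ha
  rwa [pow_two] at this

theorem z_memE (h : Orb z E H) : z ∈ E := h.le h.z_mem

/-- The relation does not depend on the conjugating element. -/
theorem mem_of_perp (h : Orb z E H) {a b g : G} (hp : Perp z E H a b) (hg : g ∈ normalizer (E : Set G))
    (hga : g * a * g⁻¹ = z) : g * b * g⁻¹ ∈ H := by
  obtain ⟨k, hk, hka, hkb⟩ := hp
  have h1 : (g * k⁻¹) * z = z * (g * k⁻¹) := by
    have h2 : a = k⁻¹ * z * k := by rw [← hka]; group
    have h3 : a = g⁻¹ * z * g := by rw [← hga]; group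
    have h4 : k⁻¹ * z * k = g⁻¹ * z * g := by rw [← h2, ← h3]
    calc g * k⁻¹ * z = g * (k⁻¹ * z * k) * k⁻¹ := by group
      _ = g * (g⁻¹ * z * g) * k⁻¹ := by rw [h4]
      _ = z * (g * k⁻¹) := by group
  have h5 := h.norm (g * k⁻¹) (mul_mem hg (inv_mem hk)) h1 _ hkb
  have h6 : g * k⁻¹ * (k * b * k⁻¹) * (g * k⁻¹)⁻¹ = g * b * g⁻¹ := by group
  rwa [h6] at h5

theorem perp_iff (h : Orb z E H) {a b g : G} (hg : g ∈ normalizer (E : Set G))
    (hga : g * a * g⁻¹ = z) : Perp z E H a b ↔ g * b * g⁻¹ ∈ H :=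
  ⟨fun hp => h.mem_of_perp hp hg hga, fun hb => ⟨g, hg, hga, hb⟩⟩

theorem perp_z (h : Orb z E H) {b : G} : Perp z E H z b ↔ b ∈ H := by
  rw [h.perp_iff (g := 1) (one_mem _) (by group)]
  simp

theorem perp_conj (h : Orb z E H) {a b g : G} (ha : a ∈ E) (ha1 : a ≠ 1) (hg : g ∈ normalizer (E : Set G)) :
    Perp z E H (g * a * g⁻¹) (g * b * g⁻¹) ↔ Perp z E H a b := by
  obtain ⟨k, hk, hka⟩ := h.trans a ha ha1
  rw [h.perp_iff hk hka, h.perp_iff (a := g * a * g⁻¹) (g := k * g⁻¹) (mul_mem hk (inv_mem hg))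
    (by rw [← hka]; group)]
  have : k * g⁻¹ * (g * b * g⁻¹) * (k * g⁻¹)⁻¹ = k * b * k⁻¹ := by group
  rw [this]

theorem conj_mem (_h : Orb z E H) {a g : G} (ha : a ∈ E) (hg : g ∈ normalizer (E : Set G)) :
    g * a * g⁻¹ ∈ E := (mem_normalizer_iff.mp hg a).mp ha

theorem conj_ne_one {a g : G} (ha : a ≠ 1) : g * a * g⁻¹ ≠ 1 := by
  intro h
  apply ha
  have : a = g⁻¹ * (g * a * g⁻¹) * g := by group
  rw [this, h]; group

/-- `a^⊥` -/
noncomputable def perp (h : Orb z E H) (a : G) (ha : a ∈ E) (ha1 : a ≠ 1) : Subgroup G :=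
  H.map (MulAut.conj (Classical.choose (h.trans a ha ha1))⁻¹).toMonoidHom

theorem mem_perp (h : Orb z E H) {a b : G} (ha : a ∈ E) (ha1 : a ≠ 1) :
    b ∈ h.perp a ha ha1 ↔ Perp z E H a b := by
  obtain ⟨h1, h2⟩ := Classical.choose_spec (h.trans a ha ha1)
  rw [h.perp_iff h1 h2]
  constructor
  · rintro ⟨x, hx, rfl⟩
    change _ * ((Classical.choose (h.trans a ha ha1))⁻¹ * x * (Classical.choose (h.trans a ha ha1))⁻¹⁻¹) * _ ∈ H
    have : Classical.choose (h.trans a ha ha1) * ((Classical.choose (h.trans a ha ha1))⁻¹ * x *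
      (Classical.choose (h.trans a ha ha1))⁻¹⁻¹) * (Classical.choose (h.trans a ha ha1))⁻¹ = x := by group
    rw [this]; exact hx
  · intro hb
    refine ⟨_, hb, ?_⟩
    change (Classical.choose (h.trans a ha ha1))⁻¹ * _ * (Classical.choose (h.trans a ha ha1))⁻¹⁻¹ = b
    group

theorem perp_le (h : Orb z E H) {a : G} (ha : a ∈ E) (ha1 : a ≠ 1) : h.perp a ha ha1 ≤ E := by
  rintro _ ⟨x, hx, rfl⟩
  exact h.conj_mem (h.le hx) (inv_mem (Classical.choose_spec (h.trans a ha ha1)).1)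

theorem card_perp (h : Orb z E H) {a : G} (ha : a ∈ E) (ha1 : a ≠ 1) : Nat.card (h.perp a ha ha1) = 8 := by
  rw [← h.cardH]
  exact Subgroup.card_map_of_injective (MulAut.conj _).injective

theorem perp_self (h : Orb z E H) {a : G} (ha : a ∈ E) (ha1 : a ≠ 1) : Perp z E H a a := by
  obtain ⟨g, hg, hga⟩ := h.trans a ha ha1
  rw [h.perp_iff hg hga, hga]
  exact h.z_mem

theorem perp_one (h : Orb z E H) {a : G} (ha : a ∈ E) (ha1 : a ≠ 1) : Perp z E H a 1 := by
  rw [← h.mem_perp ha ha1]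
  exact one_mem _

/-- A subgroup `K` of order 8 in `E`: `x y ∈ K` iff both or none of `x`, `y` is in `K`. -/
theorem mul_mem_iff (h : Orb z E H) {K : Subgroup G} (hK : K ≤ E) (hc : Nat.card K = 8) {x y : G}
    (hx : x ∈ E) (hy : y ∈ E) : x * y ∈ K ↔ (x ∈ K ↔ y ∈ K) := by
  have hidx : (K.subgroupOf E).index = 2 := by
    have h1 := (K.subgroupOf E).card_mul_index
    have h2 : Nat.card (K.subgroupOf E) = 8 := by
      rw [← hc]
      exact Nat.card_congr (Subgroup.subgroupOfEquivOfLe hK).toEquiv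
    rw [h2, h.card] at h1
    omega
  have := Subgroup.mul_mem_iff_of_index_two hidx (a := ⟨x, hx⟩) (b := ⟨y, hy⟩)
  simpa [mem_subgroupOf] using this

section Count

variable [Finite G]

/-- **The relation is symmetric.** -/
theorem perp_symm (h : Orb z E H) {a b : G} (ha : a ∈ E) (ha1 : a ≠ 1) (hb : b ∈ E) (hb1 : b ≠ 1)
    (hp : Perp z E H a b) : Perp z E H b a := by
  classical
  by_contra hn
  -- the situation at `z`
  obtain ⟨k, hk, hka⟩ := h.trans a ha ha1
  set c := k * b * k⁻¹ with hc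
  have hcE : c ∈ E := h.conj_mem hb hk
  have hc1 : c ≠ 1 := conj_ne_one hb1
  have hzc : Perp z E H z c := by
    rw [← h.perp_conj ha ha1 hk, hka] at hp
    exact hp
  have hcz : ¬ Perp z E H c z := by
    intro h0
    apply hn
    rw [← h.perp_conj hb hb1 hk, hka]
    exact h0
  have hcne : c ≠ z := fun h0 => hcz (by rw [h0]; exact h.perp_self h.z_memE h.z_ne)
  obtain ⟨g, hg, hgc⟩ := h.trans c hcE hc1
  -- all pairs
  have key₁ : ∀ u ∈ E, u ≠ 1 → ∀ v ∈ E, v ≠ 1 → u ≠ v → Perp z E H u v → ¬ Perp z E H v u := by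
    intro u hu hu1 v hv hv1 huv huv'
    obtain ⟨l, hl, hlu⟩ := h.trans u hu hu1
    have hv' : l * v * l⁻¹ ∈ H := h.mem_of_perp huv' hl hlu
    have hvz : l * v * l⁻¹ ≠ z := by
      intro h0
      apply huv
      rw [← hlu] at h0
      exact (mul_left_cancel (mul_right_cancel h0)).symm
    obtain ⟨n, hn', hnz, hnv⟩ := h.trans₁ _ hv' (conj_ne_one hv1) hvz c (h.perp_z.mp hzc) hc1 hcne
    intro h0
    apply hcz
    rw [← h.perp_conj hv hv1 (mul_mem hn' hl)] at h0
    have e1 : n * l * v * (n * l)⁻¹ = c := by rw [← hnv]; group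
    have e2 : n * l * u * (n * l)⁻¹ = z := by
      have : n * l * u * (n * l)⁻¹ = n * (l * u * l⁻¹) * n⁻¹ := by group
      rw [this, hlu, hnz, mul_inv_cancel_right]
    rwa [e1, e2] at h0
  have hgz : g * z * g⁻¹ ∉ H := by
    intro h0
    exact hcz ((h.perp_iff hg hgc).mpr h0)
  have key₂ : ∀ u ∈ E, u ≠ 1 → ∀ v ∈ E, v ≠ 1 → ¬ Perp z E H u v → Perp z E H v u := by
    intro u hu hu1 v hv hv1 huv'
    obtain ⟨l, hl, hlu⟩ := h.trans u hu hu1
    have hv' : l * v * l⁻¹ ∉ H := fun h0 => huv' ((h.perp_iff hl hlu).mpr h0)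
    obtain ⟨n, hn', hnz, hnv⟩ := h.trans₂ _ (h.conj_mem hv hl) hv' _ (h.conj_mem h.z_memE hg) hgz
    -- `(u, v)` is conjugate to `(c, z)` by `g⁻¹ n l`
    rw [← h.perp_conj hv hv1 (mul_mem (inv_mem hg) (mul_mem hn' hl))]
    have e1 : g⁻¹ * (n * l) * v * (g⁻¹ * (n * l))⁻¹ = z := by
      have : g⁻¹ * (n * l) * v * (g⁻¹ * (n * l))⁻¹ = g⁻¹ * (n * (l * v * l⁻¹) * n⁻¹) * g := by group
      rw [this, hnv]; group
    have e2 : g⁻¹ * (n * l) * u * (g⁻¹ * (n * l))⁻¹ = c := by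
      have : g⁻¹ * (n * l) * u * (g⁻¹ * (n * l))⁻¹ = g⁻¹ * (n * (l * u * l⁻¹) * n⁻¹) * g := by group
      rw [this, hlu, hnz, mul_inv_cancel_right, ← hgc]; group
    rw [e1, e2]
    exact hzc
  -- counting
  have : Fintype G := Fintype.ofFinite G
  let s : Finset G := Finset.univ.filter (fun x => x ∈ E ∧ x ≠ 1)
  have hs : ∀ x, x ∈ s ↔ x ∈ E ∧ x ≠ 1 := fun x => by
    change x ∈ Finset.univ.filter _ ↔ _
    rw [Finset.mem_filter]; simp
  have hcardf : ∀ K : Subgroup G, (Finset.univ.filter (fun x => x ∈ K)).card = Nat.card K := by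
    intro K
    rw [Nat.card_eq_fintype_card, ← Fintype.card_subtype]
  let r : G → G → Prop := fun u v => u ≠ v ∧ Perp z E H u v
  have hdc := Finset.sum_card_bipartiteAbove_eq_sum_card_bipartiteBelow (s := s) (t := s) r
  have hab : ∀ u ∈ s, (s.bipartiteAbove r u).card = 6 := by
    intro u hu
    obtain ⟨huE, hu1⟩ := (hs u).mp hu
    have e1 : s.bipartiteAbove r u =
        ((Finset.univ.filter (fun x => x ∈ h.perp u huE hu1)).erase 1).erase u := by
      ext v
      rw [Finset.mem_bipartiteAbove, hs, Finset.mem_erase, Finset.mem_erase, Finset.mem_filter,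
        h.mem_perp huE hu1]
      constructor
      · rintro ⟨⟨-, h2⟩, h3, h4⟩
        exact ⟨Ne.symm h3, h2, Finset.mem_univ _, h4⟩
      · rintro ⟨h1, h2, -, h4⟩
        exact ⟨⟨h.perp_le huE hu1 ((h.mem_perp huE hu1).mpr h4), h2⟩, Ne.symm h1, h4⟩
    rw [e1, Finset.card_erase_of_mem, Finset.card_erase_of_mem, hcardf, h.card_perp]
    · rw [Finset.mem_filter]
      exact ⟨Finset.mem_univ _, one_mem _⟩
    · rw [Finset.mem_erase, Finset.mem_filter]
      exact ⟨hu1, Finset.mem_univ _, (h.mem_perp huE hu1).mpr (h.perp_self huE hu1)⟩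
  have hbl : ∀ v ∈ s, (s.bipartiteBelow r v).card = 8 := by
    intro v hv
    obtain ⟨hvE, hv1⟩ := (hs v).mp hv
    have e1 : s.bipartiteBelow r v = (Finset.univ.filter (fun x => x ∈ E)) \
        (Finset.univ.filter (fun x => x ∈ h.perp v hvE hv1)) := by
      ext u
      rw [Finset.mem_bipartiteBelow, hs, Finset.mem_sdiff, Finset.mem_filter, Finset.mem_filter,
        h.mem_perp hvE hv1]
      constructor
      · rintro ⟨⟨h1, h2⟩, h3, h4⟩
        exact ⟨⟨Finset.mem_univ _, h1⟩, fun h0 => key₁ u h1 h2 v hvE hv1 h3 h4 h0.2⟩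
      · rintro ⟨⟨-, h1⟩, h2⟩
        have h3 : ¬ Perp z E H v u := fun h0 => h2 ⟨Finset.mem_univ _, h0⟩
        have h4 : u ≠ 1 := by
          rintro rfl
          exact h3 (h.perp_one hvE hv1)
        have h5 : u ≠ v := by
          rintro rfl
          exact h3 (h.perp_self hvE hv1)
        exact ⟨⟨h1, h4⟩, h5, key₂ v hvE hv1 u h1 h4 h3⟩
    rw [e1, Finset.card_sdiff_of_subset, hcardf, hcardf, h.card, h.card_perp]
    intro u hu
    rw [Finset.mem_filter] at hu ⊢
    exact ⟨hu.1, h.perp_le hvE hv1 hu.2⟩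
  rw [Finset.sum_congr rfl hab, Finset.sum_congr rfl hbl, Finset.sum_const, Finset.sum_const,
    smul_eq_mul, smul_eq_mul] at hdc
  have hs0 : 0 < s.card := Finset.card_pos.mpr ⟨z, (hs z).mpr ⟨h.z_memE, h.z_ne⟩⟩
  omega

/-- The form. -/
noncomputable def B (z : G) (E H : Subgroup G) (a b : G) : ZMod 2 := by
  classical
  exact if a = 1 ∨ b = 1 ∨ Perp z E H a b then 0 else 1

omit [Finite G] in
theorem B_zero_iff {a b : G} : B z E H a b = 0 ↔ (a = 1 ∨ b = 1 ∨ Perp z E H a b) := by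
  classical
  rw [B]
  split_ifs with h
  · exact ⟨fun _ => h, fun _ => rfl⟩
  · exact ⟨fun h0 => absurd h0 (by decide), fun h0 => absurd h0 h⟩

omit [Finite G] in
theorem B_or (a b : G) : B z E H a b = 0 ∨ B z E H a b = 1 := by
  classical
  rw [B]
  split_ifs
  · exact Or.inl rfl
  · exact Or.inr rfl

omit [Finite G] in
theorem B_perp (h : Orb z E H) {a b : G} (ha : a ∈ E) (ha1 : a ≠ 1) :
    B z E H a b = 0 ↔ Perp z E H a b := by
  rw [B_zero_iff]
  constructor
  · rintro (h1 | h1 | h1)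
    · exact absurd h1 ha1
    · rw [h1]; exact h.perp_one ha ha1
    · exact h1
  · exact fun h1 => Or.inr (Or.inr h1)

theorem B_symm (h : Orb z E H) {a b : G} (ha : a ∈ E) (hb : b ∈ E) : B z E H a b = B z E H b a := by
  by_cases ha1 : a = 1
  · rw [B_zero_iff.mpr (Or.inl ha1), B_zero_iff.mpr (Or.inr (Or.inl ha1))]
  by_cases hb1 : b = 1
  · rw [B_zero_iff.mpr (Or.inr (Or.inl hb1)), B_zero_iff.mpr (Or.inl hb1)]
  have h1 : B z E H a b = 0 ↔ B z E H b a = 0 := by
    rw [h.B_perp ha ha1, h.B_perp hb hb1]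
    exact ⟨h.perp_symm ha ha1 hb hb1, h.perp_symm hb hb1 ha ha1⟩
  rcases B_or (z := z) (E := E) (H := H) a b with h2 | h2
  · rw [h2, h1.mp h2]
  · rcases B_or (z := z) (E := E) (H := H) b a with h3 | h3
    · rw [h1.mpr h3, h3]
    · rw [h2, h3]

theorem B_add_right (h : Orb z E H) {a b c : G} (ha : a ∈ E) (hb : b ∈ E) (hc : c ∈ E) :
    B z E H a (b * c) = B z E H a b + B z E H a c := by
  by_cases ha1 : a = 1
  · rw [B_zero_iff.mpr (Or.inl ha1), B_zero_iff.mpr (Or.inl ha1), B_zero_iff.mpr (Or.inl ha1), add_zero]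
  have h1 := h.mul_mem_iff (h.perp_le ha ha1) (h.card_perp ha ha1) hb hc
  rw [h.mem_perp, h.mem_perp, h.mem_perp, ← h.B_perp ha ha1, ← h.B_perp ha ha1, ← h.B_perp ha ha1] at h1
  rcases B_or (z := z) (E := E) (H := H) a b with h2 | h2 <;>
    rcases B_or (z := z) (E := E) (H := H) a c with h3 | h3 <;>
    rcases B_or (z := z) (E := E) (H := H) a (b * c) with h4 | h4 <;>
    rw [h2, h3, h4] <;> rw [h2, h3, h4] at h1 <;> revert h1 <;> decide

theorem B_add_left (h : Orb z E H) {a b c : G} (ha : a ∈ E) (hb : b ∈ E) (hc : c ∈ E) :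
    B z E H (a * b) c = B z E H a c + B z E H b c := by
  rw [h.B_symm (mul_mem ha hb) hc, h.B_add_right hc ha hb, h.B_symm hc ha, h.B_symm hc hb]

/-- `a^⊥ = b^⊥` only if `a = b`. -/
theorem perp_inj (h : Orb z E H) {a b : G} (ha : a ∈ E) (ha1 : a ≠ 1) (hb : b ∈ E) (hb1 : b ≠ 1)
    (hab : ∀ c ∈ E, B z E H a c = B z E H b c) : a = b := by
  by_contra hne
  have hab1 : a * b ≠ 1 := by
    intro h0
    apply hne
    have h1 : a * (b * b) = b := by rw [← mul_assoc, h0, one_mul]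
    rwa [h.sq hb, mul_one] at h1
  have hall : ∀ c ∈ E, c ∈ h.perp (a * b) (mul_mem ha hb) hab1 := by
    intro c hc
    rw [h.mem_perp, ← h.B_perp (mul_mem ha hb) hab1, h.B_add_left ha hb hc, hab c hc]
    rcases B_or (z := z) (E := E) (H := H) b c with h3 | h3 <;> rw [h3] <;> decide
  have h1 : Nat.card E ≤ Nat.card (h.perp (a * b) (mul_mem ha hb) hab1) := card_le_of_le hall
  rw [h.card, h.card_perp] at h1
  omega

theorem iso (h : Orb z E H) {a b c : G} (ha : a ∈ E) (hb : b ∈ E) (hc : c ∈ E) (ha1 : a ≠ 1) (hb1 : b ≠ 1)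
    (hab : a ≠ b) (h1 : B z E H a b = 0) (h2 : B z E H a c = 0) (h3 : B z E H b c = 0) :
    c = 1 ∨ c = a ∨ c = b ∨ c = a * b := by
  -- `K = a^⊥ ∩ b^⊥` has order 4
  have hd : ∃ d ∈ E, ¬ (B z E H a d = B z E H b d) := by
    by_contra h0
    push Not at h0
    exact hab (h.perp_inj ha ha1 hb hb1 h0)
  obtain ⟨d, hd, hdd⟩ := hd
  set A := h.perp a ha ha1 with hA
  set A' := h.perp b hb hb1 with hA'
  have hcA : Nat.card A = 8 := h.card_perp ha ha1
  have hcA' : Nat.card A' = 8 := h.card_perp hb hb1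
  have hne : ¬ A ≤ A' := by
    intro h0
    have h4 : A = A' := Subgroup.eq_of_le_of_card_ge h0 (by rw [hcA, hcA'])
    apply hdd
    have h5 : B z E H a d = 0 ↔ B z E H b d = 0 := by
      rw [h.B_perp ha ha1, h.B_perp hb hb1, ← h.mem_perp ha ha1, ← h.mem_perp hb hb1, ← hA, ← hA', h4]
    rcases B_or (z := z) (E := E) (H := H) a d with h6 | h6
    · rw [h6, h5.mp h6]
    · rcases B_or (z := z) (E := E) (H := H) b d with h7 | h7
      · rw [h7, h5.mpr h7]
      · rw [h6, h7]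
  set K := A ⊓ A' with hK
  have hKc : Nat.card K ≤ 4 := by
    have h4 : Nat.card K ∣ Nat.card A := card_dvd_of_le inf_le_left
    have h5 : Nat.card K ≠ 8 := by
      intro h0
      apply hne
      have h6 : K = A := Subgroup.eq_of_le_of_card_ge inf_le_left (by rw [h0, hcA])
      rw [← h6]
      exact inf_le_right
    rw [hcA] at h4
    have h6 := Nat.le_of_dvd (by norm_num) h4
    have : Nat.card K ≠ 0 := Nat.card_pos.ne'
    interval_cases hh : Nat.card K <;> omega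
  classical
  have : Fintype G := Fintype.ofFinite G
  have hab1 : a * b ≠ 1 := by
    intro h0
    apply hab
    have h1 : a * (b * b) = b := by rw [← mul_assoc, h0, one_mul]
    rwa [h.sq hb, mul_one] at h1
  have haA : ∀ x, x ∈ A ↔ B z E H a x = 0 := fun x => by rw [h.B_perp ha ha1, hA, h.mem_perp]
  have hbA : ∀ x, x ∈ A' ↔ B z E H b x = 0 := fun x => by rw [h.B_perp hb hb1, hA', h.mem_perp]
  have haK : a ∈ K := mem_inf.mpr ⟨(haA a).mpr ((h.B_perp ha ha1).mpr (h.perp_self ha ha1)),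
    (hbA a).mpr (by rw [h.B_symm hb ha]; exact h1)⟩
  have hbK : b ∈ K := mem_inf.mpr ⟨(haA b).mpr h1, (hbA b).mpr ((h.B_perp hb hb1).mpr (h.perp_self hb hb1))⟩
  have hcK : c ∈ K := mem_inf.mpr ⟨(haA c).mpr h2, (hbA c).mpr h3⟩
  by_contra hcon
  push Not at hcon
  obtain ⟨e1, e2, e3, e4⟩ := hcon
  have hsub : ({1, a, b, a * b, c} : Finset G) ⊆ Finset.univ.filter (fun x => x ∈ K) := by
    intro x hx
    rw [Finset.mem_filter]
    refine ⟨Finset.mem_univ _, ?_⟩
    simp only [Finset.mem_insert, Finset.mem_singleton] at hx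
    rcases hx with rfl | rfl | rfl | rfl | rfl
    · exact one_mem _
    · exact haK
    · exact hbK
    · exact mul_mem haK hbK
    · exact hcK
  have hcard5 : ({1, a, b, a * b, c} : Finset G).card = 5 := by
    have n1 : a ≠ a * b := fun h0 => hb1 (by
      have : a * 1 = a * b := by rw [mul_one]; exact h0
      exact (mul_left_cancel this).symm)
    have n2 : b ≠ a * b := fun h0 => ha1 (by
      have : 1 * b = a * b := by rw [one_mul]; exact h0
      exact (mul_right_cancel this).symm)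
    rw [Finset.card_insert_of_notMem, Finset.card_insert_of_notMem, Finset.card_insert_of_notMem,
      Finset.card_insert_of_notMem, Finset.card_singleton]
    · simp only [Finset.mem_singleton]; exact Ne.symm e4
    · simp only [Finset.mem_insert, Finset.mem_singleton, not_or]; exact ⟨n2, Ne.symm e3⟩
    · simp only [Finset.mem_insert, Finset.mem_singleton, not_or]; exact ⟨hab, n1, Ne.symm e2⟩
    · simp only [Finset.mem_insert, Finset.mem_singleton, not_or]
      exact ⟨Ne.symm ha1, Ne.symm hb1, Ne.symm hab1, Ne.symm e1⟩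
  have h9 := Finset.card_le_card hsub
  have h10 : (Finset.univ.filter (fun x => x ∈ K)).card = Nat.card K := by
    rw [Nat.card_eq_fintype_card, ← Fintype.card_subtype]
  rw [hcard5, h10] at h9
  omega

/-- For `a ≠ b` there is `c` perpendicular to `a` and not to `b`. -/
theorem exists_perp (h : Orb z E H) {a b : G} (ha : a ∈ E) (ha1 : a ≠ 1) (hb : b ∈ E) (hb1 : b ≠ 1)
    (hab : a ≠ b) : ∃ c ∈ E, B z E H a c = 0 ∧ B z E H b c ≠ 0 := by
  by_contra h0
  push Not at h0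
  apply hab
  have h1 : h.perp a ha ha1 ≤ h.perp b hb hb1 := by
    intro c hc
    have hcE := h.perp_le ha ha1 hc
    rw [h.mem_perp, ← h.B_perp ha ha1] at hc
    rw [h.mem_perp, ← h.B_perp hb hb1]
    exact h0 c hcE hc
  have h2 : h.perp a ha ha1 = h.perp b hb hb1 :=
    Subgroup.eq_of_le_of_card_ge h1 (by rw [h.card_perp, h.card_perp])
  refine h.perp_inj ha ha1 hb hb1 fun c _ => ?_
  have h3 : B z E H a c = 0 ↔ B z E H b c = 0 := by
    rw [h.B_perp ha ha1, h.B_perp hb hb1, ← h.mem_perp ha ha1, ← h.mem_perp hb hb1, h2]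
  rcases B_or (z := z) (E := E) (H := H) a c with h6 | h6
  · rw [h6, h3.mp h6]
  · rcases B_or (z := z) (E := E) (H := H) b c with h7 | h7
    · rw [h7, h3.mpr h7]
    · rw [h6, h7]

/-- The frame from the two inclusions at `z`. -/
theorem frame (h : Orb z E H) (bal : ∀ a ∈ E, a ∉ H → Lib.SymParam.Bal a z)
    (iso' : ∀ b ∈ H, b ≠ 1 → b ≠ z → Lib.SymParam.Iso z b) : Lib.SymFrame.Frame E (B z E H) where
  elem := h.elem
  card := h.card
  add_left a ha b hb c hc := h.B_add_left ha hb hc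
  symm a ha b hb := h.B_symm ha hb
  iso a ha b hb c hc ha1 hb1 hc1 hab h1 h2 h3 := (h.iso ha hb hc ha1 hb1 hab h1 h2 h3).resolve_left hc1
  bal := by
    intro a ha ha1 b hb hb1 hB
    rw [h.B_symm ha hb] at hB
    have hB' : ¬ Perp z E H b a := fun h0 => hB ((h.B_perp hb hb1).mpr h0)
    obtain ⟨g, hg, hgb⟩ := h.trans b hb hb1
    refine Lib.SymParam.Bal.of_conj (g := g) ?_
    rw [hgb]
    exact bal _ (h.conj_mem ha hg) (fun h0 => hB' ((h.perp_iff hg hgb).mpr h0))
  isoCore := by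
    intro a ha ha1 b hb hb1 hab hB
    rw [h.B_perp ha ha1] at hB
    obtain ⟨g, hg, hga⟩ := h.trans a ha ha1
    refine Lib.SymParam.Iso.of_conj (g := g) ?_
    rw [hga]
    refine iso' _ ((h.perp_iff hg hga).mp hB) (conj_ne_one hb1) ?_
    intro h0
    apply hab
    rw [← hga] at h0
    exact (mul_left_cancel (mul_right_cancel h0)).symm

end Count

end Orb

end Cfsg.Agent.LFourB.KForm
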