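import Mathlib
import Cfsg.Agent.S0811
import Cfsg.Agent.S0812
import Cfsg.Agent.LFourA.KlSl

/-!
# Subgroups of `SL(2,F)` containing the normaliser of a torus

`IsCoatom (centralizer {t})` for the involutions `t` of `PSL(2,F)`, `|F| ≥ 11` (S0811, S0812); a subgroup of `SL(2,F)`
containing the torus of an element `x` of order 4, an element inverting `x` and an element not normalising `⟨x⟩` is
everything.
-/

set_option autoImplicit false

namespace Cfsg.Agent.LFourB.KSL

open Subgroup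
open Cfsg.Agent.Lib.SL2Mat Cfsg.Agent.Lib.PSL2Torus Cfsg.Agent.Lib.PSL2Inv

section psl

variable {F : Type*} [Field F] [Fintype F]

theorem isCoatom_conj {L : Type*} [Group L] {H : Subgroup L} (h : IsCoatom H) (g : L) :
    IsCoatom (H.map (MulAut.conj g).toMonoidHom) := by
  have := (OrderIso.isCoatom_iff (MulEquiv.mapSubgroup (MulAut.conj g)) H).mpr h
  exact this

theorem isCoatom_centralizer (h2 : (2 : F) ≠ 0) (h11 : 11 ≤ Fintype.card F)
    {t : Matrix.ProjectiveSpecialLinearGroup (Fin 2) F} (ht1 : t ≠ 1) (ht : t * t = 1) :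
    IsCoatom (centralizer ({t} : Set (Matrix.ProjectiveSpecialLinearGroup (Fin 2) F))) := by
  obtain ⟨T, m, hT, hm⟩ := exists_torus h2 (MulEquiv.refl _) ht1 ht
  have hfinL : Finite (Matrix.ProjectiveSpecialLinearGroup (Fin 2) F) := inferInstance
  rw [Nat.card_eq_fintype_card] at hm
  set q := Fintype.card F with hq
  have hodd : q % 2 = 1 := by
    have := odd_card (F := F) h2
    rwa [Nat.card_eq_fintype_card] at this
  have hgcd : Nat.gcd 2 (q - 1) = 2 := by
    apply Nat.gcd_eq_left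
    omega
  have hmeven : m % 2 = 0 := by omega
  have hmpos : 0 < m := by omega
  -- a maximal dihedral group of order `2 m`
  have hH : ∃ H : Subgroup (Matrix.ProjectiveSpecialLinearGroup (Fin 2) F), IsCoatom H ∧
      Nonempty (H ≃* DihedralGroup m) := by
    rcases hm with ⟨h4, hm⟩ | ⟨h4, hm⟩
    · obtain ⟨H, h5, h6⟩ := Cfsg.Agent.S0812.result (F := F) (q := q) hq.symm (by
        simp only [Finset.mem_insert, Finset.mem_singleton, not_or]
        refine ⟨?_, ?_, ?_, ?_, ?_, ?_⟩ <;> omega)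
      rw [hgcd] at h6
      have h7 : (q - 1) / 2 = m := by omega
      rw [h7] at h6
      exact ⟨H, h5, h6⟩
    · obtain ⟨H, h5, h6⟩ := Cfsg.Agent.S0811.result (F := F) (q := q) hq.symm (by
        simp only [Finset.mem_insert, Finset.mem_singleton, not_or]
        refine ⟨?_, ?_, ?_⟩ <;> omega)
      rw [hgcd] at h6
      have h7 : (q + 1) / 2 = m := by omega
      rw [h7] at h6
      exact ⟨H, h5, h6⟩
  obtain ⟨H, hH, ⟨φ⟩⟩ := hH
  -- the central involution
  have hm0 : NeZero m := ⟨hmpos.ne'⟩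
  let c : DihedralGroup m := DihedralGroup.r ((m / 2 : ℕ) : ZMod m)
  have h2c : ((m / 2 : ℕ) : ZMod m) + ((m / 2 : ℕ) : ZMod m) = 0 := by
    rw [← Nat.cast_add, show m / 2 + m / 2 = m by omega, ZMod.natCast_self]
  have hc1 : c ≠ 1 := by
    intro h0
    have h3 : ((m / 2 : ℕ) : ZMod m) = 0 := by
      have : DihedralGroup.r ((m / 2 : ℕ) : ZMod m) = DihedralGroup.r 0 := h0
      exact DihedralGroup.r.inj this
    rw [ZMod.natCast_eq_zero_iff] at h3
    have h4 := Nat.le_of_dvd (by omega) h3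
    omega
  have hcc : c * c = 1 := by
    change DihedralGroup.r _ * DihedralGroup.r _ = _
    rw [DihedralGroup.r_mul_r, h2c]; rfl
  have hcen : ∀ d : DihedralGroup m, d * c = c * d := by
    rintro (i | i)
    · change DihedralGroup.r _ * DihedralGroup.r _ = DihedralGroup.r _ * DihedralGroup.r _
      rw [DihedralGroup.r_mul_r, DihedralGroup.r_mul_r, add_comm]
    · change DihedralGroup.sr _ * DihedralGroup.r _ = DihedralGroup.r _ * DihedralGroup.sr _
      rw [DihedralGroup.sr_mul_r, DihedralGroup.r_mul_sr, sub_eq_add_neg,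
        neg_eq_of_add_eq_zero_left h2c]
  set s : Matrix.ProjectiveSpecialLinearGroup (Fin 2) F := (φ.symm c).1 with hs
  have hs1 : s ≠ 1 := by
    intro h0
    apply hc1
    have h3 : φ.symm c = 1 := Subtype.ext h0
    rw [← φ.apply_symm_apply c, h3, map_one]
  have hss : s * s = 1 := by
    have h3 : φ.symm c * φ.symm c = 1 := by rw [← map_mul, hcc, map_one]
    exact congrArg Subtype.val h3
  have hle : H ≤ centralizer ({s} : Set _) := by
    intro x hx
    rw [mem_centralizer_singleton_iff]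
    have h3 : (⟨x, hx⟩ : H) * φ.symm c = φ.symm c * ⟨x, hx⟩ := by
      apply φ.injective
      rw [map_mul, map_mul, φ.apply_symm_apply]
      exact hcen _
    exact congrArg Subtype.val h3
  obtain ⟨T', m', hT', hm'⟩ := exists_torus h2 (MulEquiv.refl _) hs1 hss
  rw [Nat.card_eq_fintype_card, ← hq] at hm'
  have hmm : m' = m := by omega
  have hcard : Nat.card H = Nat.card (centralizer ({s} : Set (Matrix.ProjectiveSpecialLinearGroup (Fin 2) F))) := by
    rw [hT'.card_centralizer, hmm, Nat.card_congr φ.toEquiv, DihedralGroup.nat_card]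
  have hHs : H = centralizer ({s} : Set _) :=
    Subgroup.eq_of_le_of_card_ge hle hcard.ge
  obtain ⟨g, hg⟩ := conj_inv h2 (MulEquiv.refl (Matrix.ProjectiveSpecialLinearGroup (Fin 2) F)) hs1 hss ht1 ht
  have h3 : (centralizer ({s} : Set (Matrix.ProjectiveSpecialLinearGroup (Fin 2) F))).map (MulAut.conj g).toMonoidHom =
      centralizer ({t} : Set _) := by
    ext x
    rw [mem_centralizer_singleton_iff]
    constructor
    · rintro ⟨y, hy, rfl⟩
      rw [SetLike.mem_coe, mem_centralizer_singleton_iff] at hy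
      change g * y * g⁻¹ * t = t * (g * y * g⁻¹)
      rw [← hg]
      calc g * y * g⁻¹ * (g * s * g⁻¹) = g * (y * s) * g⁻¹ := by group
        _ = g * (s * y) * g⁻¹ := by rw [hy]
        _ = _ := by group
    · intro hx
      refine ⟨g⁻¹ * x * g, ?_, ?_⟩
      · rw [SetLike.mem_coe, mem_centralizer_singleton_iff]
        rw [← hg] at hx
        calc g⁻¹ * x * g * s = g⁻¹ * (x * (g * s * g⁻¹)) * g := by group
          _ = g⁻¹ * (g * s * g⁻¹ * x) * g := by rw [hx]
          _ = _ := by group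
      · change g * (g⁻¹ * x * g) * g⁻¹ = x
        group
  rw [← h3, ← hHs]
  exact isCoatom_conj hH g

end psl

section sl

variable {F : Type*} [Field F] {K : Type*} [Group K]
  (e : K ≃* Matrix.SpecialLinearGroup (Fin 2) F) {ζ x : K} (hζ : ζ * ζ = 1) (hζ1 : ζ ≠ 1)

include e hζ hζ1

theorem zeta_comm (h2 : (2 : F) ≠ 0) (g : K) : ζ * g = g * ζ := by
  apply e.injective
  rw [map_mul, map_mul, Cfsg.Agent.LFourA.KlSl.e_zeta e hζ hζ1 h2, neg_mul, mul_neg, one_mul, mul_one]

/-- an element inverting an element `x` of order 4 inverts its centraliser -/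
theorem inverts (h2 : (2 : F) ≠ 0) (hx : x * x = ζ) {j : K} (hjx : j * x * j⁻¹ = x⁻¹) {y : K} (hyx : y * x = x * y) :
    j * y * j⁻¹ = y⁻¹ := by
  have hi : e x * e x = -1 := by
    rw [← map_mul, hx, Cfsg.Agent.LFourA.KlSl.e_zeta e hζ hζ1 h2]
  have hinv : (e x)⁻¹ = -(e x) := by
    apply inv_eq_of_mul_eq_one_right
    rw [mul_neg, hi, neg_neg]
  have hg : e j * e x = -(e x * e j) := by
    rw [← neg_mul, ← hinv, ← map_inv, ← map_mul, ← map_mul]
    congr 1
    exact mul_inv_eq_iff_eq_mul.mp hjx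
  have h5 := (anti h2 (tr_of_sq h2 hi) hg).2 (e y) (by
    rw [← map_mul, ← map_mul, hyx])
  rw [← map_inv, ← map_inv, ← map_mul, ← map_mul] at h5
  exact e.injective h5

theorem torus_comm (h2 : (2 : F) ≠ 0) (hx : x * x = ζ) {j : K} (hjx : j * x * j⁻¹ = x⁻¹) {y y' : K}
    (hyx : y * x = x * y) (hyx' : y' * x = x * y') : y * y' = y' * y := by
  have h1 := inverts e hζ hζ1 h2 hx hjx hyx
  have h3 := inverts e hζ hζ1 h2 hx hjx hyx'
  have h4 : y * y' * x = x * (y * y') := by rw [mul_assoc, hyx', ← mul_assoc, hyx, mul_assoc]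
  have h5 := inverts e hζ hζ1 h2 hx hjx h4
  have h6 : j * (y * y') * j⁻¹ = (j * y * j⁻¹) * (j * y' * j⁻¹) := by group
  rw [h6, h1, h3, mul_inv_rev] at h5
  -- `y⁻¹ y'⁻¹ = y'⁻¹ y⁻¹`
  have h7 := congrArg (·⁻¹) h5
  simp only [mul_inv_rev, inv_inv] at h7
  exact h7.symm

variable [Fintype F]

/-- **A subgroup containing the normaliser of `⟨x⟩` and something else is everything**, `|F| ≥ 11`. -/
theorem eq_top_of_torus (h2 : (2 : F) ≠ 0) (h11 : 11 ≤ Fintype.card F) (hx : x * x = ζ) {D : Subgroup K}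
    (hT : ∀ y, y * x = x * y → y ∈ D) {j : K} (hj : j ∈ D) (hjx : j * x * j⁻¹ = x⁻¹) {y : K} (hy : y ∈ D)
    (hy1 : y * x * y⁻¹ ≠ x) (hy2 : y * x * y⁻¹ ≠ x⁻¹) : D = ⊤ := by
  have hz := Cfsg.Agent.LFourA.KlSl.e_zeta e hζ hζ1 h2
  obtain ⟨π₀, hπ₀, hk₀⟩ := exists_hom h2 (MulEquiv.refl (Matrix.ProjectiveSpecialLinearGroup (Fin 2) F))
  let π : K →* Matrix.ProjectiveSpecialLinearGroup (Fin 2) F := π₀.comp e.toMonoidHom
  have hπ : Function.Surjective π := hπ₀.comp e.surjective
  have hk : ∀ a b, π a = π b ↔ a = b ∨ a = ζ * b := by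
    intro a b
    change π₀ (e a) = π₀ (e b) ↔ _
    rw [map_eq_iff π₀ hk₀]
    constructor
    · rintro (h | h)
      · exact Or.inl (e.injective h)
      · right
        apply e.injective
        rw [h, map_mul, hz, neg_mul, one_mul]
    · rintro (h | h)
      · exact Or.inl (by rw [h])
      · right
        rw [h, map_mul, hz, neg_mul, one_mul]
  have hxinv : x⁻¹ = ζ * x := by
    apply inv_eq_of_mul_eq_one_left
    rw [mul_assoc, hx, hζ]
  have hζD : ζ ∈ D := by
    rw [← hx]
    exact mul_mem (hT x rfl) (hT x rfl)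
  set t := π x with ht
  have ht1 : t ≠ 1 := by
    intro h0
    rw [ht, ← map_one π, hk] at h0
    rcases h0 with h0 | h0
    · rw [h0, one_mul] at hx
      exact hζ1 hx.symm
    · rw [mul_one] at h0
      rw [h0, hζ] at hx
      exact hζ1 hx.symm
  have htt : t * t = 1 := by
    rw [ht, ← map_mul, ← map_one π, hx, hk]
    exact Or.inr (by rw [mul_one])
  have hco := isCoatom_centralizer h2 h11 ht1 htt
  have hle : centralizer ({t} : Set (Matrix.ProjectiveSpecialLinearGroup (Fin 2) F)) ≤ D.map π := by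
    intro c hc
    obtain ⟨k, rfl⟩ := hπ c
    rw [mem_centralizer_singleton_iff, ht, ← map_mul, ← map_mul, hk] at hc
    refine ⟨k, ?_, rfl⟩
    rcases hc with hc | hc
    · exact hT k hc
    · have h3 : k * x * k⁻¹ = x⁻¹ := by
        rw [hxinv, hc]; group
      have h4 : (j⁻¹ * k) * x = x * (j⁻¹ * k) := by
        have h5 : j⁻¹ * x⁻¹ * j = x := by rw [← hjx]; group
        calc (j⁻¹ * k) * x = j⁻¹ * (k * x * k⁻¹) * k := by group
          _ = (j⁻¹ * x⁻¹ * j) * (j⁻¹ * k) := by rw [h3]; group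
          _ = _ := by rw [h5]
      have h5 := mul_mem hj (hT _ h4)
      rwa [mul_inv_cancel_left] at h5
  have hne : D.map π ≠ centralizer ({t} : Set (Matrix.ProjectiveSpecialLinearGroup (Fin 2) F)) := by
    intro h0
    have h3 : π y ∈ centralizer ({t} : Set (Matrix.ProjectiveSpecialLinearGroup (Fin 2) F)) := by
      rw [← h0]; exact ⟨y, hy, rfl⟩
    rw [mem_centralizer_singleton_iff, ht, ← map_mul, ← map_mul, hk] at h3
    rcases h3 with h3 | h3
    · exact hy1 (by rw [h3, mul_inv_cancel_right])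
    · exact hy2 (by rw [h3, hxinv]; group)
  have htop : D.map π = ⊤ := by
    by_contra h0
    have h3 := hco.2 (D.map π) (lt_of_le_of_ne hle (Ne.symm hne))
    exact h0 h3
  rw [eq_top_iff]
  intro k _
  have h3 : π k ∈ D.map π := by rw [htop]; trivial
  obtain ⟨d, hd, hdk⟩ := h3
  rcases (hk d k).mp hdk with h4 | h4
  · rw [← h4]; exact hd
  · have h5 : k = ζ * d := by rw [h4, ← mul_assoc, hζ, one_mul]
    rw [h5]
    exact mul_mem hζD hd

omit [Fintype F] in
/-- The centraliser of `x` lies in `D` if its elements of odd order do and a Sylow 2-subgroup `P` of `K`, normalising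
`⟨x⟩`, does. -/
theorem torus_le [Finite K] (h2 : (2 : F) ≠ 0) (hx : x * x = ζ) {j : K} (hjx : j * x * j⁻¹ = x⁻¹) {D : Subgroup K}
    (hodd : ∀ y, y * x = x * y → Odd (orderOf y) → y ∈ D) (P : Sylow 2 K) (hPD : (P : Subgroup K) ≤ D)
    (hPx : ∀ g ∈ P, g * x * g⁻¹ = x ∨ g * x * g⁻¹ = x⁻¹) : ∀ y, y * x = x * y → y ∈ D := by
  have : Fact (Nat.Prime 2) := ⟨Nat.prime_two⟩
  have hcomm : ∀ a b : K, a * x = x * a → b * x = x * b → a * b = b * a :=
    fun a b ha hb => torus_comm e hζ hζ1 h2 hx hjx ha hb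
  -- the 2-elements of the torus
  let T₂ : Subgroup K :=
    { carrier := {y | y * x = x * y ∧ ∃ n : ℕ, y ^ 2 ^ n = 1}
      mul_mem' := by
        rintro a b ⟨ha, n, hn⟩ ⟨hb, k, hk⟩
        refine ⟨by rw [mul_assoc, hb, ← mul_assoc, ha, mul_assoc], n + k, ?_⟩
        have h3 : Commute a b := hcomm a b ha hb
        rw [h3.mul_pow, pow_add, pow_mul, hn, one_pow, one_mul, mul_comm (2 ^ n), pow_mul, hk, one_pow]
      one_mem' := ⟨by rw [one_mul, mul_one], 0, one_pow _⟩
      inv_mem' := by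
        rintro a ⟨ha, n, hn⟩
        refine ⟨?_, n, by rw [inv_pow, hn, inv_one]⟩
        have h3 : Commute a x := ha
        exact h3.inv_left }
  have hT₂ : IsPGroup 2 T₂ := by
    rintro ⟨y, hy, n, hn⟩
    exact ⟨n, Subtype.ext hn⟩
  have hPT : (P : Subgroup K) ≤ normalizer (T₂ : Set K) := by
    have key : ∀ g ∈ P, ∀ y ∈ T₂, g * y * g⁻¹ ∈ T₂ := by
      rintro g hg y ⟨hyx, n, hn⟩
      refine ⟨?_, n, by rw [conj_pow, hn, mul_one, mul_inv_cancel]⟩
      have hyx' : Commute y x := hyx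
      have hg' := hPx g hg
      have h3 : Commute (g * y * g⁻¹) (g * x * g⁻¹) := by
        change g * y * g⁻¹ * (g * x * g⁻¹) = g * x * g⁻¹ * (g * y * g⁻¹)
        calc g * y * g⁻¹ * (g * x * g⁻¹) = g * (y * x) * g⁻¹ := by group
          _ = g * (x * y) * g⁻¹ := by rw [hyx]
          _ = _ := by group
      rcases hg' with h4 | h4
      · rw [h4] at h3
        exact h3
      · rw [h4] at h3
        have := h3.inv_right
        rwa [inv_inv] at this
    intro g hg
    rw [mem_normalizer_iff]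
    intro y
    refine ⟨key g hg y, fun h => ?_⟩
    have h3 := key g⁻¹ (inv_mem hg) _ h
    have h4 : g⁻¹ * (g * y * g⁻¹) * g⁻¹⁻¹ = y := by group
    rwa [h4] at h3
  have hsup : IsPGroup 2 ((P : Subgroup K) ⊔ T₂ : Subgroup K) :=
    P.isPGroup'.to_sup_of_normal_right' hT₂ hPT
  have hTP : T₂ ≤ P := by
    have h3 := P.is_maximal' hsup le_sup_left
    rw [← h3]
    exact le_sup_right
  intro y hyx
  -- decomposition
  have hpos : 0 < orderOf y := orderOf_pos y
  obtain ⟨a, m, hm, hn⟩ := Nat.exists_eq_two_pow_mul_odd hpos.ne'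
  have hcop : Nat.Coprime (2 ^ a) m := Nat.Coprime.pow_left a (Nat.coprime_two_left.mpr hm)
  have hyc : Commute y x := hyx
  have h3 : y ^ 2 ^ a ∈ D := by
    refine hodd _ (hyc.pow_left _) ?_
    have h4 : orderOf (y ^ 2 ^ a) ∣ m := by
      apply orderOf_dvd_of_pow_eq_one
      rw [← pow_mul, ← hn, pow_orderOf_eq_one]
    exact Odd.of_dvd_nat hm h4
  have h4 : y ^ m ∈ D := by
    apply hPD
    apply hTP
    refine ⟨hyc.pow_left _, a, ?_⟩
    rw [← pow_mul, mul_comm, ← hn, pow_orderOf_eq_one]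
  -- Bezout
  have h5 := Nat.gcd_eq_gcd_ab (2 ^ a) m
  rw [hcop.gcd_eq_one] at h5
  have h6 : y = (y ^ 2 ^ a) ^ (Nat.gcdA (2 ^ a) m) * (y ^ m) ^ (Nat.gcdB (2 ^ a) m) := by
    rw [← zpow_natCast y (2 ^ a), ← zpow_natCast y m, ← zpow_mul, ← zpow_mul, ← zpow_add, ← h5]
    simp
  rw [h6]
  exact mul_mem (zpow_mem h3 _) (zpow_mem h4 _)

end sl

end Cfsg.Agent.LFourB.KSL
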