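import Mathlib
import Cfsg.Agent.LFourB.KForm
import Cfsg.Agent.LFourB.KSL
import Cfsg.Agent.Lib.SymBal
import Cfsg.Agent.Lib.SymTwo
import Cfsg.Agent.LFourA.CzCt
import Cfsg.Agent.LFourA.KlQuot

/-!
# The symplectic frame of types B1 and B5: all involutions of `E` are of `z`-type

`Loc`: the structure of `C(z)` modulo its odd core (`K₁ K₂ = SL(2,F) * SL(2,F)`) with the position of `E`.
Output: the frame, the completion `W`, and (no odd elements in the tori) the one-balanced completion.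
-/

set_option autoImplicit false

namespace Cfsg.Agent.LFourB.KLoc

open Subgroup Cfsg
open Cfsg.Agent.LFourA.CzCt Cfsg.Agent.LFourA.KlQuot
open Cfsg.Agent.Lib.SymParam Cfsg.Agent.Lib.SymFrame
open Cfsg.Agent.SignalizersComponents
open Cfsg.Agent.LFourB.KForm

variable {G X : Type*} [Group G] [Group X]

/-- `C(z)` modulo its odd core and the position of `E`. -/
structure Loc (z : G) (F : Type*) [Field F] (p : ↥(centralizer ({z} : Set G)) →* X) (K₁ K₂ : Subgroup X)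
    (E H : Subgroup G) : Prop where
  surj : Function.Surjective p
  ker : ∀ x, p x = 1 ↔ (x : G) ∈ centralizerPPrimeCore 2 z
  comm : ∀ x ∈ K₁, ∀ y ∈ K₂, x * y = y * x
  z₁ : p (self z) ∈ K₁
  z₂ : p (self z) ∈ K₂
  norm : ∀ g : X, ((∀ x ∈ K₁, g * x * g⁻¹ ∈ K₁) ∧ ∀ x ∈ K₂, g * x * g⁻¹ ∈ K₂) ∨
    ((∀ x ∈ K₁, g * x * g⁻¹ ∈ K₂) ∧ ∀ x ∈ K₂, g * x * g⁻¹ ∈ K₁)
  cent : ∀ g : X, Odd (orderOf g) → (∀ x ∈ K₁, g * x = x * g) → (∀ x ∈ K₂, g * x = x * g) → g = 1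
  e₁ : Nonempty (K₁ ≃* Matrix.SpecialLinearGroup (Fin 2) F)
  e₂ : Nonempty (K₂ ≃* Matrix.SpecialLinearGroup (Fin 2) F)
  le : E ≤ centralizer ({z} : Set G)
  swap : ∀ b ∈ E, b ∉ H → ∀ hb : b ∈ centralizer ({z} : Set G),
    (∀ x ∈ K₁, p ⟨b, hb⟩ * x * (p ⟨b, hb⟩)⁻¹ ∈ K₂) ∧ ∀ x ∈ K₂, p ⟨b, hb⟩ * x * (p ⟨b, hb⟩)⁻¹ ∈ K₁
  inner : ∀ b ∈ H, b ≠ 1 → b ≠ z → ∀ hb : b ∈ centralizer ({z} : Set G),
    ∃ x₁ ∈ K₁, ∃ x₂ ∈ K₂, x₁ * x₁ = p (self z) ∧ x₂ * x₂ = p (self z) ∧ p ⟨b, hb⟩ = x₁ * x₂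

variable {z : G} {F : Type*} [Field F] {p : ↥(centralizer ({z} : Set G)) →* X} {K₁ K₂ : Subgroup X}
  {E H : Subgroup G}

theorem ker_eq (hk : ∀ x, p x = 1 ↔ (x : G) ∈ centralizerPPrimeCore 2 z) :
    p.ker = oddCore ↥(centralizer ({z} : Set G)) := by
  ext x
  rw [MonoidHom.mem_ker, hk]
  constructor
  · rintro ⟨y, hy, hyx⟩
    rwa [← Subtype.ext hyx]
  · intro hx
    exact ⟨x, hx, rfl⟩

namespace Loc

theorem quo (h : Loc z F p K₁ K₂ E H) : Quo z p := ⟨h.surj, h.ker⟩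

theorem self_central (h : Loc z F p K₁ K₂ E H) (g : X) : g * p (self z) = p (self z) * g := by
  obtain ⟨g, rfl⟩ := h.surj g
  rw [← map_mul, ← map_mul]
  congr 1
  exact Subtype.ext (mem_centralizer_singleton_iff.1 g.2)

theorem zz (o : Orb z E H) : p (self z) * p (self z) = 1 := by
  rw [← map_mul, ← map_one p]
  congr 1
  exact Subtype.ext (o.sq o.z_memE)

/-- `E` has an element in `H - ⟨z⟩`. -/
theorem _root_.Cfsg.Agent.LFourB.KForm.Orb.exists_inner [Finite G] (o : Orb z E H) : ∃ v ∈ H, v ≠ 1 ∧ v ≠ z := by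
  by_contra h0
  push Not at h0
  have hle : H ≤ zpowers z := by
    intro y hy
    by_cases hy1 : y = 1
    · rw [hy1]; exact one_mem _
    · rw [h0 y hy hy1]; exact mem_zpowers z
  have h1 := card_le_of_le hle
  rw [o.cardH, Nat.card_zpowers, orderOf_eq_prime (p := 2) (by rw [pow_two]; exact o.sq o.z_memE) o.z_ne] at h1
  norm_num at h1

section fin

variable [Finite G]

theorem z_ne (h : Loc z F p K₁ K₂ E H) (o : Orb z E H) : p (self z) ≠ 1 :=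
  ne_one_of_inv h.quo _ (o.sq o.z_memE) o.z_ne

theorem p_inj (h : Loc z F p K₁ K₂ E H) (o : Orb z E H) {a b : G} (ha : a ∈ E) (hb : b ∈ E)
    (hab : p ⟨a, h.le ha⟩ = p ⟨b, h.le hb⟩) : a = b := by
  have h1 : p ⟨a * b, (centralizer ({z} : Set G)).mul_mem (h.le ha) (h.le hb)⟩ = 1 := by
    have h2 : p ⟨a * b, (centralizer ({z} : Set G)).mul_mem (h.le ha) (h.le hb)⟩ =
        p ⟨a, h.le ha⟩ * p ⟨b, h.le hb⟩ := by rw [← map_mul]; rfl
    rw [h2, hab, ← map_mul, ← map_one p]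
    congr 1
    exact Subtype.ext (o.sq hb)
  have h2 := eq_one_of_two h.quo _ h1 (m := 1) (by
    rw [pow_one, pow_two]; exact o.sq (mul_mem ha hb))
  have h3 : a * (b * b) = b := by rw [← mul_assoc, h2, one_mul]
  rwa [o.sq hb, mul_one] at h3

/-- The common elements of `K₁` and `K₂`. -/
theorem inf (h : Loc z F p K₁ K₂ E H) (o : Orb z E H) (h2 : (2 : F) ≠ 0) {c : X} (hc1 : c ∈ K₁) (hc2 : c ∈ K₂) :
    c = 1 ∨ c = p (self z) := by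
  obtain ⟨e₁⟩ := h.e₁
  have hcen : ∀ d, (h1 : d ∈ K₁) → d ∈ K₂ → e₁ ⟨d, h1⟩ = 1 ∨ e₁ ⟨d, h1⟩ = -1 := by
    intro d h1 h2'
    rw [← Cfsg.Agent.LFourA.AutTwo.mem_center_iff' h2, mem_center_iff]
    intro y
    obtain ⟨y, rfl⟩ := e₁.surjective y
    rw [← map_mul, ← map_mul]
    congr 1
    exact Subtype.ext (h.comm y y.2 d h2')
  rcases hcen c hc1 hc2 with h3 | h3
  · exact Or.inl (congrArg Subtype.val ((map_eq_one_iff e₁ e₁.injective).mp h3))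
  · right
    rcases hcen _ h.z₁ h.z₂ with h4 | h4
    · exact absurd (congrArg Subtype.val ((map_eq_one_iff e₁ e₁.injective).mp h4)) (h.z_ne o)
    · exact congrArg Subtype.val (e₁.injective (h3.trans h4.symm))

/-- An element of order four of `K₁`. -/
theorem exists_four (h : Loc z F p K₁ K₂ E H) (o : Orb z E H) :
    ∃ x₁ ∈ K₁, ∃ x₂ ∈ K₂, x₁ * x₁ = p (self z) ∧ x₂ * x₂ = p (self z) := by
  obtain ⟨v, hv, hv1, hvz⟩ := o.exists_inner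
  obtain ⟨x₁, hx₁, x₂, hx₂, h1, h2, -⟩ := h.inner v hv hv1 hvz (h.le (o.le hv))
  exact ⟨x₁, hx₁, x₂, hx₂, h1, h2⟩

/-- Elements of odd order normalise `K₁` and `K₂`. -/
theorem odd_norm (h : Loc z F p K₁ K₂ E H) (o : Orb z E H) (h2 : (2 : F) ≠ 0) {g : X} (hg : Odd (orderOf g)) :
    (∀ x ∈ K₁, g * x * g⁻¹ ∈ K₁) ∧ ∀ x ∈ K₂, g * x * g⁻¹ ∈ K₂ := by
  rcases h.norm g with h1 | h1
  · exact h1
  · exfalso
    obtain ⟨x, hx, -, -, hxx, -⟩ := h.exists_four o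
    have key : ∀ n : ℕ, (∀ x ∈ K₁, g ^ (2 * n) * x * (g ^ (2 * n))⁻¹ ∈ K₁) := by
      intro n
      induction n with
      | zero => intro x hx; simpa using hx
      | succ n ih =>
        intro x hx
        have h2 : g ^ (2 * (n + 1)) * x * (g ^ (2 * (n + 1)))⁻¹ =
            g * (g * (g ^ (2 * n) * x * (g ^ (2 * n))⁻¹) * g⁻¹) * g⁻¹ := by
          rw [mul_add, mul_one, pow_add, pow_two]
          have h3 : g ^ (2 * n) * (g * g) = g * g * g ^ (2 * n) := by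
            have : Commute (g ^ (2 * n)) (g * g) :=
              ((Commute.refl g).pow_left _).mul_right ((Commute.refl g).pow_left _)
            exact this
          rw [h3]; group
        rw [h2]
        exact h1.2 _ (h1.1 _ (ih x hx))
    obtain ⟨m, hm⟩ := hg
    have h3 := h1.1 _ (key m x hx)
    have h4 : g * (g ^ (2 * m) * x * (g ^ (2 * m))⁻¹) * g⁻¹ = g ^ (2 * m + 1) * x * (g ^ (2 * m + 1))⁻¹ := by
      rw [pow_succ' g (2 * m)]; group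
    rw [h4, ← hm, pow_orderOf_eq_one, one_mul, inv_one, mul_one] at h3
    rcases h.inf o h2 hx h3 with h5 | h5
    · rw [h5, one_mul] at hxx
      exact h.z_ne o hxx.symm
    · rw [h5, zz o] at hxx
      exact h.z_ne o hxx.symm

omit [Finite G] in
theorem mem_norm₁ {g : X} {K : Subgroup X} (h1 : ∀ x ∈ K, g * x * g⁻¹ ∈ K) (h2 : ∀ x ∈ K, g⁻¹ * x * g⁻¹⁻¹ ∈ K) :
    g ∈ normalizer (K : Set X) := by
  rw [mem_normalizer_iff]
  intro x
  refine ⟨h1 x, fun h3 => ?_⟩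
  have := h2 _ h3
  have h4 : g⁻¹ * (g * x * g⁻¹) * g⁻¹⁻¹ = x := by group
  rwa [h4] at this

theorem odd_normalizer (h : Loc z F p K₁ K₂ E H) (o : Orb z E H) (h2 : (2 : F) ≠ 0) {g : X}
    (hg : Odd (orderOf g)) : g ∈ normalizer (K₁ : Set X) ∧ g ∈ normalizer (K₂ : Set X) := by
  have h1 := h.odd_norm o h2 hg
  have h3 := h.odd_norm o h2 (g := g⁻¹) (by rwa [orderOf_inv])
  exact ⟨mem_norm₁ h1.1 h3.1, mem_norm₁ h1.2 h3.2⟩

/-- `K₂ = f K₁ f⁻¹` for a swapping involution. -/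
theorem swap_back {f : X} (hf : f * f = 1) (hs : (∀ x ∈ K₁, f * x * f⁻¹ ∈ K₂) ∧ ∀ x ∈ K₂, f * x * f⁻¹ ∈ K₁)
    {y : X} (hy : y ∈ K₂) : ∃ x ∈ K₁, y = f * x * f⁻¹ := by
  refine ⟨f * y * f⁻¹, hs.2 y hy, ?_⟩
  have hf' : f⁻¹ = f := inv_eq_of_mul_eq_one_right hf
  rw [hf']
  calc y = (f * f) * y * (f * f) := by rw [hf, one_mul, mul_one]
    _ = _ := by group

theorem p_sq (h : Loc z F p K₁ K₂ E H) (o : Orb z E H) {a : G} (ha : a ∈ E) :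
    p ⟨a, h.le ha⟩ * p ⟨a, h.le ha⟩ = 1 := by
  rw [← map_mul, ← map_one p]
  congr 1
  exact Subtype.ext (o.sq ha)

/-- **(B)**: swapping elements. -/
theorem bal [Finite F] (h : Loc z F p K₁ K₂ E H) (o : Orb z E H) (h2 : (2 : F) ≠ 0) {a : G} (ha : a ∈ E)
    (haH : a ∉ H) : Bal a z := by
  have haz := h.le ha
  have : Finite X := Finite.of_surjective p h.surj
  obtain ⟨e₁⟩ := h.e₁
  have hsw := h.swap a ha haH haz
  have hff := h.p_sq o ha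
  refine Lib.SymLocal.inf_le_of_locBal p h.surj (ker_eq h.ker) (o.sq ha) haz ?_
  refine Lib.SymBal.locBal_swap h2 e₁ hff ?_ ?_ ?_
  · intro x hx y hy
    exact h.comm x hx _ (hsw.1 y hy)
  · intro r hr
    exact (h.odd_norm o h2 hr).1
  · intro r hr h1 h3
    refine h.cent r hr h1 ?_
    intro y hy
    obtain ⟨x, hx, rfl⟩ := swap_back hff hsw hy
    exact h3 x hx

/-- The form at `z`: swaps. -/
theorem _root_.Cfsg.Agent.LFourB.KForm.Orb.notMem_iff (o : Orb z E H) {a : G} :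
    Orb.B z E H z a ≠ 0 ↔ a ∉ H := by
  rw [Ne, o.B_perp o.z_memE o.z_ne, o.perp_z]

theorem bal_all [Finite F] (h : Loc z F p K₁ K₂ E H) (o : Orb z E H) (h2 : (2 : F) ≠ 0) {a b : G} (ha : a ∈ E)
    (ha1 : a ≠ 1) (hb : b ∈ E) (hb1 : b ≠ 1) (hB : Orb.B z E H a b ≠ 0) : Bal a b := by
  rw [o.B_symm ha hb] at hB
  have hB' : ¬ Perp z E H b a := fun h0 => hB ((o.B_perp hb hb1).mpr h0)
  obtain ⟨g, hg, hgb⟩ := o.trans b hb hb1
  refine Lib.SymParam.Bal.of_conj (g := g) ?_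
  rw [hgb]
  exact h.bal o h2 (o.conj_mem ha hg) (fun h0 => hB' ((o.perp_iff hg hgb).mpr h0))

/-- Two inner elements `v = x₁ x₂`, `b = y₁ y₂` which are not perpendicular: `y_i` inverts `x_i`. -/
theorem inner_inverts (h : Loc z F p K₁ K₂ E H) (o : Orb z E H) (h2 : (2 : F) ≠ 0) {v b : G} (hv : v ∈ H)
    (hv1 : v ≠ 1) (hb : b ∈ H) (hB : Orb.B z E H v b ≠ 0) {x₁ x₂ y₁ y₂ : X} (hx₁ : x₁ ∈ K₁)
    (hx₂ : x₂ ∈ K₂) (hy₁ : y₁ ∈ K₁) (hy₂ : y₂ ∈ K₂) (hxx₁ : x₁ * x₁ = p (self z)) (hxx₂ : x₂ * x₂ = p (self z))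
    (hyy₁ : y₁ * y₁ = p (self z)) (hyy₂ : y₂ * y₂ = p (self z)) (hpv : p ⟨v, h.le (o.le hv)⟩ = x₁ * x₂)
    (hpb : p ⟨b, h.le (o.le hb)⟩ = y₁ * y₂) : y₁ * x₁ * y₁⁻¹ = x₁⁻¹ ∧ y₂ * x₂ * y₂⁻¹ = x₂⁻¹ := by
  have hvE := o.le hv
  have hbE := o.le hb
  have hzz := zz (p := p) o
  have hcv : (y₁ * y₂) * (x₁ * x₂) = (x₁ * x₂) * (y₁ * y₂) := by
    rw [← hpv, ← hpb, ← map_mul, ← map_mul]
    congr 1
    exact Subtype.ext (o.comm hbE hvE)
  have hc := h.self_central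
  have hxinv₁ : x₁⁻¹ = x₁ * p (self z) := by
    apply inv_eq_of_mul_eq_one_left
    rw [mul_assoc, ← hc x₁, ← mul_assoc, hxx₁, hzz]
  have hxinv₂ : x₂⁻¹ = x₂ * p (self z) := by
    apply inv_eq_of_mul_eq_one_left
    rw [mul_assoc, ← hc x₂, ← mul_assoc, hxx₂, hzz]
  set c := x₁⁻¹ * (y₁ * x₁ * y₁⁻¹) with hcdef
  have hc1 : c ∈ K₁ := mul_mem (inv_mem hx₁) (mul_mem (mul_mem hy₁ hx₁) (inv_mem hy₁))
  have hprod : (y₁ * x₁ * y₁⁻¹) * (y₂ * x₂ * y₂⁻¹) = x₁ * x₂ := by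
    have h1 : y₂ * x₁ = x₁ * y₂ := (h.comm x₁ hx₁ y₂ hy₂).symm
    have h3 : x₂ * y₁⁻¹ = y₁⁻¹ * x₂ := (h.comm _ (inv_mem hy₁) x₂ hx₂).symm
    have h4 : y₁⁻¹ * y₂ = y₂ * y₁⁻¹ := h.comm _ (inv_mem hy₁) y₂ hy₂
    calc (y₁ * x₁ * y₁⁻¹) * (y₂ * x₂ * y₂⁻¹) = y₁ * x₁ * (y₁⁻¹ * y₂) * x₂ * y₂⁻¹ := by group
      _ = y₁ * (x₁ * y₂) * (y₁⁻¹ * x₂) * y₂⁻¹ := by rw [h4]; group
      _ = (y₁ * y₂) * (x₁ * x₂) * (y₁⁻¹ * y₂⁻¹) := by rw [← h1, ← h3]; group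
      _ = (x₁ * x₂) * (y₁ * y₂) * (y₁⁻¹ * y₂⁻¹) := by rw [hcv]
      _ = (x₁ * x₂) * (y₁ * (y₂ * y₁⁻¹) * y₂⁻¹) := by group
      _ = x₁ * x₂ := by rw [← h4]; group
  have hc2' : c = x₂ * (y₂ * x₂ * y₂⁻¹)⁻¹ := by
    rw [hcdef, inv_mul_eq_iff_eq_mul, ← mul_assoc, ← hprod, mul_inv_cancel_right]
  have hc2 : c ∈ K₂ := by
    rw [hc2']
    exact mul_mem hx₂ (inv_mem (mul_mem (mul_mem hy₂ hx₂) (inv_mem hy₂)))
  have hcne : c ≠ 1 := by
    intro h0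
    -- then `y₁`, `x₁` commute, `y₂`, `x₂` commute
    have hk₁ : y₁ * x₁ = x₁ * y₁ := by
      have h3 : y₁ * x₁ * y₁⁻¹ = x₁ := by
        rw [hcdef] at h0
        exact (inv_mul_eq_one.mp h0).symm
      exact mul_inv_eq_iff_eq_mul.mp h3
    have hk₂ : y₂ * x₂ = x₂ * y₂ := by
      rw [h0] at hc2'
      exact mul_inv_eq_iff_eq_mul.mp (mul_inv_eq_one.mp hc2'.symm).symm
    have key : ∀ (K : Subgroup X) (_ : Nonempty (K ≃* Matrix.SpecialLinearGroup (Fin 2) F)) (_ : p (self z) ∈ K)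
        {x y : X}, x ∈ K → y ∈ K → x * x = p (self z) → y * y = p (self z) → y * x = x * y →
        y = x ∨ y = x * p (self z) := by
      intro K hK hzK x y hx hy hxx hyy hxy
      obtain ⟨e⟩ := hK
      have h3 : e ⟨y * x⁻¹, mul_mem hy (inv_mem hx)⟩ * e ⟨y * x⁻¹, mul_mem hy (inv_mem hx)⟩ = 1 := by
        rw [← map_mul, map_eq_one_iff e e.injective]
        apply Subtype.ext
        change y * x⁻¹ * (y * x⁻¹) = 1
        have h4 : x⁻¹ * y = y * x⁻¹ := by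
          rw [inv_mul_eq_iff_eq_mul, ← mul_assoc, ← hxy, mul_inv_cancel_right]
        calc y * x⁻¹ * (y * x⁻¹) = y * (x⁻¹ * y) * x⁻¹ := by group
          _ = (y * y) * (x * x)⁻¹ := by rw [h4]; group
          _ = 1 := by rw [hxx, hyy, mul_inv_cancel]
      have h5 : e ⟨p (self z), hzK⟩ = -1 := by
        have h6 : e ⟨p (self z), hzK⟩ * e ⟨p (self z), hzK⟩ = 1 := by
          rw [← map_mul, map_eq_one_iff e e.injective]
          exact Subtype.ext hzz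
        rcases Cfsg.Agent.Lib.PSL2Inv.sq_eq_one h2 h6 with h7 | h7
        · exact absurd (congrArg Subtype.val ((map_eq_one_iff e e.injective).mp h7)) (h.z_ne o)
        · exact h7
      rcases Cfsg.Agent.Lib.PSL2Inv.sq_eq_one h2 h3 with h4 | h4
      · left
        have := congrArg Subtype.val ((map_eq_one_iff e e.injective).mp h4)
        exact mul_inv_eq_one.mp this
      · right
        have := congrArg Subtype.val (e.injective (h4.trans h5.symm))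
        change y * x⁻¹ = p (self z) at this
        rw [hc x, ← this, inv_mul_cancel_right]
    have hpb' : p ⟨b, h.le hbE⟩ = p ⟨v, h.le hvE⟩ ∨
        p ⟨b, h.le hbE⟩ = p ⟨v * z, h.le (mul_mem hvE o.z_memE)⟩ := by
      have hvz : p ⟨v * z, h.le (mul_mem hvE o.z_memE)⟩ = x₁ * x₂ * p (self z) := by
        rw [← hpv, ← map_mul]; rfl
      rw [hvz, hpv, hpb]
      rcases key K₁ h.e₁ h.z₁ hx₁ hy₁ hxx₁ hyy₁ hk₁ with h3 | h3 <;>
        rcases key K₂ h.e₂ h.z₂ hx₂ hy₂ hxx₂ hyy₂ hk₂ with h4 | h4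
      · left; rw [h3, h4]
      · right; rw [h3, h4, mul_assoc]
      · right; rw [h3, h4, mul_assoc, ← hc x₂, mul_assoc]
      · left
        rw [h3, h4, mul_assoc, ← mul_assoc (p (self z)), ← hc x₂, mul_assoc x₂, hzz, mul_one]
    apply hB
    rcases hpb' with h3 | h3
    · have h4 := h.p_inj o hbE hvE h3
      rw [h4, o.B_perp hvE hv1]
      exact o.perp_self hvE hv1
    · have h4 := h.p_inj o hbE (mul_mem hvE o.z_memE) h3
      rw [h4, o.B_add_right hvE hvE o.z_memE, (o.B_perp hvE hv1).mpr (o.perp_self hvE hv1), zero_add,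
        o.B_symm hvE o.z_memE, o.B_perp o.z_memE o.z_ne, o.perp_z]
      exact hv
  have hcz : c = p (self z) := (h.inf o h2 hc1 hc2).resolve_left hcne
  constructor
  · have h3 : y₁ * x₁ * y₁⁻¹ = x₁ * c := by rw [hcdef]; group
    rw [h3, hcz, hxinv₁]
  · have h3 : y₂ * x₂ * y₂⁻¹ = c⁻¹ * x₂ := by rw [hc2']; group
    have h4 : c⁻¹ = p (self z) := by rw [hcz]; exact inv_eq_of_mul_eq_one_left hzz
    rw [h3, h4, hxinv₂, hc]

/-- **(N)** at `z`. -/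
theorem iso [Finite F] (h : Loc z F p K₁ K₂ E H) (o : Orb z E H) (h2 : (2 : F) ≠ 0) {v : G} (hv : v ∈ H)
    (hv1 : v ≠ 1) (hvz : v ≠ z) : Iso z v := by
  have hvE := o.le hv
  obtain ⟨e₁⟩ := h.e₁
  obtain ⟨e₂⟩ := h.e₂
  obtain ⟨b, hb, hzb, hvb⟩ := o.exists_perp o.z_memE o.z_ne hvE hv1 (Ne.symm hvz)
  obtain ⟨c, hc, hvc, hzc⟩ := o.exists_perp hvE hv1 o.z_memE o.z_ne hvz
  have hb1 : b ≠ 1 := by
    rintro rfl
    exact hvb (by rw [o.B_perp hvE hv1]; exact o.perp_one hvE hv1)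
  have hc1 : c ≠ 1 := by
    rintro rfl
    exact hzc (by rw [o.B_perp o.z_memE o.z_ne]; exact o.perp_one o.z_memE o.z_ne)
  have hbH : b ∈ H := by rwa [o.B_perp o.z_memE o.z_ne, o.perp_z] at hzb
  have hbz : b ≠ z := by
    rintro rfl
    apply hvb
    rw [o.B_symm hvE o.z_memE, o.B_perp o.z_memE o.z_ne, o.perp_z]
    exact hv
  have hzvE : z * v ∈ E := mul_mem o.z_memE hvE
  have hzv1 : z * v ≠ 1 := by
    intro h0
    apply hvz
    have h1 : z * (z * v) = z := by rw [h0, mul_one]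
    rwa [← mul_assoc, o.sq o.z_memE, one_mul] at h1
  have hbcE : b * c ∈ E := mul_mem hb hc
  have one_ne : ∀ x y : G, Orb.B z E H x y ≠ 0 → Orb.B z E H x y = 1 := fun x y h0 =>
    (Orb.B_or x y).resolve_left h0
  have hbc1 : b * c ≠ 1 := by
    intro h0
    have h1 : b = c := by
      have h3 : b * (c * c) = c := by rw [← mul_assoc, h0, one_mul]
      rwa [o.sq hc, mul_one] at h3
    exact hvb (h1 ▸ hvc)
  obtain ⟨x₁, hx₁, x₂, hx₂, hxx₁, hxx₂, hpv⟩ := h.inner v hv hv1 hvz (h.le hvE)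
  obtain ⟨y₁, hy₁, y₂, hy₂, hyy₁, hyy₂, hpb⟩ := h.inner b hbH hb1 hbz (h.le hb)
  obtain ⟨hi₁, hi₂⟩ := h.inner_inverts o h2 hv hv1 hbH hvb hx₁ hx₂ hy₁ hy₂ hxx₁ hxx₂ hyy₁ hyy₂ hpv hpb
  have hzz := zz (p := p) o
  refine Lib.SymLocal.inf_le_of_locIso (b := b) (c := c) (o.sq o.z_memE) (o.sq hvE) (o.sq hb) (o.sq hc)
    (o.comm hvE o.z_memE) (o.comm hb o.z_memE) (o.comm hb hvE) (o.comm hc o.z_memE) (o.comm hc hvE)
    (o.comm hb hc) p h.surj (ker_eq h.ker) ?_ ?_ ?_ ?_ ?_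
  · refine h.bal_all o h2 hzvE hzv1 hc hc1 ?_
    rw [o.B_add_left o.z_memE hvE hc, hvc, add_zero]
    exact hzc
  · refine h.bal_all o h2 hc hc1 o.z_memE o.z_ne ?_
    rw [o.B_symm hc o.z_memE]
    exact hzc
  · refine h.bal_all o h2 hvE hv1 hbcE hbc1 ?_
    rw [o.B_add_right hvE hb hc, hvc, add_zero]
    exact hvb
  · refine h.bal_all o h2 hbcE hbc1 o.z_memE o.z_ne ?_
    rw [o.B_symm hbcE o.z_memE, o.B_add_right o.z_memE hb hc, hzb, zero_add]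
    exact hzc
  · have e : p ⟨v, mem_centralizer_singleton_iff.mpr (o.comm hvE o.z_memE)⟩ = x₁ * x₂ := hpv
    rw [e]
    have hpb' : p ⟨b, mem_centralizer_singleton_iff.mpr (o.comm hb o.z_memE)⟩ = y₁ * y₂ := hpb
    rw [hpb']
    have hy₁n : ∀ k ∈ K₁, (y₁ * y₂) * k * (y₁ * y₂)⁻¹ = y₁ * k * y₁⁻¹ := by
      intro k hk
      have h3 : y₂ * k = k * y₂ := (h.comm k hk y₂ hy₂).symm
      calc (y₁ * y₂) * k * (y₁ * y₂)⁻¹ = y₁ * (y₂ * k) * y₂⁻¹ * y₁⁻¹ := by group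
        _ = y₁ * k * y₁⁻¹ := by rw [h3]; group
    have hy₂n : ∀ k ∈ K₂, (y₁ * y₂) * k * (y₁ * y₂)⁻¹ = y₂ * k * y₂⁻¹ := by
      intro k hk
      have h3 : y₁ * (y₂ * k * y₂⁻¹) = (y₂ * k * y₂⁻¹) * y₁ :=
        h.comm y₁ hy₁ _ (mul_mem (mul_mem hy₂ hk) (inv_mem hy₂))
      calc (y₁ * y₂) * k * (y₁ * y₂)⁻¹ = y₁ * (y₂ * k * y₂⁻¹) * y₁⁻¹ := by group
        _ = y₂ * k * y₂⁻¹ := by rw [h3]; group
    have hbn₁ : (y₁ * y₂) ∈ normalizer (K₁ : Set X) := by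
      refine mem_norm₁ ?_ ?_
      · intro k hk
        rw [hy₁n k hk]
        exact mul_mem (mul_mem hy₁ hk) (inv_mem hy₁)
      · intro k hk
        have h3 : (y₁ * y₂)⁻¹ * k * (y₁ * y₂)⁻¹⁻¹ = y₁⁻¹ * k * y₁ := by
          have h4 : k * y₁ ∈ K₁ := mul_mem hk hy₁
          have h5 : y₁⁻¹ * (k * y₁) ∈ K₁ := mul_mem (inv_mem hy₁) h4
          have h6 := h.comm _ h5 y₂ hy₂
          calc (y₁ * y₂)⁻¹ * k * (y₁ * y₂)⁻¹⁻¹ = y₂⁻¹ * (y₁⁻¹ * (k * y₁) * y₂) := by group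
            _ = y₂⁻¹ * (y₂ * (y₁⁻¹ * (k * y₁))) := by rw [h6]
            _ = _ := by group
        rw [h3]
        exact mul_mem (mul_mem (inv_mem hy₁) hk) hy₁
    have hbn₂ : (y₁ * y₂) ∈ normalizer (K₂ : Set X) := by
      refine mem_norm₁ ?_ ?_
      · intro k hk
        rw [hy₂n k hk]
        exact mul_mem (mul_mem hy₂ hk) (inv_mem hy₂)
      · intro k hk
        have h3 : (y₁ * y₂)⁻¹ * k * (y₁ * y₂)⁻¹⁻¹ = y₂⁻¹ * k * y₂ := by
          have h6 := h.comm y₁⁻¹ (inv_mem hy₁) k hk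
          calc (y₁ * y₂)⁻¹ * k * (y₁ * y₂)⁻¹⁻¹ = y₂⁻¹ * (y₁⁻¹ * k) * y₁ * y₂ := by group
            _ = _ := by rw [h6]; group
        rw [h3]
        exact mul_mem (mul_mem (inv_mem hy₂) hk) hy₂
    have hx4 : ∀ x : X, x * x = p (self z) → (x * x) * (x * x) = 1 := fun x hx => by rw [hx, hzz]
    have hx1 : ∀ x : X, x * x = p (self z) → x * x ≠ 1 := fun x hx => by rw [hx]; exact h.z_ne o
    have inv : ∀ (K : Subgroup X) (e : K ≃* Matrix.SpecialLinearGroup (Fin 2) F) {x j y : X} (_ : x ∈ K) (_ : j ∈ K)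
        (_ : y ∈ K), x * x = p (self z) → j * x * j⁻¹ = x⁻¹ → y * x = x * y → j * y * j⁻¹ = y⁻¹ := by
      intro K e x j y hx hj hy hxx hjx hyx
      have h3 := KSL.inverts e (ζ := ⟨x, hx⟩ * ⟨x, hx⟩) (x := ⟨x, hx⟩) (Subtype.ext (hx4 x hxx))
        (fun h0 => hx1 x hxx (congrArg Subtype.val h0)) h2 rfl (j := ⟨j, hj⟩) (Subtype.ext hjx) (y := ⟨y, hy⟩)
        (Subtype.ext hyx)
      exact congrArg Subtype.val h3
    refine Lib.SymSL.locIso_sl h2 e₁ e₂ h.comm (fun g hg => (h.odd_normalizer o h2 hg).1)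
      (fun g hg => (h.odd_normalizer o h2 hg).2) h.cent hx₁ hx₂ (hx1 _ hxx₁) (hx4 _ hxx₁) (hx1 _ hxx₂)
      (hx4 _ hxx₂) hbn₁ hbn₂ ?_ ?_
    · intro y hy hyx _
      rw [hy₁n y hy]
      exact inv K₁ e₁ hx₁ hy₁ hy hxx₁ hi₁ hyx
    · intro y hy hyx _
      rw [hy₂n y hy]
      exact inv K₂ e₂ hx₂ hy₂ hy hxx₂ hi₂ hyx

/-- **The frame.** -/
theorem frame [Finite F] (h : Loc z F p K₁ K₂ E H) (o : Orb z E H) (h2 : (2 : F) ≠ 0) :
    Frame E (Orb.B z E H) :=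
  o.frame (fun _ ha haH => h.bal o h2 ha haH) (fun _ hv hv1 hvz => h.iso o h2 hv hv1 hvz)

theorem exists_completion [Finite F] (h : Loc z F p K₁ K₂ E H) (o : Orb z E H) (h2 : (2 : F) ≠ 0) :
    ∃ W : Subgroup G, Completion E W := (h.frame o h2).exists_completion

/-- No elements of odd order in the tori: one-balance. -/
theorem oneBal [Finite F] (h : Loc z F p K₁ K₂ E H) (o : Orb z E H) (h2 : (2 : F) ≠ 0)
    (hF : ∃ a : ℕ, (Nat.card F % 4 = 1 ∧ Nat.card F - 1 = 2 ^ a) ∨ (Nat.card F % 4 = 3 ∧ Nat.card F + 1 = 2 ^ a)) :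
    OneBal E := by
  have hzz := zz (p := p) o
  have hx4 : ∀ x : X, x * x = p (self z) → (x * x) * (x * x) = 1 := fun x hx => by rw [hx, hzz]
  have hx1 : ∀ x : X, x * x = p (self z) → x * x ≠ 1 := fun x hx => by rw [hx]; exact h.z_ne o
  have at_z : ∀ v ∈ H, v ≠ 1 → Bal v z := by
    intro v hv hv1
    by_cases hvz : v = z
    · rw [hvz]
      exact inf_le_left
    obtain ⟨e₁⟩ := h.e₁
    obtain ⟨e₂⟩ := h.e₂
    obtain ⟨x₁, hx₁, x₂, hx₂, hxx₁, hxx₂, hpv⟩ := h.inner v hv hv1 hvz (h.le (o.le hv))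
    refine Lib.SymLocal.inf_le_of_locBal p h.surj (ker_eq h.ker) (o.sq (o.le hv)) (h.le (o.le hv)) ?_
    refine Lib.SymTwo.locBal_of_odd ?_
    intro r hr hrv
    rw [hpv] at hrv
    exact Lib.SymTwo.odd_eq_one_sl h2 e₁ e₂ h.comm (fun g hg => (h.odd_normalizer o h2 hg).1)
      (fun g hg => (h.odd_normalizer o h2 hg).2) h.cent hx₁ hx₂ (hx1 _ hxx₁) (hx4 _ hxx₁) (hx1 _ hxx₂)
      (hx4 _ hxx₂) (Lib.SymTwo.sl_no_odd h2 e₁ hF hx₁ (hx1 _ hxx₁) (hx4 _ hxx₁))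
      (Lib.SymTwo.sl_no_odd h2 e₂ hF hx₂ (hx1 _ hxx₂) (hx4 _ hxx₂)) hr hrv
  refine ⟨o.elem, by rw [o.card]; norm_num, ?_⟩
  intro a ha ha1 b hb hb1
  obtain ⟨g, hg, hgb⟩ := o.trans b hb hb1
  refine Bal.of_conj (g := g) ?_
  rw [hgb]
  by_cases hH : g * a * g⁻¹ ∈ H
  · exact at_z _ hH (Orb.conj_ne_one ha1)
  · exact h.bal o h2 (o.conj_mem ha hg) hH

theorem exists_completion_one [Finite F] (h : Loc z F p K₁ K₂ E H) (o : Orb z E H) (h2 : (2 : F) ≠ 0)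
    (hF : ∃ a : ℕ, (Nat.card F % 4 = 1 ∧ Nat.card F - 1 = 2 ^ a) ∨ (Nat.card F % 4 = 3 ∧ Nat.card F + 1 = 2 ^ a)) :
    ∃ W : Subgroup G, CompletionOne E W := (h.oneBal o h2 hF).exists_completion

end fin

end Loc

end Cfsg.Agent.LFourB.KLoc
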