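import Mathlib
import Cfsg.Agent.LFourB.KLoc

/-!
# Closing: `C(z) ≤ N(W)` if the completion `W` is nontrivial

`diag` : `l ↦ l * l ^ b` for an involution `b` swapping `K₁` and `K₂`.  If the image `D` of `C(z) ∩ M` contains the diagonals
of two such `b` (`|F| > 3`: of `b` and `b v`, `v` inner) then it contains `K₁` and `K₂`; if moreover it contains the
centraliser of an inner involution, it is everything.
-/

set_option autoImplicit false

namespace Cfsg.Agent.LFourB.KClose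

open Subgroup Cfsg
open Cfsg.Agent.LFourA.CzCt Cfsg.Agent.LFourA.KlQuot Cfsg.Agent.LFourA.KlSl
open Cfsg.Agent.Lib.SymFrame
open Cfsg.Agent.LFourB.KForm Cfsg.Agent.LFourB.KLoc

section psl

variable {F : Type*} [Field F] [Fintype F]

theorem exists_comm (h2 : (2 : F) ≠ 0) (h11 : 11 ≤ Fintype.card F)
    {t u : Matrix.ProjectiveSpecialLinearGroup (Fin 2) F} (ht1 : t ≠ 1) (ht : t * t = 1) (hu1 : u ≠ 1) (hu : u * u = 1)
    (htu : t ≠ u) (hc : t * u = u * t) : ∃ c, c * u = u * c ∧ c * t ≠ t * c := by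
  obtain ⟨T, m, hT, hm⟩ := Cfsg.Agent.Lib.PSL2Torus.exists_torus h2 (MulEquiv.refl _) hu1 hu
  have hm5 : 3 ≤ m := by
    rw [Nat.card_eq_fintype_card] at hm
    omega
  by_contra h0
  push Not at h0
  have htT : t ∉ T := hT.not_mem ht1 ht htu
  obtain ⟨-, -, hinv⟩ := hT.out t hc htT
  have hsq : ∀ c ∈ T, c * c = 1 := by
    intro c hcT
    have h3 := hinv c hcT
    rw [← h0 c (hT.comm c hcT), mul_inv_cancel_right] at h3
    nth_rewrite 2 [h3]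
    exact mul_inv_cancel c
  have hle : T ≤ zpowers u := by
    intro c hcT
    rcases hT.eq_of_sq hcT (hsq c hcT) with h3 | h3
    · rw [h3]; exact one_mem _
    · rw [h3]; exact mem_zpowers u
  have h3 := card_le_of_le hle
  rw [hT.card, Nat.card_zpowers, orderOf_eq_prime (p := 2) (by rw [pow_two]; exact hu) hu1] at h3
  omega

end psl

section sl

variable {F : Type*} [Field F] {K : Type*} [Group K] (e : K ≃* Matrix.SpecialLinearGroup (Fin 2) F)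
  {ζ x j : K} (hζ : ζ * ζ = 1) (hζ1 : ζ ≠ 1)

include e hζ hζ1

/-- **A subgroup containing the normalisers of `⟨x⟩` and `⟨j⟩` is everything**, `|F| ≥ 11`. -/
theorem eq_top_of_two [Fintype F] (h2 : (2 : F) ≠ 0) (h11 : 11 ≤ Fintype.card F) (hx : x * x = ζ) (hj : j * j = ζ)
    (hjx : j * x * j⁻¹ = x⁻¹) {D : Subgroup K} (hD : ∀ y, y * x * y⁻¹ = x ∨ y * x * y⁻¹ = x⁻¹ → y ∈ D)
    (hD' : ∀ y, y * j * y⁻¹ = j ∨ y * j * y⁻¹ = j⁻¹ → y ∈ D) : D = ⊤ := by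
  have hz := e_zeta e hζ hζ1 h2
  obtain ⟨π₀, hπ₀, hk₀⟩ := Cfsg.Agent.Lib.PSL2Torus.exists_hom h2
    (MulEquiv.refl (Matrix.ProjectiveSpecialLinearGroup (Fin 2) F))
  let π : K →* Matrix.ProjectiveSpecialLinearGroup (Fin 2) F := π₀.comp e.toMonoidHom
  have hπ : Function.Surjective π := hπ₀.comp e.surjective
  have hk : ∀ a b, π a = π b ↔ a = b ∨ a = ζ * b := by
    intro a b
    change π₀ (e a) = π₀ (e b) ↔ _
    rw [Cfsg.Agent.Lib.PSL2Torus.map_eq_iff π₀ hk₀]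
    constructor
    · rintro (h | h)
      · exact Or.inl (e.injective h)
      · right
        apply e.injective
        rw [h, map_mul, hz, neg_mul, one_mul]
    · rintro (h | h)
      · exact Or.inl (by rw [h])
      · right
        rw [h, map_mul, hz, neg_mul, one_mul]
  have hinv : ∀ y : K, y * y = ζ → y⁻¹ = ζ * y := fun y hy =>
    inv_eq_of_mul_eq_one_left (by rw [mul_assoc, hy, hζ])
  have hne : ∀ y : K, y * y = ζ → π y ≠ 1 := by
    intro y hy h0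
    rw [← map_one π, hk] at h0
    rcases h0 with h0 | h0
    · rw [h0, one_mul] at hy
      exact hζ1 hy.symm
    · rw [mul_one] at h0
      rw [h0, hζ] at hy
      exact hζ1 hy.symm
  have hsq : ∀ y : K, y * y = ζ → π y * π y = 1 := by
    intro y hy
    rw [← map_mul, ← map_one π, hy, hk]
    exact Or.inr (by rw [mul_one])
  have hjx' : j * x = ζ * (x * j) := by
    rw [mul_inv_eq_iff_eq_mul.mp hjx, hinv x hx, mul_assoc]
  have hxj : π x ≠ π j := by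
    intro h0
    rw [hk] at h0
    have h3 : j * x = x * j := by
      rcases h0 with h0 | h0
      · rw [h0]
      · rw [h0, ← mul_assoc, ← KSL.zeta_comm e hζ hζ1 h2 j, mul_assoc]
    rw [h3] at hjx'
    have : ζ = 1 := by
      have h4 : 1 * (x * j) = ζ * (x * j) := by rw [one_mul]; exact hjx'
      exact (mul_right_cancel h4).symm
    exact hζ1 this
  have hc : π x * π j = π j * π x := by
    rw [← map_mul, ← map_mul, hk]
    right
    rw [hjx', ← mul_assoc, hζ, one_mul]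
  obtain ⟨c, hcj, hcx⟩ := exists_comm h2 h11 (hne x hx) (hsq x hx) (hne j hj) (hsq j hj) hxj hc
  obtain ⟨y, rfl⟩ := hπ c
  have hyD : y ∈ D := by
    apply hD'
    rw [← map_mul, ← map_mul, hk] at hcj
    rcases hcj with h3 | h3
    · left; rw [h3, mul_inv_cancel_right]
    · right
      rw [h3, hinv j hj]; group
  have hyx : ¬ (y * x * y⁻¹ = x) ∧ ¬ (y * x * y⁻¹ = x⁻¹) := by
    constructor
    · intro h3
      apply hcx
      rw [← map_mul, ← map_mul, mul_inv_eq_iff_eq_mul.mp h3]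
    · intro h3
      apply hcx
      rw [← map_mul, ← map_mul, hk]
      right
      rw [mul_inv_eq_iff_eq_mul.mp h3, hinv x hx, mul_assoc]
  refine KSL.eq_top_of_torus e hζ hζ1 h2 h11 hx (fun y hy => hD y (Or.inl ?_)) (hD j (Or.inr hjx)) hjx hyD
    hyx.1 hyx.2
  rw [hy, mul_inv_cancel_right]

theorem del_conj_eq_top [Fintype F] (h2 : (2 : F) ≠ 0) (h3 : 3 < Fintype.card F) (hx : x * x = ζ)
    (hjx : j * x * j⁻¹ = x⁻¹) : del (MulAut.conj x) = ⊤ := by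
  -- `⟨x⟩` is not normal
  have hx1 : x ≠ 1 := by
    rintro rfl
    rw [one_mul] at hx
    exact hζ1 hx.symm
  have hxζ : x ≠ ζ := by
    intro h0
    rw [h0, hζ] at hx
    exact hζ1 hx.symm
  have hinv : x⁻¹ = ζ * x := inv_eq_of_mul_eq_one_left (by rw [mul_assoc, hx, hζ])
  have hnn : ∃ m : K, m⁻¹ * (x * m * x⁻¹) ≠ 1 ∧ m⁻¹ * (x * m * x⁻¹) ≠ ζ := by
    by_contra h0
    push Not at h0
    have hn : (zpowers x).Normal := by
      have key : ∀ m : K, m⁻¹ * x * m ∈ zpowers x := by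
        intro m
        by_cases h4 : m⁻¹ * (x * m * x⁻¹) = 1
        · have h5 : m⁻¹ * x * m = x := by
            calc m⁻¹ * x * m = m⁻¹ * (x * m * x⁻¹) * x := by group
              _ = x := by rw [h4, one_mul]
          rw [h5]; exact mem_zpowers x
        · have h5 : m⁻¹ * x * m = ζ * x := by
            calc m⁻¹ * x * m = m⁻¹ * (x * m * x⁻¹) * x := by group
              _ = ζ * x := by rw [h0 m h4]
          rw [h5, ← hinv]
          exact inv_mem (mem_zpowers x)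
      refine ⟨fun n hn g => ?_⟩
      obtain ⟨i, rfl⟩ := mem_zpowers_iff.mp hn
      rw [← conj_zpow]
      apply zpow_mem
      have := key g⁻¹
      rwa [inv_inv] at this
    have h4 := eq_top_of_notMem e hζ hζ1 h2 h3 hn (mem_zpowers x) hx1 hxζ
    have h5 : j ∈ zpowers x := by rw [h4]; trivial
    obtain ⟨i, hi⟩ := mem_zpowers_iff.mp h5
    have h6 : j * x = x * j := by
      rw [← hi]
      exact ((Commute.refl x).zpow_left i)
    rw [h6, mul_inv_cancel_right] at hjx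
    have h7 : x * x = 1 := by nth_rewrite 2 [hjx]; exact mul_inv_cancel x
    rw [hx] at h7
    exact hζ1 h7
  obtain ⟨m, hm1, hm2⟩ := hnn
  exact eq_top_of_notMem e hζ hζ1 h2 h3 (del_normal _) (mem_del (MulAut.conj x) m) hm1 hm2

end sl

section X

variable {X : Type*} [Group X] {K₁ K₂ : Subgroup X}

/-- `b` swaps `K₁` and `K₂`. -/
def Sw (K₁ K₂ : Subgroup X) (b : X) : Prop := (∀ x ∈ K₁, b * x * b⁻¹ ∈ K₂) ∧ ∀ x ∈ K₂, b * x * b⁻¹ ∈ K₁

/-- `l ↦ l * l ^ b` -/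
def diag (comm : ∀ x ∈ K₁, ∀ y ∈ K₂, x * y = y * x) {b : X} (hs : Sw K₁ K₂ b) : K₁ →* X where
  toFun l := l * (b * l * b⁻¹)
  map_one' := by rw [Subgroup.coe_one]; group
  map_mul' l m := by
    have h := comm m m.2 _ (hs.1 l l.2)
    calc ((l * m : K₁) : X) * (b * ((l * m : K₁) : X) * b⁻¹) = l * (m * (b * l * b⁻¹)) * (b * m * b⁻¹) := by
          rw [Subgroup.coe_mul]; group
      _ = l * ((b * l * b⁻¹) * m) * (b * m * b⁻¹) := by rw [h]
      _ = _ := by group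

variable (comm : ∀ x ∈ K₁, ∀ y ∈ K₂, x * y = y * x) {b : X} (hs : Sw K₁ K₂ b)

include comm

theorem diag_apply (l : K₁) : diag comm hs l = l * (b * l * b⁻¹) := rfl

include hs in
theorem diag_comm (hb : b * b = 1) (l : X) (hl : l ∈ K₁) :
    (l * (b * l * b⁻¹)) * b = b * (l * (b * l * b⁻¹)) := by
  have hb' : b⁻¹ = b := inv_eq_of_mul_eq_one_left hb
  have h := comm l hl _ (hs.1 l hl)
  have e1 : l * (b * l * b⁻¹) * b = l * (b * l) := by group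
  rw [e1, h]
  calc l * (b * l) = l * (b⁻¹ * l) := by rw [hb']
    _ = (b * b) * (l * (b⁻¹ * l)) := by rw [hb, one_mul]
    _ = b * (b * l * b⁻¹ * l) := by group

omit comm in
include hs in
/-- If `D` contains the diagonals of `b` and `b'` and the `l⁻¹ α(l)`, `α = b⁻¹ b'`, generate `K₁`: `K₁, K₂ ≤ D`. -/
theorem le_of_diag (hb : b * b = 1) {b' : X} {D : Subgroup X}
    (hD : ∀ l ∈ K₁, l * (b * l * b⁻¹) ∈ D) (hD' : ∀ l ∈ K₁, l * (b' * l * b'⁻¹) ∈ D)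
    {α : MulAut K₁} (hα : ∀ l : K₁, ((α l : K₁) : X) = (b⁻¹ * b') * l * (b⁻¹ * b')⁻¹) (htop : del α = ⊤) :
    K₁ ≤ D ∧ K₂ ≤ D := by
  -- the `m ∈ K₁` with `m ^ b ∈ D`
  let N : Subgroup K₁ :=
    { carrier := {m | b * (m : X) * b⁻¹ ∈ D}
      mul_mem' := by
        intro m n hm hn
        have : b * ((m * n : K₁) : X) * b⁻¹ = (b * m * b⁻¹) * (b * n * b⁻¹) := by
          rw [Subgroup.coe_mul]; group
        change b * ((m * n : K₁) : X) * b⁻¹ ∈ D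
        rw [this]
        exact mul_mem hm hn
      one_mem' := by
        change b * ((1 : K₁) : X) * b⁻¹ ∈ D
        rw [Subgroup.coe_one, mul_one, mul_inv_cancel]
        exact one_mem _
      inv_mem' := by
        intro m hm
        change b * ((m⁻¹ : K₁) : X) * b⁻¹ ∈ D
        have : b * ((m⁻¹ : K₁) : X) * b⁻¹ = (b * m * b⁻¹)⁻¹ := by
          rw [Subgroup.coe_inv]; group
        rw [this]
        exact inv_mem hm }
  have hle : del α ≤ N := by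
    rw [del, closure_le]
    rintro _ ⟨m, rfl⟩
    change b * ((m⁻¹ * α m : K₁) : X) * b⁻¹ ∈ D
    have h1 := mul_mem (inv_mem (hD m m.2)) (hD' m m.2)
    have h3 : ((m : X) * (b * m * b⁻¹))⁻¹ * (m * (b' * m * b'⁻¹)) = b * ((m⁻¹ * α m : K₁) : X) * b⁻¹ := by
      rw [Subgroup.coe_mul, hα, Subgroup.coe_inv]; group
    rwa [h3] at h1
  have hN : ∀ m ∈ K₁, b * m * b⁻¹ ∈ D := by
    intro m hm
    have h3 : (⟨m, hm⟩ : K₁) ∈ N := hle (by rw [htop]; trivial)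
    exact h3
  constructor
  · intro m hm
    have h3 := mul_mem (hD m hm) (inv_mem (hN m hm))
    rwa [mul_inv_cancel_right] at h3
  · intro y hy
    have hb' : b⁻¹ = b := inv_eq_of_mul_eq_one_left hb
    have h3 := hN _ (hs.2 y hy)
    have h4 : b * (b * y * b⁻¹) * b⁻¹ = y := by
      rw [hb']
      calc b * (b * y * b) * b = (b * b) * y * (b * b) := by group
        _ = y := by rw [hb, one_mul, mul_one]
    rwa [h4] at h3

end X

section main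

variable {G X : Type*} [Group G] [Finite G] [Group X] {z : G} {F : Type*} [Field F]
  {p : ↥(centralizer ({z} : Set G)) →* X} {K₁ K₂ : Subgroup X} {E H : Subgroup G}

/-- Lifting an element commuting with the images of two commuting involutions. -/
theorem exists_lift_two (h : Quo z p) {a b : G} (ha : a ∈ centralizer ({z} : Set G))
    (hb : b ∈ centralizer ({z} : Set G)) (haa : a * a = 1) (hbb : b * b = 1) (hab : a * b = b * a) {y : X}
    (hya : y * p ⟨a, ha⟩ = p ⟨a, ha⟩ * y) (hyb : y * p ⟨b, hb⟩ = p ⟨b, hb⟩ * y) :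
    ∃ (x : G) (hx : x ∈ centralizer ({z} : Set G)), x * a = a * x ∧ x * b = b * x ∧ p ⟨x, hx⟩ = y := by
  have : Fact (Nat.Prime 2) := ⟨Nat.prime_two⟩
  obtain ⟨y₀, rfl⟩ := h.surj y
  set a' : ↥(centralizer ({z} : Set G)) := ⟨a, ha⟩ with ha'
  set b' : ↥(centralizer ({z} : Set G)) := ⟨b, hb⟩ with hb'
  have haa' : a' * a' = 1 := Subtype.ext haa
  have hbb' : b' * b' = 1 := Subtype.ext hbb
  have hab' : a' * b' = b' * a' := Subtype.ext hab
  set P : Subgroup ↥(centralizer ({z} : Set G)) := closure {a', b'} with hP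
  have hcen : ∀ c : ↥(centralizer ({z} : Set G)), c * a' = a' * c → c * b' = b' * c → ∀ x ∈ P, c * x = x * c := by
    intro c hca hcb x hx
    have hle : P ≤ centralizer ({c} : Set _) := by
      rw [hP, closure_le]
      rintro x (rfl | hx)
      · exact mem_centralizer_singleton_iff.mpr hca.symm
      · rw [Set.mem_singleton_iff.mp hx]
        exact mem_centralizer_singleton_iff.mpr hcb.symm
    exact (mem_centralizer_singleton_iff.mp (hle hx)).symm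
  have hsq : ∀ x ∈ P, x * x = 1 := by
    intro x hx
    induction hx using closure_induction with
    | mem x hx =>
      rcases hx with rfl | hx
      · exact haa'
      · rw [Set.mem_singleton_iff.mp hx]; exact hbb'
    | one => exact one_mul 1
    | mul x y hx hy hxx hyy =>
      have h3 : x * y = y * x :=
        hcen x (hcen a' rfl hab' x hx).symm (hcen b' hab'.symm rfl x hx).symm y hy
      calc x * y * (x * y) = x * (y * x) * y := by group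
        _ = (x * x) * (y * y) := by rw [← h3]; group
        _ = 1 := by rw [hxx, hyy, one_mul]
    | inv x _ hxx =>
      rw [← mul_inv_rev, hxx, inv_one]
  have hPg : IsPGroup 2 P := fun x => ⟨1, Subtype.ext (by
    rw [pow_one, pow_two]; exact hsq x x.2)⟩
  have hodd := ker_odd h
  obtain ⟨g, hg, hgc⟩ := Cfsg.Agent.SignalizersComponents.CoreOfCentralizer.exists_centralizing_of_quotient P hPg
    p.ker (fun h => (Nat.not_even_iff_odd.mpr hodd) (even_iff_two_dvd.mpr h)) (QuotientGroup.mk' p.ker y₀) (by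
      intro c hc
      rw [← map_mul, ← map_mul]
      refine (QuotientGroup.eq).mpr ?_
      rw [MonoidHom.mem_ker, map_mul, map_inv, map_mul, map_mul]
      have h3 : p y₀ * p c = p c * p y₀ := by
        have hle : P ≤ (centralizer ({p y₀} : Set X)).comap p := by
          rw [hP, closure_le]
          rintro x (rfl | hx)
          · exact mem_centralizer_singleton_iff.mpr hya.symm
          · rw [Set.mem_singleton_iff.mp hx]
            exact mem_centralizer_singleton_iff.mpr hyb.symm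
        exact (mem_centralizer_singleton_iff.mp (hle hc)).symm
      rw [h3, inv_mul_cancel])
  refine ⟨g, g.2, ?_, ?_, ?_⟩
  · exact (congrArg Subtype.val (hg a' (subset_closure (Or.inl rfl)))).symm
  · exact (congrArg Subtype.val (hg b' (subset_closure (Or.inr rfl)))).symm
  · have h1 : g⁻¹ * y₀ ∈ p.ker := (QuotientGroup.eq).mp hgc
    rw [MonoidHom.mem_ker, map_mul, map_inv, inv_mul_eq_one] at h1
    exact h1

/-- A strict inclusion doubles the order. -/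
theorem two_mul_card_le {A B : Subgroup G} (h : A ≤ B) {x : G} (hx : x ∈ B) (hxA : x ∉ A) :
    2 * Nat.card A ≤ Nat.card B := by
  obtain ⟨k, hk⟩ := card_dvd_of_le h
  have hk1 : k ≠ 1 := by
    rintro rfl
    rw [mul_one] at hk
    exact hxA ((Subgroup.eq_of_le_of_card_ge h hk.le) ▸ hx)
  have hk0 : k ≠ 0 := by
    rintro rfl
    rw [mul_zero] at hk
    exact Nat.card_pos.ne' hk
  rw [hk, mul_comm 2]
  exact Nat.mul_le_mul_left _ (by omega)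

section orb

variable (o : Orb z E H)

include o

theorem zv_notMem {v : G} (hv1 : v ≠ 1) (hvz : v ≠ z) : v ∉ zpowers z := by
  intro h0
  obtain ⟨i, hi⟩ := mem_zpowers_iff.mp h0
  have hz2 : z ^ (2 : ℤ) = 1 := by rw [zpow_two]; exact o.sq o.z_memE
  rcases Int.even_or_odd' i with ⟨k, rfl | rfl⟩
  · rw [zpow_mul, hz2, one_zpow] at hi
    exact hv1 hi.symm
  · rw [zpow_add, zpow_mul, hz2, one_zpow, one_mul, zpow_one] at hi
    exact hvz hi.symm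

theorem card_zv {v : G} (hv1 : v ≠ 1) (hvz : v ≠ z) : 4 ≤ Nat.card (closure {z, v} : Subgroup G) := by
  have hle : zpowers z ≤ closure {z, v} := by
    rw [zpowers_le]; exact subset_closure (Or.inl rfl)
  have h1 := two_mul_card_le hle (subset_closure (Or.inr rfl) : v ∈ closure {z, v}) (zv_notMem o hv1 hvz)
  rwa [Nat.card_zpowers, orderOf_eq_prime (p := 2) (by rw [pow_two]; exact o.sq o.z_memE) o.z_ne] at h1

omit [Finite G] in
theorem zv_le {v : G} (hv : v ∈ H) : closure {z, v} ≤ H := by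
  rw [closure_le]
  rintro x (rfl | hx)
  · exact o.z_mem
  · rw [Set.mem_singleton_iff.mp hx]; exact hv

theorem card_zvb {v b : G} (hv : v ∈ H) (hv1 : v ≠ 1) (hvz : v ≠ z) (hb : b ∉ H) :
    8 ≤ Nat.card (closure {z, v, b} : Subgroup G) := by
  have hle : (closure {z, v} : Subgroup G) ≤ closure {z, v, b} := by
    apply Subgroup.closure_mono
    rintro x (rfl | hx)
    · exact Or.inl rfl
    · exact Or.inr (Or.inl (Set.mem_singleton_iff.mp hx))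
  have h1 := two_mul_card_le hle (subset_closure (Or.inr (Or.inr rfl)) : b ∈ closure {z, v, b})
    (fun h0 => hb (zv_le o hv h0))
  have h3 := card_zv o hv1 hvz
  omega

omit [Finite G] in
theorem card_zb_le {b : G} (hb : b ∈ E) : closure {z, b} ≤ E := by
  rw [closure_le]
  rintro x (rfl | hx)
  · exact o.z_memE
  · rw [Set.mem_singleton_iff.mp hx]; exact hb

end orb

omit [Finite G] in
theorem mem_of_comm {s : Set G} {x : G} {M : Subgroup G} (hM : normalizer ((closure s : Subgroup G) : Set G) ≤ M)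
    (hx : ∀ y ∈ s, x * y = y * x) : x ∈ M := by
  apply hM
  apply centralizer_le_normalizer
  rw [centralizer_closure, mem_centralizer_iff]
  exact fun y hy => (hx y hy).symm

end main

end Cfsg.Agent.LFourB.KClose

namespace Cfsg.Agent.LFourB.KLoc.Loc

open Subgroup Cfsg
open Cfsg.Agent.LFourA.CzCt Cfsg.Agent.LFourA.KlQuot Cfsg.Agent.LFourA.KlSl
open Cfsg.Agent.Lib.SymFrame
open Cfsg.Agent.LFourB.KForm Cfsg.Agent.LFourB.KLoc Cfsg.Agent.LFourB.KClose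

section main

variable {G X : Type*} [Group G] [Finite G] [Group X] {z : G} {F : Type*} [Field F]
  {p : ↥(centralizer ({z} : Set G)) →* X} {K₁ K₂ : Subgroup X} {E H : Subgroup G}

variable (h : Loc z F p K₁ K₂ E H) (o : Orb z E H)

include h o

omit [Finite G] o in
theorem sw {b : G} (hb : b ∈ E) (hbH : b ∉ H) : Sw K₁ K₂ (p ⟨b, h.le hb⟩) := h.swap b hb hbH (h.le hb)

/-- `p v = δ(x₁)` or `δ(x₁) ζ` for `v` inner, `b` a swap. -/
theorem inner_eq (h2 : (2 : F) ≠ 0) {v b : G} (hv : v ∈ H) (hb : b ∈ E) (hbH : b ∉ H) {x₁ x₂ : X} (hx₁ : x₁ ∈ K₁)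
    (hx₂ : x₂ ∈ K₂) (hpv : p ⟨v, h.le (o.le hv)⟩ = x₁ * x₂) :
    p ⟨v, h.le (o.le hv)⟩ = x₁ * (p ⟨b, h.le hb⟩ * x₁ * (p ⟨b, h.le hb⟩)⁻¹) ∨
      p ⟨v, h.le (o.le hv)⟩ = x₁ * (p ⟨b, h.le hb⟩ * x₁ * (p ⟨b, h.le hb⟩)⁻¹) * p (self z) := by
  set β := p ⟨b, h.le hb⟩ with hβ
  have hs := h.sw hb hbH
  rw [← hβ] at hs
  have hcomm : β * (x₁ * x₂) * β⁻¹ = x₁ * x₂ := by
    rw [← hpv, hβ, ← map_mul, ← map_inv, ← map_mul]
    congr 1
    apply Subtype.ext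
    change b * v * b⁻¹ = v
    rw [o.comm hb (o.le hv), mul_inv_cancel_right]
  set c := x₂⁻¹ * (β * x₁ * β⁻¹) with hc
  have hc2 : c ∈ K₂ := mul_mem (inv_mem hx₂) (hs.1 x₁ hx₁)
  have hprod : (β * x₁ * β⁻¹) * (β * x₂ * β⁻¹) = x₁ * x₂ := by rw [← hcomm]; group
  have hx₂' : β * x₂ * β⁻¹ ∈ K₁ := hs.2 x₂ hx₂
  have hc1' : c = x₁ * (β * x₂ * β⁻¹)⁻¹ := by
    have h3 : β * x₁ * β⁻¹ = x₁ * x₂ * (β * x₂ * β⁻¹)⁻¹ := by rw [← hprod, mul_inv_cancel_right]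
    have h4 : x₂ * (β * x₂ * β⁻¹)⁻¹ = (β * x₂ * β⁻¹)⁻¹ * x₂ := (h.comm _ (inv_mem hx₂') x₂ hx₂).symm
    have h5 : x₁ * x₂ = x₂ * x₁ := h.comm x₁ hx₁ x₂ hx₂
    rw [hc, h3, h5, inv_mul_eq_iff_eq_mul, mul_assoc]
  have hc1 : c ∈ K₁ := by
    rw [hc1']
    exact mul_mem hx₁ (inv_mem hx₂')
  have hzz := zz (p := p) o
  rcases h.inf o h2 hc1 hc2 with h3 | h3
  · left
    rw [hpv]
    rw [hc, inv_mul_eq_one] at h3
    rw [← h3]
  · right
    rw [hpv]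
    rw [hc, inv_mul_eq_iff_eq_mul] at h3
    rw [h3, mul_assoc, mul_assoc, hzz, mul_one]

/-- The elements of `K₁` normalising `⟨x₁⟩` have a diagonal commuting with `v`. -/
theorem diag_comm_inner (h2 : (2 : F) ≠ 0) {v b : G} (hv : v ∈ H) (hb : b ∈ E) (hbH : b ∉ H) {x₁ x₂ : X}
    (hx₁ : x₁ ∈ K₁) (hx₂ : x₂ ∈ K₂) (hxx₁ : x₁ * x₁ = p (self z)) (hpv : p ⟨v, h.le (o.le hv)⟩ = x₁ * x₂) {l : X}
    (hl : l ∈ K₁) (hlx : l * x₁ * l⁻¹ = x₁ ∨ l * x₁ * l⁻¹ = x₁⁻¹) :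
    (l * (p ⟨b, h.le hb⟩ * l * (p ⟨b, h.le hb⟩)⁻¹)) * p ⟨v, h.le (o.le hv)⟩ =
      p ⟨v, h.le (o.le hv)⟩ * (l * (p ⟨b, h.le hb⟩ * l * (p ⟨b, h.le hb⟩)⁻¹)) := by
  have hs := h.sw hb hbH
  have hcz := h.self_central
  have hzz := zz (p := p) o
  let δ := diag h.comm hs
  have hδ : ∀ l : K₁, δ l = l * (p ⟨b, h.le hb⟩ * l * (p ⟨b, h.le hb⟩)⁻¹) := fun l => rfl
  have hcomm : δ ⟨l, hl⟩ * δ ⟨x₁, hx₁⟩ = δ ⟨x₁, hx₁⟩ * δ ⟨l, hl⟩ := by
    have h3 : δ ⟨l, hl⟩ * δ ⟨x₁, hx₁⟩ * (δ ⟨l, hl⟩)⁻¹ = δ (⟨l, hl⟩ * ⟨x₁, hx₁⟩ * ⟨l, hl⟩⁻¹) := by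
      rw [map_mul, map_mul, map_inv]
    have h4 : δ (⟨l, hl⟩ * ⟨x₁, hx₁⟩ * ⟨l, hl⟩⁻¹) = δ ⟨x₁, hx₁⟩ := by
      rcases hlx with h5 | h5
      · congr 1
        exact Subtype.ext h5
      · have h6 : (⟨l, hl⟩ * ⟨x₁, hx₁⟩ * ⟨l, hl⟩⁻¹ : K₁) = ⟨x₁, hx₁⟩⁻¹ := Subtype.ext h5
        rw [h6, map_inv]
        apply inv_eq_of_mul_eq_one_left
        rw [← map_mul, hδ]
        change (x₁ * x₁) * (p ⟨b, h.le hb⟩ * (x₁ * x₁) * (p ⟨b, h.le hb⟩)⁻¹) = 1
        rw [hxx₁, hcz, mul_inv_cancel_right, hzz]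
    rw [h4] at h3
    exact mul_inv_eq_iff_eq_mul.mp h3
  rw [hδ, hδ] at hcomm
  rcases h.inner_eq o h2 hv hb hbH hx₁ hx₂ hpv with h3 | h3
  · rw [h3]
    exact hcomm
  · rw [h3]
    rw [← mul_assoc, hcomm, mul_assoc (_ * _) _ (p (self z)), hcz (l * _), ← mul_assoc]

variable [Fintype F]

/-- **Two-balance, `|F| ≥ 11`**: the diagonals lie in the image of `M`. -/
theorem diag_mem_two (h2 : (2 : F) ≠ 0) (h11 : 11 ≤ Fintype.card F) {M : Subgroup G} {b : G} (hb : b ∈ E)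
    (hbH : b ∉ H)
    (hM : ∀ v ∈ H, v ≠ 1 → v ≠ z → ∀ x, x * z = z * x → x * v = v * x → x * b = b * x → x ∈ M) :
    ∀ l ∈ K₁, l * (p ⟨b, h.le hb⟩ * l * (p ⟨b, h.le hb⟩)⁻¹) ∈ dn p M := by
  obtain ⟨v, hv, hv1, hvz⟩ := o.exists_inner
  have hvE := o.le hv
  obtain ⟨w, hw, hzw, hvw⟩ := o.exists_perp o.z_memE o.z_ne hvE hv1 (Ne.symm hvz)
  have hw1 : w ≠ 1 := by
    rintro rfl
    exact hvw (by rw [o.B_perp hvE hv1]; exact o.perp_one hvE hv1)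
  have hwH : w ∈ H := by rwa [o.B_perp o.z_memE o.z_ne, o.perp_z] at hzw
  have hwz : w ≠ z := by
    rintro rfl
    apply hvw
    rw [o.B_symm hvE o.z_memE, o.B_perp o.z_memE o.z_ne, o.perp_z]
    exact hv
  obtain ⟨e₁⟩ := h.e₁
  obtain ⟨x₁, hx₁, x₂, hx₂, hxx₁, hxx₂, hpv⟩ := h.inner v hv hv1 hvz (h.le hvE)
  obtain ⟨y₁, hy₁, y₂, hy₂, hyy₁, hyy₂, hpw⟩ := h.inner w hwH hw1 hwz (h.le hw)
  obtain ⟨hi₁, -⟩ := h.inner_inverts o h2 hv hv1 hwH hvw hx₁ hx₂ hy₁ hy₂ hxx₁ hxx₂ hyy₁ hyy₂ hpv hpw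
  have hs := h.sw hb hbH
  have hbb := h.p_sq o hb
  have key : ∀ (v : G) (hv : v ∈ H), v ≠ 1 → v ≠ z → ∀ x₁ ∈ K₁, ∀ x₂ ∈ K₂, x₁ * x₁ = p (self z) →
      p ⟨v, h.le (o.le hv)⟩ = x₁ * x₂ → ∀ l ∈ K₁, (l * x₁ * l⁻¹ = x₁ ∨ l * x₁ * l⁻¹ = x₁⁻¹) →
      l * (p ⟨b, h.le hb⟩ * l * (p ⟨b, h.le hb⟩)⁻¹) ∈ dn p M := by
    intro v hv hv1 hvz x₁ hx₁ x₂ hx₂ hxx₁ hpv l hl hlx
    have h3 := h.diag_comm_inner o h2 hv hb hbH hx₁ hx₂ hxx₁ hpv hl hlx
    have h4 := diag_comm h.comm hs hbb l hl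
    obtain ⟨x, hx, hxv, hxb, hpx⟩ := exists_lift_two h.quo (h.le (o.le hv)) (h.le hb) (o.sq (o.le hv)) (o.sq hb)
      (o.comm (o.le hv) hb) h3 h4
    exact mem_dn.2 ⟨x, hx, hM v hv hv1 hvz x (mem_cent.1 hx) hxv hxb, hpx⟩
  have hζζ : (⟨p (self z), h.z₁⟩ : K₁) * ⟨p (self z), h.z₁⟩ = 1 := Subtype.ext (zz o)
  have hζ1 : (⟨p (self z), h.z₁⟩ : K₁) ≠ 1 := fun h0 => h.z_ne o (congrArg Subtype.val h0)
  have htop : (dn p M).comap (diag h.comm hs) = ⊤ := by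
    refine eq_top_of_two e₁ hζζ hζ1 (x := ⟨x₁, hx₁⟩) (j := ⟨y₁, hy₁⟩) h2 h11 (Subtype.ext hxx₁) (Subtype.ext hyy₁)
      (Subtype.ext hi₁) ?_ ?_
    · intro y hy
      rw [mem_comap]
      refine key v hv hv1 hvz x₁ hx₁ x₂ hx₂ hxx₁ hpv y y.2 ?_
      rcases hy with h3 | h3
      · exact Or.inl (congrArg Subtype.val h3)
      · exact Or.inr (congrArg Subtype.val h3)
    · intro y hy
      rw [mem_comap]
      refine key w hwH hw1 hwz y₁ hy₁ y₂ hy₂ hyy₁ hpw y y.2 ?_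
      rcases hy with h3 | h3
      · exact Or.inl (congrArg Subtype.val h3)
      · exact Or.inr (congrArg Subtype.val h3)
  intro l hl
  have h3 : (⟨l, hl⟩ : K₁) ∈ (dn p M).comap (diag h.comm hs) := by rw [htop]; trivial
  exact h3

omit [Fintype F] in
/-- **One-balance**: the diagonals lie in the image of `M`. -/
theorem diag_mem_one {M : Subgroup G} {b : G} (hb : b ∈ E) (hbH : b ∉ H)
    (hM : ∀ x, x * z = z * x → x * b = b * x → x ∈ M) :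
    ∀ l ∈ K₁, l * (p ⟨b, h.le hb⟩ * l * (p ⟨b, h.le hb⟩)⁻¹) ∈ dn p M := by
  intro l hl
  exact mem_dn_of_comm h.quo (h.le hb) (o.sq hb) hM
    (diag_comm h.comm (h.sw hb hbH) (h.p_sq o hb) l hl)

/-- **`K₁`, `K₂` lie in the image of `M`**, `|F| > 3`. -/
theorem le_dn (h2 : (2 : F) ≠ 0) (h3 : 3 < Fintype.card F) {M : Subgroup G}
    (hM : ∀ b (hb : b ∈ E), b ∉ H → ∀ l ∈ K₁, l * (p ⟨b, h.le hb⟩ * l * (p ⟨b, h.le hb⟩)⁻¹) ∈ dn p M) :
    K₁ ≤ dn p M ∧ K₂ ≤ dn p M := by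
  obtain ⟨v, hv, hv1, hvz⟩ := o.exists_inner
  have hvE := o.le hv
  obtain ⟨w, hw, hzw, hvw⟩ := o.exists_perp o.z_memE o.z_ne hvE hv1 (Ne.symm hvz)
  have hw1 : w ≠ 1 := by
    rintro rfl
    exact hvw (by rw [o.B_perp hvE hv1]; exact o.perp_one hvE hv1)
  have hwH : w ∈ H := by rwa [o.B_perp o.z_memE o.z_ne, o.perp_z] at hzw
  have hwz : w ≠ z := by
    rintro rfl
    apply hvw
    rw [o.B_symm hvE o.z_memE, o.B_perp o.z_memE o.z_ne, o.perp_z]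
    exact hv
  obtain ⟨b, hb, hbH⟩ : ∃ b ∈ E, b ∉ H := by
    by_contra h0
    push Not at h0
    have h4 := card_le_of_le (show E ≤ H from h0)
    rw [o.card, o.cardH] at h4
    omega
  obtain ⟨e₁⟩ := h.e₁
  obtain ⟨x₁, hx₁, x₂, hx₂, hxx₁, hxx₂, hpv⟩ := h.inner v hv hv1 hvz (h.le hvE)
  obtain ⟨y₁, hy₁, y₂, hy₂, hyy₁, hyy₂, hpw⟩ := h.inner w hwH hw1 hwz (h.le hw)
  obtain ⟨hi₁, -⟩ := h.inner_inverts o h2 hv hv1 hwH hvw hx₁ hx₂ hy₁ hy₂ hxx₁ hxx₂ hyy₁ hyy₂ hpv hpw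
  have hbv : b * v ∈ E := mul_mem hb hvE
  have hbvH : b * v ∉ H := fun h0 => hbH (by
    have := mul_mem h0 (inv_mem hv)
    rwa [mul_inv_cancel_right] at this)
  have hs := h.sw hb hbH
  have hbb := h.p_sq o hb
  have hζζ : (⟨p (self z), h.z₁⟩ : K₁) * ⟨p (self z), h.z₁⟩ = 1 := Subtype.ext (zz o)
  have hζ1 : (⟨p (self z), h.z₁⟩ : K₁) ≠ 1 := fun h0 => h.z_ne o (congrArg Subtype.val h0)
  refine le_of_diag hs hbb (hM b hb hbH) (hM (b * v) hbv hbvH)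
    (α := MulAut.conj (⟨x₁, hx₁⟩ : K₁)) ?_
    (del_conj_eq_top e₁ hζζ hζ1 (x := ⟨x₁, hx₁⟩) (j := ⟨y₁, hy₁⟩) h2 h3 (Subtype.ext hxx₁) (Subtype.ext hi₁))
  intro l
  change x₁ * (l : X) * x₁⁻¹ = _
  have e1 : p ⟨b * v, h.le hbv⟩ = p ⟨b, h.le hb⟩ * (x₁ * x₂) := by
    rw [← hpv, ← map_mul]; rfl
  rw [e1, inv_mul_cancel_left]
  have h4 : x₂ * l = l * x₂ := (h.comm l l.2 x₂ hx₂).symm
  calc x₁ * (l : X) * x₁⁻¹ = x₁ * (l * x₂) * x₂⁻¹ * x₁⁻¹ := by group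
    _ = x₁ * (x₂ * l) * x₂⁻¹ * x₁⁻¹ := by rw [h4]
    _ = _ := by group

/-- **`D = X`** if `D` contains `K₁`, `K₂` and the centraliser of an inner involution. -/
theorem eq_top_of_le (h2 : (2 : F) ≠ 0) {D : Subgroup X} (hK₁ : K₁ ≤ D) (hK₂ : K₂ ≤ D) {x₁ x₂ : X}
    (hx₁ : x₁ ∈ K₁) (hx₂ : x₂ ∈ K₂) (hxx₁ : x₁ * x₁ = p (self z)) (hxx₂ : x₂ * x₂ = p (self z))
    (hD : ∀ y, y * (x₁ * x₂) = (x₁ * x₂) * y → y ∈ D) : D = ⊤ := by
  obtain ⟨e₁⟩ := h.e₁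
  obtain ⟨e₂⟩ := h.e₂
  have hcz := h.self_central
  have hζζ₁ : (⟨p (self z), h.z₁⟩ : K₁) * ⟨p (self z), h.z₁⟩ = 1 := Subtype.ext (zz o)
  have hζ1₁ : (⟨p (self z), h.z₁⟩ : K₁) ≠ 1 := fun h0 => h.z_ne o (congrArg Subtype.val h0)
  have hζζ₂ : (⟨p (self z), h.z₂⟩ : K₂) * ⟨p (self z), h.z₂⟩ = 1 := Subtype.ext (zz o)
  have hζ1₂ : (⟨p (self z), h.z₂⟩ : K₂) ≠ 1 := fun h0 => h.z_ne o (congrArg Subtype.val h0)
  rw [eq_top_iff]
  intro g _
  have hsq : ∀ x : X, x * x = p (self z) → (g * x * g⁻¹) * (g * x * g⁻¹) = p (self z) := by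
    intro x hx
    calc (g * x * g⁻¹) * (g * x * g⁻¹) = g * (x * x) * g⁻¹ := by group
      _ = p (self z) := by rw [hx, hcz g, mul_inv_cancel_right]
  -- `g x₁ x₂ g⁻¹ = u₁ u₂`
  have hu : ∃ u₁ ∈ K₁, ∃ u₂ ∈ K₂, u₁ * u₁ = p (self z) ∧ u₂ * u₂ = p (self z) ∧
      g * (x₁ * x₂) * g⁻¹ = u₁ * u₂ := by
    have h4 : g * (x₁ * x₂) * g⁻¹ = (g * x₁ * g⁻¹) * (g * x₂ * g⁻¹) := by group
    rcases h.norm g with h3 | h3
    · exact ⟨_, h3.1 x₁ hx₁, _, h3.2 x₂ hx₂, hsq x₁ hxx₁, hsq x₂ hxx₂, h4⟩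
    · refine ⟨_, h3.2 x₂ hx₂, _, h3.1 x₁ hx₁, hsq x₂ hxx₂, hsq x₁ hxx₁, ?_⟩
      rw [h4]
      exact (h.comm _ (h3.2 x₂ hx₂) _ (h3.1 x₁ hx₁)).symm
  obtain ⟨u₁, hu₁, u₂, hu₂, huu₁, huu₂, hgu⟩ := hu
  obtain ⟨k₁, hk₁⟩ := exists_conj e₁ hζζ₁ hζ1₁ h2 (x := ⟨x₁, hx₁⟩) (y := ⟨u₁, hu₁⟩) (Subtype.ext hxx₁)
    (Subtype.ext huu₁)
  obtain ⟨k₂, hk₂⟩ := exists_conj e₂ hζζ₂ hζ1₂ h2 (x := ⟨x₂, hx₂⟩) (y := ⟨u₂, hu₂⟩) (Subtype.ext hxx₂)
    (Subtype.ext huu₂)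
  have hk₁' : (k₁ : X) * x₁ * (k₁ : X)⁻¹ = u₁ := congrArg Subtype.val hk₁
  have hk₂' : (k₂ : X) * x₂ * (k₂ : X)⁻¹ = u₂ := congrArg Subtype.val hk₂
  set k : X := k₁ * k₂ with hk
  have hkD : k ∈ D := mul_mem (hK₁ k₁.2) (hK₂ k₂.2)
  have hkx : k * (x₁ * x₂) * k⁻¹ = u₁ * u₂ := by
    have h3 : (k₂ : X) * x₁ = x₁ * k₂ := (h.comm x₁ hx₁ k₂ k₂.2).symm
    have h4 : (k₁ : X)⁻¹ * (k₂ * x₂ * (k₂ : X)⁻¹) = (k₂ * x₂ * (k₂ : X)⁻¹) * (k₁ : X)⁻¹ :=
      h.comm _ (inv_mem k₁.2) _ (mul_mem (mul_mem k₂.2 hx₂) (inv_mem k₂.2))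
    calc k * (x₁ * x₂) * k⁻¹ = k₁ * (k₂ * x₁) * x₂ * (k₂ : X)⁻¹ * (k₁ : X)⁻¹ := by rw [hk]; group
      _ = k₁ * x₁ * ((k₂ * x₂ * (k₂ : X)⁻¹) * (k₁ : X)⁻¹) := by rw [h3]; group
      _ = k₁ * x₁ * ((k₁ : X)⁻¹ * (k₂ * x₂ * (k₂ : X)⁻¹)) := by rw [h4]
      _ = (k₁ * x₁ * (k₁ : X)⁻¹) * (k₂ * x₂ * (k₂ : X)⁻¹) := by group
      _ = u₁ * u₂ := by rw [hk₁', hk₂']
  have h5 : (k⁻¹ * g) * (x₁ * x₂) = (x₁ * x₂) * (k⁻¹ * g) := by
    have h6 : k⁻¹ * (u₁ * u₂) * k = x₁ * x₂ := by rw [← hkx]; group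
    calc (k⁻¹ * g) * (x₁ * x₂) = k⁻¹ * (g * (x₁ * x₂) * g⁻¹) * g := by group
      _ = (k⁻¹ * (u₁ * u₂) * k) * (k⁻¹ * g) := by rw [hgu]; group
      _ = _ := by rw [h6]
  have h6 := mul_mem hkD (hD _ h5)
  rwa [mul_inv_cancel_left] at h6

/-- **Closing for `C(z)`.** -/
theorem centralizer_le (h2 : (2 : F) ≠ 0) {M : Subgroup G} (hO : centralizerPPrimeCore 2 z ≤ M)
    (hK : K₁ ≤ dn p M ∧ K₂ ≤ dn p M) {v : G} (hv : v ∈ H) (hv1 : v ≠ 1) (hvz : v ≠ z)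
    (hM : ∀ x, x * z = z * x → x * v = v * x → x ∈ M) : centralizer ({z} : Set G) ≤ M := by
  obtain ⟨x₁, hx₁, x₂, hx₂, hxx₁, hxx₂, hpv⟩ := h.inner v hv hv1 hvz (h.le (o.le hv))
  refine le_of_dn h.quo hO (h.eq_top_of_le o h2 hK.1 hK.2 hx₁ hx₂ hxx₁ hxx₂ ?_)
  intro y hy
  refine mem_dn_of_comm h.quo (h.le (o.le hv)) (o.sq (o.le hv)) hM ?_
  rw [hpv]
  exact hy

/-- **Two-balance, `|F| ≥ 11`**: `C(z) ≤ N(W)` if `C(⟨z, v⟩) ≤ N(W)` for one inner `v`. -/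
theorem centralizer_le_two (h2 : (2 : F) ≠ 0) (h11 : 11 ≤ Fintype.card F) {W : Subgroup G} (hW : Completion E W)
    {v : G} (hv : v ∈ H) (hv1 : v ≠ 1) (hvz : v ≠ z)
    (hM : ∀ x, x * z = z * x → x * v = v * x → x ∈ normalizer (W : Set G)) :
    centralizer ({z} : Set G) ≤ normalizer (W : Set G) := by
  have hO : centralizerPPrimeCore 2 z ≤ normalizer (W : Set G) := by
    refine hW.le_normalizer _ ?_ ?_
    · have h1 := Cfsg.Agent.StandardComponent.CentCore.core_odd (G := G) z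
      exact fun h3 => (Nat.not_even_iff_odd.mpr h1) (even_iff_two_dvd.mpr h3)
    · intro b hb x hx
      exact Cfsg.Agent.StandardComponent.CentCore.core_conj_mem (mem_centralizer_singleton_iff.mp (h.le hb)) hx
  refine h.centralizer_le o h2 hO (h.le_dn o h2 (by omega) ?_) hv hv1 hvz hM
  intro b hb hbH
  refine h.diag_mem_two o h2 h11 hb hbH ?_
  intro v hv hv1 hvz x hxz hxv hxb
  refine mem_of_comm (hW.norm (closure {z, v, b}) ?_ (card_zvb o hv hv1 hvz hbH)) ?_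
  · rw [closure_le]
    rintro y (rfl | rfl | hy)
    · exact o.z_memE
    · exact o.le hv
    · rw [Set.mem_singleton_iff.mp hy]; exact hb
  · rintro y (rfl | rfl | hy)
    · exact hxz
    · exact hxv
    · rw [Set.mem_singleton_iff.mp hy]; exact hxb

/-- **One-balance, `|F| > 3`**: `C(z) ≤ N(W)`. -/
theorem centralizer_le_one (h2 : (2 : F) ≠ 0) (h3 : 3 < Fintype.card F) {W : Subgroup G}
    (hW : CompletionOne E W) : centralizer ({z} : Set G) ≤ normalizer (W : Set G) := by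
  have hO : centralizerPPrimeCore 2 z ≤ normalizer (W : Set G) :=
    (hW.core_le o.z_memE o.z_ne).trans le_normalizer
  obtain ⟨v, hv, hv1, hvz⟩ := o.exists_inner
  have hcom : ∀ b ∈ E, b ≠ 1 → b ≠ z → ∀ x, x * z = z * x → x * b = b * x → x ∈ normalizer (W : Set G) := by
    intro b hb hb1 hbz x hxz hxb
    refine mem_of_comm (hW.norm (closure {z, b}) (card_zb_le o hb) (card_zv o hb1 hbz)) ?_
    rintro y (rfl | hy)
    · exact hxz
    · rw [Set.mem_singleton_iff.mp hy]; exact hxb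
  refine h.centralizer_le o h2 hO (h.le_dn o h2 h3 ?_) hv hv1 hvz (hcom v (o.le hv) hv1 hvz)
  intro b hb hbH
  refine h.diag_mem_one o hb hbH (hcom b hb ?_ ?_)
  · rintro rfl
    exact hbH (one_mem _)
  · rintro rfl
    exact hbH o.z_mem

end main

end Cfsg.Agent.LFourB.KLoc.Loc
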