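import Mathlib
import Cfsg.Agent.LFourB.KClose
import Cfsg.Agent.TwoFusion.SLTwoFacts

/-!
# `W = 1`: the odd core of `C(z)` is abelian, inverted by the swaps and centralised by `K₁ K₂`

Also the closing for `|F| = 3` (two swaps from different `E`'s).
-/

set_option autoImplicit false

namespace Cfsg.Agent.LFourB.KLoc.Loc

open Subgroup Cfsg
open Cfsg.Agent.LFourA.CzCt Cfsg.Agent.LFourA.KlQuot Cfsg.Agent.LFourA.KlSl
open Cfsg.Agent.Lib.SymFrame
open Cfsg.Agent.StandardComponent (CentCore.core_le CentCore.core_odd CentCore.core_conj_mem)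
open Cfsg.Agent.LFourB.KForm Cfsg.Agent.LFourB.KLoc Cfsg.Agent.LFourB.KClose

variable {G X : Type*} [Group G] [Finite G] [Group X] {z : G} {F : Type*} [Field F]
  {p : ↥(centralizer ({z} : Set G)) →* X} {K₁ K₂ : Subgroup X} {E H : Subgroup G}

variable (h : Loc z F p K₁ K₂ E H) (o : Orb z E H)

include h o

/-- **Closing for `|F| = 3`.** -/
theorem centralizer_le_three [Fintype F] (h2 : (2 : F) ≠ 0) (h3 : Fintype.card F = 3) {M : Subgroup G}
    (hO : centralizerPPrimeCore 2 z ≤ M) {a : G} (ha : a ∈ E) (haH : a ∉ H) {b : G}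
    (hb : b ∈ centralizer ({z} : Set G)) (hbb : b * b = 1) (hbs : Sw K₁ K₂ (p ⟨b, hb⟩))
    (hMa : ∀ x, x * z = z * x → x * a = a * x → x ∈ M) (hMb : ∀ x, x * z = z * x → x * b = b * x → x ∈ M)
    {v : G} (hv : v ∈ H) (hv1 : v ≠ 1) (hvz : v ≠ z) (hMv : ∀ x, x * z = z * x → x * v = v * x → x ∈ M)
    {Y j : X} (hY : Y ∈ K₁) (hj : j ∈ K₁) (hYY : Y * Y = p (self z)) (hjj : j * j = p (self z))
    (hjY : j * Y * j⁻¹ = Y⁻¹)
    (hcY : ((p ⟨a, h.le ha⟩)⁻¹ * p ⟨b, hb⟩) * Y * ((p ⟨a, h.le ha⟩)⁻¹ * p ⟨b, hb⟩)⁻¹ = Y)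
    (hcj : ((p ⟨a, h.le ha⟩)⁻¹ * p ⟨b, hb⟩) * j * ((p ⟨a, h.le ha⟩)⁻¹ * p ⟨b, hb⟩)⁻¹ = Y * j) :
    centralizer ({z} : Set G) ≤ M := by
  have hs := h.sw ha haH
  have haa := h.p_sq o ha
  have hainv : (p ⟨a, h.le ha⟩)⁻¹ = p ⟨a, h.le ha⟩ := inv_eq_of_mul_eq_one_left haa
  have hpbb : p ⟨b, hb⟩ * p ⟨b, hb⟩ = 1 := by
    rw [← map_mul, ← map_one p]
    congr 1
    exact Subtype.ext hbb
  have hbinv : (p ⟨b, hb⟩)⁻¹ = p ⟨b, hb⟩ := inv_eq_of_mul_eq_one_left hpbb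
  set γ := (p ⟨a, h.le ha⟩)⁻¹ * p ⟨b, hb⟩ with hγ
  have hγn : ∀ x ∈ K₁, γ * x * γ⁻¹ ∈ K₁ := by
    intro x hx
    have h4 : γ * x * γ⁻¹ = p ⟨a, h.le ha⟩ * (p ⟨b, hb⟩ * x * (p ⟨b, hb⟩)⁻¹) * (p ⟨a, h.le ha⟩)⁻¹ := by
      rw [hγ, mul_inv_rev, inv_inv]
      nth_rewrite 1 [hainv]
      rw [hainv]; group
    rw [h4]
    exact hs.2 _ (hbs.1 x hx)
  have hγn' : ∀ x ∈ K₁, γ⁻¹ * x * γ⁻¹⁻¹ ∈ K₁ := by
    intro x hx
    have h4 : γ⁻¹ * x * γ⁻¹⁻¹ = p ⟨b, hb⟩ * (p ⟨a, h.le ha⟩ * x * (p ⟨a, h.le ha⟩)⁻¹) * (p ⟨b, hb⟩)⁻¹ := by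
      have hγinv : γ⁻¹ = p ⟨b, hb⟩ * p ⟨a, h.le ha⟩ := by rw [hγ, mul_inv_rev, inv_inv, hbinv]
      rw [hγinv]; group
    rw [h4]
    exact hbs.2 _ (hs.1 x hx)
  have hγN : γ ∈ normalizer (K₁ : Set X) := mem_norm₁ hγn hγn'
  obtain ⟨e₁⟩ := h.e₁
  have hζζ : (⟨p (self z), h.z₁⟩ : K₁) * ⟨p (self z), h.z₁⟩ = 1 := Subtype.ext (zz o)
  have hζ1 : (⟨p (self z), h.z₁⟩ : K₁) ≠ 1 := fun h0 => h.z_ne o (congrArg Subtype.val h0)
  have happ : ∀ l : K₁, ((K₁.normalizerMonoidHom ⟨γ, hγN⟩ l : K₁) : X) = γ * l * γ⁻¹ := fun l => rfl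
  have htop : del (K₁.normalizerMonoidHom ⟨γ, hγN⟩) = ⊤ :=
    del_eq_top_three e₁ hζζ hζ1 h2 h3 _ (X := ⟨Y, hY⟩) (j := ⟨j, hj⟩) (Subtype.ext hYY) (Subtype.ext hjj)
      (Subtype.ext hjY) (Subtype.ext (by rw [happ]; exact hcY)) (Subtype.ext (by rw [happ]; exact hcj))
  refine h.centralizer_le o h2 hO (le_of_diag hs haa ?_ ?_ happ htop) hv hv1 hvz hMv
  · exact h.diag_mem_one o ha haH hMa
  · intro l hl
    exact mem_dn_of_comm h.quo hb hbb hMb (diag_comm h.comm hbs hpbb l hl)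

section End

variable [Finite F]

/-- `C(b)` meets `O(C(z))` trivially for a swap `b`, if `W = 1`. -/
theorem fix_eq_one (h2 : (2 : F) ≠ 0) (hW : Completion E (⊥ : Subgroup G)) {b : G} (hb : b ∈ E) (hbH : b ∉ H)
    {x : G} (hx : x ∈ centralizerPPrimeCore 2 z) (hxb : x * b = b * x) : x = 1 := by
  have hb1 : b ≠ 1 := by rintro rfl; exact hbH (one_mem _)
  have hbz : b ≠ z := by rintro rfl; exact hbH o.z_mem
  have hzbE : z * b ∈ E := mul_mem o.z_memE hb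
  have hzb1 : z * b ≠ 1 := by
    intro h0
    apply hbz
    have h1 : z * (z * b) = z := by rw [h0, mul_one]
    rwa [← mul_assoc, o.sq o.z_memE, one_mul] at h1
  have hBzb : Orb.B z E H z b ≠ 0 := o.notMem_iff.mpr hbH
  have hxz : x * z = z * x := mem_centralizer_singleton_iff.mp (CentCore.core_le z hx)
  have h3 : x ∈ centralizerPPrimeCore 2 b :=
    h.bal_all o h2 o.z_memE o.z_ne hb hb1 hBzb (mem_inf.mpr ⟨hx, mem_centralizer_singleton_iff.mpr hxb⟩)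
  have h4 : x ∈ centralizerPPrimeCore 2 (z * b) := by
    refine h.bal_all o h2 o.z_memE o.z_ne hzbE hzb1 ?_ (mem_inf.mpr ⟨hx, mem_centralizer_singleton_iff.mpr ?_⟩)
    · rw [o.B_add_right o.z_memE o.z_memE hb, (o.B_perp o.z_memE o.z_ne).mpr (o.perp_self o.z_memE o.z_ne), zero_add]
      exact hBzb
    · rw [← mul_assoc, hxz, mul_assoc, hxb, mul_assoc]
  have hD : closure {z, b} ≤ E := card_zb_le o hb
  have h5 := hW.inf (closure {z, b}) hD (card_zv o hb1 hbz)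
  have hel : ∀ y ∈ closure ({z, b} : Set G), y = 1 ∨ y = z ∨ y = b ∨ y = z * b := by
    have hc := o.comm o.z_memE hb
    have hz := o.sq o.z_memE
    have hbb := o.sq hb
    let S : Subgroup G :=
      { carrier := {y | y = 1 ∨ y = z ∨ y = b ∨ y = z * b}
        mul_mem' := by
          rintro y w (rfl | rfl | rfl | rfl) (rfl | rfl | rfl | rfl)
          · left; group
          · right; left; group
          · right; right; left; group
          · right; right; right; group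
          · right; left; group
          · left; exact hz
          · right; right; right; rfl
          · right; right; left; rw [← mul_assoc, hz, one_mul]
          · right; right; left; group
          · right; right; right; exact hc.symm
          · left; exact hbb
          · right; left; rw [hc, ← mul_assoc, hbb, one_mul]
          · right; right; right; group
          · right; right; left; rw [hc, mul_assoc, hz, mul_one]
          · right; left; rw [mul_assoc, hbb, mul_one]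
          · left
            calc z * b * (z * b) = z * (b * z) * b := by group
              _ = (z * z) * (b * b) := by rw [← hc]; group
              _ = 1 := by rw [hz, hbb, one_mul]
        one_mem' := Or.inl rfl
        inv_mem' := by
          rintro y (rfl | rfl | rfl | rfl)
          · left; exact inv_one
          · right; left; exact inv_eq_of_mul_eq_one_left hz
          · right; right; left; exact inv_eq_of_mul_eq_one_left hbb
          · right; right; right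
            rw [mul_inv_rev, inv_eq_of_mul_eq_one_left hz, inv_eq_of_mul_eq_one_left hbb, hc] }
    have hle : closure ({z, b} : Set G) ≤ S := by
      rw [closure_le]
      rintro y (rfl | hy)
      · exact Or.inr (Or.inl rfl)
      · rw [Set.mem_singleton_iff.mp hy]; exact Or.inr (Or.inr (Or.inl rfl))
    exact fun y hy => hle hy
  have h6 : x ∈ signalizerDelta 2 (closure ({z, b} : Set G)) := by
    refine mem_iInf.mpr ?_
    rintro ⟨y, hy, hy1⟩
    rcases hel y hy with rfl | rfl | rfl | rfl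
    · exact absurd rfl hy1
    · exact hx
    · exact h3
    · exact h4
  rw [← h5, bot_inf_eq, mem_bot] at h6
  exact h6

/-- A swap inverts `O(C(z))`. -/
theorem inv_core (h2 : (2 : F) ≠ 0) (hW : Completion E (⊥ : Subgroup G)) {b : G} (hb : b ∈ E) (hbH : b ∉ H)
    {x : G} (hx : x ∈ centralizerPPrimeCore 2 z) : b * x * b⁻¹ = x⁻¹ := by
  have hbz : b * z = z * b := o.comm hb o.z_memE
  have hbb := o.sq hb
  have hb' : b⁻¹ = b := inv_eq_of_mul_eq_one_right hbb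
  let φ : centralizerPPrimeCore 2 z →* centralizerPPrimeCore 2 z :=
    { toFun := fun y => ⟨b * y * b⁻¹, CentCore.core_conj_mem hbz y.2⟩
      map_one' := Subtype.ext (by
        change b * ((1 : centralizerPPrimeCore 2 z) : G) * b⁻¹ = 1
        rw [Subgroup.coe_one]; group)
      map_mul' := fun y w => Subtype.ext (by
        change b * ((y * w : centralizerPPrimeCore 2 z) : G) * b⁻¹ = b * y * b⁻¹ * (b * w * b⁻¹)
        rw [Subgroup.coe_mul]; group) }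
  have hφ : MonoidHom.FixedPointFree φ := by
    intro y hy
    have h1 : b * (y : G) * b⁻¹ = y := congrArg Subtype.val hy
    exact Subtype.ext (h.fix_eq_one o h2 hW hb hbH y.2 ((mul_inv_eq_iff_eq_mul.mp h1).symm))
  have hφ2 : Function.Involutive φ := by
    intro y
    apply Subtype.ext
    change b * (b * (y : G) * b⁻¹) * b⁻¹ = y
    rw [hb']
    calc b * (b * (y : G) * b) * b = (b * b) * y * (b * b) := by group
      _ = y := by rw [hbb, one_mul, mul_one]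
  have h1 := congrFun (hφ.coe_eq_inv_of_involutive hφ2) ⟨x, hx⟩
  exact congrArg Subtype.val h1

omit [Finite F] in
theorem exists_swap : ∃ b ∈ E, b ∉ H := by
  have _ := h
  by_contra h0
  push Not at h0
  have h4 := card_le_of_le (show E ≤ H from h0)
  rw [o.card, o.cardH] at h4
  omega

/-- `O(C(z))` is abelian. -/
theorem core_comm (h2 : (2 : F) ≠ 0) (hW : Completion E (⊥ : Subgroup G)) {x y : G}
    (hx : x ∈ centralizerPPrimeCore 2 z) (hy : y ∈ centralizerPPrimeCore 2 z) : x * y = y * x := by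
  obtain ⟨b, hb, hbH⟩ := h.exists_swap o
  have h1 := h.inv_core o h2 hW hb hbH hx
  have h3 := h.inv_core o h2 hW hb hbH hy
  have h4 := h.inv_core o h2 hW hb hbH (mul_mem hx hy)
  have h5 : b * (x * y) * b⁻¹ = (b * x * b⁻¹) * (b * y * b⁻¹) := by group
  rw [h5, h1, h3, mul_inv_rev] at h4
  have h7 := congrArg (·⁻¹) h4
  simp only [mul_inv_rev, inv_inv] at h7
  exact h7.symm

/-- The commutators `[g, b]`, `b` a swap, centralise `O(C(z))`. -/
theorem comm_cent (h2 : (2 : F) ≠ 0) (hW : Completion E (⊥ : Subgroup G)) {b : G} (hb : b ∈ E) (hbH : b ∉ H)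
    {g : G} (hg : g * z = z * g) {x : G} (hx : x ∈ centralizerPPrimeCore 2 z) :
    (g * b * g⁻¹ * b⁻¹) * x = x * (g * b * g⁻¹ * b⁻¹) := by
  have hbb := o.sq hb
  have hb' : b⁻¹ = b := inv_eq_of_mul_eq_one_right hbb
  -- `b⁻¹` inverts `x`, `g⁻¹` moves, `b` inverts, `g` moves back
  have h1 : b⁻¹ * x * b = x⁻¹ := by
    have := h.inv_core o h2 hW hb hbH hx
    rwa [hb'] at this ⊢
  have hg' : g⁻¹ * z = z * g⁻¹ := by
    rw [inv_mul_eq_iff_eq_mul, ← mul_assoc, hg, mul_inv_cancel_right]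
  have h3 : g⁻¹ * x⁻¹ * g ∈ centralizerPPrimeCore 2 z := by
    have := CentCore.core_conj_mem hg' (inv_mem hx)
    rwa [inv_inv] at this
  have h4 := h.inv_core o h2 hW hb hbH h3
  have h5 : (g * b * g⁻¹ * b⁻¹) * x * (g * b * g⁻¹ * b⁻¹)⁻¹ = x := by
    calc (g * b * g⁻¹ * b⁻¹) * x * (g * b * g⁻¹ * b⁻¹)⁻¹
        = g * (b * (g⁻¹ * (b⁻¹ * x * b) * g) * b⁻¹) * g⁻¹ := by group
      _ = g * (b * (g⁻¹ * x⁻¹ * g) * b⁻¹) * g⁻¹ := by rw [h1]
      _ = g * (g⁻¹ * x⁻¹ * g)⁻¹ * g⁻¹ := by rw [h4]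
      _ = x := by group
  exact mul_inv_eq_iff_eq_mul.mp h5

end End

section Cent

variable [Fintype F]

omit [Finite G] [Fintype F] o in
/-- The elements of `C(z)` centralising an abelian `O(C(z))` form a normal subgroup `C₀`. -/
theorem mem_cent_of_p (hab : ∀ x ∈ centralizerPPrimeCore 2 z, ∀ y ∈ centralizerPPrimeCore 2 z, x * y = y * x)
    {g g' : G} (hg : g ∈ centralizer ({z} : Set G)) (hg' : g' ∈ centralizer ({z} : Set G))
    (hgg : p ⟨g, hg⟩ = p ⟨g', hg'⟩) (hc : ∀ x ∈ centralizerPPrimeCore 2 z, g * x = x * g) :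
    ∀ x ∈ centralizerPPrimeCore 2 z, g' * x = x * g' := by
  have h1 : p (⟨g', hg'⟩ * ⟨g, hg⟩⁻¹) = 1 := by rw [map_mul, map_inv, hgg, mul_inv_cancel]
  have h3 : g' * g⁻¹ ∈ centralizerPPrimeCore 2 z := (h.ker _).mp h1
  intro x hx
  have h4 : g' = (g' * g⁻¹) * g := by group
  rw [h4, mul_assoc, hc x hx, ← mul_assoc, hab _ h3 x hx, mul_assoc]

/-- **`K₁` and `K₂` act trivially on `O(C(z))`** if `W = 1`, `|F| > 3`. -/
theorem core_cent (h2 : (2 : F) ≠ 0) (h3 : 3 < Fintype.card F) (hW : Completion E (⊥ : Subgroup G)) {g : G}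
    (hg : g ∈ centralizer ({z} : Set G)) (hgK : p ⟨g, hg⟩ ∈ K₁ ∨ p ⟨g, hg⟩ ∈ K₂) :
    ∀ x ∈ centralizerPPrimeCore 2 z, g * x = x * g := by
  have : Fact (Nat.Prime 2) := ⟨Nat.prime_two⟩
  have hab : ∀ x ∈ centralizerPPrimeCore 2 z, ∀ y ∈ centralizerPPrimeCore 2 z, x * y = y * x :=
    fun x hx y hy => h.core_comm o h2 hW hx hy
  -- the image of the centraliser of `O(C(z))`
  let N : Subgroup X :=
    { carrier := {y | ∀ (g : G) (hg : g ∈ centralizer ({z} : Set G)), p ⟨g, hg⟩ = y →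
        ∀ x ∈ centralizerPPrimeCore 2 z, g * x = x * g}
      mul_mem' := by
        intro a b ha hb g hg hgab x hx
        obtain ⟨⟨g₁, hg₁⟩, h1⟩ := h.surj a
        obtain ⟨⟨g₂, hg₂⟩, h4⟩ := h.surj b
        refine h.mem_cent_of_p hab (g := g₁ * g₂) (mul_mem hg₁ hg₂) hg ?_ ?_ x hx
        · rw [hgab, ← h1, ← h4, ← map_mul]; rfl
        · intro x hx
          rw [mul_assoc, hb g₂ hg₂ h4 x hx, ← mul_assoc, ha g₁ hg₁ h1 x hx, mul_assoc]
      one_mem' := by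
        intro g hg hg1 x hx
        exact h.mem_cent_of_p hab (g := 1) (one_mem _) hg (by
          rw [hg1]; exact map_one p) (fun x _ => by rw [one_mul, mul_one]) x hx
      inv_mem' := by
        intro a ha g hg hga x hx
        have h1 : p ⟨g⁻¹, inv_mem hg⟩ = a := by
          have h4 : p ⟨g⁻¹, inv_mem hg⟩ = (p ⟨g, hg⟩)⁻¹ := by rw [← map_inv]; rfl
          rw [h4, hga, inv_inv]
        have h4 := ha g⁻¹ (inv_mem hg) h1 x hx
        rw [inv_mul_eq_iff_eq_mul, ← mul_assoc] at h4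
        rw [← mul_inv_eq_iff_eq_mul]
        rw [eq_mul_inv_iff_mul_eq] at h4
        rw [mul_inv_eq_iff_eq_mul]
        exact h4.symm ▸ rfl }
  have hNn : N.Normal := by
    refine ⟨fun a ha c g hg hgc x hx => ?_⟩
    obtain ⟨⟨c₀, hc₀⟩, h1⟩ := h.surj c
    obtain ⟨⟨a₀, ha₀⟩, h4⟩ := h.surj a
    refine h.mem_cent_of_p hab (g := c₀ * a₀ * c₀⁻¹) (mul_mem (mul_mem hc₀ ha₀) (inv_mem hc₀)) hg ?_ ?_ x hx
    · rw [hgc, ← h1, ← h4, ← map_inv, ← map_mul, ← map_mul]; rfl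
    · intro x hx
      have hx' : c₀⁻¹ * x * c₀ ∈ centralizerPPrimeCore 2 z := by
        have := CentCore.core_conj_mem (mem_centralizer_singleton_iff.mp (inv_mem hc₀)) hx
        rwa [inv_inv] at this
      have h5 := ha a₀ ha₀ h4 _ hx'
      calc c₀ * a₀ * c₀⁻¹ * x = c₀ * (a₀ * (c₀⁻¹ * x * c₀)) * c₀⁻¹ := by group
        _ = c₀ * ((c₀⁻¹ * x * c₀) * a₀) * c₀⁻¹ := by rw [h5]
        _ = x * (c₀ * a₀ * c₀⁻¹) := by group
  obtain ⟨b, hb, hbH⟩ := h.exists_swap o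
  have hs := h.sw hb hbH
  have hbinv : (p ⟨b, h.le hb⟩)⁻¹ = p ⟨b, h.le hb⟩ := inv_eq_of_mul_eq_one_left (h.p_sq o hb)
  -- `[l, b] ∈ N`
  have hlb : ∀ l : X, l * p ⟨b, h.le hb⟩ * l⁻¹ * (p ⟨b, h.le hb⟩)⁻¹ ∈ N := by
    intro l g hg hgl x hx
    obtain ⟨⟨l₀, hl₀⟩, h1⟩ := h.surj l
    refine h.mem_cent_of_p hab (g := l₀ * b * l₀⁻¹ * b⁻¹)
      (mul_mem (mul_mem (mul_mem hl₀ (h.le hb)) (inv_mem hl₀)) (inv_mem (h.le hb))) hg ?_ ?_ x hx
    · rw [hgl, ← h1, ← map_inv, ← map_inv, ← map_mul, ← map_mul, ← map_mul]; rfl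
    · intro x hx
      exact h.comm_cent o h2 hW hb hbH (mem_centralizer_singleton_iff.mp hl₀) hx
  -- commutators of `K₁` lie in `N`
  have hcom : ∀ k ∈ K₁, ∀ l ∈ K₁, k * l * k⁻¹ * l⁻¹ ∈ N := by
    intro k hk l hl
    set β := p ⟨b, h.le hb⟩ with hβ
    have h4 := hlb l
    have h5 : l * β * l⁻¹ * β⁻¹ = l * (β * l⁻¹ * β⁻¹) := by group
    rw [h5] at h4
    have hm : β * l⁻¹ * β⁻¹ ∈ K₂ := hs.1 _ (inv_mem hl)
    have h6 := mul_mem (hNn.conj_mem _ h4 k) (inv_mem h4)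
    have h7 : k * (l * (β * l⁻¹ * β⁻¹)) * k⁻¹ * (l * (β * l⁻¹ * β⁻¹))⁻¹ = k * l * k⁻¹ * l⁻¹ := by
      have h8 : (β * l⁻¹ * β⁻¹) * k⁻¹ = k⁻¹ * (β * l⁻¹ * β⁻¹) := (h.comm _ (inv_mem hk) _ hm).symm
      calc k * (l * (β * l⁻¹ * β⁻¹)) * k⁻¹ * (l * (β * l⁻¹ * β⁻¹))⁻¹
          = k * l * ((β * l⁻¹ * β⁻¹) * k⁻¹) * (β * l⁻¹ * β⁻¹)⁻¹ * l⁻¹ := by group
        _ = k * l * (k⁻¹ * (β * l⁻¹ * β⁻¹)) * (β * l⁻¹ * β⁻¹)⁻¹ * l⁻¹ := by rw [h8]
        _ = _ := by group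
    rwa [h7] at h6
  have hK₁ : K₁ ≤ N := by
    obtain ⟨e₁⟩ := h.e₁
    have hper : commutator K₁ = ⊤ := by
      have h4 := Cfsg.Agent.TwoFusion.SLTwoFacts.commutator_eq_top h3
      have h5 := congrArg (Subgroup.map e₁.symm.toMonoidHom) h4
      rw [map_commutator_eq, MonoidHom.range_eq_top_of_surjective _ e₁.symm.surjective,
        Subgroup.map_top_of_surjective _ e₁.symm.surjective] at h5
      exact h5
    have hle : commutator K₁ ≤ N.subgroupOf K₁ := by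
      rw [_root_.commutator_def, Subgroup.commutator_le]
      intro a _ c _
      exact hcom a a.2 c c.2
    intro k hk
    have h5 : (⟨k, hk⟩ : K₁) ∈ N.subgroupOf K₁ := hle (by rw [hper]; trivial)
    exact h5
  rcases hgK with h4 | h4
  · exact hK₁ h4 g hg rfl
  · have h5 : p ⟨b, h.le hb⟩ * p ⟨g, hg⟩ * (p ⟨b, h.le hb⟩)⁻¹ ∈ N := hK₁ (hs.2 _ h4)
    have h6 := hNn.conj_mem _ h5 (p ⟨b, h.le hb⟩)⁻¹
    have h7 : (p ⟨b, h.le hb⟩)⁻¹ * (p ⟨b, h.le hb⟩ * p ⟨g, hg⟩ * (p ⟨b, h.le hb⟩)⁻¹) * (p ⟨b, h.le hb⟩)⁻¹⁻¹ =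
        p ⟨g, hg⟩ := by group
    rw [h7] at h6
    exact h6 g hg rfl

end Cent

end Cfsg.Agent.LFourB.KLoc.Loc
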