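import Cfsg.Agent.LFourB.MSevenFf
import Cfsg.Agent.SylowL5.LiftQuot

/-!
# Type B5: `C(Z) = O(C(Z)) S0` if there is no element `τ`
-/

set_option autoImplicit false

namespace Cfsg.Agent.LFourB.KNil

open Subgroup Cfsg K4 M7 MSevenFa MSevenFb MSevenFc MSevenFd MSevenFf
open Cfsg.Agent.SignalizersComponents.RelSylow
open Cfsg.Agent.SylowL5.Weak

/-! ### Burnside's theorem modulo a central subgroup -/

theorem exists_core_mul {L : Type*} [Group L] [Finite L] (T : Sylow 2 L) (Z : Subgroup L) [Z.Normal]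
    (hZc : ∀ c ∈ Z, ∀ y : L, c * y = y * c) (hZT : Z ≤ (T : Subgroup L))
    (hn : ∀ n ∈ normalizer ((T : Subgroup L) : Set L), ∀ t ∈ (T : Subgroup L), n * t * n⁻¹ * t⁻¹ ∈ Z) (x : L) :
    ∃ o ∈ pPrimeCore 2 L, ∃ t ∈ (T : Subgroup L), x = o * t := by
  have f2 : Fact (Nat.Prime 2) := ⟨Nat.prime_two⟩
  have hZ2 : IsPGroup 2 Z := T.isPGroup'.to_le hZT
  let q := QuotientGroup.mk' Z
  have hq : Function.Surjective q := QuotientGroup.mk'_surjective Z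
  let T' : Sylow 2 (L ⧸ Z) := T.mapSurjective hq
  have hT' : (T' : Subgroup (L ⧸ Z)) = (T : Subgroup L).map q := rfl
  have hmem : ∀ y : L, q y ∈ (T' : Subgroup (L ⧸ Z)) ↔ y ∈ (T : Subgroup L) := by
    intro y
    constructor
    · rintro ⟨t, ht, e⟩
      have h1 : t⁻¹ * y ∈ Z := QuotientGroup.eq.1 e
      have h2 := mul_mem ht (hZT h1)
      rwa [mul_inv_cancel_left] at h2
    · intro hy
      exact ⟨y, hy, rfl⟩
  have hnc : normalizer ((T' : Subgroup (L ⧸ Z)) : Set (L ⧸ Z)) ≤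
      centralizer ((T' : Subgroup (L ⧸ Z)) : Set (L ⧸ Z)) := by
    intro n' hn'
    obtain ⟨n, rfl⟩ := hq n'
    have hnT : n ∈ normalizer ((T : Subgroup L) : Set L) := by
      rw [Subgroup.mem_normalizer_iff]
      intro y
      have h1 := Subgroup.mem_normalizer_iff.1 hn' (q y)
      rw [← map_inv, ← map_mul, ← map_mul, hmem, hmem] at h1
      exact h1
    rw [mem_centralizer_iff]
    rintro _ ⟨t, ht, rfl⟩
    have h1 : q (n * t * n⁻¹ * t⁻¹) = 1 := (QuotientGroup.eq_one_iff _).2 (hn n hnT t ht)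
    have h2 : q (n * t) = q (t * n) := by
      calc q (n * t) = q (n * t * n⁻¹ * t⁻¹) * q (t * n) := by rw [← map_mul]; congr 1; group
        _ = q (t * n) := by rw [h1, one_mul]
    exact (map_mul q t n).symm.trans (h2.symm.trans (map_mul q n t))
  have hcomp := MonoidHom.ker_transferSylow_isComplement' T' hnc
  have hK := MonoidHom.not_dvd_card_ker_transferSylow T' hnc
  have h1 : (MonoidHom.transferSylow T' hnc).ker ≤ pPrimeCore 2 (L ⧸ Z) :=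
    Lib.Cores.le_pPrimeCore inferInstance ((Nat.Prime.coprime_iff_not_dvd Nat.prime_two).2 hK).symm
  obtain ⟨k, hk, t', ht', e⟩ : ∃ k ∈ (MonoidHom.transferSylow T' hnc).ker, ∃ t' ∈ (T' : Subgroup (L ⧸ Z)), q x = k * t' := by
    have h2 : q x ∈ (MonoidHom.transferSylow T' hnc).ker ⊔ (T' : Subgroup (L ⧸ Z)) := by
      rw [hcomp.sup_eq_top]; exact mem_top _
    obtain ⟨k, hk, t', ht', e⟩ := Subgroup.mem_sup_of_normal_left.1 h2
    exact ⟨k, hk, t', ht', e.symm⟩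
  obtain ⟨t, ht, rfl⟩ := ht'
  have h3 : x * t⁻¹ ∈ (pPrimeCore 2 (L ⧸ Z)).comap (QuotientGroup.mk' Z) := by
    rw [mem_comap]
    have h4 : q (x * t⁻¹) = k := by rw [map_mul, map_inv, e, mul_inv_cancel_right]
    change q (x * t⁻¹) ∈ _
    rw [h4]
    exact h1 hk
  have h5 := Cfsg.Agent.SylowL5.LiftQuot.comap_core_le hZc hZ2 h3
  obtain ⟨o, ho, c, hc, e2⟩ := Subgroup.mem_sup_of_normal_right.1 h5
  refine ⟨o, ho, c * t, mul_mem (hZT hc) ht, ?_⟩
  rw [← mul_assoc, e2, inv_mul_cancel_right]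

/-! ### Kernel facts -/

theorem S0_dec : ∀ s : M7, s ∈ S0 → ∃ x ∈ V1, ∃ y ∈ V2, s = x * y := by
  intro s hs
  have h1 : ∀ s : M7, s ∈ S0 → s = ⟨s.a, .o, .o, false⟩ * ⟨.o, s.b, s.c + s.a * s.b, false⟩ ∧
      (⟨s.a, .o, .o, false⟩ : M7) ∈ V1 ∧ (⟨.o, s.b, s.c + s.a * s.b, false⟩ : M7) ∈ V2 := by decide +kernel
  obtain ⟨h2, h3, h4⟩ := h1 s hs
  exact ⟨_, h3, _, h4, h2⟩

theorem comm_coord : ∀ m n : M7, m ∈ V1 → n ∈ V2 → m * n * m⁻¹ * n⁻¹ = ⟨.o, .o, m.a * n.b, false⟩ := by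
  decide +kernel

theorem Z_coord : ∀ c : K4, (⟨.o, .o, c, false⟩ : M7) ∈ Z := by decide +kernel

theorem V1_coord : ∀ m n : M7, m ∈ V1 → n ∈ V1 → m.a = n.a → m * n⁻¹ ∈ Z := by decide +kernel
theorem V2_coord : ∀ m n : M7, m ∈ V2 → n ∈ V2 → m.b = n.b → m * n⁻¹ ∈ Z := by decide +kernel
theorem coord_i : ∀ l u : K4, pr l = true → (⟨.o, .o, l * u, false⟩ : M7) = ⟨.o, .o, x1.a * y1.b, false⟩ →
    l = .i ∧ u = .i := by decide +kernel
theorem mul_i : ∀ a : K4, a * .i = a := by decide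
theorem i_mul : ∀ a : K4, .i * a = a := by decide

/-! ### `C(Z)` -/

section

variable {G : Type*} [Group G] {S : Sylow 2 G} {φ : M7 →* G}

/-- `C(Z)` -/
def CC (φ : M7 →* G) : Subgroup G := centralizer {φ z} ⊓ centralizer {φ ze}

theorem mem_CC {g : G} : g ∈ CC φ ↔ g * φ z = φ z * g ∧ g * φ ze = φ ze * g := by
  unfold CC
  rw [Subgroup.mem_inf, mem_centralizer_singleton_iff, mem_centralizer_singleton_iff]

theorem comm_Z' {g c : G} (hg : g ∈ CC φ) (hc : c ∈ Z.map φ) : g * c * g⁻¹ = c := by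
  obtain ⟨h1, h2⟩ := mem_CC.1 hg
  have e1 : g * φ z * g⁻¹ = φ z := by rw [h1, mul_inv_cancel_right]
  have e2 : g * φ ze * g⁻¹ = φ ze := by rw [h2, mul_inv_cancel_right]
  obtain ⟨k, hk, rfl⟩ := hc
  rcases Z_cases k hk with rfl | rfl | rfl | rfl
  · rw [map_one]; group
  · exact e1
  · exact e2
  · rw [map_mul, conj_mul', e1, e2]

theorem S0_le_CC : S0.map φ ≤ CC φ := by
  rintro _ ⟨s, hs, rfl⟩
  refine mem_CC.2 ⟨?_, ?_⟩
  · rw [← map_mul, (S0_comm s hs).1, map_mul]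
  · rw [← map_mul, (S0_comm s hs).2, map_mul]

theorem Z_le_S0 : Z ≤ S0 := by
  have h : ∀ x ∈ Z, x ∈ S0 := by decide +kernel
  exact h

variable [Finite G]

/-- `S0` is a Sylow 2-subgroup of `C(Z)` -/
theorem isMaxP_CC (h : Emb7 (S : Subgroup G) φ) : IsMaxP 2 (CC φ) (S0.map φ) := by
  let N : Subgroup G := centralizer {φ z} ⊓ normalizer (Z.map φ : Set G)
  have hSN : (S : Subgroup G) ≤ N := le_inf (S_le_H h) (norm_of h Z_conj)
  have hMN : CC φ ≤ N := by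
    intro g hg
    refine ⟨hg.1, ?_⟩
    show g ∈ normalizer (Z.map φ : Set G)
    rw [← cj_eq_iff]
    refine cj_eq_of_le (cj_le_iff.2 fun x hx => ?_) le_rfl
    rw [comm_Z' hg hx]
    exact hx
  have hn : ∀ n ∈ N, ∀ l ∈ CC φ, n * l * n⁻¹ ∈ CC φ := by
    intro n hn l hl
    have hn1 : cj n (Z.map φ) = Z.map φ := cj_eq_iff.2 hn.2
    have key : ∀ c ∈ Z.map φ, n * l * n⁻¹ * c = c * (n * l * n⁻¹) := by
      intro c hc
      have h1 := comm_Z' hl (mem_of_cj (cj_inv' hn1) hc)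
      calc n * l * n⁻¹ * c = n * (l * (n⁻¹ * c * n⁻¹⁻¹) * l⁻¹) * n⁻¹ * (n * l * n⁻¹) := by group
        _ = c * (n * l * n⁻¹) := by rw [h1]; group
    exact mem_CC.2 ⟨key _ (h.mem_map.2 (by decide)), key _ (h.mem_map.2 (by decide))⟩
  have h1 := Cfsg.Agent.SylowL5.Act.isMaxP_inter (isMaxP_of_le S hSN) hMN hn
  have h2 : (S : Subgroup G) ⊓ CC φ = S0.map φ := by
    apply le_antisymm
    · rintro _ ⟨hs, hm⟩
      obtain ⟨s, rfl⟩ := h.exists_eq hs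
      rw [h.mem_map, ← cent_ze]
      apply h.inj
      rw [map_mul, map_mul]
      exact (mem_CC.1 hm).2
    · exact le_inf (h.map_le _) S0_le_CC
  rwa [h2] at h1

/-- `N(S0) ⊓ C(Z)` acts trivially on `S0 / Z` -/
theorem triv (h : Emb7 (S : Subgroup G) φ) (hτ : ¬ Tau φ) {n : G} (hn : n ∈ CC φ) (hnS : cj n (S0.map φ) = S0.map φ) :
    ∀ t ∈ S0.map φ, n * t * n⁻¹ * t⁻¹ ∈ Z.map φ := by
  have hle : cj n (S0.map φ) ≤ (S : Subgroup G) := hnS.le.trans (h.map_le _)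
  have hV1 : cj n (V1.map φ) = V1.map φ := cj_V1_of_le h V1_le_S0 hle
  have hV2 : cj n (V2.map φ) = V2.map φ := cj_V2_of_le h V2_le_S0 hle
  have hcm : ∀ {a a' b b' : M7}, a ∈ V1 → a' ∈ V1 → b ∈ V2 → b' ∈ V2 → n * φ a * n⁻¹ = φ a' → n * φ b * n⁻¹ = φ b' →
      (⟨.o, .o, a'.a * b'.b, false⟩ : M7) = ⟨.o, .o, a.a * b.b, false⟩ := by
    intro a a' b b' ha ha' hb hb' e1 e2
    rw [← comm_coord a b ha hb, ← comm_coord a' b' ha' hb']
    apply h.inj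
    have h1 := comm_Z' hn (c := φ (a * b * a⁻¹ * b⁻¹)) (h.mem_map.2 (by rw [comm_coord a b ha hb]; exact Z_coord _))
    rw [← h1]
    simp only [map_mul, map_inv]
    rw [← e1, ← e2]
    group
  obtain ⟨m, hm, em⟩ := mem_of_cj hV1 (h.mem_map.2 (show x1 ∈ V1 by decide))
  obtain ⟨m', hm', em'⟩ := mem_of_cj hV2 (h.mem_map.2 (show y1 ∈ V2 by decide))
  have hpm : pr m.a = true := by
    by_contra hp
    exact hτ (tau_of_t h (mem_CC.1 hn).1 (mem_CC.1 hn).2 hV1 hm (by simpa using hp) em.symm)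
  obtain ⟨hma, hmb⟩ := coord_i m.a m'.b hpm (hcm (by decide) hm (by decide) hm' em.symm em'.symm)
  have hx : ∀ x ∈ V1, ∃ c ∈ Z, n * φ x * n⁻¹ = φ (x * c) := by
    intro x hx
    obtain ⟨u, hu, eu⟩ := mem_of_cj hV1 (h.mem_map.2 hx)
    have h1 := hcm hx hu (show y1 ∈ V2 by decide) hm' eu.symm em'.symm
    have h2 : u.a = x.a := by
      have h3 := congrArg M7.c h1
      change u.a * m'.b = x.a * y1.b at h3
      rw [hmb, mul_i] at h3
      rw [h3]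
      exact mul_i _
    refine ⟨x⁻¹ * u, ?_, by rw [mul_inv_cancel_left]; exact eu.symm⟩
    have h4 := V1_coord u x hu hx h2
    have h5 : x⁻¹ * u = u * x⁻¹ := V1_comm _ (inv_mem hx) _ hu
    rw [h5]
    exact h4
  have hy : ∀ y ∈ V2, ∃ c ∈ Z, n * φ y * n⁻¹ = φ (y * c) := by
    intro y hy
    obtain ⟨u, hu, eu⟩ := mem_of_cj hV2 (h.mem_map.2 hy)
    have h1 := hcm (show x1 ∈ V1 by decide) hm hy hu em.symm eu.symm
    have h2 : u.b = y.b := by
      have h3 := congrArg M7.c h1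
      change m.a * u.b = x1.a * y.b at h3
      rw [hma, i_mul] at h3
      rw [h3]
      exact i_mul _
    refine ⟨y⁻¹ * u, ?_, by rw [mul_inv_cancel_left]; exact eu.symm⟩
    have h4 := V2_coord u y hu hy h2
    have h5 : y⁻¹ * u = u * y⁻¹ := V2_comm _ (inv_mem hy) _ hu
    rw [h5]
    exact h4
  rintro _ ⟨s, hs, rfl⟩
  obtain ⟨x, hxm, y, hym, rfl⟩ := S0_dec s hs
  obtain ⟨c, hc, ec⟩ := hx x hxm
  obtain ⟨d, hd, ed⟩ := hy y hym
  have h1 : n * φ (x * y) * n⁻¹ * (φ (x * y))⁻¹ = φ (x * c * (y * d) * (x * y)⁻¹) := by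
    rw [map_mul φ x y, conj_mul', ec, ed]
    simp only [map_mul, map_inv]
  rw [h1]
  refine h.mem_map.2 ?_
  have hcx : ∀ k ∈ Z, ∀ u ∈ S0, u * k * u⁻¹ = k := by
    intro k hk u hu
    apply h.inj
    rw [map_mul, map_mul, map_inv]
    exact comm_Z' (S0_le_CC (h.mem_map.2 hu)) (h.mem_map.2 hk)
  have h2 : x * c * (y * d) * (x * y)⁻¹ = (x * c * x⁻¹) * (x * y * d * (x * y)⁻¹) := by group
  rw [h2, hcx c hc x (V1_le_S0 hxm), hcx d hd (x * y) (mul_mem (V1_le_S0 hxm) (V2_le_S0 hym))]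
  exact mul_mem hc hd

/-- **`C(Z) = O(C(Z)) S0`** -/
theorem exists_mul (h : Emb7 (S : Subgroup G) φ) (hτ : ¬ Tau φ) {x : G} (hx : x ∈ CC φ) :
    ∃ o ∈ (pPrimeCore 2 (CC φ)).map (CC φ).subtype, ∃ s ∈ S0.map φ, x = o * s := by
  have hmax := isMaxP_CC h
  let ZZ : Subgroup (CC φ) := (Z.map φ).subgroupOf (CC φ)
  have hZS : Z.map φ ≤ S0.map φ := Subgroup.map_mono Z_le_S0
  have hZc : ∀ c ∈ ZZ, ∀ y : CC φ, c * y = y * c := by
    intro c hc y
    have h1 := comm_Z' y.2 (mem_subgroupOf.1 hc)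
    apply Subtype.ext
    change (c : G) * (y : G) = (y : G) * (c : G)
    calc (c : G) * (y : G) = (y : G) * c * (y : G)⁻¹ * y := by rw [h1]
      _ = (y : G) * (c : G) := by group
  have hZn : ZZ.Normal := ⟨fun c hc y => by
    have h1 := hZc c hc y
    have h2 : y * c * y⁻¹ = c := by rw [← h1, mul_inv_cancel_right]
    rw [h2]; exact hc⟩
  obtain ⟨o, ho, t, ht, e⟩ := exists_core_mul hmax.toSylow ZZ hZc (by
    rw [hmax.coe_toSylow]
    intro c hc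
    exact mem_subgroupOf.2 (hZS (mem_subgroupOf.1 hc))) (by
    intro n hn t ht
    rw [hmax.coe_toSylow] at hn ht
    refine mem_subgroupOf.2 ?_
    refine triv h hτ n.2 ?_ _ (mem_subgroupOf.1 ht)
    refine cj_eq_of_le (cj_le_iff.2 fun y hy => ?_) le_rfl
    have h1 := (Subgroup.mem_normalizer_iff.1 hn ⟨y, hmax.2.1 hy⟩).1 (mem_subgroupOf.2 hy)
    exact mem_subgroupOf.1 h1) ⟨x, hx⟩
  refine ⟨o, ⟨o, ho, rfl⟩, t, ?_, congrArg Subtype.val e⟩
  rw [hmax.coe_toSylow] at ht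
  exact mem_subgroupOf.1 ht

end

end Cfsg.Agent.LFourB.KNil
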