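import Cfsg.Agent.LFourB.KInst
import Cfsg.Agent.LFourB.ClBFive
import Cfsg.Agent.LFourB.KNil
import Cfsg.Agent.LFourB.KEnd

/-!
# Type B5, pattern (a2): the core of `C(z)`

* `core_inv`: `x2` inverts `O(C(z))`; `core_comm`, `core_cent`;
* `core_eq_bot`: `O(C(z)) = 1` for `|F| ≤ 9`.
-/

set_option autoImplicit false

namespace Cfsg.Agent.LFourB.KFive

open Subgroup Cfsg Cfsg.Agent.LFourB K4 M7 StepSixModel StepSixOut StepSixInst
open Cfsg.Agent.LFourA.CzCt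
open MSevenFa MSevenFb MSevenFc MSevenFd MSevenFf
open Cfsg.Agent.SignalizersComponents.RelSylow
open Cfsg.Agent.SylowL5.Weak
open Cfsg.Agent.Lib.SymFrame

universe u

/-! ### Kernel facts -/

theorem k_aa : (a1⁻¹ : M7) * a1⁻¹ = z := by decide
theorem k_bb : (b1 : M7) * b1 = z := by decide
theorem k_ba : (b1 : M7) * a1⁻¹ * b1⁻¹ = a1⁻¹⁻¹ := by decide
theorem k_ca : (x2⁻¹ * y2 : M7) * a1⁻¹ * (x2⁻¹ * y2)⁻¹ = a1⁻¹ := by decide
theorem k_cb : (x2⁻¹ * y2 : M7) * b1 * (x2⁻¹ * y2)⁻¹ = a1⁻¹ * b1 := by decide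

theorem card_Z : Nat.card Z = 4 := by
  rw [StepSixModel.card_filter Z (p := (· ∈ Z)) (fun _ => Iff.rfl)]; decide +kernel

theorem two_ne {F : Type*} [Field F] [Fintype F] (hF : Odd (Fintype.card F)) : (2 : F) ≠ 0 := by
  refine Ring.two_ne_zero fun hc => ?_
  exact (Nat.not_even_iff_odd.2 hF) (Nat.even_iff.2 (FiniteField.even_card_of_char_two hc))

section

variable {G : Type u} [Group G] [Finite G] {S : Sylow 2 G} {φ : M7 →* G}

theorem core_odd (a : G) : ¬ 2 ∣ Nat.card (centralizerPPrimeCore 2 a) := by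
  have h1 := Cfsg.Agent.StandardComponent.CentCore.core_odd (G := G) a
  exact fun h3 => (Nat.not_even_iff_odd.mpr h1) (even_iff_two_dvd.mpr h3)

/-- a normal subgroup of odd order of the simple group `G` is trivial -/
theorem eq_bot [IsSimpleGroup G] (h : Emb7 (S : Subgroup G) φ) {W : Subgroup G} (hW : ¬ 2 ∣ Nat.card W)
    (hn : normalizer (W : Set G) = ⊤) : W = ⊥ := by
  have hN : W.Normal := Subgroup.normalizer_eq_top_iff.1 hn
  rcases hN.eq_bot_or_eq_top with h1 | h1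
  · exact h1
  · exfalso
    apply hW
    rw [h1, Subgroup.card_top]
    have h2 : 2 ∣ Nat.card (S : Subgroup G) := by rw [h.card]; norm_num
    exact h2.trans (Subgroup.card_subgroup_dvd_card _)

variable {X : Type*} [Group X] {p : centralizer ({φ z} : Set G) →* X} {K₁ K₂ : Subgroup X} {F : Type*} [Field F]
    [Fintype F]

/-- `C(z) ≤ N(W)`, `|F| ≥ 11` -/
theorem norm_two (Fu : Fus S φ) (hτ : ¬ Tau φ) (hC : CZL (φ z) F p K₁ K₂) (hS : SPos φ p K₁ K₂) (h2 : (2 : F) ≠ 0)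
    (h11 : 11 ≤ Fintype.card F) {W : Subgroup G} (hW : Completion (V1.map φ) W) :
    centralizer ({φ z} : Set G) ≤ normalizer (W : Set G) := by
  refine (KInst.loc Fu.emb hC hS).centralizer_le_two (KInst.orb Fu hτ) h2 h11 hW (v := φ ze)
    (Fu.emb.mem_map.2 (by decide)) (fun h => absurd (Fu.emb.inj (h.trans (map_one φ).symm)) (by decide))
    (fun h => absurd (Fu.emb.inj h) (by decide)) ?_
  intro x hxz hxe
  obtain ⟨o, ho, s, hs, rfl⟩ := KNil.exists_mul Fu.emb hτ (KNil.mem_CC.2 ⟨hxz, hxe⟩)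
  refine mul_mem ?_ ?_
  · refine hW.le_normalizer ((pPrimeCore 2 (KNil.CC φ)).map (KNil.CC φ).subtype) ?_ ?_ ho
    · rw [Subgroup.card_map_of_injective (KNil.CC φ).subtype_injective]
      exact (Nat.Prime.coprime_iff_not_dvd Nat.prime_two).1 (Cfsg.Agent.Lib.Cores.pPrimeCore_coprime 2).symm
    · rintro _ ⟨v, hv, rfl⟩ _ ⟨y, hy, rfl⟩
      have hvC : φ v ∈ KNil.CC φ := KNil.S0_le_CC (Fu.emb.mem_map.2 (V1_le_S0 hv))
      exact ⟨⟨φ v, hvC⟩ * y * ⟨φ v, hvC⟩⁻¹, (Cfsg.Agent.Lib.Cores.pPrimeCore_normal 2).conj_mem y hy ⟨φ v, hvC⟩, rfl⟩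
  · have h1 : φ.range ≤ normalizer (V1.map φ : Set G) := by
      rw [Fu.emb.range]; exact norm_of Fu.emb V1_conj
    obtain ⟨t, ht, rfl⟩ := hs
    refine hW.norm (V1.map φ) le_rfl ?_ (h1 ⟨t, rfl⟩)
    rw [hW.card]; norm_num

/-- `C(z) ≤ N(W)`, `|F| = 3` -/
theorem norm_three (Fu : Fus S φ) (hG : ∀ H : Subgroup G, H.index ≠ 2) (hτ : ¬ Tau φ) (hQ : Q2 φ)
    (hC : CZL (φ z) F p K₁ K₂) (hS : SPos φ p K₁ K₂) (h2 : (2 : F) ≠ 0)
    (h3 : Fintype.card F = 3) {W : Subgroup G} (hW : CompletionOne (V1.map φ) W) :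
    centralizer ({φ z} : Set G) ≤ normalizer (W : Set G) := by
  have hl1 := KInst.loc Fu.emb hC hS
  have ho1 := KInst.orb Fu hτ
  have hl2 := KInst.loc_two Fu.emb hC hS
  have ho2 := KInst.orb_two Fu hG hτ hQ
  obtain ⟨W', hW'⟩ := hl2.exists_completion_one ho2 h2
    ⟨2, Or.inr ⟨by rw [Nat.card_eq_fintype_card, h3], by rw [Nat.card_eq_fintype_card, h3]; norm_num⟩⟩
  have hcZ : 4 ≤ Nat.card (Z.map φ) := by rw [Subgroup.card_map_of_injective Fu.emb.inj, card_Z]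
  have hWW : W' = W := by
    rw [hW.sup (Z.map φ) (Subgroup.map_mono Z_le_V1) hcZ, hW'.sup (Z.map φ) (Subgroup.map_mono Z_le_V2) hcZ]
  rw [hWW] at hW'
  have hzE : φ z ∈ V1.map φ := Fu.emb.mem_map.2 (by decide)
  have hzE2 : φ z ∈ V2.map φ := Fu.emb.mem_map.2 (by decide)
  have hz1 : φ z ≠ 1 := fun h => absurd (Fu.emb.inj (h.trans (map_one φ).symm)) (by decide)
  have hne : ∀ {m : M7}, m ≠ 1 → φ m ≠ 1 := fun hm h => hm (Fu.emb.inj (h.trans (map_one φ).symm))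
  have hnz : ∀ {m : M7}, m ≠ z → φ m ≠ φ z := fun hm h => hm (Fu.emb.inj h)
  have hcom : ∀ b ∈ V1.map φ, b ≠ 1 → b ≠ φ z → ∀ x, x * φ z = φ z * x → x * b = b * x → x ∈ normalizer (W : Set G) := by
    intro b hb hb1 hbz x hxz hxb
    refine KClose.mem_of_comm (hW.norm (closure {φ z, b}) (KClose.card_zb_le ho1 hb) (KClose.card_zv ho1 hb1 hbz)) ?_
    rintro y (rfl | hy)
    · exact hxz
    · rw [Set.mem_singleton_iff.mp hy]; exact hxb
  have hcom2 : ∀ b ∈ V2.map φ, b ≠ 1 → b ≠ φ z → ∀ x, x * φ z = φ z * x → x * b = b * x → x ∈ normalizer (W : Set G) := by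
    intro b hb hb1 hbz x hxz hxb
    refine KClose.mem_of_comm (hW'.norm (closure {φ z, b}) (KClose.card_zb_le ho2 hb) (KClose.card_zv ho2 hb1 hbz)) ?_
    rintro y (rfl | hy)
    · exact hxz
    · rw [Set.mem_singleton_iff.mp hy]; exact hxb
  have hx2 : φ x2 ∈ V1.map φ := Fu.emb.mem_map.2 (by decide)
  have hx2' : φ x2 ∉ W1.map φ := fun h => absurd (Fu.emb.mem_map.1 h) (by decide)
  have hy2 : φ y2 ∈ V2.map φ := Fu.emb.mem_map.2 (by decide)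
  have hy2' : φ y2 ∉ (V2 ⊓ M7.Q).map φ := fun h => absurd (Fu.emb.mem_map.1 h) (by decide)
  have hze : φ ze ∈ W1.map φ := Fu.emb.mem_map.2 (by decide)
  have hab : (p ⟨φ x2, hl1.le hx2⟩)⁻¹ * p ⟨φ y2, hl2.le hy2⟩ = p (res φ (x2⁻¹ * y2)) := by
    rw [map_mul, map_inv, map_mul, map_inv]; rfl
  refine hl1.centralizer_le_three ho1 h2 h3 (M := normalizer (W : Set G)) ((hW.core_le hzE hz1).trans le_normalizer)
    hx2 hx2' (b := φ y2) (hl2.le hy2) ?_ (hl2.sw hy2 hy2')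
    (hcom _ hx2 (hne (by decide)) (hnz (by decide))) (hcom2 _ hy2 (hne (by decide)) (hnz (by decide)))
    (v := φ ze) hze (hne (by decide)) (hnz (by decide))
    (hcom _ (Fu.emb.mem_map.2 (by decide)) (hne (by decide)) (hnz (by decide)))
    (Y := p (res φ a1⁻¹)) (j := p (res φ b1)) (KInst.up_res (hS.q₁ _ (by decide))) (KInst.up_res (hS.q₁ _ (by decide)))
    ?_ ?_ ?_ ?_ ?_
  · rw [← map_mul, ← map_one φ]; congr 1
  · rw [← map_mul, ← map_mul, k_aa]; rfl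
  · rw [← map_mul, ← map_mul, k_bb]; rfl
  · rw [← map_inv, ← map_inv, ← map_inv, ← map_inv, ← map_mul, ← map_mul, ← map_mul, ← map_mul, k_ba]
  · rw [hab, ← map_inv, ← map_inv, ← map_mul, ← map_mul, ← map_mul, ← map_mul, k_ca]
  · rw [hab, ← map_inv, ← map_inv, ← map_mul, ← map_mul, ← map_mul, ← map_mul, ← map_mul, ← map_mul, k_cb]

variable [IsSimpleGroup G]

/-- `|F| ≥ 11` -/
theorem completion (Fu : Fus S φ) (hτ : ¬ Tau φ) (hQ : Q2 φ) {ρ : G} (hρ : MQ.Rho φ ρ) (hben : StepEight.Bender G)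
    (hC : CZL (φ z) F p K₁ K₂) (hS : SPos φ p K₁ K₂) (h2 : (2 : F) ≠ 0) (h11 : 11 ≤ Fintype.card F) :
    Completion (V1.map φ) (⊥ : Subgroup G) := by
  obtain ⟨W, hW⟩ := (KInst.loc Fu.emb hC hS).exists_completion (KInst.orb Fu hτ) h2
  have h1 := ClBFive.closed Fu hQ hρ hben _ (norm_two Fu hτ hC hS h2 h11 hW)
    (hW.norm (V1.map φ) le_rfl (by rw [hW.card]; norm_num) (cj_eq_iff.1 hρ.nV1))
  have h4 := eq_bot Fu.emb hW.odd h1
  rwa [h4] at hW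

/-- `|F| ≤ 9` -/
theorem completion_one (Fu : Fus S φ) (hG : ∀ H : Subgroup G, H.index ≠ 2) (hτ : ¬ Tau φ) (hQ : Q2 φ) {ρ : G}
    (hρ : MQ.Rho φ ρ) (hben : StepEight.Bender G)
    (hC : CZL (φ z) F p K₁ K₂) (hS : SPos φ p K₁ K₂) (h2 : (2 : F) ≠ 0)
    (hF : ∃ a : ℕ, (Nat.card F % 4 = 1 ∧ Nat.card F - 1 = 2 ^ a) ∨ (Nat.card F % 4 = 3 ∧ Nat.card F + 1 = 2 ^ a)) :
    CompletionOne (V1.map φ) (⊥ : Subgroup G) := by
  obtain ⟨W, hW⟩ := (KInst.loc Fu.emb hC hS).exists_completion_one (KInst.orb Fu hτ) h2 hF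
  have hCW : centralizer ({φ z} : Set G) ≤ normalizer (W : Set G) := by
    by_cases h3 : 3 < Fintype.card F
    · exact (KInst.loc Fu.emb hC hS).centralizer_le_one (KInst.orb Fu hτ) h2 h3 hW
    · have h4 : Fintype.card F = 3 := by
        have h5 : 1 < Fintype.card F := Fintype.one_lt_card
        have h6 : Fintype.card F ≠ 2 := by
          intro h6
          obtain ⟨a, h7 | h7⟩ := hF <;> · rw [Nat.card_eq_fintype_card, h6] at h7; omega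
        omega
      exact norm_three Fu hG hτ hQ hC hS h2 h4 hW
  have h1 := ClBFive.closed Fu hQ hρ hben _ hCW
    (hW.norm (V1.map φ) le_rfl (by
      rw [Subgroup.card_map_of_injective Fu.emb.inj, StepSixModel.card_V1]; norm_num) (cj_eq_iff.1 hρ.nV1))
  have h4 := eq_bot Fu.emb hW.odd h1
  rwa [h4] at hW

/-- **`O(C(z)) = 1`** for `|F| ≤ 9` (and for all Fermat and Mersenne primes) -/
theorem core_eq_bot_of (Fu : Fus S φ) (hG : ∀ H : Subgroup G, H.index ≠ 2) (hτ : ¬ Tau φ) (hQ : Q2 φ) {ρ : G}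
    (hρ : MQ.Rho φ ρ) (hben : StepEight.Bender G)
    (hC : CZL (φ z) F p K₁ K₂) (hS : SPos φ p K₁ K₂) (h2 : (2 : F) ≠ 0)
    (hF : ∃ a : ℕ, (Nat.card F % 4 = 1 ∧ Nat.card F - 1 = 2 ^ a) ∨ (Nat.card F % 4 = 3 ∧ Nat.card F + 1 = 2 ^ a)) :
    centralizerPPrimeCore 2 (φ z) = ⊥ := by
  have h1 := completion_one Fu hG hτ hQ hρ hben hC hS h2 hF
  rw [← h1.cent (φ z) (Fu.emb.mem_map.2 (by decide))
    (fun h => absurd (Fu.emb.inj (h.trans (map_one φ).symm)) (by decide))]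
  exact bot_inf_eq _

theorem hF_of (hodd : Odd (Fintype.card F)) (h9 : Fintype.card F ≤ 9) :
    ∃ a : ℕ, (Nat.card F % 4 = 1 ∧ Nat.card F - 1 = 2 ^ a) ∨ (Nat.card F % 4 = 3 ∧ Nat.card F + 1 = 2 ^ a) := by
  rw [Nat.card_eq_fintype_card]
  have h5 : 1 < Fintype.card F := Fintype.one_lt_card
  obtain ⟨k, hk⟩ := hodd
  have hcases : Fintype.card F = 3 ∨ Fintype.card F = 5 ∨ Fintype.card F = 7 ∨ Fintype.card F = 9 := by omega
  rcases hcases with h | h | h | h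
  · exact ⟨2, Or.inr (by rw [h]; norm_num)⟩
  · exact ⟨2, Or.inl (by rw [h]; norm_num)⟩
  · exact ⟨3, Or.inr (by rw [h]; norm_num)⟩
  · exact ⟨3, Or.inl (by rw [h]; norm_num)⟩

/-- **`O(C(z)) = 1`** for `|F| ≤ 9` -/
theorem core_eq_bot (Fu : Fus S φ) (hG : ∀ H : Subgroup G, H.index ≠ 2) (hτ : ¬ Tau φ) (hQ : Q2 φ) {ρ : G}
    (hρ : MQ.Rho φ ρ) (hben : StepEight.Bender G)
    (hC : CZL (φ z) F p K₁ K₂) (hS : SPos φ p K₁ K₂) (hodd : Odd (Fintype.card F)) (h9 : Fintype.card F ≤ 9) :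
    centralizerPPrimeCore 2 (φ z) = ⊥ :=
  core_eq_bot_of Fu hG hτ hQ hρ hben hC hS (two_ne hodd) (hF_of hodd h9)

/-- **`V1 \ Q` inverts `O(C(z))`** -/
theorem core_inv (Fu : Fus S φ) (hG : ∀ H : Subgroup G, H.index ≠ 2) (hτ : ¬ Tau φ) (hQ : Q2 φ) {ρ : G}
    (hρ : MQ.Rho φ ρ) (hben : StepEight.Bender G)
    (hC : CZL (φ z) F p K₁ K₂) (hS : SPos φ p K₁ K₂) (hodd : Odd (Fintype.card F)) :
    ∀ m ∈ V1, m ∉ W1 → ∀ x ∈ centralizerPPrimeCore 2 (φ z), φ m * x * (φ m)⁻¹ = x⁻¹ := by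
  intro m hm hmW x hx
  rcases Nat.lt_or_ge 9 (Fintype.card F) with h9 | h9
  · have h11 : 11 ≤ Fintype.card F := by obtain ⟨k, hk⟩ := hodd; omega
    exact (KInst.loc Fu.emb hC hS).inv_core (KInst.orb Fu hτ) (two_ne hodd)
      (completion Fu hτ hQ hρ hben hC hS (two_ne hodd) h11) (Fu.emb.mem_map.2 hm)
      (fun h => hmW (Fu.emb.mem_map.1 h)) hx
  · rw [core_eq_bot Fu hG hτ hQ hρ hben hC hS hodd h9] at hx
    rw [mem_bot.1 hx]; group

/-- `x2` inverts `O(C(z))` -/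
theorem core_inv_x2 (Fu : Fus S φ) (hG : ∀ H : Subgroup G, H.index ≠ 2) (hτ : ¬ Tau φ) (hQ : Q2 φ) {ρ : G}
    (hρ : MQ.Rho φ ρ) (hben : StepEight.Bender G)
    (hC : CZL (φ z) F p K₁ K₂) (hS : SPos φ p K₁ K₂) (hodd : Odd (Fintype.card F)) :
    ∀ x ∈ centralizerPPrimeCore 2 (φ z), φ x2 * x * (φ x2)⁻¹ = x⁻¹ :=
  core_inv Fu hG hτ hQ hρ hben hC hS hodd x2 (by decide) (by decide)

/-- `O(C(z))` is abelian -/
theorem core_comm (Fu : Fus S φ) (hG : ∀ H : Subgroup G, H.index ≠ 2) (hτ : ¬ Tau φ) (hQ : Q2 φ) {ρ : G}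
    (hρ : MQ.Rho φ ρ) (hben : StepEight.Bender G)
    (hC : CZL (φ z) F p K₁ K₂) (hS : SPos φ p K₁ K₂) (hodd : Odd (Fintype.card F)) :
    ∀ x ∈ centralizerPPrimeCore 2 (φ z), ∀ y ∈ centralizerPPrimeCore 2 (φ z), x * y = y * x := by
  intro x hx y hy
  rcases Nat.lt_or_ge 9 (Fintype.card F) with h9 | h9
  · have h11 : 11 ≤ Fintype.card F := by obtain ⟨k, hk⟩ := hodd; omega
    exact (KInst.loc Fu.emb hC hS).core_comm (KInst.orb Fu hτ) (two_ne hodd)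
      (completion Fu hτ hQ hρ hben hC hS (two_ne hodd) h11) hx hy
  · rw [core_eq_bot Fu hG hτ hQ hρ hben hC hS hodd h9] at hx
    rw [mem_bot.1 hx]; group

/-- the components centralise `O(C(z))` -/
theorem core_cent (Fu : Fus S φ) (hG : ∀ H : Subgroup G, H.index ≠ 2) (hτ : ¬ Tau φ) (hQ : Q2 φ) {ρ : G}
    (hρ : MQ.Rho φ ρ) (hben : StepEight.Bender G)
    (hC : CZL (φ z) F p K₁ K₂) (hS : SPos φ p K₁ K₂) (hodd : Odd (Fintype.card F)) {g : G}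
    (hg : g ∈ centralizer ({φ z} : Set G)) (hgK : p ⟨g, hg⟩ ∈ K₁ ∨ p ⟨g, hg⟩ ∈ K₂) :
    ∀ x ∈ centralizerPPrimeCore 2 (φ z), g * x = x * g := by
  intro x hx
  rcases Nat.lt_or_ge 9 (Fintype.card F) with h9 | h9
  · have h11 : 11 ≤ Fintype.card F := by obtain ⟨k, hk⟩ := hodd; omega
    exact (KInst.loc Fu.emb hC hS).core_cent (KInst.orb Fu hτ) (two_ne hodd) (by omega)
      (completion Fu hτ hQ hρ hben hC hS (two_ne hodd) h11) hg hgK x hx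
  · rw [core_eq_bot Fu hG hτ hQ hρ hben hC hS hodd h9] at hx
    rw [mem_bot.1 hx]; group

end

end Cfsg.Agent.LFourB.KFive
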