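import Cfsg.Agent.LFourB.PreFive
import Cfsg.Agent.LFourB.KFive
import Cfsg.Agent.LFourFive.Inp

/-!
# Type B5, case (a2), `|F| = 5`: the input of the recognition of `PSL(4, 5)`

From the structure of `C(z)` (`CZL`, `SPos`, `|F| = 5`), `O(C(z)) = 1` and `Rho φ ρ` we construct
`InpFive (φ z) (φ ze) ρ (φ n1) (φ n2) (φ a1) (φ a2) L₁ L₂ (U.map φ)`.
-/

set_option autoImplicit false

namespace Cfsg.Agent.LFourB.InpFiveInst

open Subgroup Cfsg Cfsg.Agent.LFourB M7 StepSixModel StepSixOut LBFive PreFive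
open Cfsg.Agent.LFourA.CzCt Cfsg.Agent.LFourR.LiftSL Cfsg.Agent.LFourR Cfsg.Agent.LFourFive
open MSevenFf
open Cfsg.Agent.LFourB.MSevenFd
open Cfsg.Agent.LFourB.MQ (Rho)

universe u

/-! ### Facts on `M7` -/

theorem U_comm : ∀ m : M7, m ∈ U → ∀ n : M7, n ∈ U → m * n = n * m := by decide +kernel
theorem s_mem : s ∈ U := by decide
theorem a1_memU : a1 ∈ U := by decide
theorem a2_memU : a2 ∈ U := by decide

/-- a subgroup of order `4` that contains an element of order `4` -/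
theorem mem_zpowers_of {G : Type*} [Group G] [Finite G] {T : Subgroup G} {a : G} (ha : a ∈ T) (hT : Nat.card T = 4)
    (h1 : orderOf a = 4) {t : G} (ht : t ∈ T) : t ∈ zpowers a := by
  have h2 : zpowers a = T := Subgroup.eq_of_le_of_card_ge (zpowers_le.2 ha) (by rw [Nat.card_zpowers, hT, h1])
  rw [h2]; exact ht

theorem order_four {G : Type*} [Group G] {a z : G} (h : a * a = z) (hzz : z * z = 1) (hz : z ≠ 1) : orderOf a = 4 := by
  have h1 : ¬ a ^ 2 ^ 1 = 1 := by
    rw [pow_one, pow_two, h]; exact hz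
  have h2 : a ^ 2 ^ (1 + 1) = 1 := by
    have : a ^ 2 ^ (1 + 1) = a * a * (a * a) := by
      norm_num only
      simp only [pow_succ, pow_zero, one_mul, mul_assoc]
    rw [this, h, hzz]
  have := orderOf_eq_prime_pow h1 h2
  rw [this]; norm_num

/-- `SL(2, F)` for `|F| = 5` -/
theorem exists_sl {F : Type*} [Field F] [Fintype F] (h5 : Fintype.card F = 5) :
    Nonempty (Matrix.SpecialLinearGroup (Fin 2) F ≃* Matrix.SpecialLinearGroup (Fin 2) (ZMod 5)) := by
  have e : ZMod 5 ≃+* F := ZMod.ringEquivOfPrime F (by norm_num) h5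
  refine ⟨{ Matrix.SpecialLinearGroup.map (n := Fin 2) e.symm.toRingHom with
            invFun := Matrix.SpecialLinearGroup.map (n := Fin 2) e.toRingHom
            left_inv := ?_
            right_inv := ?_ }⟩
  · intro A
    ext i j
    simp
  · intro A
    ext i j
    simp

section

variable {G : Type u} [Group G] [Finite G] {S : Sylow 2 G} {φ : M7 →* G}
  {X : Type u} [Group X] [Finite X] {p : centralizer ({φ z} : Set G) →* X} {K₁ K₂ : Subgroup X}
  {F : Type*} [Field F] [Fintype F]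

/-- **The input of the recognition of `PSL(4, 5)`.** -/
theorem inp_of (hE : Emb7 (S : Subgroup G) φ) (hC : CZL (φ z) F p K₁ K₂) (hS : SPos φ p K₁ K₂)
    (h5 : Fintype.card F = 5) (hbot : centralizerPPrimeCore 2 (φ z) = ⊥) {ρ : G} (hρ : Rho φ ρ)
    (hcl : ∀ M : Subgroup G, centralizer ({φ z} : Set G) ≤ M → ρ ∈ M → M = ⊤) :
    InpFive (φ z) (φ ze) ρ (φ n1) (φ n2) (φ a1) (φ a2) (lof p K₁) (lof p K₂) (U.map φ) := by
  have hodd : Odd (Fintype.card F) := by rw [h5]; decide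
  have hprime : (Fintype.card F).Prime := by rw [h5]; norm_num
  have hinv : ∀ o ∈ centralizerPPrimeCore 2 (φ z), φ x2 * o * (φ x2)⁻¹ = o⁻¹ := by
    intro o ho
    rw [hbot, mem_bot] at ho
    rw [ho]; group
  have h3 : 3 < Fintype.card F := by omega
  have h9 : Fintype.card F ≠ 9 := by omega
  obtain ⟨D1, D2⟩ := dat hE hC hS hodd h3 h9 hinv
  have hL := exists_lb hE hC hS hodd h3 h9 hinv
  have h2 : (2 : F) ≠ 0 := D1.two_ne
  have hzz : φ z * φ z = 1 := D1.zz
  have hz1 : φ z ≠ 1 := D1.z_ne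
  have hne : ∀ m : M7, m ≠ 1 → φ m ≠ 1 := fun m hm h => hm (hE.inj (h.trans (map_one φ).symm))
  have hker : ∀ x y : ↥(centralizer ({φ z} : Set G)), p x = p y → x = y := by
    intro x y hxy
    have h6 : p (x * y⁻¹) = 1 := by rw [map_mul, map_inv, hxy, mul_inv_cancel]
    have h7 := (hC.ker _).1 h6
    rw [hbot, mem_bot] at h7
    exact mul_inv_eq_one.1 (Subtype.ext h7)
  have horder : ∀ m : M7, m ^ 2 ^ 3 = 1 := by
    have : ∀ m : M7, m * m * (m * m) * (m * m * (m * m)) = 1 := by decide +kernel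
    intro m
    rw [← this m]
    norm_num only
    simp only [pow_succ, pow_zero, one_mul, mul_assoc]
  have hT : ∀ {L : Subgroup G} {a : G}, Nonempty (L ≃* Matrix.SpecialLinearGroup (Fin 2) F) → a ∈ L → a * a = φ z →
      ∀ t ∈ L, t * a = a * t → t ∈ zpowers a := by
    intro L a hL' ha haz t ht hta
    obtain ⟨e0⟩ := hL'
    have h6 := (TorusB.cyc e0 ha haz hzz hz1 h2).2
    rw [Nat.card_eq_fintype_card, h5] at h6
    have h7 : Nat.card (L ⊓ centralizer {a} : Subgroup G) = 4 := by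
      rcases h6 with ⟨-, h6⟩ | ⟨h6, -⟩
      · exact h6
      · exact absurd h6 (by norm_num)
    exact mem_zpowers_of (mem_inf.2 ⟨ha, mem_centralizer_singleton_iff.2 rfl⟩) h7 (order_four haz hzz hz1)
      (mem_inf.2 ⟨ht, mem_centralizer_singleton_iff.2 hta⟩)
  refine
    { zz := hzz
      z_ne := hz1
      ee := by rw [← map_mul, ← map_one φ]; congr 1
      e_ne := hne ze (by decide)
      e_ne_z := fun h => absurd (hE.inj h) (by decide)
      ze := by rw [← map_mul, ← map_mul]; congr 1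
      iso1 := ?_
      z_mem := D1.z_mem
      comm := hL.comm
      perm := fun c hc => hL.perm c hc
      h1_mem := hL.q₁ a1 a1_mem
      h1_sq := by rw [← map_mul, a1_sq]
      h2_mem := hL.q₂ a2 StepSixFive.a2_mem
      h2_sq := by rw [← map_mul, a2_sq]
      e_eq := by rw [← map_mul, ze_eq]
      n1_mem := hL.q₁ n1 n1_mem
      n1_sq := by rw [← map_mul, n1_sq]
      n1_h1 := by rw [← map_inv, ← map_mul, ← map_mul, n1_a1, map_inv]
      n2_mem := hL.q₂ n2 n2_mem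
      n2_sq := by rw [← map_mul, n2_sq]
      n2_h2 := by rw [← map_inv, ← map_mul, ← map_mul, n2_a2, map_inv]
      ρ_z := hρ.rot.1
      ρ_e := rho_e hρ
      swap := swap hρ hL
      U_comm := ?_
      U_two := ?_
      U_ρ := U_ρ hρ
      T1_le := ?_
      T2_le := ?_
      w_rot := w_rot hρ
      c_rot := c_rot hρ hE
      str := ?_
      cen := ?_
      closed := hcl }
  · obtain ⟨e1⟩ := hL.iso₁
    obtain ⟨e2⟩ := exists_sl (F := F) h5
    exact ⟨e1.trans e2⟩
  · rintro _ ⟨u, hu, rfl⟩ _ ⟨v, hv, rfl⟩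
    rw [← map_mul, ← map_mul, U_comm u hu v hv]
  · rintro _ ⟨u, hu, rfl⟩
    exact ⟨3, by rw [← map_pow, horder, map_one]⟩
  · intro t ht hte
    have h6 := hT hL.iso₁ (hL.q₁ a1 a1_mem) (by rw [← map_mul, a1_sq]) t ht ((comm_iff₁ hL ht).1 hte)
    exact (zpowers_le.2 (⟨a1, a1_memU, rfl⟩ : φ a1 ∈ U.map φ)) h6
  · intro t ht hte
    have h6 := hT hL.iso₂ (hL.q₂ a2 StepSixFive.a2_mem) (by rw [← map_mul, a2_sq]) t ht ((comm_iff₂ hL ht).1 hte)
    exact (zpowers_le.2 (⟨a2, a2_memU, rfl⟩ : φ a2 ∈ U.map φ)) h6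
  · intro x hxz hx
    have hxc := mem_centralizer_singleton_iff.2 hxz
    have h6 : ∀ k ∈ K₁, p ⟨x, hxc⟩ * k * (p ⟨x, hxc⟩)⁻¹ ∈ K₁ := by
      intro k hk
      obtain ⟨l, hl, hl', rfl⟩ := D1.exists_lof hk
      have h7 : x * l * x⁻¹ ∈ lof p K₁ := by
        rw [← hx, mem_cg]
        have e : x⁻¹ * (x * l * x⁻¹) * x = l := by group
        rw [e]; exact hl'
      obtain ⟨h8, h9⟩ := mem_up.1 (lof_le_up p K₁ h7)
      rw [← map_inv, ← map_mul, ← map_mul]
      exact h9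
    obtain ⟨k₁, hk₁, k₂, hk₂, h7⟩ := StepSixFive.ker_cases hprime hE hC hS h6
    obtain ⟨l1, hl1, hl1', rfl⟩ := D1.exists_lof hk₁
    obtain ⟨l2, hl2, hl2', rfl⟩ := D2.exists_lof hk₂
    rcases h7 with h7 | h7
    · refine ⟨l1, hl1', l2, hl2', 1, one_mem _, ?_⟩
      rw [← map_mul] at h7
      rw [mul_one]
      exact congrArg Subtype.val (hker _ _ h7)
    · refine ⟨l1, hl1', l2, hl2', φ s, ⟨s, s_mem, rfl⟩, ?_⟩
      rw [← map_mul, ← map_mul] at h7
      exact congrArg Subtype.val (hker _ _ h7)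
  · intro x hx
    have hxc : x ∈ centralizer ({φ z} : Set G) := mem_centralizer_singleton_iff.2 (hx _ D1.z_mem)
    have h6 : p ⟨x, hxc⟩ ∈ K₂ := by
      apply StepSixFive.cent₁ hprime hE hC hS
      intro k hk
      obtain ⟨l, hl, hl', rfl⟩ := D1.exists_lof hk
      rw [← map_mul, ← map_mul]
      congr 1
      exact Subtype.ext (hx l hl')
    obtain ⟨l, hl, hl', e⟩ := D2.exists_lof h6
    have h7 : x = l := (congrArg Subtype.val (hker _ _ e)).symm
    rw [h7]; exact hl'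

/-- **`InpFive` for type B5, pattern (a2), `|F| = 5`.** -/
theorem exists_inp [IsSimpleGroup G] (Fu : Fus S φ) (hG : ∀ H : Subgroup G, H.index ≠ 2) (hτ : ¬ Tau φ) (hQ : Q2 φ)
    (hben : StepEight.Bender G) (hC : CZL (φ z) F p K₁ K₂) (hS : SPos φ p K₁ K₂) (h5 : Fintype.card F = 5) :
    ∃ ρ : G, InpFive (φ z) (φ ze) ρ (φ n1) (φ n2) (φ a1) (φ a2) (lof p K₁) (lof p K₂) (U.map φ) := by
  obtain ⟨ρ, hρ⟩ := MSevenFf.Fus.exists_rho Fu hτ hQ
  have hbot := KFive.core_eq_bot Fu hG hτ hQ hρ hben hC hS (by rw [h5]; decide) (by omega)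
  exact ⟨ρ, inp_of Fu.emb hC hS h5 hbot hρ (ClBFive.closed Fu hQ hρ hben)⟩

end

end Cfsg.Agent.LFourB.InpFiveInst
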