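import Cfsg.Agent.LFourB.StepSixFive
import Cfsg.Agent.ClassicalGeometry.PSL2Basic

/-!
# Type B5, case (a2): `q ≡ 3, 5 mod 8`
-/

set_option autoImplicit false

namespace Cfsg.Agent.LFourB.NumFive

open Subgroup Cfsg Cfsg.Agent.LFourB M7 StepSixModel StepSixOut
open Cfsg.Agent.LFourA.CzCt

universe u

theorem card_Q1 : Nat.card Q1 = 8 := by
  rw [StepSixModel.card_filter Q1 (p := (· ∈ Q1)) (fun _ => Iff.rfl)]; decide +kernel
theorem card_Q2 : Nat.card Q2 = 8 := by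
  rw [StepSixModel.card_filter Q2 (p := (· ∈ Q2)) (fun _ => Iff.rfl)]; decide +kernel

theorem mod_eight {q : ℕ} (hq : Odd q) (h16 : ¬ 16 ∣ q * (q ^ 2 - 1)) : q % 8 = 3 ∨ q % 8 = 5 := by
  by_contra hcon
  apply h16
  have h1 : q % 8 = 1 ∨ q % 8 = 7 := by
    have := Nat.odd_iff.1 hq
    omega
  apply Dvd.dvd.mul_left
  obtain ⟨k, hk⟩ : ∃ k, q = 8 * k + 1 ∨ q = 8 * k + 7 := ⟨q / 8, by omega⟩
  rcases hk with rfl | rfl
  · have : (8 * k + 1) ^ 2 - 1 = 16 * (4 * k ^ 2 + k) := by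
      have : (8 * k + 1) ^ 2 = 16 * (4 * k ^ 2 + k) + 1 := by ring
      omega
    rw [this]
    exact dvd_mul_right _ _
  · have : (8 * k + 7) ^ 2 - 1 = 16 * (4 * k ^ 2 + 7 * k + 3) := by
      have : (8 * k + 7) ^ 2 = 16 * (4 * k ^ 2 + 7 * k + 3) + 1 := by ring
      omega
    rw [this]
    exact dvd_mul_right _ _

variable {G : Type u} [Group G] [Finite G] {S : Sylow 2 G} {φ : M7 →* G}
  {X : Type u} [Group X] [Finite X] {p : centralizer ({φ z} : Set G) →* X} {K₁ K₂ : Subgroup X}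
  {F : Type*} [Field F] [Fintype F]

omit [Finite G] in
theorem card_le {K : Subgroup X} {Q' : Subgroup M7} (hQ : ∀ m, p (res φ m) ∈ K → m ∈ Q') {H : Subgroup X} (hHK : H ≤ K)
    (hH : ∀ x ∈ H, ∃ m, p (res φ m) = x) : Nat.card H ≤ Nat.card Q' := by
  have hle : H ≤ Q'.map (p.comp (res φ)) := by
    intro x hx
    obtain ⟨m, rfl⟩ := hH x hx
    exact ⟨m, hQ m (hHK hx), rfl⟩
  exact (Subgroup.card_le_of_le hle).trans (Nat.le_of_dvd Nat.card_pos (Subgroup.card_map_dvd _ _))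

/-- `q ≡ 3, 5 mod 8` -/
theorem card_mod (hE : Emb7 (S : Subgroup G) φ) (hC : CZL (φ z) F p K₁ K₂) (hS : SPos φ p K₁ K₂)
    (hodd : Odd (Fintype.card F)) : Fintype.card F % 8 = 3 ∨ Fintype.card F % 8 = 5 := by
  obtain ⟨P, hP⟩ := StepSixFive.exists_sylow hE hC.surj
  have f2 : Fact (Nat.Prime 2) := ⟨Nat.prime_two⟩
  obtain ⟨e⟩ := hC.e₁
  have hcard : Nat.card K₁ = Fintype.card F * (Fintype.card F ^ 2 - 1) := by
    rw [Nat.card_congr e.toEquiv, Cfsg.Agent.ClassicalGeometry.PSL2Basic.card_SL2]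
  refine mod_eight hodd fun h16 => ?_
  rw [← hcard] at h16
  obtain ⟨H', hH'⟩ := Sylow.exists_subgroup_card_pow_prime (G := K₁) 2 (n := 4) (by norm_num; exact h16)
  set H : Subgroup X := H'.map K₁.subtype with hH
  have hHc : Nat.card H = 16 := by
    rw [hH, Subgroup.card_map_of_injective K₁.subtype_injective, hH']
    norm_num
  have hHK : H ≤ K₁ := by
    rintro _ ⟨x, _, rfl⟩
    exact x.2
  have hp : IsPGroup 2 H := IsPGroup.of_card (n := 4) (by rw [hHc]; norm_num)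
  obtain ⟨Q, hQ⟩ := hp.exists_le_sylow
  obtain ⟨g, hg⟩ := MulAction.exists_smul_eq X Q P
  have hgH : ∀ x ∈ H.map (MulAut.conj g).toMonoidHom, ∃ m, p (res φ m) = x := by
    rintro _ ⟨x, hx, rfl⟩
    rw [← hP, ← hg]
    exact Subgroup.smul_mem_pointwise_smul _ _ _ (hQ hx)
  have hc : Nat.card (H.map (MulAut.conj g).toMonoidHom) = 16 := by
    rw [Subgroup.card_map_of_injective (MulAut.conj g).injective, hHc]
  rcases hC.norm g with ⟨h1, _⟩ | ⟨h1, _⟩
  · have h2 := card_le (K := K₁) (Q' := Q1) (fun m hm => StepSixFive.of_mem₁ hS hm) (H := H.map (MulAut.conj g).toMonoidHom)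
      (by rintro _ ⟨x, hx, rfl⟩; exact h1 x (hHK hx)) hgH
    rw [hc, card_Q1] at h2
    omega
  · have h2 := card_le (K := K₂) (Q' := Q2) (fun m hm => StepSixFive.of_mem₂ hS hm) (H := H.map (MulAut.conj g).toMonoidHom)
      (by rintro _ ⟨x, hx, rfl⟩; exact h1 x (hHK hx)) hgH
    rw [hc, card_Q2] at h2
    omega

end Cfsg.Agent.LFourB.NumFive
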