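import Cfsg.Agent.LFourB.LBFive
import Cfsg.Agent.LFourB.NumFive
import Cfsg.Agent.LFourB.MSevenRho
import Cfsg.Agent.LFourR.TorusB
import Cfsg.Agent.LFourR.GenInp

/-!
# Type B5, case (a2): the input of the recognition theorem

From `LB φ F L₁ L₂` and `Rho φ ρ` we construct `Pre F ε N 2 (φ z) (φ ze) ρ (φ n1) (φ n2) L₁ L₂ (U.map φ)` for
`5 < q = |F|`. The single fields are valid for all `q > 3`, `q ≡ 3, 5 mod 8`.
-/

set_option autoImplicit false

namespace Cfsg.Agent.LFourB.PreFive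

open Subgroup Cfsg Cfsg.Agent.LFourB M7 StepSixModel LBFive
open Cfsg.Agent.LFourR
open Cfsg.Agent.LFourB.MQ (Rho Nm xa xa_mem)

universe u

/-- test for `U` -/
def tUU (x : M7) : Bool := z0 (x.a + x.b) && !x.e
/-- `{(a, a, c)}`, isomorphic to `C4 × C4` -/
def U : Subgroup M7 := sub tUU (by decide) (by decide +kernel) (by decide +kernel)
instance : DecidablePred (· ∈ U) := fun x => inferInstanceAs (Decidable (tUU x = true))

/-- Weyl element of `L₁` -/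
def n1 : M7 := ⟨.i, .o, .w, true⟩
/-- Weyl element of `L₂` -/
def n2 : M7 := ⟨.o, .o, .w, true⟩

theorem n1_mem : n1 ∈ Q1 := by decide
theorem n2_mem : n2 ∈ Q2 := by decide
theorem n1_sq : n1 * n1 = z := by decide
theorem n2_sq : n2 * n2 = z := by decide
theorem n1_a1 : n1 * a1 * n1⁻¹ = a1⁻¹ := by decide
theorem n2_a2 : n2 * a2 * n2⁻¹ = a2⁻¹ := by decide
theorem n1_ze : ze * n1 * ze⁻¹ = n1 * z := by decide
theorem n2_ze : ze * n2 * ze⁻¹ = n2 * z := by decide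
theorem ze_eq : ze = a1 * a2 := by decide
theorem a2_sq : a2 * a2 = z := by decide
theorem c_mem : n1 * n2 ∈ V1 := by decide
theorem c_a : (n1 * n2).a = .i := by decide
theorem U_mem : ∀ m : M7, m ∈ U ↔ m.a = m.b ∧ m.e = false := by decide +kernel
theorem U_a1 : ∀ m : M7, m ∈ U → m * a1 = a1 * m := by decide +kernel
theorem U_a2 : ∀ m : M7, m ∈ U → m * a2 = a2 * m := by decide +kernel
theorem U_ze' : ∀ m : M7, m ∈ U → m * ze = ze * m := by decide +kernel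
theorem U_tU : ∀ m : M7, m ∈ U → tU m = true := by decide +kernel
theorem U_four : ∀ m : M7, m ∈ U → m * m * (m * m) = 1 := by decide +kernel
theorem Z_le_U : ∀ m : M7, m ∈ Z → m ∈ U := by decide +kernel
theorem U_split : ∀ m : M7, m ∈ U → (xa m.a)⁻¹ * m ∈ V2 ∧ ((xa m.a)⁻¹ * m).b = m.b := by decide +kernel
theorem tU_of_v : ∀ m : M7, m ∈ V1 → m.a = .v → tU m = false := by decide +kernel
theorem f_mem : (⟨.v, .v, .o, false⟩ : M7) ∈ U := by decide
theorem f_sq : (⟨.v, .v, .o, false⟩ : M7) * ⟨.v, .v, .o, false⟩ = ze := by decide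

section

variable {G : Type u} [Group G] [Finite G] {S : Sylow 2 G} {φ : M7 →* G} {F : Type*} [Field F]
  {L₁ L₂ : Subgroup G}

section basic

variable (hL : LB φ F L₁ L₂)

include hL

omit [Finite G] in
/-- in `L₁`, commuting with `ze` means commuting with `a1` -/
theorem comm_iff₁ {x : G} (hx : x ∈ L₁) : x * φ ze = φ ze * x ↔ x * φ a1 = φ a1 * x := by
  have h1 := hL.comm x hx _ (hL.q₂ a2 StepSixFive.a2_mem)
  rw [ze_eq, map_mul]
  constructor
  · intro h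
    apply mul_right_cancel (b := φ a2)
    calc x * φ a1 * φ a2 = x * (φ a1 * φ a2) := by group
      _ = φ a1 * (φ a2 * x) := by rw [h]; group
      _ = φ a1 * (x * φ a2) := by rw [h1]
      _ = φ a1 * x * φ a2 := by group
  · intro h
    calc x * (φ a1 * φ a2) = (x * φ a1) * φ a2 := by group
      _ = φ a1 * (x * φ a2) := by rw [h]; group
      _ = φ a1 * φ a2 * x := by rw [h1]; group

omit [Finite G] in
/-- in `L₂`, commuting with `ze` means commuting with `a2` -/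
theorem comm_iff₂ {x : G} (hx : x ∈ L₂) : x * φ ze = φ ze * x ↔ x * φ a2 = φ a2 * x := by
  have h1 := (hL.comm _ (hL.q₁ a1 a1_mem) x hx).symm
  rw [ze_eq, map_mul]
  constructor
  · intro h
    apply mul_left_cancel (a := φ a1)
    calc φ a1 * (x * φ a2) = (φ a1 * x) * φ a2 := by group
      _ = x * (φ a1 * φ a2) := by rw [← h1]; group
      _ = φ a1 * φ a2 * x := by rw [h]
      _ = φ a1 * (φ a2 * x) := by group
  · intro h
    calc x * (φ a1 * φ a2) = (x * φ a1) * φ a2 := by group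
      _ = φ a1 * (x * φ a2) := by rw [h1]; group
      _ = φ a1 * φ a2 * x := by rw [h]; group

omit [Finite G] in
theorem T_eq : (L₁ ⊓ centralizer {φ ze} : Subgroup G) = L₁ ⊓ centralizer {φ a1} := by
  ext x
  rw [mem_inf, mem_inf, mem_centralizer_singleton_iff, mem_centralizer_singleton_iff]
  exact ⟨fun h => ⟨h.1, (comm_iff₁ hL h.1).1 h.2⟩, fun h => ⟨h.1, (comm_iff₁ hL h.1).2 h.2⟩⟩

variable (hE : Emb7 (S : Subgroup G) φ) [Finite F] (h2 : (2 : F) ≠ 0)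

include hE h2

omit [Finite G] in
theorem T_cyc : IsCyclic (L₁ ⊓ centralizer {φ ze} : Subgroup G) ∧
    ((Nat.card F % 4 = 1 ∧ Nat.card (L₁ ⊓ centralizer {φ ze} : Subgroup G) = Nat.card F - 1) ∨
      (Nat.card F % 4 = 3 ∧ Nat.card (L₁ ⊓ centralizer {φ ze} : Subgroup G) = Nat.card F + 1)) := by
  obtain ⟨e0⟩ := hL.iso₁
  rw [T_eq hL]
  exact TorusB.cyc e0 (hL.q₁ a1 a1_mem) (z := φ z) (by rw [← map_mul, a1_sq]) (by rw [← map_mul, z_sq, map_one])
    (fun h => z_ne (hE.inj (h.trans (map_one φ).symm))) h2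

omit [Finite G] [Finite F] in
theorem n1_inv {t : G} (ht : t ∈ L₁) (hte : t * φ ze = φ ze * t) : φ n1 * t * (φ n1)⁻¹ = t⁻¹ := by
  obtain ⟨e0⟩ := hL.iso₁
  exact TorusB.inv_mem_of e0 (hL.q₁ a1 a1_mem) (z := φ z) (by rw [← map_mul, a1_sq]) (by rw [← map_mul, z_sq, map_one])
    (fun h => z_ne (hE.inj (h.trans (map_one φ).symm))) h2 (hL.q₁ n1 n1_mem)
    (by rw [← map_inv, ← map_mul, ← map_mul, n1_a1, map_inv]) ht ((comm_iff₁ hL ht).1 hte)

omit [Finite G] [Finite F] in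
theorem n2_inv {t : G} (ht : t ∈ L₂) (hte : t * φ ze = φ ze * t) : φ n2 * t * (φ n2)⁻¹ = t⁻¹ := by
  obtain ⟨e0⟩ := hL.iso₂
  exact TorusB.inv_mem_of e0 (hL.q₂ a2 StepSixFive.a2_mem) (z := φ z) (by rw [← map_mul, a2_sq])
    (by rw [← map_mul, z_sq, map_one])
    (fun h => z_ne (hE.inj (h.trans (map_one φ).symm))) h2 (hL.q₂ n2 n2_mem)
    (by rw [← map_inv, ← map_mul, ← map_mul, n2_a2, map_inv]) ht ((comm_iff₂ hL ht).1 hte)

variable (hns : ¬ IsSquare (Nat.card F))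

include hns

omit [Finite G] in
theorem U_T1 {u : M7} (hu : u ∈ U) {t : G} (ht : t ∈ L₁) (hte : t * φ ze = φ ze * t) : φ u * t = t * φ u := by
  obtain ⟨e0⟩ := hL.iso₁
  refine TorusB.fix_mem_of e0 (hL.q₁ a1 a1_mem) (z := φ z) (by rw [← map_mul, a1_sq]) (by rw [← map_mul, z_sq, map_one])
    (fun h => z_ne (hE.inj (h.trans (map_one φ).symm))) h2 hns
    (mem_normalizer_iff_cg.2 (hL.keep u (U_tU u hu)).1) (m := 2) ?_ ?_ ht ((comm_iff₁ hL ht).1 hte)
  · rw [← map_pow]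
    have : u ^ 2 ^ 2 = u * u * (u * u) := by
      norm_num only
      simp only [pow_succ, pow_zero, one_mul, mul_assoc]
    rw [this, U_four u hu, map_one]
  · rw [← map_mul, U_a1 u hu, map_mul]

omit [Finite G] in
theorem U_T2 {u : M7} (hu : u ∈ U) {t : G} (ht : t ∈ L₂) (hte : t * φ ze = φ ze * t) : φ u * t = t * φ u := by
  obtain ⟨e0⟩ := hL.iso₂
  refine TorusB.fix_mem_of e0 (hL.q₂ a2 StepSixFive.a2_mem) (z := φ z) (by rw [← map_mul, a2_sq])
    (by rw [← map_mul, z_sq, map_one])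
    (fun h => z_ne (hE.inj (h.trans (map_one φ).symm))) h2 hns
    (mem_normalizer_iff_cg.2 (hL.keep u (U_tU u hu)).2) (m := 2) ?_ ?_ ht ((comm_iff₂ hL ht).1 hte)
  · rw [← map_pow]
    have : u ^ 2 ^ 2 = u * u * (u * u) := by
      norm_num only
      simp only [pow_succ, pow_zero, one_mul, mul_assoc]
    rw [this, U_four u hu, map_one]
  · rw [← map_mul, U_a2 u hu, map_mul]

end basic

/-! ### The fields with `ρ` -/

section rho

variable {ρ : G} (hρ : Rho φ ρ)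

include hρ

omit [Finite G] in
theorem rho_c : ∃ m ∈ V1, ρ * (φ n1 * φ n2) * ρ⁻¹ = φ m ∧ m.a = .v := by
  obtain ⟨m, hm, h1, h2⟩ := hρ.ra _ c_mem
  refine ⟨m, hm, by rw [← map_mul, h1], ?_⟩
  rw [h2, c_a]; rfl

omit [Finite G] in
theorem rho_e : ρ * φ ze * ρ⁻¹ = φ z * φ ze := by
  rw [hρ.rot.2, ← map_mul]
  congr 1

omit [Finite G] in
theorem conj_U {u : M7} (hu : u ∈ U) : ∃ u' ∈ U, ρ * φ u * ρ⁻¹ = φ u' := by
  obtain ⟨m1, hm1, e1, f1⟩ := hρ.ra _ (xa_mem u.a)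
  obtain ⟨h2, h3⟩ := U_split u hu
  obtain ⟨m2, hm2, e2, f2⟩ := hρ.rb _ h2
  refine ⟨m1 * m2, ?_, ?_⟩
  · obtain ⟨hm1b, hm1e⟩ := (mem_V1 m1).1 hm1
    obtain ⟨hm2a, hm2e⟩ := (mem_V2 m2).1 hm2
    rw [U_mem]
    have hab := ((U_mem u).1 hu).1
    constructor
    · rw [mul_a, mul_b, hm1e, hm2a, hm1b, f1, f2, h3]
      show K4.v * u.a + K4.fr false 0 = 0 + K4.fr false (K4.v * u.b)
      rw [K4.fr_false, K4.fr_false, add_zero, zero_add, hab]
    · rw [mul_e, hm1e, hm2e]; rfl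
  · rw [map_mul, ← e1, ← e2, map_mul, map_inv]
    group

theorem U_ρ : cg ρ (U.map φ) = U.map φ := by
  apply LBFive.cg_eq_of_card _ rfl
  rintro _ ⟨u, hu, rfl⟩
  obtain ⟨u', hu', e⟩ := conj_U hρ hu
  exact ⟨u', hu', e.symm⟩

omit [Finite G] in
theorem w_rot : ρ * (ρ * (φ n1 * φ n2) * ρ⁻¹) * ρ⁻¹ * (φ n1 * φ n2 * (ρ * (φ n1 * φ n2) * ρ⁻¹))⁻¹ ∈ U.map φ := by
  obtain ⟨m, hm, e1, f1⟩ := rho_c hρ
  obtain ⟨m', hm', e2, f2⟩ := hρ.ra _ hm
  rw [e1, e2, ← map_mul, ← map_mul, ← map_inv, ← map_mul]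
  refine ⟨_, Z_le_U _ ?_, rfl⟩
  have key : ∀ m : M7, m ∈ V1 → m.a = .v → ∀ m' : M7, m' ∈ V1 → m'.a = .v * m.a → m' * (n1 * n2 * m)⁻¹ ∈ Z := by
    decide +kernel
  exact key m hm f1 m' hm' f2

omit [Finite G] in
theorem c_rot (hE : Emb7 (S : Subgroup G) φ) : ρ⁻¹ * (φ n1 * φ n2) * ρ * (φ n1 * φ n2 * (ρ * (φ n1 * φ n2) * ρ⁻¹))⁻¹ ∈ U.map φ := by
  obtain ⟨m, hm, e1, f1⟩ := rho_c hρ
  obtain ⟨m', hm', e2⟩ := hρ.nV1.inv.exists c_mem
  rw [inv_inv] at e2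
  obtain ⟨m'', hm'', e3, f3⟩ := hρ.ra _ hm'
  have h4 : φ m'' = φ (n1 * n2) := by
    rw [← e3, ← e2]; group
  rw [map_mul] at e2
  rw [e1, e2, ← map_mul, ← map_mul, ← map_inv, ← map_mul]
  refine ⟨_, Z_le_U _ ?_, rfl⟩
  have h5 := hE.inj h4
  rw [h5, c_a] at f3
  have h6 : m'.a = .w := by
    have : ∀ x : K4, K4.i = K4.v * x → x = .w := by decide
    exact this _ f3
  have key : ∀ m : M7, m ∈ V1 → m.a = .v → ∀ m' : M7, m' ∈ V1 → m'.a = .w → m' * (n1 * n2 * m)⁻¹ ∈ Z := by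
    decide +kernel
  exact key m hm f1 m' hm' h6

omit [Finite G] in
theorem swap (hL : LB φ F L₁ L₂) : cg (ρ * (φ n1 * φ n2) * ρ⁻¹) L₁ = L₂ := by
  obtain ⟨m, hm, e1, f1⟩ := rho_c hρ
  rw [e1]
  exact (hL.swap m (tU_of_v m hm f1)).1

end rho

/-- commuting with `L₁` and `L₂` -/
theorem Z_field (hL : LB φ F L₁ L₂) (hE : Emb7 (S : Subgroup G) φ) (x : G) (h1 : ∀ l ∈ L₁, x * l = l * x)
    (h2 : ∀ l ∈ L₂, x * l = l * x) : x * φ ze = φ ze * x ∧ (x * x = 1 → x = 1 ∨ x = φ z) := by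
  constructor
  · rw [ze_eq, map_mul]
    have h3 := h1 _ (hL.q₁ a1 a1_mem)
    have h4 := h2 _ (hL.q₂ a2 StepSixFive.a2_mem)
    calc x * (φ a1 * φ a2) = (x * φ a1) * φ a2 := by group
      _ = φ a1 * (x * φ a2) := by rw [h3]; group
      _ = φ a1 * φ a2 * x := by rw [h4]; group
  · intro hx
    have hzx : x * φ z = φ z * x := h1 _ (hL.q₁ z z_mem_Q1)
    have hzz : φ z * φ z = 1 := by rw [← map_mul, z_sq, map_one]
    have key : ∀ y ∈ centralizerPPrimeCore 2 (φ z), y * y = 1 → y = 1 := by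
      intro y hy hyy
      have h3 := LiftSL.core_odd hy
      have h4 : orderOf y ∣ 2 := orderOf_dvd_of_pow_eq_one (by rw [pow_two, hyy])
      rcases (Nat.dvd_prime Nat.prime_two).1 h4 with h5 | h5
      · exact orderOf_eq_one_iff.1 h5
      · rw [h5] at h3
        exact absurd h3 (by decide)
    rcases hL.cent x h1 h2 with h3 | h3
    · exact Or.inl (key x h3 hx)
    · right
      have h4 : x * φ z = 1 := key _ h3 (by
        calc x * φ z * (x * φ z) = x * (φ z * x) * φ z := by group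
          _ = x * (x * φ z) * φ z := by rw [hzx]
          _ = (x * x) * (φ z * φ z) := by group
          _ = 1 := by rw [hx, hzz, one_mul])
      calc x = x * φ z * φ z := by rw [mul_assoc, hzz, mul_one]
        _ = φ z := by rw [h4, one_mul]

theorem not_square_of_mod {q : ℕ} (h : q % 8 = 3 ∨ q % 8 = 5) : ¬ IsSquare q := by
  rintro ⟨r, rfl⟩
  have : r % 8 = 0 ∨ r % 8 = 1 ∨ r % 8 = 2 ∨ r % 8 = 3 ∨ r % 8 = 4 ∨ r % 8 = 5 ∨ r % 8 = 6 ∨ r % 8 = 7 := by omega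
  rw [Nat.mul_mod] at h
  rcases this with h' | h' | h' | h' | h' | h' | h' | h' <;> rw [h'] at h <;> norm_num at h

theorem exists_nums [Fintype F] (hodd : Odd (Fintype.card F)) (h3 : 3 < Fintype.card F)
    (hmod : Fintype.card F % 8 = 3 ∨ Fintype.card F % 8 = 5) (h5 : Fintype.card F ≠ 5) :
    ∃ (ε : ℤ) (N : ℕ), Nums F ε N 2 ∧ ((Fintype.card F % 4 = 1 ∧ N * 2 ^ 2 = Fintype.card F - 1) ∨
      (Fintype.card F % 4 = 3 ∧ N * 2 ^ 2 = Fintype.card F + 1)) := by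
  obtain ⟨q, hq⟩ : ∃ q, q = Fintype.card F := ⟨_, rfl⟩
  have hns := not_square_of_mod hmod
  rw [← hq] at hodd h3 hmod h5 hns ⊢
  obtain ⟨k, hk⟩ : ∃ k, q = 8 * k + 3 ∨ q = 8 * k + 5 := ⟨q / 8, by omega⟩
  rcases hk with hk | hk
  · refine ⟨-1, 2 * k + 1, ⟨Or.inr rfl, ⟨k, rfl⟩, by omega, by rwa [← hq], by rwa [← hq], ?_, ?_⟩, Or.inr ?_⟩
    · rw [← hq, hk]; push_cast; ring
    · rw [← hq]; exact fun _ => hns
    · omega
  · refine ⟨1, 2 * k + 1, ⟨Or.inl rfl, ⟨k, rfl⟩, by omega, by rwa [← hq], by rwa [← hq], ?_, ?_⟩, Or.inl ?_⟩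
    · rw [← hq, hk]; push_cast; ring
    · rw [← hq]; exact fun _ => hns
    · omega

/-- **The input of the recognition theorem for type B5**, `5 < q`. -/
theorem pre [Fintype F] (hE : Emb7 (S : Subgroup G) φ) (hL : LB φ F L₁ L₂) {ρ : G} (hρ : Rho φ ρ)
    (hodd : Odd (Fintype.card F)) (h3 : 3 < Fintype.card F)
    (hmod : Fintype.card F % 8 = 3 ∨ Fintype.card F % 8 = 5) (h5 : Fintype.card F ≠ 5) :
    ∃ (ε : ℤ) (N : ℕ), Pre F ε N 2 (φ z) (φ ze) ρ (φ n1) (φ n2) L₁ L₂ (U.map φ) := by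
  obtain ⟨ε, N, hN, hN'⟩ := exists_nums (F := F) hodd h3 hmod h5
  have h2 : (2 : F) ≠ 0 := AutTorus.two_ne_zero' hodd
  have hns : ¬ IsSquare (Nat.card F) := by
    rw [Nat.card_eq_fintype_card]; exact not_square_of_mod hmod
  have hcyc := T_cyc hL hE h2
  have hne : ∀ m : M7, m ≠ 1 → φ m ≠ 1 := fun m hm h => hm (hE.inj (h.trans (map_one φ).symm))
  refine ⟨ε, N,
    { nums := hN
      zz := by rw [← map_mul, z_sq, map_one]
      z_ne := hne z z_ne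
      ee := by rw [← map_mul, ← map_one φ]; congr 1
      e_ne := hne ze (by decide)
      e_ne_z := fun h => absurd (hE.inj h) (by decide)
      ze := by rw [← map_mul, ← map_mul]; congr 1
      iso1 := hL.iso₁
      z_mem := hL.q₁ z z_mem_Q1
      comm := hL.comm
      perm := fun c hc => hL.perm c hc
      e_norm := (hL.keep ze (by decide)).1
      T_cyc := hcyc.1
      T_card := ?_
      e_act := ?_
      n1_mem := hL.q₁ n1 n1_mem
      n1_sq := by rw [← map_mul, n1_sq]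
      n1_inv := fun t ht hte => n1_inv hL hE h2 ht hte
      n1_e := by rw [← map_inv, ← map_mul, ← map_mul, n1_ze, map_mul]
      n2_mem := hL.q₂ n2 n2_mem
      n2_sq := by rw [← map_mul, n2_sq]
      n2_inv := fun t ht hte => n2_inv hL hE h2 ht hte
      n2_e := by rw [← map_inv, ← map_mul, ← map_mul, n2_ze, map_mul]
      ρ_z := hρ.rot.1
      ρ_e := rho_e hρ
      swap := swap hρ hL
      U_z := ?_
      U_e := ?_
      U_ρ := U_ρ hρ
      U_T1 := ?_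
      U_T2 := ?_
      w_rot := w_rot hρ
      c_rot := c_rot hρ hE
      Z := fun x h1 h2 => Z_field hL hE x h1 h2
      two := fun x hx ⟨m, hm⟩ => hL.two₁ x m hm hx
      f := Or.inr ⟨rfl, φ ⟨.v, .v, .o, false⟩, ⟨_, f_mem, rfl⟩, by rw [← map_mul, f_sq]⟩ }⟩
  · rw [← Nat.card_eq_fintype_card] at hN'
    rcases hN' with ⟨h4, h6⟩ | ⟨h4, h6⟩ <;> rcases hcyc.2 with ⟨h7, h8⟩ | ⟨h7, h8⟩
    · rw [h6, h8]
    · omega
    · omega
    · rw [h6, h8]
  · intro h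
    have h4 := h _ (hL.q₁ n1 n1_mem)
    rw [← map_mul, ← map_mul] at h4
    exact absurd (hE.inj h4) (by decide)
  · rintro _ ⟨u, hu, rfl⟩
    rw [← map_mul, ← map_mul, z_comm]
  · rintro _ ⟨u, hu, rfl⟩
    rw [← map_mul, ← map_mul, U_ze' u hu]
  · rintro _ ⟨u, hu, rfl⟩ t ht hte
    exact U_T1 hL hE h2 hns hu ht hte
  · rintro _ ⟨u, hu, rfl⟩ t ht hte
    exact U_T2 hL hE h2 hns hu ht hte

end

end Cfsg.Agent.LFourB.PreFive
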