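import Cfsg.Agent.TwoFusion.StronglyEmbeddedBasic
import Cfsg.Prelude.Def_TwoFusion

/-!
# Strongly closed class of an involution

`G` simple, `z` an involution of a Sylow 2-subgroup `S` whose `G`-class meets `S` in the nontrivial
elements of a commutative subgroup `V`, `S` not commutative, `S` contains an involution outside `V`:
impossible, by Goldschmidt's theorem (`S1169`, here the hypothesis `Gold G`) and the fact that a
group with a strongly embedded subgroup has one class of involutions.
-/

set_option autoImplicit false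

namespace Cfsg.Agent.LFourB.XKill

open Subgroup

universe u

/-- The statement `S1169` (Goldschmidt's theorem) for one group. -/
def Gold (G : Type u) [Group G] : Prop :=
  ∀ (S : Sylow 2 G) (A : Subgroup G), A ≠ ⊥ → IsMulCommutative A →
    Cfsg.IsStronglyClosed A (S : Subgroup G) →
    IsMulCommutative (S : Subgroup G) ∨ ∃ H : Subgroup G, Cfsg.IsStronglyEmbedded H

variable {G : Type u} [Group G] [Finite G]

/-- A nontrivial strongly closed commutative subgroup of a noncommutative Sylow subgroup: all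
involutions are conjugate. -/
theorem isConj_of_stronglyClosed (hG : Gold G) (S : Sylow 2 G) {V : Subgroup G} (hV1 : V ≠ ⊥)
    (hVc : ∀ a ∈ V, ∀ b ∈ V, a * b = b * a) (hsc : Cfsg.IsStronglyClosed V (S : Subgroup G))
    {a b : G} (ha : a ∈ S) (hb : b ∈ S) (hab : a * b ≠ b * a) (x y : G) (hx : orderOf x = 2)
    (hy : orderOf y = 2) : IsConj x y := by
  rcases hG S V hV1 ⟨⟨fun a b => Subtype.ext (hVc a a.2 b b.2)⟩⟩ hsc with h | ⟨H, hH⟩
  · exact absurd (congrArg Subtype.val
      (h.is_comm.comm (⟨a, ha⟩ : (S : Subgroup G)) ⟨b, hb⟩)) hab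
  · exact Cfsg.Agent.TwoFusion.StronglyEmbeddedBasic.isConj_of_involutions hH x y hx hy

/-- The class of the involution `z` cannot meet `S` exactly in `V \ {1}`, `V` commutative, if `S` is
not commutative and has an involution outside `V`. -/
theorem false_of_class (hG : Gold G) (S : Sylow 2 G) {V : Subgroup G} (hVS : V ≤ S)
    (hVc : ∀ a ∈ V, ∀ b ∈ V, a * b = b * a) {z : G} (hz : z ∈ V) (hz2 : orderOf z = 2)
    (hcl : ∀ s ∈ S, IsConj z s → s ∈ V) (hV : ∀ v ∈ V, v ≠ 1 → IsConj z v) {y : G} (hy : y ∈ S)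
    (hy2 : orderOf y = 2) (hyV : y ∉ V) {a b : G} (ha : a ∈ S) (hb : b ∈ S)
    (hab : a * b ≠ b * a) : False := by
  have hsc : Cfsg.IsStronglyClosed V (S : Subgroup G) := by
    refine ⟨hVS, fun x hx g hg => ?_⟩
    by_cases h1 : x = 1
    · rw [h1]; simp
    · exact hcl _ hg ((hV x hx h1).trans (isConj_iff.mpr ⟨g, rfl⟩))
  have hV1 : V ≠ ⊥ := by
    rintro rfl
    rw [mem_bot] at hz
    rw [hz, orderOf_one] at hz2
    exact absurd hz2 (by norm_num)
  exact hyV (hcl y hy (isConj_of_stronglyClosed hG S hV1 hVc hsc ha hb hab z y hz2 hy2))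

end Cfsg.Agent.LFourB.XKill
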