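import Cfsg.Agent.LFourB.MSevenFe
import Cfsg.Agent.LFourB.XKill

/-!
# Fusion in groups with Sylow 2-subgroup `M7`: the four patterns (S0510, piece F-B5)

`exists_fus`: after the symmetry `swap`, `Fus S φ` holds. The four patterns are distinguished by `Tau φ` (there is an element
of odd order in `C(Z) ∩ N(V1) ∩ N(V2)` moving `x1 Z`) and `Q2 φ` (`ze` and `y1` are fused in `C(z)`):
(a1) `¬ Tau`, `¬ Q2` (`M22`); (a2) `¬ Tau`, `Q2` (`L4`, `U4`); (b1) `Tau`, `¬ Q2` (`M23`); (b2) `Tau`, `Q2` (`McL`).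
-/

set_option autoImplicit false

namespace Cfsg.Agent.LFourB.MSevenFf

open K4 M7 MSevenFa MSevenFb MSevenFc MSevenFd MSevenFe
open Subgroup
open Cfsg.Agent.SignalizersComponents.RelSylow
open Cfsg.Agent.SylowL5.Weak

universe u

/-! ### Facts on `M7` -/

theorem W1_le_V1 : W1 ≤ V1 := inf_le_left
theorem Z_le_V1 : Z ≤ V1 := by
  have h : ∀ x ∈ Z, x ∈ V1 := by decide +kernel
  exact h
theorem Z_le_V2 : Z ≤ V2 := by
  have h : ∀ x ∈ Z, x ∈ V2 := by decide +kernel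
  exact h

/-- involutions of `Q` outside `W1` -/
theorem Q_cases : ∀ m ∈ Q, m * m = 1 → m ∉ W1 → (∃ s : M7, s * m * s⁻¹ = y1) ∨ m.e = true := by decide +kernel

theorem swap_Z_cases : ∀ m ∈ V2, ty (swap m) = 1 → m ∈ Z := by decide +kernel
theorem swap_Z_cases' : ∀ m ∈ V2, ty (swap m) = 0 → m ∈ Z := by decide +kernel

theorem ty_swap_one : ∀ m ∈ V2, m ∉ Z → (ty (swap m) = 2 ∨ ty (swap m) = 3) := by decide +kernel

/-! ### The conditions -/

section Defs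

variable {G : Type u} [Group G]

/-- `ze` and `y1` are fused in `C(z) ∩ N(V2)`. -/
def Q2 (φ : M7 →* G) : Prop := Orb (centralizer {φ z}) (φ.comp swap.toMonoidHom) ze x1

/-- Fusion in groups with Sylow 2-subgroup `M7`. -/
structure Fus (S : Sylow 2 G) (φ : M7 →* G) : Prop where
  emb : Emb7 (S : Subgroup G) φ
  /-- `ze` and `x1` are fused in `C(z) ∩ N(V1)` -/
  q : Orb (centralizer {φ z}) φ ze x1
  /-- `N(V1)` is transitive on `V1 \ {1}` -/
  all1 : ∀ x ∈ V1, x ≠ 1 → Orb ⊤ φ z x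
  /-- `z` and `ze` are fused in `N(V1) ∩ N(V2)` -/
  norm : ∃ n : G, cj n (V1.map φ) = V1.map φ ∧ cj n (V2.map φ) = V2.map φ ∧ n * φ ze * n⁻¹ = φ z
  /-- `N(V2)` is transitive on `V2 \ {1}` or normalises `Z` -/
  dich : (∀ x ∈ V2, x ≠ 1 → ∃ n : G, cj n (V2.map φ) = V2.map φ ∧ n * φ z * n⁻¹ = φ x) ∨
    ((∀ g : G, ∀ x ∈ V2, g * φ z * g⁻¹ = φ x → x ∈ Z) ∧ ∃ n : G, cj n (V2.map φ) = V2.map φ ∧ n * φ y1 * n⁻¹ = φ y2)

end Defs

section

variable {G : Type u} [Group G] [Finite G] {S : Sylow 2 G} {φ : M7 →* G}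

theorem wc1 (h : Emb7 (S : Subgroup G) φ) : MQ.WC (S : Subgroup G) φ V1 := fun g hg => (weak1 h).2 g (mem_top _) hg
theorem wc2 (h : Emb7 (S : Subgroup G) φ) : MQ.WC (S : Subgroup G) φ V2 := fun g hg => (weak2 h).2 g (mem_top _) hg

omit [Finite G] in
theorem hom_trivial (hG : ∀ H : Subgroup G, H.index ≠ 2) (χ : G →* ℤˣ) (x : G) : χ x = 1 := by
  by_contra hx
  apply hG χ.ker
  rw [Subgroup.index_ker]
  have h1 : χ.range = ⊤ := by
    rw [eq_top_iff]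
    intro y _
    have hx' : χ x = -1 := by
      rcases Int.units_eq_one_or (χ x) with h | h
      · exact absurd h hx
      · exact h
    rcases Int.units_eq_one_or y with h | h
    · rw [h]; exact one_mem _
    · exact ⟨x, by rw [hx', h]⟩
  rw [h1, Subgroup.card_top, Nat.card_eq_fintype_card, Fintype.card_units_int]

omit [Finite G] in
theorem orb_swap {C : Subgroup G} {x y : M7} : Orb C (φ.comp swap.toMonoidHom) x y ↔
    ∃ n ∈ C, cj n (V2.map φ) = V2.map φ ∧ n * φ (swap x) * n⁻¹ = φ (swap y) := by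
  unfold Orb
  rw [Emb7.V1_comp_swap]
  exact Iff.rfl

omit [Finite G] in
theorem comp_comp : (φ.comp swap.toMonoidHom).comp swap.toMonoidHom = φ := by
  ext x
  show φ (swap (swap x)) = φ x
  rw [swap_swap]

theorem fus_of (h : Emb7 (S : Subgroup G) φ) (hG : ∀ H : Subgroup G, H.index ≠ 2)
    (hZ : ∃ g : G, g * φ z * g⁻¹ ∈ (S : Subgroup G) ∧ g * φ z * g⁻¹ ≠ φ z)
    (hq : Orb (centralizer {φ z}) φ ze x1) : Fus S φ := by
  obtain ⟨h1, h2⟩ := orbits h hG hZ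
  obtain ⟨h3, h4⟩ := orbits h.comp_swap hG hZ
  have hzx1 : Orb ⊤ φ z x1 := h1.trans (hq.mono le_top)
  have h5 : Orb ⊤ φ z x2 := by
    rcases h2 with h2 | h2
    · exact h2.2
    · exact absurd hzx1 h2.1
  refine ⟨h, hq, orb_all h le_top (Orb.refl z) h1 hzx1 h5, exists_norm_S0 h h1, ?_⟩
  rcases h4 with ⟨h6, h7⟩ | ⟨h6, h7, h8⟩
  · left
    intro x hx hx1
    have h9 := orb_all h.comp_swap le_top (Orb.refl z) h3 h6 h7 (swap x) ((swap_mem_V1 x).2 hx) (by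
      intro h10
      apply hx1
      rw [← swap_swap x, h10, map_one])
    obtain ⟨n, _, hn, hnx⟩ := orb_swap.1 h9
    rw [swap_swap] at hnx
    exact ⟨n, hn, hnx⟩
  · right
    constructor
    · intro g x hx hgx
      by_contra hxZ
      have h9 : Orb ⊤ (φ.comp swap.toMonoidHom) z (swap x) := by
        refine orb_of_conj h.comp_swap le_top (by decide) ((swap_mem_V1 x).2 hx) (mem_top g) ?_
        show g * φ (swap z) * g⁻¹ = φ (swap (swap x))
        rw [swap_swap, swap_z, hgx]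
      have h10 : swap x ≠ 1 := h9.ne_one h.comp_swap (by decide)
      have h11 := (orb_rep h.comp_swap le_top ((swap_mem_V1 x).2 hx) h10).1 h9
      rcases ty_swap_one x hx hxZ with h12 | h12
      · rw [h12] at h11; exact h6 h11
      · rw [h12] at h11; exact h7 h11
    · obtain ⟨n, _, hn, hnx⟩ := orb_swap.1 h8
      exact ⟨n, hn, hnx⟩

/-- **The fusion theorem.** -/
theorem exists_fus (h : Emb7 (S : Subgroup G) φ) (hG : ∀ H : Subgroup G, H.index ≠ 2)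
    (hZ : ∃ g : G, g * φ z * g⁻¹ ∈ (S : Subgroup G) ∧ g * φ z * g⁻¹ ≠ φ z) : ∃ ψ : M7 →* G, Fus S ψ ∧ ψ z = φ z := by
  rcases MQ.exists_fuse h (hom_trivial hG) (wc1 h) (wc2 h) with ⟨n, hn, hn1, hn2⟩ | ⟨n, hn, hn1, hn2⟩
  · exact ⟨φ, fus_of h hG hZ ⟨n, hn, hn1, hn2⟩, rfl⟩
  · refine ⟨φ.comp swap.toMonoidHom, fus_of h.comp_swap hG hZ (orb_swap.2 ⟨n, hn, hn1, hn2⟩), rfl⟩

namespace Fus

variable (F : Fus S φ)

include F

theorem exists_sigma : ∃ σ : G, MQ.Sig φ σ := by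
  obtain ⟨n, hn, hn1, hn2⟩ := F.q
  exact MQ.exists_sigma F.emb hn hn1 hn2

/-- `y1` and `f` are fused in `C(z)` -/
theorem y1_f : ∃ c ∈ centralizer {φ z}, c * φ y1 * c⁻¹ = φ f := by
  obtain ⟨σ, hσ⟩ := F.exists_sigma
  exact MQ.y1_conj_f F.emb hσ

/-- involutions of `S` outside `V1` and `V2` are fused to `y1` in `C(z)` -/
theorem exists_y1 {m : M7} (hm : m * m = 1) (he : m.e = true) : ∃ c ∈ centralizer {φ z}, c * φ m * c⁻¹ = φ y1 := by
  obtain ⟨s, hs⟩ := exists_conj_f m hm he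
  obtain ⟨c, hc, hcy⟩ := F.y1_f
  refine ⟨c⁻¹ * φ s, mul_mem (inv_mem hc) (S_le_H F.emb (F.emb.mem s)), ?_⟩
  calc c⁻¹ * φ s * φ m * (c⁻¹ * φ s)⁻¹ = c⁻¹ * φ (s * m * s⁻¹) * c := by simp only [map_mul, map_inv]; group
    _ = φ y1 := by rw [hs, ← hcy]; group

/-- `τ` exists iff `ze` and `x2` are fused in `C(z) ∩ N(V1)` -/
theorem tau_iff : Tau φ ↔ Orb (centralizer {φ z}) φ ze x2 :=
  ⟨orb_of_tau F.emb F.q, exists_tau F.emb⟩

/-- with `τ`, `C(z) ∩ N(V1)` is transitive on `V1 \ <z>` -/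
theorem trans (hτ : Tau φ) {v w : M7} (hv : v ∈ V1) (hv1 : v ≠ 1) (hvz : v ≠ z) (hw : w ∈ V1) (hw1 : w ≠ 1)
    (hwz : w ≠ z) : Orb (centralizer {φ z}) φ v w := by
  have key : ∀ v : M7, v ∈ V1 → v ≠ 1 → v ≠ z → Orb (centralizer {φ z}) φ ze v := by
    intro v hv hv1 hvz
    rw [orb_rep F.emb (S_le_H F.emb) hv hv1]
    have h0 : ty v ≠ 0 := fun h0 => hvz (eq_z_of_ty v hv hv1 h0)
    have : ∀ j : Fin 4, j ≠ 0 → Orb (centralizer {φ z}) φ ze (rep j) := by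
      intro j hj
      fin_cases j
      · exact absurd rfl hj
      · exact Orb.refl ze
      · exact F.q
      · exact F.tau_iff.1 hτ
    exact this _ h0
  exact (key v hv hv1 hvz).symm.trans (key w hw hw1 hwz)

/-- without `τ`, `x2` is isolated up to `S`-conjugacy -/
theorem sep1 (hτ : ¬ Tau φ) {g : G} (hg : g ∈ centralizer {φ z}) {m : M7}
    (hm : g * φ x2 * g⁻¹ = φ m) : m ∈ V1 ∧ pr m.a = false := isol F.emb hτ hg hm

omit F [Finite G] in
theorem not_tau_swap (hτ : ¬ Tau φ) : ¬ Tau (φ.comp swap.toMonoidHom) := by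
  intro h1
  apply hτ
  have h2 := h1.swap
  rwa [comp_comp] at h2

/-- without `τ`, `y2` is isolated up to `S`-conjugacy -/
theorem sep2 (hτ : ¬ Tau φ) {g : G} (hg : g ∈ centralizer {φ z}) {m : M7}
    (hm : g * φ y2 * g⁻¹ = φ m) : m ∈ V2 ∧ pr m.b = false := by
  have h1 := isol F.emb.comp_swap (not_tau_swap hτ) (g := g) hg (m := swap m) (by
    show g * φ (swap x2) * g⁻¹ = φ (swap (swap m))
    rw [swap_swap, swap_x2, hm])
  exact ⟨(swap_mem_V1 m).1 h1.1, h1.2⟩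

/-- without `Q2`, `ze` and `y1` are not fused in `C(z)` -/
theorem not_conj_y1 (hQ : ¬ Q2 φ) {g : G} (hg : g ∈ centralizer {φ z}) : g * φ ze * g⁻¹ ≠ φ y1 := by
  intro h1
  exact hQ (orb_of_conj F.emb.comp_swap (S_le_H F.emb) (by decide) (by decide) hg h1)

/-- without `Q2`, `C(z) ∩ N(V2)` normalises `Z` -/
theorem noR1b (hQ : ¬ Q2 φ) {n : G} (hn : n ∈ centralizer {φ z}) (hn2 : cj n (V2.map φ) = V2.map φ) :
    cj n (Z.map φ) = Z.map φ := by
  have hnz := mem_centralizer_singleton_iff.1 hn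
  have ez : n * φ z * n⁻¹ = φ z := by rw [hnz, mul_inv_cancel_right]
  obtain ⟨m, hm, hmn⟩ : n * φ ze * n⁻¹ ∈ V2.map φ := mem_of_cj hn2 (F.emb.mem_map.2 (by decide))
  have h1 : Orb (centralizer {φ z}) (φ.comp swap.toMonoidHom) ze (swap m) := by
    refine orb_swap.2 ⟨n, hn, hn2, ?_⟩
    rw [swap_swap, swap_ze]; exact hmn.symm
  have h2 : swap m ≠ 1 := h1.ne_one F.emb.comp_swap (by decide)
  have h3 : m ∈ Z := by
    by_contra hmZ
    have h4 := (orb_rep F.emb.comp_swap (C := centralizer {φ z}) (S_le_H F.emb) ((swap_mem_V1 m).2 hm) h2).1 h1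
    rcases ty_swap_one m hm hmZ with h12 | h12
    · rw [h12] at h4; exact hQ h4
    · rw [h12] at h4; exact hQ (orb_ze F.emb.comp_swap (S_le_H F.emb) le_rfl h4)
  refine cj_eq_of_le (cj_le_iff.2 ?_) le_rfl
  rintro _ ⟨c, hc, rfl⟩
  have e2 : n * φ ze * n⁻¹ ∈ Z.map φ := by rw [← hmn]; exact F.emb.mem_map.2 h3
  rcases Z_cases c hc with rfl | rfl | rfl | rfl
  · rw [map_one, mul_one, mul_inv_cancel]; exact one_mem _
  · rw [ez]; exact F.emb.mem_map.2 (by decide)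
  · exact e2
  · rw [map_mul, conj_mul', ez]
    exact mul_mem e2 (F.emb.mem_map.2 (by decide))

/-- without `Q2`, an involution of `Q` fused to `ze` in `C(z)` lies in `W1 = V1 ⊓ Q` -/
theorem mem_W1 (hQ : ¬ Q2 φ) {g : G} (hg : g ∈ centralizer {φ z}) {m : M7} (hm : m ∈ Q)
    (hgm : g * φ ze * g⁻¹ = φ m) : m ∈ W1 := by
  by_contra hmW
  have hm2 : m * m = 1 := involution_of_conj F.emb (x := ze) (by decide) hgm
  rcases Q_cases m hm hm2 hmW with ⟨s, hs⟩ | he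
  · apply F.not_conj_y1 hQ (g := φ s * g) (mul_mem (S_le_H F.emb (F.emb.mem s)) hg)
    calc φ s * g * φ ze * (φ s * g)⁻¹ = φ s * (g * φ ze * g⁻¹) * (φ s)⁻¹ := by group
      _ = φ y1 := by rw [hgm, ← map_mul, ← map_inv, ← map_mul, hs]
  · obtain ⟨c, hc, hcm⟩ := F.exists_y1 hm2 he
    apply F.not_conj_y1 hQ (g := c * g) (mul_mem hc hg)
    calc c * g * φ ze * (c * g)⁻¹ = c * (g * φ ze * g⁻¹) * c⁻¹ := by group
      _ = φ y1 := by rw [hgm, hcm]

/-- without `Q2`, `C(z) ∩ N(Q)` normalises `W1` -/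
theorem noR1a (hQ : ¬ Q2 φ) {n : G} (hn : n ∈ centralizer {φ z}) (hnQ : cj n (Q.map φ) = Q.map φ) :
    cj n (W1.map φ) = W1.map φ := by
  have hnz := mem_centralizer_singleton_iff.1 hn
  have ez : n * φ z * n⁻¹ = φ z := by rw [hnz, mul_inv_cancel_right]
  refine cj_eq_of_le (cj_le_iff.2 ?_) le_rfl
  rintro _ ⟨x, hx, rfl⟩
  by_cases h1 : x = 1
  · rw [h1, map_one, mul_one, mul_inv_cancel]; exact one_mem _
  by_cases h2 : x = z
  · rw [h2, ez]; exact F.emb.mem_map.2 (by decide)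
  obtain ⟨u, hu, _, _, hux⟩ := W_trans F.emb F.q hx h1 h2
  have hxQ : x ∈ Q := (Subgroup.mem_inf.1 hx).2
  obtain ⟨m, hm, hmn⟩ : n * φ x * n⁻¹ ∈ Q.map φ := mem_of_cj hnQ (F.emb.mem_map.2 hxQ)
  rw [← hmn]
  refine F.emb.mem_map.2 (F.mem_W1 hQ (g := n * u) (mul_mem hn hu) hm ?_)
  calc n * u * φ ze * (n * u)⁻¹ = n * (u * φ ze * u⁻¹) * n⁻¹ := by group
    _ = φ m := by rw [hux, hmn]

/-- every involution of `S` is `G`-conjugate to `z` if `N(V2)` is transitive on `V2 \ {1}` -/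
theorem isConj_of (h2 : ∀ x ∈ V2, x ≠ 1 → ∃ n : G, cj n (V2.map φ) = V2.map φ ∧ n * φ z * n⁻¹ = φ x)
    {s : G} (hs : s ∈ (S : Subgroup G)) (hs2 : orderOf s = 2) : IsConj (φ z) s := by
  obtain ⟨m, rfl⟩ := F.emb.exists_eq hs
  have hm : m * m = 1 := by
    apply F.emb.inj
    rw [map_mul, map_one, ← pow_two, ← hs2, pow_orderOf_eq_one]
  have hm1 : m ≠ 1 := by
    rintro rfl
    rw [map_one, orderOf_one] at hs2
    exact absurd hs2 (by norm_num)
  have hy : ∃ n : G, n * φ z * n⁻¹ = φ y1 := by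
    obtain ⟨n, _, hn⟩ := h2 y1 (by decide) (by decide)
    exact ⟨n, hn⟩
  rcases M7.inv_cases m hm with h1 | h1 | h1
  · obtain ⟨n, _, _, hn⟩ := F.all1 m h1 hm1
    exact isConj_iff.2 ⟨n, hn⟩
  · obtain ⟨n, _, hn⟩ := h2 m h1 hm1
    exact isConj_iff.2 ⟨n, hn⟩
  · obtain ⟨n, hn⟩ := hy
    obtain ⟨c, _, hc⟩ := F.y1_f
    obtain ⟨s, hs⟩ := h1
    refine (isConj_iff.2 ⟨n, hn⟩ : IsConj (φ z) (φ y1)).trans ((isConj_iff.2 ⟨c, hc⟩ : IsConj (φ y1) (φ f)).trans ?_)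
    refine isConj_iff.2 ⟨φ s, ?_⟩
    rw [← map_mul, ← map_inv, ← map_mul, hs]

/-- with Goldschmidt's theorem, `N(V2)` is transitive on `V2 \ {1}` -/
theorem all2 (hGold : XKill.Gold G) :
    ∀ x ∈ V2, x ≠ 1 → ∃ n : G, cj n (V2.map φ) = V2.map φ ∧ n * φ z * n⁻¹ = φ x := by
  rcases F.dich with h1 | ⟨h1, _⟩
  · exact h1
  · exfalso
    have hord : ∀ m : M7, m * m = 1 → m ≠ 1 → orderOf (φ m) = 2 := by
      intro m hm hm1
      rw [orderOf_injective φ F.emb.inj]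
      exact orderOf_eq_prime (by rw [pow_two, hm]) hm1
    have h2 : ∀ g : G, g * φ z * g⁻¹ ≠ φ y1 := by
      intro g hg
      exact absurd (h1 g y1 (by decide) hg) (by decide)
    refine XKill.false_of_class hGold S (V := V1.map φ) (F.emb.map_le _) (comm_map V1_comm) (z := φ z)
      (F.emb.mem_map.2 (by decide)) (hord z (by decide) (by decide)) ?_ ?_ (y := φ y1) (F.emb.mem _)
      (hord y1 (by decide) (by decide)) (fun h3 => absurd (F.emb.mem_map.1 h3) (by decide))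
      (a := φ x1) (b := φ y1) (F.emb.mem _) (F.emb.mem _) ?_
    · intro s hs hc
      obtain ⟨m, rfl⟩ := F.emb.exists_eq hs
      obtain ⟨g, hg⟩ := isConj_iff.1 hc
      have hm : m * m = 1 := involution_of_conj F.emb (x := z) (by decide) hg
      rw [F.emb.mem_map]
      rcases M7.inv_cases m hm with h3 | h3 | h3
      · exact h3
      · exact Z_le_V1 (h1 g m h3 hg)
      · exfalso
        obtain ⟨s, hs⟩ := h3
        obtain ⟨c, _, hc⟩ := F.y1_f
        apply h2 (c⁻¹ * φ s⁻¹ * g)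
        calc c⁻¹ * φ s⁻¹ * g * φ z * (c⁻¹ * φ s⁻¹ * g)⁻¹ = c⁻¹ * (φ s⁻¹ * (g * φ z * g⁻¹) * (φ s⁻¹)⁻¹) * c := by group
          _ = c⁻¹ * φ (s⁻¹ * m * s⁻¹⁻¹) * c := by rw [hg]; simp only [map_mul, map_inv]
          _ = c⁻¹ * φ f * c := by rw [← hs]; congr 3; group
          _ = φ y1 := by rw [← hc]; group
    · rintro _ ⟨v, hv, rfl⟩ hv1
      obtain ⟨n, _, _, hn⟩ := F.all1 v hv (by rintro rfl; exact hv1 (map_one φ))
      exact isConj_iff.2 ⟨n, hn⟩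
    · rw [← map_mul, ← map_mul]
      intro h3
      exact absurd (F.emb.inj h3) (by decide)

/-- with Goldschmidt's theorem, all involutions are conjugate -/
theorem isConj (hGold : XKill.Gold G) {s : G} (hs : s ∈ (S : Subgroup G)) (hs2 : orderOf s = 2) :
    IsConj (φ z) s := F.isConj_of (F.all2 hGold) hs hs2

omit [Finite G] in
/-- pattern (b2): if `Tau` and `Q2` hold, `ze` and `y2` are fused in `C(z) ∩ N(V2)` -/
theorem orb_y2 (hτ : Tau φ) (hQ : Q2 φ) : Orb (centralizer {φ z}) (φ.comp swap.toMonoidHom) ze x2 :=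
  orb_of_tau F.emb.comp_swap hQ hτ.swap

end Fus

end

end Cfsg.Agent.LFourB.MSevenFf
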