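import Cfsg.Agent.LFourB.StepSixOut
import Cfsg.Agent.LFourB.MSevenFf

/-!
# Type B5, step 6: the patterns (a1) and (a2) of the fusion theorem
-/

set_option autoImplicit false

namespace Cfsg.Agent.LFourB.StepSixInst

open Subgroup Cfsg.Agent.LFourB K4 M7 StepSixModel StepSixOut
open Cfsg.Agent.LFourA.CzCt
open MSevenFa MSevenFb MSevenFd MSevenFf
open Cfsg.Agent.SignalizersComponents.RelSylow
open Cfsg.Agent.SylowL5.Weak

universe u

theorem cx_of : ∀ m : M7, m ∈ V1 → pr m.a = false → cx m = true := by decide +kernel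
theorem cy_of : ∀ m : M7, m ∈ V2 → pr m.b = false → cy m = true := by decide +kernel
theorem B1_iff : ∀ m : M7, m ∈ B1 ↔ (m ∈ V1 ∧ m ∈ M7.Q) := by decide +kernel

variable {G : Type u} [Group G] [Finite G] {S : Sylow 2 G} {φ : M7 →* G} (F : Fus S φ)

include F

theorem input (hτ : ¬ Tau φ) : In (S : Subgroup G) φ where
  emb := F.emb
  sx g m hg e := by
    obtain ⟨h1, h2⟩ := F.sep1 hτ (mem_centralizer_singleton_iff.2 hg) e
    exact cx_of m h1 h2
  sy g m hg e := by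
    obtain ⟨h1, h2⟩ := F.sep2 hτ (mem_centralizer_singleton_iff.2 hg) e
    exact cy_of m h1 h2

/-- pattern (a1) -/
theorem patternOne
    (hC1 : ∀ (G : Type u) [Group G] [Finite G] (P : Sylow 2 G) (A B : Subgroup G), A ⊓ B = ⊥ →
      Cfsg.IsStronglyClosed A (P : Subgroup G) → Cfsg.IsStronglyClosed B (P : Subgroup G) →
      ⁅Subgroup.normalClosure (A : Set G), Subgroup.normalClosure (B : Set G)⁆ ≤ Cfsg.oddCore G)
    (hτ : ¬ Tau φ) (hQ : ¬ Q2 φ) (c : G) (hc : c ∈ centralizer ({φ z} : Set G)) :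
    ∃ o ∈ Cfsg.centralizerPPrimeCore 2 (φ z), ∃ n ∈ centralizer ({φ z} : Set G),
      n ∈ normalizer (V1.map φ : Set G) ∧ c = o * n := by
  obtain ⟨o, ho, n, hn, hnV, e⟩ := caseOne (input F hτ) hC1 (by
    intro n hn hnQ m hm
    have h1 : cj n (M7.Q.map φ) = M7.Q.map φ := by
      apply Subgroup.eq_of_le_of_card_ge
      · rintro _ ⟨x, hx, rfl⟩
        exact (Subgroup.mem_normalizer_iff.1 hnQ x).1 hx
      · have hinj : Function.Injective (MulAut.conj n).toMonoidHom := (MulAut.conj n).injective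
        exact (Subgroup.card_map_of_injective hinj).ge
    have h2 := F.noR1a hQ (mem_centralizer_singleton_iff.2 hn) h1
    have h3 : φ m ∈ W1.map φ := F.emb.mem_map.2 (Subgroup.mem_inf.2 ((B1_iff m).1 hm))
    have h4 : n * φ m * n⁻¹ ∈ W1.map φ := mem_of_cj h2 h3
    obtain ⟨m', hm', e⟩ := h4
    exact ⟨m', (B1_iff m').2 (Subgroup.mem_inf.1 hm'), e.symm⟩) c (mem_centralizer_singleton_iff.1 hc)
  exact ⟨o, ho, n, mem_centralizer_singleton_iff.2 hn, hnV, e⟩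

/-- pattern (a2) -/
theorem patternTwo
    (hC1 : ∀ (G : Type u) [Group G] [Finite G] (P : Sylow 2 G) (A B : Subgroup G), A ⊓ B = ⊥ →
      Cfsg.IsStronglyClosed A (P : Subgroup G) → Cfsg.IsStronglyClosed B (P : Subgroup G) →
      ⁅Subgroup.normalClosure (A : Set G), Subgroup.normalClosure (B : Set G)⁆ ≤ Cfsg.oddCore G)
    (hGW : ∀ (X : Type u) [Group X] [Finite X] [Group.IsPerfect X]
      (S : Sylow 2 X) (n : ℕ), 2 ≤ n → Nonempty ((S : Subgroup X) ≃* DihedralGroup n) →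
      (∃ (F : Type) (_ : Field F) (_ : Fintype F), Odd (Fintype.card F) ∧ 3 < Fintype.card F ∧
        Nonempty (X ⧸ Cfsg.oddCore X ≃* Matrix.ProjectiveSpecialLinearGroup (Fin 2) F)) ∨
      Nonempty (X ⧸ Cfsg.oddCore X ≃* alternatingGroup (Fin 7)))
    (hτ : ¬ Tau φ) (hQ : Q2 φ) :
    ∃ (X : Type u) (_ : Group X) (_ : Finite X) (p : centralizer ({φ z} : Set G) →* X) (K₁ K₂ : Subgroup X)
      (F : Type) (_ : Field F) (_ : Fintype F), Odd (Fintype.card F) ∧ CZL (φ z) F p K₁ K₂ ∧ SPos φ p K₁ K₂ := by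
  obtain ⟨a, ha, -, ea⟩ := F.q
  obtain ⟨b, hb, -, eb⟩ := orb_swap.1 hQ
  obtain ⟨c, hc, ec⟩ := F.y1_f
  rw [swap_ze, swap_x1] at eb
  have ha' := mem_centralizer_singleton_iff.1 ha
  have h1 : a⁻¹ * φ x1 * a⁻¹⁻¹ = φ ze := by rw [← ea]; group
  have h2 : b * a⁻¹ * φ x1 * (b * a⁻¹)⁻¹ = φ y1 := by
    rw [← eb, ← h1]; group
  have h3 : c * (b * a⁻¹) * φ x1 * (c * (b * a⁻¹))⁻¹ = φ f := by
    rw [← ec, ← h2]; group
  exact caseTwo (input F hτ) hC1 hGW
    ⟨a⁻¹, mem_centralizer_singleton_iff.1 (inv_mem ha), h1⟩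
    ⟨b * a⁻¹, mem_centralizer_singleton_iff.1 (mul_mem hb (inv_mem ha)), h2⟩
    ⟨c * (b * a⁻¹), mem_centralizer_singleton_iff.1 (mul_mem hc (mul_mem hb (inv_mem ha))), h3⟩

end Cfsg.Agent.LFourB.StepSixInst
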