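import Cfsg.Agent.LFourB.RConA

/-!
# The recognition end of type B1: preimages of `K₁`, `K₂` (abstract part)

`O` is the odd core of `C(z)`; an involution `w` of `C(z)` inverts `O` and swaps `K₁` and `K₂`.
-/

set_option autoImplicit false
set_option linter.unusedSectionVars false

namespace Cfsg.Agent.LFourB.RCon

open Subgroup Cfsg Cfsg.Agent.LFourB Cfsg.Agent.LFourB.RDefs Cfsg.Agent.LFourB.CzB Cfsg.Agent.LFourA.CzCt
open Cfsg.Agent.StandardComponent.CentCore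
open scoped commutatorElement

variable {G X : Type*} [Group G] [Group X] {z w : G} {p : ↥(centralizer ({z} : Set G)) →* X} {A B : Subgroup X}

theorem core_abelian (hinv : ∀ a ∈ centralizerPPrimeCore 2 z, w * a * w⁻¹ = a⁻¹) :
    ∀ a ∈ centralizerPPrimeCore 2 z, ∀ b ∈ centralizerPPrimeCore 2 z, a * b = b * a := by
  intro a ha b hb
  have h1 := hinv _ (mul_mem ha hb)
  have h2 : w * (a * b) * w⁻¹ = (w * a * w⁻¹) * (w * b * w⁻¹) := by group
  rw [h2, hinv a ha, hinv b hb, ← mul_inv_rev] at h1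
  exact (inv_injective h1).symm

theorem act_w (_hw : w * z = z * w) (hww : w * w = 1) (hinv : ∀ a ∈ centralizerPPrimeCore 2 z, w * a * w⁻¹ = a⁻¹)
    {x : G} (hx : x * z = z * x) {a : G} (ha : a ∈ centralizerPPrimeCore 2 z) :
    (w * x * w⁻¹) * a * (w * x * w⁻¹)⁻¹ = x * a * x⁻¹ := by
  have hwi : w⁻¹ = w := inv_eq_of_mul_eq_one_left hww
  have h1 : w⁻¹ * a * w = a⁻¹ := by
    have := hinv a ha
    rw [hwi] at this ⊢
    exact this
  have h2 : (w * x * w⁻¹) * a * (w * x * w⁻¹)⁻¹ = w * (x * (w⁻¹ * a * w) * x⁻¹) * w⁻¹ := by group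
  rw [h2, h1, hinv _ (core_conj_mem hx (inv_mem ha))]
  group

theorem mem_up_comm {x : G} {K : Subgroup X} (hx : x ∈ up p K) : x * z = z * x :=
  mem_centralizer_singleton_iff.1 (mem_up.1 hx).1

/-- `p x = p y` -/
theorem exists_core (hker : ∀ x, p x = 1 ↔ (x : G) ∈ centralizerPPrimeCore 2 z)
    {x y : ↥(centralizer ({z} : Set G))} (h : p x = p y) : ∃ o ∈ centralizerPPrimeCore 2 z, (x : G) = y * o := by
  have h1 : p (y⁻¹ * x) = 1 := by rw [map_mul, map_inv, h, inv_mul_cancel]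
  refine ⟨_, (hker _).1 h1, ?_⟩
  simp

/-- `C(z)` acts on `O(C(z))` like an abelian group on `up p A`. -/
theorem comm_up_le (hker : ∀ x, p x = 1 ↔ (x : G) ∈ centralizerPPrimeCore 2 z)
    (hAB : ∀ x ∈ A, ∀ y ∈ B, x * y = y * x) (hw : w * z = z * w) (hww : w * w = 1)
    (hinv : ∀ a ∈ centralizerPPrimeCore 2 z, w * a * w⁻¹ = a⁻¹)
    (hsw : ∀ x ∈ A, p ⟨w, mem_centralizer_singleton_iff.2 hw⟩ * x * (p ⟨w, mem_centralizer_singleton_iff.2 hw⟩)⁻¹ ∈ B) :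
    ⁅up p A, up p A⁆ ≤ centralizer (centralizerPPrimeCore 2 z : Set G) := by
  rw [commutator_le]
  intro g1 h1 g2 h2
  have c1 := mem_up_comm h1
  have c2 := mem_up_comm h2
  obtain ⟨m1, a1⟩ := mem_up.1 h1
  obtain ⟨m2, a2⟩ := mem_up.1 h2
  have mw : w ∈ centralizer ({z} : Set G) := mem_centralizer_singleton_iff.2 hw
  have my : w * g2 * w⁻¹ ∈ centralizer ({z} : Set G) := mul_mem (mul_mem mw m2) (inv_mem mw)
  have hy : p ⟨w * g2 * w⁻¹, my⟩ ∈ B := by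
    have := hsw _ a2
    rw [← map_mul, ← map_inv, ← map_mul] at this
    exact this
  have hc : p (⟨g1, m1⟩ * ⟨w * g2 * w⁻¹, my⟩) = p (⟨w * g2 * w⁻¹, my⟩ * ⟨g1, m1⟩) := by
    rw [map_mul, map_mul]
    exact hAB _ a1 _ hy
  obtain ⟨o, ho, hoe⟩ := exists_core hker hc
  simp only [Subgroup.coe_mul] at hoe
  have hab := core_abelian hinv
  have key : ∀ a ∈ centralizerPPrimeCore 2 z, g1 * g2 * a * (g1 * g2)⁻¹ = g2 * g1 * a * (g2 * g1)⁻¹ := by
    intro a ha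
    have e1 : g1 * g2 * a * (g1 * g2)⁻¹ = g1 * (g2 * a * g2⁻¹) * g1⁻¹ := by group
    have e2 : g2 * g1 * a * (g2 * g1)⁻¹ = g2 * (g1 * a * g1⁻¹) * g2⁻¹ := by group
    rw [e1, e2, ← act_w hw hww hinv c2 ha, ← act_w hw hww hinv c2 (core_conj_mem c1 ha)]
    have e3 : g1 * (w * g2 * w⁻¹ * a * (w * g2 * w⁻¹)⁻¹) * g1⁻¹ =
        (g1 * (w * g2 * w⁻¹)) * a * (g1 * (w * g2 * w⁻¹))⁻¹ := by group
    rw [e3, hoe]
    have e4 : w * g2 * w⁻¹ * g1 * o * a * (w * g2 * w⁻¹ * g1 * o)⁻¹ =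
        w * g2 * w⁻¹ * g1 * (o * a * o⁻¹) * (w * g2 * w⁻¹ * g1)⁻¹ := by group
    rw [e4, hab o ho a ha]
    group
  rw [mem_centralizer_iff]
  intro a ha
  have hb : (g2 * g1)⁻¹ * a * (g2 * g1)⁻¹⁻¹ ∈ centralizerPPrimeCore 2 z := by
    apply core_conj_mem _ ha
    have : (g2 * g1) * z = z * (g2 * g1) := by rw [mul_assoc, c1, ← mul_assoc, c2, mul_assoc]
    rw [inv_mul_eq_iff_eq_mul, ← mul_assoc, this, mul_assoc, mul_inv_cancel, mul_one]
  have h3 := key _ hb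
  have h4 : g2 * g1 * ((g2 * g1)⁻¹ * a * (g2 * g1)⁻¹⁻¹) * (g2 * g1)⁻¹ = a := by group
  rw [h4] at h3
  have h5 : ⁅g1, g2⁆ * a * ⁅g1, g2⁆⁻¹ = a := by
    rw [commutatorElement_def]
    calc g1 * g2 * g1⁻¹ * g2⁻¹ * a * (g1 * g2 * g1⁻¹ * g2⁻¹)⁻¹
        = g1 * g2 * ((g2 * g1)⁻¹ * a * (g2 * g1)⁻¹⁻¹) * (g1 * g2)⁻¹ := by group
      _ = a := h3
  exact (mul_inv_eq_iff_eq_mul.1 h5).symm

/-- the perfect core of the preimage centralises `O(C(z))` -/
theorem perf_up_comm (hker : ∀ x, p x = 1 ↔ (x : G) ∈ centralizerPPrimeCore 2 z)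
    (hAB : ∀ x ∈ A, ∀ y ∈ B, x * y = y * x) (hw : w * z = z * w) (hww : w * w = 1)
    (hinv : ∀ a ∈ centralizerPPrimeCore 2 z, w * a * w⁻¹ = a⁻¹)
    (hsw : ∀ x ∈ A, p ⟨w, mem_centralizer_singleton_iff.2 hw⟩ * x * (p ⟨w, mem_centralizer_singleton_iff.2 hw⟩)⁻¹ ∈ B) :
    ∀ a ∈ centralizerPPrimeCore 2 z, ∀ x ∈ perf (up p A), a * x = x * a := by
  intro a ha x hx
  have h1 : x ∈ ⁅perf (up p A), perf (up p A)⁆ := by rw [perf_comm]; exact hx
  have h2 := comm_up_le hker hAB hw hww hinv hsw (commutator_mono (perf_le _) (perf_le _) h1)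
  exact mem_centralizer_iff.1 h2 a ha

/-- `perf (up p A)` covers `A` -/
theorem exists_lift [Finite G] (hsurj : Function.Surjective p) (hA : ⁅A, A⁆ = A) {k : X} (hk : k ∈ A) :
    ∃ x ∈ perf (up p A), ∃ hx : x ∈ centralizer ({z} : Set G), p ⟨x, hx⟩ = k := by
  have hm : (A.comap p).map p = A := map_comap_eq_self_of_surjective hsurj A
  obtain ⟨H, hH, hHH, hHm⟩ := exists_perfect_cover p (A.comap p) (by rw [hm, hA])
  have h1 : H.map (centralizer ({z} : Set G)).subtype ≤ perf (up p A) := by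
    refine le_perf (map_mono hH) ?_
    rw [← map_commutator, hHH]
  rw [hm] at hHm
  rw [← hHm] at hk
  obtain ⟨x, hx, rfl⟩ := hk
  exact ⟨x, h1 (mem_map_of_mem _ hx), x.2, rfl⟩

theorem cj_up_le {g : G} (hg : g * z = z * g)
    (h : ∀ x ∈ A, p ⟨g, mem_centralizer_singleton_iff.2 hg⟩ * x * (p ⟨g, mem_centralizer_singleton_iff.2 hg⟩)⁻¹ ∈ B) :
    cj g (up p A) ≤ up p B := by
  intro y hy
  rw [mem_cj] at hy
  obtain ⟨m, hm⟩ := mem_up.1 hy
  have mg : g ∈ centralizer ({z} : Set G) := mem_centralizer_singleton_iff.2 hg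
  have hy' : y = g * (g⁻¹ * y * g) * g⁻¹ := by group
  have my : y ∈ centralizer ({z} : Set G) := by
    rw [hy']
    exact mul_mem (mul_mem mg m) (inv_mem mg)
  refine mem_up.2 ⟨my, ?_⟩
  have h1 := h _ hm
  rw [← map_mul, ← map_inv, ← map_mul] at h1
  have h2 : (⟨g, mg⟩ : ↥(centralizer ({z} : Set G))) * ⟨g⁻¹ * y * g, m⟩ * (⟨g, mg⟩)⁻¹ = ⟨y, my⟩ := by
    apply Subtype.ext
    simp only [Subgroup.coe_mul, InvMemClass.coe_inv]
    exact hy'.symm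
  rw [h2] at h1
  exact h1

theorem card_cj (g : G) (K : Subgroup G) : Nat.card (cj g K) = Nat.card K :=
  card_map_of_injective (MulAut.conj g).injective

theorem cj_eq_of_le [Finite G] {g : G} {K K' : Subgroup G} (h : cj g K ≤ K') (hc : Nat.card K' ≤ Nat.card K) :
    cj g K = K' := eq_of_le_of_card_ge h (by rw [card_cj]; exact hc)

/-- every element of `C(z)` normalises or swaps the two perfect cores -/
theorem cj_perf_up [Finite G] {F : Type*} [Field F] {K₁ K₂ : Subgroup X} (hz : CZB z F p K₁ K₂) {g : G}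
    (hg : g * z = z * g) :
    (cj g (perf (up p K₁)) = perf (up p K₁) ∧ cj g (perf (up p K₂)) = perf (up p K₂)) ∨
      (cj g (perf (up p K₁)) = perf (up p K₂) ∧ cj g (perf (up p K₂)) = perf (up p K₁)) := by
  rcases hz.norm (p ⟨g, mem_centralizer_singleton_iff.2 hg⟩) with h | h
  · left
    rw [cj_perf, cj_perf, cj_eq_of_le (cj_up_le hg h.1) le_rfl, cj_eq_of_le (cj_up_le hg h.2) le_rfl]
    exact ⟨rfl, rfl⟩
  · right
    have h1 := card_le_of_le (cj_up_le hg h.1)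
    have h2 := card_le_of_le (cj_up_le hg h.2)
    rw [card_cj] at h1 h2
    rw [cj_perf, cj_perf, cj_eq_of_le (cj_up_le hg h.1) h2, cj_eq_of_le (cj_up_le hg h.2) h1]
    exact ⟨rfl, rfl⟩

/-- 2-elements of `up p A` lie in the perfect core -/
theorem mem_perf_of_pow [Finite G] (hker : ∀ x, p x = 1 ↔ (x : G) ∈ centralizerPPrimeCore 2 z)
    (hsurj : Function.Surjective p) (hA : ⁅A, A⁆ = A)
    (hO : ∀ a ∈ centralizerPPrimeCore 2 z, ∀ x ∈ perf (up p A), a * x = x * a) {x : G} (hx : x ∈ up p A) {n : ℕ}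
    (hn : x ^ 2 ^ n = 1) : x ∈ perf (up p A) := by
  obtain ⟨m, hm⟩ := mem_up.1 hx
  obtain ⟨l, hl, ml, hpl⟩ := exists_lift hsurj hA hm
  obtain ⟨o, ho, hoe⟩ := exists_core hker (x := ⟨x, m⟩) (y := ⟨l, ml⟩) (by rw [hpl])
  simp only at hoe
  have hc : Commute l o := (hO o ho l hl).symm
  have h1 : l ^ 2 ^ n * o ^ 2 ^ n = 1 := by rw [← hc.mul_pow, ← hoe, hn]
  have h2 : o ^ 2 ^ n ∈ perf (up p A) := by
    rw [eq_inv_of_mul_eq_one_right h1]
    exact inv_mem (pow_mem hl _)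
  have h3 : Nat.Coprime (2 ^ n) (orderOf o) :=
    Nat.Coprime.pow_left n ((Nat.coprime_two_left).2 (core_odd_order ho))
  obtain ⟨k, hk⟩ := exists_pow_eq_self_of_coprime h3
  rw [hoe]
  refine mul_mem hl ?_
  rw [← hk]
  exact pow_mem h2 k

/-- the two perfect cores commute -/
theorem perf_comm_perf [Finite G] {F : Type*} [Field F] {K₁ K₂ : Subgroup X} (hz : CZB z F p K₁ K₂)
    (hab : ∀ a ∈ centralizerPPrimeCore 2 z, ∀ b ∈ centralizerPPrimeCore 2 z, a * b = b * a)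
    (h1 : ∀ a ∈ centralizerPPrimeCore 2 z, ∀ x ∈ perf (up p K₁), a * x = x * a) :
    ∀ x ∈ perf (up p K₁), ∀ y ∈ perf (up p K₂), x * y = y * x := by
  intro x hx y hy
  refine comm_of_perfect (perf_comm (up p K₁)) h1 hab ?_ x hx
  intro h hh
  obtain ⟨m1, a1⟩ := mem_up.1 (perf_le _ hh)
  obtain ⟨m2, a2⟩ := mem_up.1 (perf_le _ hy)
  have h3 : p (⟨h, m1⟩ * ⟨y, m2⟩ * (⟨h, m1⟩)⁻¹ * (⟨y, m2⟩)⁻¹) = 1 := by
    rw [map_mul, map_mul, map_mul, hz.comm _ a1 _ a2, map_inv, map_inv]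
    group
  exact (hz.ker _).1 h3

/-- an element of `C(z)` that centralises `K₁` centralises the perfect core of the preimage -/
theorem comm_of_comm_p [Finite G] {K : Subgroup X} (hker : ∀ x, p x = 1 ↔ (x : G) ∈ centralizerPPrimeCore 2 z)
    (hab : ∀ a ∈ centralizerPPrimeCore 2 z, ∀ b ∈ centralizerPPrimeCore 2 z, a * b = b * a)
    (h1 : ∀ a ∈ centralizerPPrimeCore 2 z, ∀ x ∈ perf (up p K), a * x = x * a)
    {y : G} (hy : y ∈ centralizer ({z} : Set G)) (hyc : ∀ k ∈ K, p ⟨y, hy⟩ * k = k * p ⟨y, hy⟩) :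
    ∀ x ∈ perf (up p K), x * y = y * x := by
  refine comm_of_perfect (perf_comm (up p K)) h1 hab ?_
  intro h hh
  obtain ⟨m1, a1⟩ := mem_up.1 (perf_le _ hh)
  have h3 : p (⟨h, m1⟩ * ⟨y, hy⟩ * (⟨h, m1⟩)⁻¹ * (⟨y, hy⟩)⁻¹) = 1 := by
    rw [map_mul, map_mul, map_mul, ← hyc _ a1, map_inv, map_inv]
    group
  exact (hker _).1 h3

end Cfsg.Agent.LFourB.RCon
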