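import Cfsg.Agent.TwoFusion.SLTwoFacts
import Cfsg.Agent.LFourB.AutSylow
import Cfsg.Agent.ClassicalGeometry.SLTwoFour
import Cfsg.Agent.LFourB.RConB

/-!
# Facts on subgroups isomorphic to `SL(2,F)`, `F` finite of odd order
-/

set_option autoImplicit false
set_option linter.unusedSectionVars false

namespace Cfsg.Agent.LFourB.RCon

open Subgroup Cfsg

variable {X : Type*} [Group X] {F : Type*} [Field F] [Fintype F] {K : Subgroup X}

theorem odd_card (h2 : (2 : F) ≠ 0) : Odd (Fintype.card F) :=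
  (Cfsg.Agent.ClassicalGeometry.PSL2Basic.two_ne_zero_iff_odd F).1 h2

theorem three_lt (h2 : (2 : F) ≠ 0) (e : K ≃* Matrix.SpecialLinearGroup (Fin 2) F) (h16 : 16 ∣ Nat.card K) :
    3 < Fintype.card F := by
  by_contra hcon
  have h1 := Fintype.one_lt_card (α := F)
  have h3 : Fintype.card F = 3 := by
    have ho := odd_card h2
    rw [Nat.odd_iff] at ho
    omega
  have h4 := Cfsg.Agent.TwoFusion.SLTwoFacts.card_eq_24 h3
  rw [← Nat.card_congr e.toEquiv] at h4
  rw [h4] at h16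
  revert h16
  decide

theorem perf_of_equiv (h3 : 3 < Fintype.card F) (e : K ≃* Matrix.SpecialLinearGroup (Fin 2) F) : ⁅K, K⁆ = K := by
  have h1 : commutator K = ⊤ := by
    have h4 := Cfsg.Agent.TwoFusion.SLTwoFacts.commutator_eq_top h3
    have h5 := congrArg (Subgroup.map e.symm.toMonoidHom) h4
    rw [_root_.commutator_def, map_commutator, ← MonoidHom.range_eq_map,
      MonoidHom.range_eq_top.2 (by exact e.symm.surjective)] at h5
    rw [_root_.commutator_def]
    exact h5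
  have h2 := congrArg (Subgroup.map K.subtype) h1
  rw [_root_.commutator_def, map_commutator, ← MonoidHom.range_eq_map, range_subtype] at h2
  exact h2

theorem apply_zeta (h2 : (2 : F) ≠ 0) (e : K ≃* Matrix.SpecialLinearGroup (Fin 2) F) {ζ : X} (hζK : ζ ∈ K)
    (hζ : ζ ≠ 1) (hζ2 : ζ * ζ = 1) : e ⟨ζ, hζK⟩ = -1 := by
  rcases Cfsg.Agent.ClassicalGeometry.SLTwoFour.eq_one_or_neg_one_of_mul_self h2 (e ⟨ζ, hζK⟩) (by
    rw [← map_mul]
    have : (⟨ζ, hζK⟩ : K) * ⟨ζ, hζK⟩ = 1 := Subtype.ext hζ2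
    rw [this, map_one]) with h | h
  · exfalso
    apply hζ
    have := e.injective (h.trans (map_one e).symm)
    exact congrArg Subtype.val this
  · exact h

/-- elements of order four are conjugate -/
theorem conj_four (h2 : (2 : F) ≠ 0) (e : K ≃* Matrix.SpecialLinearGroup (Fin 2) F) {a b ζ : X} (ha : a ∈ K)
    (hb : b ∈ K) (hζ : ζ ≠ 1) (hζ2 : ζ * ζ = 1) (haz : a * a = ζ) (hbz : b * b = ζ) :
    ∃ l ∈ K, l * a * l⁻¹ = b := by
  have hζK : ζ ∈ K := by rw [← haz]; exact mul_mem ha ha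
  have h1 := apply_zeta h2 e hζK hζ hζ2
  have h3 : ∀ x, ∀ hx : x ∈ K, x * x = ζ → e ⟨x, hx⟩ * e ⟨x, hx⟩ = -1 := by
    intro x hx hxx
    rw [← map_mul, ← h1]
    congr 1
    exact Subtype.ext hxx
  obtain ⟨g, hg⟩ := Cfsg.Agent.ClassicalGeometry.SLTwoFour.exists_conj_w (odd_card h2) _ (h3 a ha haz)
  obtain ⟨g', hg'⟩ := Cfsg.Agent.ClassicalGeometry.SLTwoFour.exists_conj_w (odd_card h2) _ (h3 b hb hbz)
  refine ⟨e.symm (g' * g⁻¹), (e.symm (g' * g⁻¹)).2, ?_⟩
  have h4 : (g' * g⁻¹) * e ⟨a, ha⟩ * (g' * g⁻¹)⁻¹ = e ⟨b, hb⟩ := by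
    rw [← hg, ← hg']
    group
  have h5 := congrArg (fun x => ((e.symm x : K) : X)) h4
  simp only [map_mul, map_inv, MulEquiv.symm_apply_apply, Subgroup.coe_mul, InvMemClass.coe_inv] at h5
  rw [map_mul, map_inv, Subgroup.coe_mul, InvMemClass.coe_inv]
  exact h5

/-- an element of `K` centralising two noncommuting elements is central -/
theorem cent_pair (h2 : (2 : F) ≠ 0) (e : K ≃* Matrix.SpecialLinearGroup (Fin 2) F) {a x y ζ : X} (ha : a ∈ K)
    (hx : x ∈ K) (hy : y ∈ K) (hxy : x * y ≠ y * x) (hax : a * x = x * a) (hay : a * y = y * a) (hζK : ζ ∈ K)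
    (hζ : ζ ≠ 1) (hζ2 : ζ * ζ = 1) : a = 1 ∨ a = ζ := by
  have hm : ∀ x y, ∀ hx : x ∈ K, ∀ hy : y ∈ K, x * y = y * x →
      (e ⟨x, hx⟩ : Matrix (Fin 2) (Fin 2) F) * (e ⟨y, hy⟩ : Matrix (Fin 2) (Fin 2) F) =
        (e ⟨y, hy⟩ : Matrix (Fin 2) (Fin 2) F) * (e ⟨x, hx⟩ : Matrix (Fin 2) (Fin 2) F) := by
    intro x y hx hy h
    have h1 : e ⟨x, hx⟩ * e ⟨y, hy⟩ = e ⟨y, hy⟩ * e ⟨x, hx⟩ := by
      rw [← map_mul, ← map_mul]
      congr 1
      exact Subtype.ext h
    exact congrArg Subtype.val h1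
  have hne : (e ⟨x, hx⟩ : Matrix (Fin 2) (Fin 2) F) * (e ⟨y, hy⟩ : Matrix (Fin 2) (Fin 2) F) ≠
        (e ⟨y, hy⟩ : Matrix (Fin 2) (Fin 2) F) * (e ⟨x, hx⟩ : Matrix (Fin 2) (Fin 2) F) := by
    intro h
    apply hxy
    have h1 : e ⟨x, hx⟩ * e ⟨y, hy⟩ = e ⟨y, hy⟩ * e ⟨x, hx⟩ := Subtype.ext h
    rw [← map_mul, ← map_mul] at h1
    exact congrArg Subtype.val (e.injective h1)
  have h3 := Cfsg.Agent.LFourB.AutSylow.scalar_of_noncomm (hm a x ha hx hax) (hm a y ha hy hay) hne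
  have h4 : e ⟨a, ha⟩ * e ⟨a, ha⟩ = 1 := by
    apply Subtype.ext
    rw [Matrix.SpecialLinearGroup.coe_mul, Matrix.SpecialLinearGroup.coe_one, h3]
    have hd := (e ⟨a, ha⟩).2
    rw [Matrix.det_fin_two] at hd
    have h01 : (e ⟨a, ha⟩ : Matrix (Fin 2) (Fin 2) F) 0 1 = 0 := by
      have := congrFun (congrFun h3 0) 1
      simpa using this
    have h11 : (e ⟨a, ha⟩ : Matrix (Fin 2) (Fin 2) F) 1 1 = (e ⟨a, ha⟩ : Matrix (Fin 2) (Fin 2) F) 0 0 := by
      have := congrFun (congrFun h3 1) 1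
      simpa using this
    rw [smul_mul_smul_comm, one_mul]
    have h5 : (e ⟨a, ha⟩ : Matrix (Fin 2) (Fin 2) F) 0 0 * (e ⟨a, ha⟩ : Matrix (Fin 2) (Fin 2) F) 0 0 = 1 := by
      have h6 : (e ⟨a, ha⟩ : Matrix (Fin 2) (Fin 2) F) 0 0 * (e ⟨a, ha⟩ : Matrix (Fin 2) (Fin 2) F) 1 1 = 1 := by
        have h7 := hd
        rw [h01, zero_mul, sub_zero] at h7
        exact h7
      rw [h11] at h6
      exact h6
    rw [h5, one_smul]
  rcases Cfsg.Agent.ClassicalGeometry.SLTwoFour.eq_one_or_neg_one_of_mul_self h2 _ h4 with h | h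
  · left
    have := e.injective (h.trans (map_one e).symm)
    exact congrArg Subtype.val this
  · right
    rw [← apply_zeta h2 e hζK hζ hζ2] at h
    exact congrArg Subtype.val (e.injective h)

/-- normal subgroups of odd order are trivial -/
theorem normal_odd (h2 : (2 : F) ≠ 0) (h3 : 3 < Fintype.card F) (e : K ≃* Matrix.SpecialLinearGroup (Fin 2) F)
    {N : Subgroup X} (hN : N ≤ K) (hn : ∀ k ∈ K, ∀ x ∈ N, k * x * k⁻¹ ∈ N) (hodd : ¬ 2 ∣ Nat.card N) :
    ∀ x ∈ N, x = 1 := by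
  classical
  have hfin : Finite K := Finite.of_equiv _ e.symm.toEquiv
  let N' : Subgroup (Matrix.SpecialLinearGroup (Fin 2) F) := (N.subgroupOf K).map e.toMonoidHom
  have hN' : N'.Normal := by
    constructor
    rintro _ ⟨⟨x, hx⟩, hxN, rfl⟩ g
    refine ⟨e.symm g * ⟨x, hx⟩ * (e.symm g)⁻¹, ?_, ?_⟩
    · exact hn _ (e.symm g).2 x hxN
    · simp
  have hcard : Nat.card N' = Nat.card N := by
    rw [card_map_of_injective e.injective, Nat.card_congr (subgroupOfEquivOfLe hN).toEquiv]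
  have hodd' : ∀ x ∈ N', x * x = 1 → x = 1 := by
    intro x hx hxx
    have h4 : orderOf (⟨x, hx⟩ : N') ∣ Nat.card N' := orderOf_dvd_natCard _
    have h5 : orderOf (⟨x, hx⟩ : N') ∣ 2 := by
      apply orderOf_dvd_of_pow_eq_one
      apply Subtype.ext
      simp only [SubmonoidClass.coe_pow, OneMemClass.coe_one]
      rw [pow_two, hxx]
    rw [hcard] at h4
    have h6 : Nat.Coprime (Nat.card N) 2 := by
      rw [Nat.coprime_comm]
      exact (Nat.Prime.coprime_iff_not_dvd Nat.prime_two).2 hodd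
    have h7 := Nat.eq_one_of_dvd_coprimes h6 h4 h5
    have h8 := orderOf_eq_one_iff.1 h7
    exact congrArg Subtype.val h8
  have hm1 : (-1 : Matrix.SpecialLinearGroup (Fin 2) F) ∉ N' := by
    intro h
    exact Cfsg.Agent.ClassicalGeometry.PSL2Basic.neg_one_ne_one_SL2 h2 (hodd' _ h (by simp))
  have hsimp : IsSimpleGroup (Matrix.ProjectiveSpecialLinearGroup (Fin 2) F) :=
    Cfsg.Agent.TwoFusion.SLTwoFacts.isSimpleGroup_psl h3
  let q := QuotientGroup.mk' (Subgroup.center (Matrix.SpecialLinearGroup (Fin 2) F))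
  have hq : Function.Surjective q := QuotientGroup.mk'_surjective _
  have hker : ∀ x, q x = 1 ↔ x = 1 ∨ x = -1 := by
    intro x
    have h4 : q x = 1 ↔ x ∈ Subgroup.center (Matrix.SpecialLinearGroup (Fin 2) F) := by
      change (QuotientGroup.mk x : _ ⧸ _) = 1 ↔ _
      exact QuotientGroup.eq_one_iff x
    rw [h4]
    exact Cfsg.Agent.ClassicalGeometry.PSL2Basic.mem_center_SL2_iff
  have hNn : (N'.map q).Normal := hN'.map q hq
  have hall : ∀ x ∈ N', x = 1 := by
    rcases hsimp.eq_bot_or_eq_top_of_normal (N'.map q) hNn with h | h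
    · intro x hx
      have h4 : q x = 1 := by
        have : q x ∈ N'.map q := mem_map_of_mem q hx
        rw [h] at this
        exact mem_bot.1 this
      rcases (hker x).1 h4 with h5 | h5
      · exact h5
      · rw [h5] at hx
        exact absurd hx hm1
    · -- an element of order four in `N'`
      exfalso
      have h4 : ∀ x : Matrix.SpecialLinearGroup (Fin 2) F, x ∈ N' ∨ -x ∈ N' := by
        intro x
        have h5 : q x ∈ N'.map q := by rw [h]; exact mem_top _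
        obtain ⟨y, hy, hyx⟩ := h5
        have h6 : q (y * x⁻¹) = 1 := by rw [map_mul, map_inv, hyx, mul_inv_cancel]
        rcases (hker _).1 h6 with h7 | h7
        · left
          rw [mul_inv_eq_one] at h7
          rw [← h7]; exact hy
        · right
          have : y = -x := by
            rw [mul_inv_eq_iff_eq_mul] at h7
            rw [h7]; simp
          rw [← this]; exact hy
      have h5 := Cfsg.Agent.ClassicalGeometry.SLTwoFour.w_mul_self (F := F)
      rcases h4 Cfsg.Agent.ClassicalGeometry.SLTwoFour.w with h6 | h6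
      · apply hm1
        rw [← h5]
        exact mul_mem h6 h6
      · apply hm1
        rw [← h5]
        have : (-Cfsg.Agent.ClassicalGeometry.SLTwoFour.w : Matrix.SpecialLinearGroup (Fin 2) F) *
          -Cfsg.Agent.ClassicalGeometry.SLTwoFour.w = Cfsg.Agent.ClassicalGeometry.SLTwoFour.w *
          Cfsg.Agent.ClassicalGeometry.SLTwoFour.w := by simp
        rw [← this]
        exact mul_mem h6 h6
  intro x hx
  have h4 := hall (e ⟨x, hN hx⟩) ⟨⟨x, hN hx⟩, hx, rfl⟩
  have h5 := e.injective (h4.trans (map_one e).symm)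
  exact congrArg Subtype.val h5

end Cfsg.Agent.LFourB.RCon
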