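import Mathlib

/-!
# The Sylow 2-subgroup of `PSL 4 q`, `q ≡ 5 mod 8` (S0510, piece F-B5)

`K4` is the field with four elements, `M7` the group of order `2 ^ 7` of all `(a, b, c) f ^ e` with
`a b c : K4`, `(a, b, c) (a', b', c') = (a + a', b + b', c + c' + a b')`, and `f` acting as squaring on
all coordinates.
-/

set_option autoImplicit false

namespace Cfsg.Agent.LFourB

/-- The field with four elements: `o = 0`, `i = 1`, `w = ω`, `v = ω ^ 2`. -/
inductive K4 : Type
  | o | i | w | v
deriving DecidableEq

namespace K4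

/-- Addition of `K4`. -/
def add : K4 → K4 → K4
  | o, y => y
  | i, o => i
  | i, i => o
  | i, w => v
  | i, v => w
  | w, o => w
  | w, i => v
  | w, w => o
  | w, v => i
  | v, o => v
  | v, i => w
  | v, w => i
  | v, v => o

/-- Multiplication of `K4`. -/
def mul : K4 → K4 → K4
  | o, _ => o
  | i, y => y
  | w, o => o
  | w, i => w
  | w, w => v
  | w, v => i
  | v, o => o
  | v, i => v
  | v, w => i
  | v, v => w

/-- The Frobenius automorphism of `K4`. -/
def sq : K4 → K4
  | o => o
  | i => i
  | w => v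
  | v => w

instance : Fintype K4 := ⟨⟨{o, i, w, v}, by decide⟩, by rintro (_ | _ | _ | _) <;> decide⟩

theorem card_eq : Fintype.card K4 = 4 := rfl

instance (priority := high) decForall (p : K4 → Prop) [DecidablePred p] : Decidable (∀ x, p x) :=
  decidable_of_iff (p o ∧ p i ∧ p w ∧ p v)
    ⟨fun h x => by cases x <;> tauto, fun h => ⟨h _, h _, h _, h _⟩⟩

instance (priority := high) decExists (p : K4 → Prop) [DecidablePred p] : Decidable (∃ x, p x) :=
  decidable_of_iff (p o ∨ p i ∨ p w ∨ p v)
    ⟨fun h => by rcases h with h | h | h | h <;> exact ⟨_, h⟩,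
      fun ⟨x, h⟩ => by cases x <;> tauto⟩

instance : Zero K4 := ⟨o⟩
instance : One K4 := ⟨i⟩
instance : Add K4 := ⟨add⟩
instance : Mul K4 := ⟨mul⟩
instance : Neg K4 := ⟨id⟩

instance : CommRing K4 where
  add_assoc := by decide
  zero_add := by decide
  add_zero := by decide
  add_comm := by decide
  neg_add_cancel := by decide
  mul_assoc := by decide
  one_mul := by decide
  mul_one := by decide
  mul_comm := by decide
  left_distrib := by decide
  right_distrib := by decide
  zero_mul := by decide
  mul_zero := by decide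
  nsmul := nsmulRec
  zsmul := zsmulRec

theorem add_self (x : K4) : x + x = 0 := by revert x; decide

theorem sq_add (x y : K4) : sq (x + y) = sq x + sq y := by revert x y; decide

theorem sq_mul (x y : K4) : sq (x * y) = sq x * sq y := by revert x y; decide

theorem sq_sq (x : K4) : sq (sq x) = x := by revert x; decide

/-- The power `e` of the Frobenius automorphism. -/
def fr (e : Bool) (x : K4) : K4 := bif e then sq x else x

theorem fr_add (e : Bool) (x y : K4) : fr e (x + y) = fr e x + fr e y := by
  cases e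
  · rfl
  · exact sq_add x y

theorem fr_mul (e : Bool) (x y : K4) : fr e (x * y) = fr e x * fr e y := by
  cases e
  · rfl
  · exact sq_mul x y

theorem fr_fr (e e' : Bool) (x : K4) : fr e (fr e' x) = fr (xor e e') x := by
  cases e <;> cases e' <;> simp [fr, sq_sq]

theorem fr_zero (e : Bool) : fr e 0 = 0 := by cases e <;> rfl

theorem fr_false (x : K4) : fr false x = x := rfl

end K4

/-- The group of order `2 ^ 7`: `(a, b, c) f ^ e`. -/
@[ext] structure M7 : Type where
  a : K4
  b : K4
  c : K4
  e : Bool
deriving DecidableEq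

namespace M7

open K4

/-- Product of `M7`. -/
def mul (x y : M7) : M7 :=
  ⟨x.a + fr x.e y.a, x.b + fr x.e y.b, x.c + fr x.e y.c + x.a * fr x.e y.b, xor x.e y.e⟩

/-- Inverse of `M7`. -/
def inv (x : M7) : M7 :=
  ⟨fr x.e x.a, fr x.e x.b, fr x.e (x.c + x.a * x.b), x.e⟩

instance : Mul M7 := ⟨mul⟩
instance : One M7 := ⟨⟨0, 0, 0, false⟩⟩
instance : Inv M7 := ⟨inv⟩

theorem mul_a (x y : M7) : (x * y).a = x.a + fr x.e y.a := rfl
theorem mul_b (x y : M7) : (x * y).b = x.b + fr x.e y.b := rfl
theorem mul_c (x y : M7) : (x * y).c = x.c + fr x.e y.c + x.a * fr x.e y.b := rfl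
theorem mul_e (x y : M7) : (x * y).e = xor x.e y.e := rfl
theorem one_a : (1 : M7).a = 0 := rfl
theorem one_b : (1 : M7).b = 0 := rfl
theorem one_c : (1 : M7).c = 0 := rfl
theorem one_e : (1 : M7).e = false := rfl
theorem inv_a (x : M7) : (x⁻¹).a = fr x.e x.a := rfl
theorem inv_b (x : M7) : (x⁻¹).b = fr x.e x.b := rfl
theorem inv_c (x : M7) : (x⁻¹).c = fr x.e (x.c + x.a * x.b) := rfl
theorem inv_e (x : M7) : (x⁻¹).e = x.e := rfl

instance : Group M7 where
  mul_assoc x y z := by
    ext1
    · simp only [mul_a, mul_e, fr_add, fr_fr]; ring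
    · simp only [mul_b, mul_e, fr_add, fr_fr]; ring
    · simp only [mul_a, mul_b, mul_c, mul_e, fr_add, fr_mul, fr_fr]; ring
    · simp only [mul_e, Bool.xor_assoc]
  one_mul x := by
    ext1
    · simp only [mul_a, one_a, one_e, fr_false, zero_add]
    · simp only [mul_b, one_b, one_e, fr_false, zero_add]
    · simp only [mul_c, one_c, one_e, one_a, fr_false, zero_add, zero_mul, add_zero]
    · simp only [mul_e, one_e, Bool.false_xor]
  mul_one x := by
    ext1
    · simp only [mul_a, one_a, fr_zero, add_zero]
    · simp only [mul_b, one_b, fr_zero, add_zero]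
    · simp only [mul_c, one_c, one_b, fr_zero, add_zero, mul_zero]
    · simp only [mul_e, one_e, Bool.xor_false]
  inv_mul_cancel x := by
    ext1
    · simp only [mul_a, inv_a, inv_e, one_a, add_self]
    · simp only [mul_b, inv_b, inv_e, one_b, add_self]
    · simp only [mul_c, inv_c, inv_e, inv_a, one_c, fr_add, fr_mul]
      generalize fr x.e x.c = s
      generalize fr x.e x.a * fr x.e x.b = t
      calc s + t + s + t = (s + s) + (t + t) := by ring
        _ = 0 := by simp only [add_self, add_zero]
    · simp only [mul_e, inv_e, one_e, Bool.xor_self]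

/-- `M7` as a product type. -/
def equivProd : M7 ≃ K4 × K4 × K4 × Bool where
  toFun x := (x.a, x.b, x.c, x.e)
  invFun y := ⟨y.1, y.2.1, y.2.2.1, y.2.2.2⟩
  left_inv _ := rfl
  right_inv _ := rfl

instance : Fintype M7 := Fintype.ofEquiv _ equivProd.symm

theorem card_eq : Fintype.card M7 = 128 := by
  rw [Fintype.card_congr equivProd]
  rfl

theorem natCard_eq : Nat.card M7 = 128 := by
  rw [Nat.card_eq_fintype_card, card_eq]

instance (priority := high) decForall (p : M7 → Prop) [DecidablePred p] : Decidable (∀ x, p x) :=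
  decidable_of_iff (∀ a b c : K4, p ⟨a, b, c, false⟩ ∧ p ⟨a, b, c, true⟩)
    ⟨fun h x => by
      obtain ⟨a, b, c, e⟩ := x
      cases e
      · exact (h a b c).1
      · exact (h a b c).2, fun h a b c => ⟨h _, h _⟩⟩

end M7

end Cfsg.Agent.LFourB
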