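import Cfsg.Agent.LFourB.MB
import Cfsg.Agent.LFourB.MSeven

/-!
# A Sylow 2-subgroup of `PSL 4 q`, `q ≡ 5 mod 8`, is isomorphic to `M7`
-/

set_option autoImplicit false

namespace Cfsg.Agent.LFourB.MBSeven

open Equiv Cfsg.Agent.LFourB.Mono

/-- the image of the vector `(1, 0, -1, 0)` -/
def T1 : M7 := ⟨K4.w, K4.w, K4.o, false⟩
/-- the image of the vector `(0, 1, -1, 0)` -/
def T2 : M7 := ⟨K4.v, K4.v, K4.o, false⟩
/-- the image of the transposition `(0 1)` -/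
def U : M7 := ⟨K4.o, K4.o, K4.o, true⟩
/-- the image of the permutation `(0 2)(1 3)` -/
def W : M7 := ⟨K4.w, K4.o, K4.o, false⟩

/-- the powers of `T1` -/
def P1 (n : ZMod (2 ^ 2)) : M7 := T1 ^ n.val
/-- the powers of `T2` -/
def P2 (n : ZMod (2 ^ 2)) : M7 := T2 ^ n.val

theorem P1_add : ∀ m n : ZMod (2 ^ 2), P1 (m + n) = P1 m * P1 n := by decide
theorem P2_add : ∀ m n : ZMod (2 ^ 2), P2 (m + n) = P2 m * P2 n := by decide
theorem P12 : ∀ m n : ZMod (2 ^ 2), P1 m * P2 n = P2 n * P1 m := by decide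

/-- the image of a vector -/
def V (a : Fin 4 → ZMod (2 ^ 2)) : M7 := P1 (a 0 - a 3) * P2 (a 1 - a 3)

theorem V_add (a b : Fin 4 → ZMod (2 ^ 2)) : V (a + b) = V a * V b := by
  have e1 : (a + b) 0 - (a + b) 3 = (a 0 - a 3) + (b 0 - b 3) := by simp only [Pi.add_apply]; ring
  have e2 : (a + b) 1 - (a + b) 3 = (a 1 - a 3) + (b 1 - b 3) := by simp only [Pi.add_apply]; ring
  unfold V
  rw [e1, e2, P1_add, P2_add, mul_assoc, mul_assoc, ← mul_assoc (P1 (b 0 - b 3)), P12, mul_assoc]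

theorem P_eq_one : ∀ m n : ZMod (2 ^ 2), P1 m * P2 n = 1 → m = 0 ∧ n = 0 := by decide

/-- the image of a permutation, depending only on `σ 0` and `σ 2` -/
def Dc : Fin 4 → Fin 4 → M7
  | 0, 2 => 1
  | 1, 2 => U
  | 0, 3 => W * U * W
  | 1, 3 => U * (W * U * W)
  | 2, 0 => W
  | 2, 1 => U * W
  | 3, 0 => W * U
  | 3, 1 => U * W * U
  | _, _ => 1

/-- the image of a permutation -/
def D (σ : Perm (Fin 4)) : M7 := Dc (σ 0) (σ 2)

theorem D_mul : ∀ σ ∈ Dih, ∀ τ ∈ Dih, D (σ * τ) = D σ * D τ := by decide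

theorem D_act : ∀ σ ∈ Dih, ∀ p q : ZMod (2 ^ 2), D σ * (P1 p * P2 q) =
    V (fun i => (![p, q, - p - q, 0] : Fin 4 → ZMod (2 ^ 2)) (σ⁻¹ i)) * D σ := by decide

theorem PD_eq_one : ∀ σ ∈ Dih, ∀ p q : ZMod (2 ^ 2), P1 p * P2 q * D σ = 1 → σ = 1 ∧ p = 0 ∧ q = 0 := by decide

theorem four_eq_zero (x : ZMod (2 ^ 2)) : x + x + x + x = 0 := by revert x; decide

theorem act_V {σ : Perm (Fin 4)} (hσ : σ ∈ Dih) {a : Fin 4 → ZMod (2 ^ 2)} (ha : ∑ i, a i = 0) :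
    D σ * V a = V (fun i => a (σ⁻¹ i)) * D σ := by
  have h1 := D_act σ hσ (a 0 - a 3) (a 1 - a 3)
  have h2 : V (fun i => a (σ⁻¹ i)) =
      V (fun i => (![a 0 - a 3, a 1 - a 3, - (a 0 - a 3) - (a 1 - a 3), 0] : Fin 4 → ZMod (2 ^ 2)) (σ⁻¹ i)) := by
    have h3 : ∀ i, (![a 0 - a 3, a 1 - a 3, - (a 0 - a 3) - (a 1 - a 3), 0] : Fin 4 → ZMod (2 ^ 2)) i = a i - a 3 := by
      intro i
      rw [Fin.sum_univ_four] at ha
      have h4 := four_eq_zero (a 3)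
      fin_cases i
      · rfl
      · rfl
      · change - (a 0 - a 3) - (a 1 - a 3) = a 2 - a 3
        linear_combination - ha + h4
      · change (0 : ZMod (2 ^ 2)) = a 3 - a 3
        rw [sub_self]
    unfold V
    simp only [h3]
    congr 2 <;> ring
  rw [h2, ← h1]
  rfl

/-- the element of `M7` with given data -/
def m (a : Fin 4 → ZMod (2 ^ 2)) (σ : Perm (Fin 4)) : M7 := V a * D σ

theorem m_mul {σ τ : Perm (Fin 4)} (hσ : σ ∈ Dih) (hτ : τ ∈ Dih) {a b : Fin 4 → ZMod (2 ^ 2)} (hb : ∑ i, b i = 0) :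
    m a σ * m b τ = m (a + fun i => b (σ⁻¹ i)) (σ * τ) := by
  unfold m
  rw [V_add, D_mul σ hσ τ hτ]
  have := act_V hσ hb
  calc V a * D σ * (V b * D τ) = V a * (D σ * V b) * D τ := by group
    _ = V a * (V (fun i => b (σ⁻¹ i)) * D σ) * D τ := by rw [this]
    _ = _ := by group

theorem m_eq_one {σ : Perm (Fin 4)} (hσ : σ ∈ Dih) {a : Fin 4 → ZMod (2 ^ 2)} (ha : ∑ i, a i = 0) (h : m a σ = 1) :
    σ = 1 ∧ ∀ i, a i = a 0 := by
  obtain ⟨h1, h2, h3⟩ := PD_eq_one σ hσ _ _ h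
  refine ⟨h1, ?_⟩
  rw [Fin.sum_univ_four] at ha
  have h4 := four_eq_zero (a 3)
  have h5 := sub_eq_zero.1 h2
  have h6 := sub_eq_zero.1 h3
  intro i
  fin_cases i
  · rfl
  · change a 1 = a 0
    rw [h5, h6]
  · change a 2 = a 0
    rw [h5, h6] at ha
    rw [h5]
    linear_combination ha - h4
  · exact h5.symm

theorem V_const {a : Fin 4 → ZMod (2 ^ 2)} (h : ∀ i, a i = a 0) : V a = 1 := by
  unfold V
  rw [h 3, h 1, sub_self]
  decide

section

variable {G : Type*} [Group G] {S : Subgroup G} {f : (Fin 4 → ZMod (2 ^ 2)) → G} {d : Perm (Fin 4) → G}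
  (h : MB S 2 f d)

include h

theorem d_one : d 1 = 1 := by
  have h1 := h.d_mul 1 Dih.one_mem 1 Dih.one_mem
  rw [mul_one] at h1
  exact mul_eq_left.1 h1.symm

theorem f_zero : f 0 = 1 := (h.f_one 0 (by simp)).2 (fun _ => rfl)

theorem sum_act {a : Fin 4 → ZMod (2 ^ 2)} (ha : ∑ i, a i = 0) (σ : Perm (Fin 4)) :
    ∑ i, a (σ⁻¹ i) = 0 := by
  rw [← ha]
  exact Equiv.sum_comp σ⁻¹ a

theorem wd {a a' : Fin 4 → ZMod (2 ^ 2)} {σ σ' : Perm (Fin 4)} (ha : ∑ i, a i = 0) (ha' : ∑ i, a' i = 0)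
    (hσ : σ ∈ Dih) (hσ' : σ' ∈ Dih) (e : f a * d σ = f a' * d σ') : m a σ = m a' σ' := by
  have hn : ∑ i, (-a') i = 0 := by
    simp only [Pi.neg_apply, Finset.sum_neg_distrib, ha', neg_zero]
  have h1 : f (-a') = (f a')⁻¹ := by
    apply eq_inv_of_mul_eq_one_left
    rw [← h.f_add _ _ hn ha', neg_add_cancel, f_zero h]
  have h2 : ∀ τ ∈ Dih, d τ⁻¹ = (d τ)⁻¹ := by
    intro τ hτ
    apply eq_inv_of_mul_eq_one_left
    rw [← h.d_mul _ (Dih.inv_mem hτ) _ hτ, inv_mul_cancel, d_one h]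
  have hs : ∑ i, (-a' + a) i = 0 := by
    simp only [Pi.add_apply, Finset.sum_add_distrib]
    rw [hn, ha, add_zero]
  have h3 : f (-a' + a) * d (σ * σ'⁻¹) = 1 := by
    rw [h.f_add _ _ hn ha, h.d_mul _ hσ _ (Dih.inv_mem hσ'), h1, h2 _ hσ']
    calc (f a')⁻¹ * f a * (d σ * (d σ')⁻¹) = (f a')⁻¹ * (f a * d σ) * (d σ')⁻¹ := by group
      _ = (f a')⁻¹ * (f a' * d σ') * (d σ')⁻¹ := by rw [e]
      _ = 1 := by group
  have h4 := h.uniq _ (Dih.mul_mem hσ (Dih.inv_mem hσ')) _ hs h3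
  have h5 : σ = σ' := mul_inv_eq_one.1 h4
  subst h5
  rw [h4, d_one h, mul_one] at h3
  have h6 := V_const ((h.f_one _ hs).1 h3)
  have h7 : V a = V a' := by
    have h8 := V_add a' (-a' + a)
    rw [add_neg_cancel_left, h6, mul_one] at h8
    exact h8
  unfold m
  rw [h7]

/-- the isomorphism as a function -/
noncomputable def F (s : S) : M7 :=
  m (((h.mem_iff s).1 s.2).choose) ((((h.mem_iff s).1 s.2).choose_spec).2.choose)

theorem F_eq {s : S} {a : Fin 4 → ZMod (2 ^ 2)} {σ : Perm (Fin 4)} (ha : ∑ i, a i = 0) (hσ : σ ∈ Dih)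
    (e : (s : G) = f a * d σ) : F h s = m a σ := by
  have h1 := ((h.mem_iff s).1 s.2).choose_spec
  have h2 := h1.2.choose_spec
  exact wd h h1.1 ha h2.1 hσ (h2.2.symm.trans e)

theorem F_mul (s t : S) : F h (s * t) = F h s * F h t := by
  obtain ⟨a, ha, σ, hσ, es⟩ := (h.mem_iff s).1 s.2
  obtain ⟨b, hb, τ, hτ, et⟩ := (h.mem_iff t).1 t.2
  rw [F_eq h ha hσ es, F_eq h hb hτ et, m_mul hσ hτ hb]
  apply F_eq h
  · simp only [Pi.add_apply, Finset.sum_add_distrib]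
    rw [ha, sum_act h hb, add_zero]
  · exact Dih.mul_mem hσ hτ
  · rw [Subgroup.coe_mul, es, et, h.f_add _ _ ha (sum_act h hb σ), h.d_mul _ hσ _ hτ]
    have := h.d_f σ hσ b hb
    calc f a * d σ * (f b * d τ) = f a * (d σ * f b) * d τ := by group
      _ = f a * (f (fun i => b (σ⁻¹ i)) * d σ) * d τ := by rw [this]
      _ = _ := by group

theorem F_inj : Function.Injective (F h) := by
  have : Function.Injective (MonoidHom.mk' (F h) (F_mul h)) := by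
    rw [injective_iff_map_eq_one]
    intro s hs
    obtain ⟨a, ha, σ, hσ, es⟩ := (h.mem_iff s).1 s.2
    have h1 : m a σ = 1 := by rw [← F_eq h ha hσ es]; exact hs
    obtain ⟨rfl, h2⟩ := m_eq_one hσ ha h1
    apply Subtype.ext
    rw [es, (h.f_one a ha).2 h2, d_one h, mul_one]
    rfl
  exact this

theorem F_surj : Function.Surjective (F h) := by
  let X := Dih × ZMod (2 ^ 2) × ZMod (2 ^ 2)
  let v : ZMod (2 ^ 2) → ZMod (2 ^ 2) → Fin 4 → ZMod (2 ^ 2) := fun p q => ![p, q, - p - q, 0]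
  have hv : ∀ p q, ∑ i, v p q i = 0 := by
    intro p q
    rw [Fin.sum_univ_four]
    change p + q + (-p - q) + 0 = 0
    ring
  let Φ : X → M7 := fun x => m (v x.2.1 x.2.2) x.1
  have hΦ : Function.Injective Φ := by
    rintro ⟨⟨σ, hσ⟩, p, q⟩ ⟨⟨τ, hτ⟩, p', q'⟩ e
    have e0 : P1 p * P2 q * D σ = P1 p' * P2 q' * D τ := by
      have e1 : Φ (⟨σ, hσ⟩, p, q) = P1 (p - 0) * P2 (q - 0) * D σ := rfl
      have e2 : Φ (⟨τ, hτ⟩, p', q') = P1 (p' - 0) * P2 (q' - 0) * D τ := rfl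
      rw [e1, e2, sub_zero, sub_zero, sub_zero, sub_zero] at e
      exact e
    have e1 : P1 (p - p') * P2 (q - q') * D (σ * τ⁻¹) = 1 := by
      have i1 : P1 (-p') = (P1 p')⁻¹ := by
        apply eq_inv_of_mul_eq_one_left
        rw [← P1_add, neg_add_cancel]; decide
      have i2 : P2 (-q') = (P2 q')⁻¹ := by
        apply eq_inv_of_mul_eq_one_left
        rw [← P2_add, neg_add_cancel]; decide
      have i3 : D τ⁻¹ = (D τ)⁻¹ := by
        apply eq_inv_of_mul_eq_one_left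
        rw [← D_mul _ (Dih.inv_mem hτ) _ hτ, inv_mul_cancel]; decide
      rw [sub_eq_add_neg, sub_eq_add_neg, P1_add, P2_add, D_mul _ hσ _ (Dih.inv_mem hτ), i1, i2, i3]
      have c1 := P12 p' q'
      have c2 := P12 p q
      have c3 := P12 p' q
      have c4 := P12 p q'
      have c5 : P1 p' * P1 p = P1 p * P1 p' := by rw [← P1_add, ← P1_add, add_comm]
      have c6 : P2 q' * P2 q = P2 q * P2 q' := by rw [← P2_add, ← P2_add, add_comm]
      have k1 : (P1 p')⁻¹ * P2 q = P2 q * (P1 p')⁻¹ := by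
        rw [inv_mul_eq_iff_eq_mul, ← mul_assoc, c3, mul_assoc, mul_inv_cancel, mul_one]
      calc P1 p * (P1 p')⁻¹ * (P2 q * (P2 q')⁻¹) * (D σ * (D τ)⁻¹)
          = P1 p * ((P1 p')⁻¹ * P2 q) * (P2 q')⁻¹ * (D σ * (D τ)⁻¹) := by group
        _ = P1 p * P2 q * (P2 q' * P1 p')⁻¹ * (D σ * (D τ)⁻¹) := by rw [k1]; group
        _ = P1 p * P2 q * (P1 p' * P2 q')⁻¹ * (D σ * (D τ)⁻¹) := by rw [c1]
        _ = (P1 p' * P2 q')⁻¹ * (P1 p * P2 q * D σ) * (D τ)⁻¹ := by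
          have : P1 p * P2 q * (P1 p' * P2 q')⁻¹ = (P1 p' * P2 q')⁻¹ * (P1 p * P2 q) := by
            rw [mul_inv_eq_iff_eq_mul, mul_assoc, eq_inv_mul_iff_mul_eq]
            calc P1 p' * P2 q' * (P1 p * P2 q) = P1 p' * (P2 q' * P1 p) * P2 q := by group
              _ = P1 p' * P1 p * (P2 q' * P2 q) := by rw [← c4]; group
              _ = P1 p * P1 p' * (P2 q * P2 q') := by rw [c5, c6]
              _ = P1 p * (P1 p' * P2 q) * P2 q' := by group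
              _ = P1 p * P2 q * (P1 p' * P2 q') := by rw [c3]; group
          rw [this]; group
        _ = (P1 p' * P2 q')⁻¹ * (P1 p' * P2 q' * D τ) * (D τ)⁻¹ := by rw [e0]
        _ = 1 := by group
    obtain ⟨h1, h2, h3⟩ := PD_eq_one _ (Dih.mul_mem hσ (Dih.inv_mem hτ)) _ _ e1
    have h4 := mul_inv_eq_one.1 h1
    have h5 := sub_eq_zero.1 h2
    have h6 := sub_eq_zero.1 h3
    subst h4 h5 h6
    rfl
  have hc : Nat.card X = Nat.card M7 := by
    rw [M7.natCard_eq]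
    simp only [X, Nat.card_prod, card_Dih, Nat.card_zmod]
    norm_num
  have hb : Function.Bijective Φ := (Nat.bijective_iff_injective_and_card Φ).2 ⟨hΦ, hc⟩
  intro y
  obtain ⟨⟨⟨σ, hσ⟩, p, q⟩, rfl⟩ := hb.2 y
  exact ⟨⟨f (v p q) * d σ, (h.mem_iff _).2 ⟨_, hv p q, σ, hσ, rfl⟩⟩, F_eq h (hv p q) hσ rfl⟩

theorem nonempty_equiv : Nonempty (S ≃* M7) :=
  ⟨MulEquiv.ofBijective (MonoidHom.mk' (F h) (F_mul h)) ⟨F_inj h, F_surj h⟩⟩

end

end Cfsg.Agent.LFourB.MBSeven
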