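import Mathlib

/-!
# Coordinates on a Sylow 2-subgroup of `PSL 4 q`, `q = 1 mod 8`

`R m = ZMod (2 ^ (m + 3))`.  The torus of quadruples `(a1, a2, a3, a4)` modulo scalars is described by the triple
`(p, q, r) = (a1 - a2, a3 - a4, a2 - a4)`, subject to `Good p q r`, i.e. `p + q + 2 r ∈ 4 R`.  `u` is the transposition
`(1 2)`, `w` the permutation `(1 3)(2 4)`.
-/

set_option autoImplicit false

namespace Cfsg.Agent.LFourB

/-- The ring of exponents. -/
abbrev R (m : ℕ) : Type := ZMod (2 ^ (m + 3))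

/-- The triples that occur as root values of quadruples of determinant one. -/
def Good {m : ℕ} (p q r : R m) : Prop := ∃ c : R m, p + q + 2 * r = 4 * c

/-- Coordinates on a 2-group of type `PSL 4 q`, `q = 1 mod 8`. -/
structure BOne {G : Type*} [Group G] (S : Subgroup G) (m : ℕ) (f : R m → R m → R m → G) (u w : G) : Prop where
  f_mul : ∀ p q r p' q' r', Good p q r → Good p' q' r' → f p q r * f p' q' r' = f (p + p') (q + q') (r + r')
  f_inj : ∀ p q r, Good p q r → f p q r = 1 → p = 0 ∧ q = 0 ∧ r = 0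
  u_u : u * u = 1
  w_w : w * w = 1
  u_f : ∀ p q r, Good p q r → u * f p q r = f (-p) q (r + p) * u
  w_f : ∀ p q r, Good p q r → w * f p q r = f q p (-r) * w
  comm : u * (w * u * w) = w * u * w * u
  mem_iff : ∀ g, g ∈ S ↔ ∃ p q r, Good p q r ∧ ∃ d, (d = 1 ∨ d = u ∨ d = w * u * w ∨ d = u * (w * u * w) ∨
    d = w ∨ d = u * w ∨ d = w * u * w * w ∨ d = u * (w * u * w) * w) ∧ g = f p q r * d

/-- The element of order two of `R m`. -/
def N (m : ℕ) : R m := ((2 ^ (m + 2) : ℕ) : R m)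

/-- An element of order four of `R m`. -/
def M (m : ℕ) : R m := ((2 ^ (m + 1) : ℕ) : R m)

section Defs

variable {G : Type*} [Group G] {m : ℕ} (f : R m → R m → R m → G) (u w : G)

def z1 : G := f 0 0 (N m)
def z2 : G := f (N m) (N m) 0
def z3 : G := f (N m) (N m) (N m)
def x1 : G := f (N m) 0 0
def x2 : G := f (N m) 0 (N m)
def x3 : G := f 0 (N m) 0
def x4 : G := f 0 (N m) (N m)
/-- `diag (i, -i, 1, 1)` -/
def h1 : G := f (N m) 0 (-M m)
/-- `diag (1, 1, i, -i)` -/
def h2 : G := f 0 (N m) (M m)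
/-- `diag (i, i, 1, -1)` -/
def ss : G := f 0 (N m) (-M m)
/-- `diag (1, 1, 1, w⁻⁴)` modulo scalars -/
def yy : G := f 0 4 4
/-- the transposition `(3 4)` -/
def ub : G := w * u * w
/-- the permutation `(1 2)(3 4)` -/
def sg : G := u * ub u w
/-- the permutation `(1 4)(2 3)` -/
def sgw : G := u * ub u w * w

/-- The torus. -/
def Tor : Subgroup G := Subgroup.closure {g | ∃ p q r, Good p q r ∧ g = f p q r}
/-- The centraliser of `u` in the torus. -/
def Bu : Subgroup G := Subgroup.closure {g | ∃ q r, Good 0 q r ∧ g = f 0 q r}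
def Zt : Subgroup G := Subgroup.closure {z1 f, z2 f, z3 f}
def Pu : Subgroup G := Bu f ⊔ Subgroup.zpowers u
/-- `T V` -/
def TV : Subgroup G := Tor f ⊔ Subgroup.closure {sg u w, w}
/-- `T V'` -/
def TVp : Subgroup G := Tor f ⊔ Subgroup.closure {u, ub u w}
/-- the centraliser of `x4` in `S` -/
def Sx : Subgroup G := Tor f ⊔ Subgroup.zpowers u
/-- `{t ∈ T | [t, V] ≤ Zt}` -/
def Ttwo : Subgroup G := Subgroup.closure {g | ∃ p q r, 4 * p = 0 ∧ 2 * (q - p) = 0 ∧ 4 * r = 0 ∧ g = f p q r}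
/-- The essential subgroup `B ⟨h, u⟩`. -/
def Ru : Subgroup G := Bu f ⊔ Subgroup.closure {h1 f, u}
/-- The first quaternion group. -/
def Qone : Subgroup G := Subgroup.closure ({g | ∃ a, g = f (2 * a) 0 (-a)} ∪ {u * x1 f})
/-- The second quaternion group. -/
def Qtwo : Subgroup G := Subgroup.closure ({g | ∃ a, g = f 0 (2 * a) a} ∪ {ub u w * x3 f})
/-- `T ∩ Q` -/
def Tzero : Subgroup G := Subgroup.closure {g | ∃ a b, g = f (2 * a) (2 * b) (b - a)}

end Defs

/-! ### Arithmetic in `R m` -/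

section Arith

variable {m : ℕ}

theorem two_mul_N : 2 * N m = 0 := by
  have h : ((2 ^ (m + 3) : ℕ) : R m) = 0 := ZMod.natCast_self _
  calc 2 * N m = ((2 * 2 ^ (m + 2) : ℕ) : R m) := by rw [N]; push_cast; rfl
    _ = ((2 ^ (m + 3) : ℕ) : R m) := by congr 1; ring
    _ = 0 := h

theorem N_add_N : N m + N m = 0 := by rw [← two_mul]; exact two_mul_N

theorem neg_N : -N m = N m := neg_eq_of_add_eq_zero_left N_add_N

theorem two_mul_M : 2 * M m = N m := by
  calc 2 * M m = ((2 * 2 ^ (m + 1) : ℕ) : R m) := by rw [M]; push_cast; rfl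
    _ = ((2 ^ (m + 2) : ℕ) : R m) := by congr 1; ring
    _ = N m := rfl

theorem M_add_M : M m + M m = N m := by rw [← two_mul]; exact two_mul_M

theorem four_mul_M : 4 * M m = 0 := by
  have : (4 : R m) * M m = 2 * (2 * M m) := by ring
  rw [this, two_mul_M, two_mul_N]

theorem N_eq : N m = 4 * ((2 ^ m : ℕ) : R m) := by
  rw [N]
  push_cast
  ring

theorem N_ne_zero : N m ≠ 0 := by
  intro h
  rw [N, ZMod.natCast_eq_zero_iff] at h
  have h2 := Nat.le_of_dvd (by positivity) h
  have : 2 ^ (m + 2) < 2 ^ (m + 3) := Nat.pow_lt_pow_right (by norm_num) (by omega)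
  omega

theorem M_ne_zero : M m ≠ 0 := by
  intro h
  apply N_ne_zero (m := m)
  rw [← two_mul_M, h, mul_zero]

theorem eq_of_two_mul {a : R m} (h : 2 * a = 0) : a = 0 ∨ a = N m := by
  have hpos : 0 < 2 ^ (m + 2) := by positivity
  have h1 : ((2 * a.val : ℕ) : R m) = 0 := by
    push_cast
    rw [ZMod.natCast_zmod_val]
    exact h
  rw [ZMod.natCast_eq_zero_iff] at h1
  have hlt : a.val < 2 ^ (m + 3) := ZMod.val_lt a
  have e3 : 2 ^ (m + 3) = 2 * 2 ^ (m + 2) := by ring
  obtain ⟨e, he⟩ := h1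
  have hlt : a.val < 2 * 2 ^ (m + 2) := lt_of_lt_of_eq hlt e3
  have he2 : a.val = 2 ^ (m + 2) * e := by
    have : 2 * a.val = 2 * (2 ^ (m + 2) * e) := by
      refine he.trans ?_
      ring
    omega
  have hc2 : e < 2 := by
    by_contra hcon
    have : 2 ^ (m + 2) * 2 ≤ 2 ^ (m + 2) * e := Nat.mul_le_mul_left _ (by omega)
    omega
  interval_cases e
  · left
    rw [← ZMod.natCast_zmod_val a, he2]
    simp
  · right
    rw [← ZMod.natCast_zmod_val a, he2, mul_one]
    rfl

theorem eq_of_add_self {a : R m} (h : a + a = 0) : a = 0 ∨ a = N m :=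
  eq_of_two_mul (by rw [two_mul]; exact h)

theorem eq_of_four_mul {a : R m} (h : 4 * a = 0) : a = 0 ∨ a = N m ∨ a = M m ∨ a = -M m := by
  have h1 : 2 * (2 * a) = 0 := by rw [← h]; ring
  rcases eq_of_two_mul h1 with h2 | h2
  · rcases eq_of_two_mul h2 with h3 | h3
    · exact Or.inl h3
    · exact Or.inr (Or.inl h3)
  · have h3 : 2 * (a - M m) = 0 := by rw [mul_sub, h2, two_mul_M, sub_self]
    rcases eq_of_two_mul h3 with h4 | h4
    · exact Or.inr (Or.inr (Or.inl (sub_eq_zero.mp h4)))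
    · right; right; right
      have : a = N m + M m := by rw [← h4]; ring
      rw [this, ← two_mul_M]
      have h5 : (4 : R m) * M m = 0 := four_mul_M
      linear_combination h5

/-- Parity: the reduction modulo 2. -/
def par (m : ℕ) : R m →+* ZMod 2 := ZMod.castHom (dvd_pow_self 2 (by omega)) (ZMod 2)

/-- The reduction modulo 4. -/
def red (m : ℕ) : R m →+* ZMod 4 := ZMod.castHom (by
  have : (4 : ℕ) = 2 ^ 2 := by norm_num
  rw [this]
  exact pow_dvd_pow 2 (by omega)) (ZMod 4)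

/-- The reduction modulo 8. -/
def red8 (m : ℕ) : R m →+* ZMod 8 := ZMod.castHom (by
  have : (8 : ℕ) = 2 ^ 3 := by norm_num
  rw [this]
  exact pow_dvd_pow 2 (by omega)) (ZMod 8)

theorem par_eq_zero_iff {a : R m} : par m a = 0 ↔ ∃ c, a = 2 * c := by
  constructor
  · intro h
    have h1 : ((a.val : ℕ) : ZMod 2) = 0 := by
      have : par m a = ((a.val : ℕ) : ZMod 2) := by
        conv_lhs => rw [← ZMod.natCast_zmod_val a]
        exact map_natCast (par m) _
      rw [← this]; exact h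
    rw [ZMod.natCast_eq_zero_iff] at h1
    obtain ⟨c, hc⟩ := h1
    refine ⟨(c : R m), ?_⟩
    rw [← ZMod.natCast_zmod_val a, hc]
    push_cast
    ring
  · rintro ⟨c, rfl⟩
    rw [map_mul]
    have : par m 2 = 0 := by
      have : par m 2 = ((2 : ℕ) : ZMod 2) := map_ofNat (par m) 2
      rw [this]; rfl
    rw [this, zero_mul]

theorem red_eq_zero_iff {a : R m} : red m a = 0 ↔ ∃ c, a = 4 * c := by
  constructor
  · intro h
    have h1 : ((a.val : ℕ) : ZMod 4) = 0 := by
      have : red m a = ((a.val : ℕ) : ZMod 4) := by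
        conv_lhs => rw [← ZMod.natCast_zmod_val a]
        exact map_natCast (red m) _
      rw [← this]; exact h
    rw [ZMod.natCast_eq_zero_iff] at h1
    obtain ⟨c, hc⟩ := h1
    refine ⟨(c : R m), ?_⟩
    rw [← ZMod.natCast_zmod_val a, hc]
    push_cast
    ring
  · rintro ⟨c, rfl⟩
    rw [map_mul]
    have : red m 4 = 0 := by
      have : red m 4 = ((4 : ℕ) : ZMod 4) := map_ofNat (red m) 4
      rw [this]; rfl
    rw [this, zero_mul]

theorem good_iff_red {p q r : R m} : Good p q r ↔ red m (p + q + 2 * r) = 0 := red_eq_zero_iff.symm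

end Arith

/-! ### Good triples -/

section GoodLemmas

variable {m : ℕ} {p q r p' q' r' : R m}

theorem Good.add (h : Good p q r) (h' : Good p' q' r') : Good (p + p') (q + q') (r + r') := by
  obtain ⟨c, hc⟩ := h
  obtain ⟨c', hc'⟩ := h'
  exact ⟨c + c', by linear_combination hc + hc'⟩

theorem Good.neg (h : Good p q r) : Good (-p) (-q) (-r) := by
  obtain ⟨c, hc⟩ := h
  exact ⟨-c, by linear_combination -hc⟩

theorem Good.sub (h : Good p q r) (h' : Good p' q' r') : Good (p - p') (q - q') (r - r') := by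
  obtain ⟨c, hc⟩ := h
  obtain ⟨c', hc'⟩ := h'
  exact ⟨c - c', by linear_combination hc - hc'⟩

theorem Good.zero : Good (0 : R m) 0 0 := ⟨0, by ring⟩

theorem Good.actu (h : Good p q r) : Good (-p) q (r + p) := by
  obtain ⟨c, hc⟩ := h
  exact ⟨c, by linear_combination hc⟩

theorem Good.actw (h : Good p q r) : Good q p (-r) := by
  obtain ⟨c, hc⟩ := h
  exact ⟨c - r, by linear_combination hc⟩

theorem Good.actub (h : Good p q r) : Good p (-q) (r - q) := by
  obtain ⟨c, hc⟩ := h
  exact ⟨c - q, by linear_combination hc⟩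

theorem Good.actsg (h : Good p q r) : Good (-p) (-q) (r + p - q) := by
  obtain ⟨c, hc⟩ := h
  exact ⟨c - q, by linear_combination hc⟩

theorem Good.actsgw (h : Good p q r) : Good (-q) (-p) (-r + q - p) := by
  obtain ⟨c, hc⟩ := h
  exact ⟨c - r - p, by linear_combination hc⟩

theorem Good.pow (h : Good p q r) (n : ℕ) : Good ((n : R m) * p) ((n : R m) * q) ((n : R m) * r) := by
  obtain ⟨c, hc⟩ := h
  exact ⟨n * c, by linear_combination (n : R m) * hc⟩

theorem good_of_N (h1 : p = 0 ∨ p = N m) (h2 : q = 0 ∨ q = N m) (h3 : 4 * r = 0) : Good p q r := by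
  have h3' : 2 * r = 0 ∨ 2 * r = N m := by
    apply eq_of_two_mul
    rw [← h3]; ring
  have hN : N m = 4 * ((2 ^ m : ℕ) : R m) := N_eq
  unfold Good
  rcases h1 with rfl | rfl <;> rcases h2 with rfl | rfl <;> rcases h3' with h | h <;> rw [h]
  · exact ⟨0, by ring⟩
  · exact ⟨((2 ^ m : ℕ) : R m), by rw [← hN]; ring⟩
  · exact ⟨((2 ^ m : ℕ) : R m), by rw [← hN]; ring⟩
  · exact ⟨0, by linear_combination two_mul_N (m := m)⟩
  · exact ⟨((2 ^ m : ℕ) : R m), by rw [← hN]; ring⟩
  · exact ⟨0, by linear_combination two_mul_N (m := m)⟩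
  · exact ⟨0, by linear_combination two_mul_N (m := m)⟩
  · exact ⟨((2 ^ m : ℕ) : R m), by rw [← hN]; linear_combination two_mul_N (m := m)⟩

end GoodLemmas

end Cfsg.Agent.LFourB
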