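import Cfsg.Agent.LFourB.MB
import Cfsg.Agent.LFourB.BOne

/-!
# From the coordinates `MB` to the coordinates `BOne` (`q = 1 mod 8`)
-/

set_option autoImplicit false

namespace Cfsg.Agent.LFourB.Mono

open Equiv

/-- The permutation `(0 1)`. -/
def su : Perm (Fin 4) := swap 0 1
/-- The permutation `(0 2)(1 3)`. -/
def sw : Perm (Fin 4) := swap 0 2 * swap 1 3

theorem su_mem : su ∈ Dih := by decide
theorem sw_mem : sw ∈ Dih := by decide

theorem Dih_cases : ∀ σ ∈ Dih, σ = 1 ∨ σ = su ∨ σ = sw * su * sw ∨ σ = su * (sw * su * sw) ∨ σ = sw ∨ σ = su * sw ∨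
    σ = sw * su * sw * sw ∨ σ = su * (sw * su * sw) * sw := by decide

section

variable {G : Type*} [Group G] {S : Subgroup G} {k : ℕ} {f : (Fin 4 → ZMod (2 ^ k)) → G} {d : Perm (Fin 4) → G}
  (h : MB S k f d)

include h

theorem MB.d_one : d 1 = 1 := by
  have := h.d_mul 1 Dih.one_mem 1 Dih.one_mem
  rw [one_mul] at this
  exact mul_eq_left.1 this.symm

/-- `f` only depends on the vector modulo constants. -/
theorem MB.f_congr {a b : Fin 4 → ZMod (2 ^ k)} (ha : ∑ i, a i = 0) (hb : ∑ i, b i = 0)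
    (c : ZMod (2 ^ k)) (e : ∀ i, a i = b i + c) : f a = f b := by
  have h1 : ∑ _i : Fin 4, c = 0 := by
    have h2 : ∑ i, a i = ∑ i, b i + ∑ _i : Fin 4, c := by
      rw [← Finset.sum_add_distrib]
      exact Finset.sum_congr rfl (fun i _ => e i)
    rw [ha, hb, zero_add] at h2
    exact h2.symm
  have h3 : a = b + fun _ => c := funext e
  rw [h3, h.f_add b _ hb h1, (h.f_one _ h1).2 (fun _ => rfl), mul_one]

end

section BOne

variable {G : Type*} [Group G] {S : Subgroup G} {m : ℕ} {f : (Fin 4 → ZMod (2 ^ (m + 3))) → G} {d : Perm (Fin 4) → G}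

/-- The quadruple with root values `(p, q, r)`, where `p + q + 2 r = 4 c`. -/
def vec {m : ℕ} (p q r c : R m) : Fin 4 → ZMod (2 ^ (m + 3)) := ![r + p - c, r - c, q - c, -c]

theorem sum_vec {p q r c : R m} (h : p + q + 2 * r = 4 * c) : ∑ i, vec p q r c i = 0 := by
  rw [Fin.sum_univ_four]
  change r + p - c + (r - c) + (q - c) + -c = 0
  linear_combination h

open Classical in
/-- The map `f` of `BOne`. -/
noncomputable def ff (f : (Fin 4 → ZMod (2 ^ (m + 3))) → G) (p q r : R m) : G :=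
  if h : Good p q r then f (vec p q r h.choose) else 1

theorem ff_eq (h : MB S (m + 3) f d) {p q r c : R m} (hc : p + q + 2 * r = 4 * c) :
    ff f p q r = f (vec p q r c) := by
  have hg : Good p q r := ⟨c, hc⟩
  unfold ff
  rw [dif_pos hg]
  refine h.f_congr (sum_vec hg.choose_spec) (sum_vec hc) (c - hg.choose) ?_
  intro i
  fin_cases i
  · change r + p - hg.choose = r + p - c + (c - hg.choose); ring
  · change r - hg.choose = r - c + (c - hg.choose); ring
  · change q - hg.choose = q - c + (c - hg.choose); ring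
  · change -hg.choose = -c + (c - hg.choose); ring

theorem bOne_of_MB (h : MB S (m + 3) f d) : BOne S m (ff f) (d su) (d sw) := by
  have eu : d su * d su = 1 := by
    rw [← h.d_mul _ su_mem _ su_mem, show su * su = 1 by decide, h.d_one]
  have ew : d sw * d sw = 1 := by
    rw [← h.d_mul _ sw_mem _ sw_mem, show sw * sw = 1 by decide, h.d_one]
  have m1 := Dih.mul_mem sw_mem su_mem
  have m2 := Dih.mul_mem m1 sw_mem
  have ewuw : d (sw * su * sw) = d sw * d su * d sw := by
    rw [h.d_mul _ m1 _ sw_mem, h.d_mul _ sw_mem _ su_mem]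
  have m3 := Dih.mul_mem su_mem m2
  have m4 := Dih.mul_mem su_mem sw_mem
  have m5 := Dih.mul_mem m2 sw_mem
  have m6 := Dih.mul_mem m3 sw_mem
  refine ⟨?_, ?_, eu, ew, ?_, ?_, ?_, ?_⟩
  · rintro p q r p' q' r' ⟨c, hc⟩ ⟨c', hc'⟩
    have hs : p + p' + (q + q') + 2 * (r + r') = 4 * (c + c') := by linear_combination hc + hc'
    rw [ff_eq h hc, ff_eq h hc', ff_eq h hs, ← h.f_add _ _ (sum_vec hc) (sum_vec hc')]
    congr 1
    funext i
    fin_cases i
    · change r + p - c + (r' + p' - c') = r + r' + (p + p') - (c + c'); ring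
    · change r - c + (r' - c') = r + r' - (c + c'); ring
    · change q - c + (q' - c') = q + q' - (c + c'); ring
    · change -c + -c' = -(c + c'); ring
  · rintro p q r ⟨c, hc⟩ e
    rw [ff_eq h hc, h.f_one _ (sum_vec hc)] at e
    have e1 : r - c = r + p - c := e 1
    have e2 : q - c = r + p - c := e 2
    have e3 : -c = r + p - c := e 3
    refine ⟨by linear_combination -e1, by linear_combination e2 - e3, by linear_combination e1 - e3⟩
  · rintro p q r ⟨c, hc⟩
    have hc' : -p + q + 2 * (r + p) = 4 * c := by linear_combination hc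
    rw [ff_eq h hc, ff_eq h hc', h.d_f su su_mem _ (sum_vec hc)]
    congr 2
    funext i
    fin_cases i
    · change vec p q r c (su⁻¹ 0) = r + p + -p - c
      rw [show su⁻¹ 0 = 1 by decide]; change r - c = _; ring
    · change vec p q r c (su⁻¹ 1) = r + p - c
      rw [show su⁻¹ 1 = 0 by decide]; rfl
    · change vec p q r c (su⁻¹ 2) = q - c
      rw [show su⁻¹ 2 = 2 by decide]; rfl
    · change vec p q r c (su⁻¹ 3) = -c
      rw [show su⁻¹ 3 = 3 by decide]; rfl
  · rintro p q r ⟨c, hc⟩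
    have hc' : q + p + 2 * (-r) = 4 * (c - r) := by linear_combination hc
    rw [ff_eq h hc, ff_eq h hc', h.d_f sw sw_mem _ (sum_vec hc)]
    congr 2
    funext i
    fin_cases i
    · change vec p q r c (sw⁻¹ 0) = -r + q - (c - r)
      rw [show sw⁻¹ 0 = 2 by decide]; change q - c = _; ring
    · change vec p q r c (sw⁻¹ 1) = -r - (c - r)
      rw [show sw⁻¹ 1 = 3 by decide]; change -c = _; ring
    · change vec p q r c (sw⁻¹ 2) = p - (c - r)
      rw [show sw⁻¹ 2 = 0 by decide]; change r + p - c = _; ring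
    · change vec p q r c (sw⁻¹ 3) = -(c - r)
      rw [show sw⁻¹ 3 = 1 by decide]; change r - c = _; ring
  · rw [← ewuw, ← h.d_mul _ su_mem _ m2, ← h.d_mul _ m2 _ su_mem]
    congr 1
    decide
  · intro g
    rw [h.mem_iff]
    have w1 : d (su * (sw * su * sw)) = d su * (d sw * d su * d sw) := by rw [h.d_mul _ su_mem _ m2, ewuw]
    have w2 : d (su * sw) = d su * d sw := h.d_mul _ su_mem _ sw_mem
    have w3 : d (sw * su * sw * sw) = d sw * d su * d sw * d sw := by rw [h.d_mul _ m2 _ sw_mem, ewuw]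
    have w4 : d (su * (sw * su * sw) * sw) = d su * (d sw * d su * d sw) * d sw := by rw [h.d_mul _ m3 _ sw_mem, w1]
    constructor
    · rintro ⟨a, ha, σ, hσ, rfl⟩
      have hg : (a 0 - a 1) + (a 2 - a 3) + 2 * (a 1 - a 3) = 4 * (-a 3) := by
        rw [Fin.sum_univ_four] at ha
        linear_combination ha
      have hfa : ff f (a 0 - a 1) (a 2 - a 3) (a 1 - a 3) = f a := by
        rw [ff_eq h hg]
        congr 1
        funext i
        fin_cases i
        · change a 1 - a 3 + (a 0 - a 1) - -a 3 = a 0; ring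
        · change a 1 - a 3 - -a 3 = a 1; ring
        · change a 2 - a 3 - -a 3 = a 2; ring
        · change - -a 3 = a 3; ring
      refine ⟨a 0 - a 1, a 2 - a 3, a 1 - a 3, ⟨_, hg⟩, d σ, ?_, by rw [hfa]⟩
      rcases Dih_cases σ hσ with rfl | rfl | rfl | rfl | rfl | rfl | rfl | rfl
      · exact Or.inl h.d_one
      · exact Or.inr (Or.inl rfl)
      · exact Or.inr (Or.inr (Or.inl ewuw))
      · exact Or.inr (Or.inr (Or.inr (Or.inl w1)))
      · exact Or.inr (Or.inr (Or.inr (Or.inr (Or.inl rfl))))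
      · exact Or.inr (Or.inr (Or.inr (Or.inr (Or.inr (Or.inl w2)))))
      · exact Or.inr (Or.inr (Or.inr (Or.inr (Or.inr (Or.inr (Or.inl w3))))))
      · exact Or.inr (Or.inr (Or.inr (Or.inr (Or.inr (Or.inr (Or.inr w4))))))
    · rintro ⟨p, q, r, ⟨c, hc⟩, x, hx, rfl⟩
      refine ⟨vec p q r c, sum_vec hc, ?_⟩
      rw [ff_eq h hc]
      rcases hx with rfl | rfl | rfl | rfl | rfl | rfl | rfl | rfl
      · exact ⟨1, Dih.one_mem, by rw [h.d_one]⟩
      · exact ⟨su, su_mem, rfl⟩
      · exact ⟨_, m2, by rw [ewuw]⟩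
      · exact ⟨_, m3, by rw [w1]⟩
      · exact ⟨_, sw_mem, rfl⟩
      · exact ⟨_, m4, by rw [w2]⟩
      · exact ⟨_, m5, by rw [w3]⟩
      · exact ⟨_, m6, by rw [w4]⟩

end BOne

/-- A Sylow 2-subgroup isomorphic to one of `PSL_4(F)`, `|F| = 1 mod 8`, has coordinates `BOne`. -/
theorem exists_BOne {G : Type*} [Group G] [Finite G] {F : Type*} [Field F] [Fintype F] (hF : Fintype.card F % 8 = 1)
    (S : Sylow 2 G) (P : Sylow 2 (Matrix.ProjectiveSpecialLinearGroup (Fin 4) F))
    (e : (S : Subgroup G) ≃* (P : Subgroup (Matrix.ProjectiveSpecialLinearGroup (Fin 4) F))) :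
    ∃ (m r : ℕ) (f : R m → R m → R m → G) (u w : G), Odd r ∧ Fintype.card F = 1 + 2 ^ (m + 3) * r ∧
      BOne (S : Subgroup G) m f u w := by
  obtain ⟨k, r, f, d, hr, hq, h⟩ := exists_MB (by omega) S P e
  have hk3 : 3 ≤ k := by
    by_contra hcon
    have hk2 := h.hk
    have hk : k = 2 := by omega
    subst hk
    obtain ⟨j, hj⟩ := hr
    norm_num at hq
    omega
  obtain ⟨m, rfl⟩ : ∃ m, k = m + 3 := ⟨k - 3, by omega⟩
  exact ⟨m, r, ff f, d su, d sw, hr, hq, bOne_of_MB h⟩

/-- A Sylow 2-subgroup isomorphic to one of `PSL_4(F)`, `|F| = 5 mod 8`, has coordinates `MB` with `k = 2`. -/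
theorem exists_MB_two {G : Type*} [Group G] [Finite G] {F : Type*} [Field F] [Fintype F] (hF : Fintype.card F % 8 = 5)
    (S : Sylow 2 G) (P : Sylow 2 (Matrix.ProjectiveSpecialLinearGroup (Fin 4) F))
    (e : (S : Subgroup G) ≃* (P : Subgroup (Matrix.ProjectiveSpecialLinearGroup (Fin 4) F))) :
    ∃ (f : (Fin 4 → ZMod (2 ^ 2)) → G) (d : Perm (Fin 4) → G), MB (S : Subgroup G) 2 f d := by
  obtain ⟨k, r, f, d, hr, hq, h⟩ := exists_MB (by omega) S P e
  have hk3 : k = 2 := by
    by_contra hcon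
    have hk2 := h.hk
    obtain ⟨m, rfl⟩ : ∃ m, k = m + 3 := ⟨k - 3, by omega⟩
    rw [pow_add] at hq
    have : 2 ^ m * 2 ^ 3 * r = 8 * (2 ^ m * r) := by ring
    omega
  subst hk3
  exact ⟨f, d, h⟩

end Cfsg.Agent.LFourB.Mono
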