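import Cfsg.Agent.LFourB.StepSeven
import Cfsg.Agent.LFourB.MSevenFf

/-!
# S0510, type `|S| = 2 ^ 7`, case (b1), from the fusion theorem
-/

set_option autoImplicit false

open Cfsg Subgroup

universe u

namespace Cfsg.Agent.LFourB.StepSeven

open M7 K4 MQ MSevenFf MSevenFd
open Cfsg.Agent.SylowL5.Weak

/-- **Case (b1)**: `C_G(z) = O(C_G(z)) (N(V1) ∩ C_G(z))`. -/
theorem exists_mul_fus (hG : ∀ (L : Type u) [Group L] [Finite L] [IsSimpleGroup L], XKill.Gold L)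
    {G : Type u} [Group G] [Finite G] {P : Sylow 2 G} {φ : M7 →* G} (F : Fus P φ) (hτ : Tau φ)
    (hQ : ¬ Q2 φ) (c : G) (hc : c ∈ centralizer ({φ z} : Set G)) :
    ∃ o ∈ centralizerPPrimeCore 2 (φ z), ∃ n ∈ normalizer ((V1.map φ : Subgroup G) : Set G), c = o * n := by
  refine exists_mul hG F.emb (wc1 F.emb) (wc2 F.emb) ?_ ?_ ?_ c hc
  · intro v hv hv1
    obtain ⟨n, hn, hn1, hn2⟩ := F.trans hτ (v := ze) (w := v) mem_facts.2.1 (by decide) (by decide) hv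
      (by rintro rfl; exact hv1 (one_mem _)) (by rintro rfl; exact hv1 (by decide))
    exact ⟨n, hn, hn1, hn2⟩
  · intro n hn hnQ
    have h1 := F.noR1a hQ hn hnQ
    have h2 : n * φ ze * n⁻¹ ∈ MSevenFd.W1.map φ := mem_of_cj h1 (mem_map_of_mem φ (MQ.ze_mem_W1))
    exact map_mono (inf_le_left : MSevenFd.W1 ≤ V1) h2
  · intro n hn hn2
    exact mem_of_cj (F.noR1b hQ hn hn2) (mem_map_of_mem φ mem_facts.2.2.2.2.2.2.2.2.2.1)

end Cfsg.Agent.LFourB.StepSeven
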