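import Cfsg.Agent.LFourB.EightFus
import Cfsg.Agent.LFourB.StepSevenFus
import Cfsg.Agent.LFourB.StepSixInst

/-!
# Type B5, patterns (a1), (b1): `M₂₂` and `M₂₃`
-/

set_option autoImplicit false

namespace Cfsg.Agent.LFourB.MathieuFus

open Subgroup Cfsg M7 MSevenFd MSevenFf StepEight

universe u

/-- the commutator theorem for strongly closed 2-subgroups (S0215 family), universally -/
def Comm : Prop :=
  ∀ (G : Type u) [Group G] [Finite G] (P : Sylow 2 G) (A B : Subgroup G), A ⊓ B = ⊥ →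
    Cfsg.IsStronglyClosed A (P : Subgroup G) → Cfsg.IsStronglyClosed B (P : Subgroup G) →
    ⁅Subgroup.normalClosure (A : Set G), Subgroup.normalClosure (B : Set G)⁆ ≤ Cfsg.oddCore G

/-- **Patterns (a1) and (b1).** -/
theorem main (hC1 : Comm.{u}) (hGold : ∀ (L : Type u) [Group L] [Finite L] [IsSimpleGroup L], XKill.Gold L)
    {G : Type u} [Group G] [Finite G] [IsSimpleGroup G] {S : Sylow 2 G} {φ : M7 →* G} (F : Fus S φ)
    (hQ : ¬ Q2 φ) (hodd : OddSolv G) (hgen : Gen G) (hben : Bender G) (htim : Timm G) :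
    Cfsg.IsM22 G ∨ Cfsg.IsM23 G := by
  by_cases hτ : Tau φ
  · exact EightFus.mathieu F (StepSeven.exists_mul_fus hGold F hτ hQ) hodd hgen hben htim
  · refine EightFus.mathieu F (fun c hc => ?_) hodd hgen hben htim
    obtain ⟨o, ho, n, -, hn, e⟩ := StepSixInst.patternOne F hC1 hτ hQ c hc
    exact ⟨o, ho, n, hn, e⟩

end Cfsg.Agent.LFourB.MathieuFus
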