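import Cfsg.Agent.LFourB.KTenMain
import Cfsg.Agent.LFourB.MSevenFf
import Cfsg.Agent.CoverCore.AltEnd

/-!
# S0510, type `|S| = 2 ^ 7`, case (b2): `G` is the McLaughlin group

From helper683's analysis of `C_G(z)` modulo its core and the theorem of `CoverCore.Main`.
-/

set_option autoImplicit false

open Cfsg Subgroup

universe u

namespace Cfsg.Agent.LFourB.McLEnd

open M7
open Cfsg.Agent.GH.Defs (HasAltCover)
open Cfsg.Agent.LFourB.KTenModel Cfsg.Agent.LFourB.KTenMain
open Cfsg.Agent.CoverCore.Exists Cfsg.Agent.CoverCore.Functor Cfsg.Agent.CoverCore.Main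
open scoped commutatorElement

/-- From the transitivity of `C(z) ∩ N(V_i)` on `V_i` modulo `z` to `McL`, `z` not isolated. -/
theorem isMcL_of_trans (hFT : FT.{u}) (hSF : SFT.{u}) (hSE : SECore.{u}) (hM : CoverCore.AltEnd.HMcL.{u})
    (h9 : CoverCore.AltEnd.HNine.{u}) (h509 : H509.{u}) {G : Type u} [Group G] [Finite G]
    [IsSimpleGroup G] {S : Sylow 2 G} {φ : M7 →* G}
    (hφ : Emb7 (S : Subgroup G) φ) (hnon : NonIso (φ z))
    (htr1 : ∀ u v : M7, u ∈ V1 → eqz u 1 = false → v ∈ V1 → eqz v 1 = false →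
      ∃ h : G, h * φ z = φ z * h ∧ h ∈ normalizer ((V1.map φ : Subgroup G) : Set G) ∧
        (h * φ u * h⁻¹ = φ v ∨ h * φ u * h⁻¹ = φ (v * z)))
    (htr2 : ∀ u v : M7, u ∈ V2 → eqz u 1 = false → v ∈ V2 → eqz v 1 = false →
      ∃ h : G, h * φ z = φ z * h ∧ h ∈ normalizer ((V2.map φ : Subgroup G) : Set G) ∧
        (h * φ u * h⁻¹ = φ v ∨ h * φ u * h⁻¹ = φ (v * z))) : IsMcL G := by
  have h2 : Fact (Nat.Prime 2) := ⟨Nat.prime_two⟩
  have hzc : ∀ x : M7, φ x * φ z = φ z * φ x := fun x => by rw [← map_mul, ← map_mul, z_comm]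
  have hmem : ∀ x : M7, φ x ∈ centralizer ({φ z} : Set G) := fun x =>
    mem_centralizer_singleton_iff.2 (hzc x)
  have hSX : (S : Subgroup G) ≤ centralizer ({φ z} : Set G) := by
    rw [← hφ.range]
    rintro _ ⟨x, rfl⟩
    exact hmem x
  let φX : M7 →* centralizer ({φ z} : Set G) := φ.codRestrict _ hmem
  let SX : Sylow 2 (centralizer ({φ z} : Set G)) := S.subtype hSX
  have hEX : Emb7 (SX : Subgroup (centralizer ({φ z} : Set G))) φX := by
    constructor
    · intro x y hxy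
      exact hφ.inj (congrArg Subtype.val hxy)
    · ext y
      constructor
      · rintro ⟨x, rfl⟩
        exact hφ.mem x
      · intro hy
        obtain ⟨x, hx⟩ := hφ.exists_eq (g := (y : G)) hy
        exact ⟨x, Subtype.ext hx⟩
  obtain ⟨K, _, _, F, hF, hker, hO⟩ := exists_quot (φ := φX) (fun x =>
    Subtype.ext (mem_centralizer_singleton_iff.1 x.2))
  have hkz := kerZ_of hEX hker
  let T : Sylow 2 K := SX.mapSurjective hF
  have hr : (F.comp φX).range = (T : Subgroup K) := by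
    rw [MonoidHom.range_comp, hEX.range]
    rfl
  -- transitivity
  have hnorm : ∀ V : Subgroup M7, ∀ h : G, ∀ hc : h ∈ centralizer ({φ z} : Set G),
      h ∈ normalizer ((V.map φ : Subgroup G) : Set G) →
      (⟨h, hc⟩ : centralizer ({φ z} : Set G)) ∈ normalizer ((V.map φX : Subgroup _) : Set _) := by
    intro V h hc hn
    have hiff : ∀ g : centralizer ({φ z} : Set G), g ∈ V.map φX ↔ (g : G) ∈ V.map φ := by
      intro g
      constructor
      · rintro ⟨x, hx, rfl⟩
        exact ⟨x, hx, rfl⟩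
      · rintro ⟨x, hx, hxg⟩
        exact ⟨x, hx, Subtype.ext hxg⟩
    rw [mem_normalizer_iff]
    intro g
    rw [hiff, hiff]
    exact mem_normalizer_iff.1 hn g
  have htr : ∀ V : Subgroup M7,
      (∀ u v : M7, u ∈ V → eqz u 1 = false → v ∈ V → eqz v 1 = false →
        ∃ h : G, h * φ z = φ z * h ∧ h ∈ normalizer ((V.map φ : Subgroup G) : Set G) ∧
          (h * φ u * h⁻¹ = φ v ∨ h * φ u * h⁻¹ = φ (v * z))) →
      ∀ u v : M7, u ∈ V → eqz u 1 = false → v ∈ V → eqz v 1 = false →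
        ∃ k ∈ normalizer ((V.map (F.comp φX) : Subgroup K) : Set K), k * F (φX u) * k⁻¹ = F (φX v) := by
    intro V hV u v hu hu1 hv hv1
    obtain ⟨h, hc, hn, huv⟩ := hV u v hu hu1 hv hv1
    refine trans_of hker ⟨⟨h, mem_centralizer_singleton_iff.2 hc⟩, hnorm V h _ hn, ?_⟩
    rcases huv with h1 | h1
    · exact Or.inl (Subtype.ext h1)
    · exact Or.inr (Subtype.ext h1)
  obtain ⟨N, hN, -, hTN, n, hn, ⟨e⟩⟩ := good h509 T hkz hr hO (htr V1 htr1) (htr V2 htr2)
  have hord : orderOf (φ z) = 2 := by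
    rw [orderOf_injective φ hφ.inj]
    exact orderOf_eq_prime (by decide) (by decide)
  refine CoverCore.AltEnd.isMcL hFT hSF hSE hM h9 hord hnon rfl (hmem z) hF hker hO T hN hTN hn e
    (a := φX x1) (b := φX y1) ?_
  rw [← map_commutatorElement, comm_x1_y1]
  rfl

open MSevenFa MSevenFb MSevenFc MSevenFd MSevenFf
open Cfsg.Agent.SignalizersComponents.RelSylow Cfsg.Agent.SylowL5.Weak

theorem cj_norm {G : Type*} [Group G] {A : Subgroup G} {n : G} (h : cj n A = A) :
    n ∈ normalizer (A : Set G) := by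
  rw [mem_normalizer_iff]
  intro x
  constructor
  · intro hx
    rw [← h]
    exact ⟨x, hx, rfl⟩
  · intro hx
    rw [← h] at hx
    obtain ⟨y, hy, hyx⟩ := hx
    have h1 : n * y * n⁻¹ = n * x * n⁻¹ := hyx
    have h2 : y = x := mul_left_cancel (mul_right_cancel h1)
    rwa [← h2]

theorem eqz_ne {v : M7} (h : eqz v 1 = false) : v ≠ 1 ∧ v ≠ z := by
  constructor
  · rintro rfl
    exact absurd h (by decide)
  · rintro rfl
    exact absurd h (by decide)

theorem nonIso {G : Type u} [Group G] [Finite G] {S : Sylow 2 G} {φ : M7 →* G} (F : Fus S φ) :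
    NonIso (φ z) := by
  obtain ⟨n, -, -, hn⟩ := F.norm
  have h1 : n⁻¹ * φ z * n⁻¹⁻¹ = φ ze := by rw [← hn]; group
  refine ⟨n⁻¹, ?_, ?_⟩
  · rw [h1]
    exact fun h => absurd (F.emb.inj h) (by decide)
  · rw [h1, ← map_mul, ← map_mul, KTenModel.z_comm]

/-- **Case (b2).** -/
theorem main (hFT : FT.{u}) (hSF : SFT.{u}) (hSE : SECore.{u}) (hM : CoverCore.AltEnd.HMcL.{u})
    (h9 : CoverCore.AltEnd.HNine.{u}) (h509 : H509.{u}) {G : Type u} [Group G] [Finite G]
    [IsSimpleGroup G] {S : Sylow 2 G} {φ : M7 →* G} (F : Fus S φ) (hτ : Tau φ) (hQ : Q2 φ) :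
    HasAltCover G ∧ IsMcL G := by
  have htr1 : ∀ u v : M7, u ∈ V1 → eqz u 1 = false → v ∈ V1 → eqz v 1 = false →
      ∃ h : G, h * φ z = φ z * h ∧ h ∈ normalizer ((V1.map φ : Subgroup G) : Set G) ∧
        (h * φ u * h⁻¹ = φ v ∨ h * φ u * h⁻¹ = φ (v * z)) := by
    intro u v hu hu1 hv hv1
    obtain ⟨h, hc, hn, huv⟩ := F.trans hτ hu (eqz_ne hu1).1 (eqz_ne hu1).2 hv (eqz_ne hv1).1 (eqz_ne hv1).2
    exact ⟨h, mem_centralizer_singleton_iff.1 hc, cj_norm hn, Or.inl huv⟩
  have htr2 : ∀ u v : M7, u ∈ V2 → eqz u 1 = false → v ∈ V2 → eqz v 1 = false →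
      ∃ h : G, h * φ z = φ z * h ∧ h ∈ normalizer ((V2.map φ : Subgroup G) : Set G) ∧
        (h * φ u * h⁻¹ = φ v ∨ h * φ u * h⁻¹ = φ (v * z)) := by
    have key : ∀ v : M7, v ∈ V1 → v ≠ 1 → v ≠ z →
        Orb (centralizer {φ z}) (φ.comp swap.toMonoidHom) ze v := by
      intro v hv hv1 hvz
      have hle : (S : Subgroup G) ≤ centralizer {φ z} := S_le_H F.emb
      rw [orb_rep F.emb.comp_swap hle hv hv1]
      have h0 : ty v ≠ 0 := fun h0 => hvz (eq_z_of_ty v hv hv1 h0)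
      have : ∀ j : Fin 4, j ≠ 0 → Orb (centralizer {φ z}) (φ.comp swap.toMonoidHom) ze (rep j) := by
        intro j hj
        fin_cases j
        · exact absurd rfl hj
        · exact Orb.refl ze
        · exact hQ
        · exact F.orb_y2 hτ hQ
      exact this _ h0
    intro u v hu hu1 hv hv1
    have hs : ∀ w : M7, w ∈ V2 → eqz w 1 = false →
        Orb (centralizer {φ z}) (φ.comp swap.toMonoidHom) ze (swap w) := by
      intro w hw hw1
      refine key (swap w) ?_ ?_ ?_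
      · exact (swap_mem_V1 w).2 hw
      · intro h
        apply (eqz_ne hw1).1
        rw [← swap_swap w, h, map_one]
      · intro h
        apply (eqz_ne hw1).2
        rw [← swap_swap w, h]; decide
    have h1 := (hs u hu hu1).symm.trans (hs v hv hv1)
    obtain ⟨h, hc, hn, huv⟩ := orb_swap.1 h1
    rw [swap_swap, swap_swap] at huv
    exact ⟨h, mem_centralizer_singleton_iff.1 hc, cj_norm hn, Or.inl huv⟩
  exact ⟨hasAltCover h509 F.emb htr1 htr2,
    isMcL_of_trans hFT hSF hSE hM h9 h509 F.emb (nonIso F) htr1 htr2⟩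

end Cfsg.Agent.LFourB.McLEnd
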