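import Cfsg.Agent.LFourB.Cent

/-!
# Abelian subgroups of a 2-group of type `PSL 4 q`, `q = 1 mod 8`
-/

set_option autoImplicit false

namespace Cfsg.Agent.LFourB

variable {G : Type*} [Group G] {S : Subgroup G} {m : ℕ} {f : R m → R m → R m → G} {u w : G}

/-- An element of `T V` outside `T`, in coordinates. -/
def OverV (f : R m → R m → R m → G) (u w g : G) : Prop :=
  ∃ t ∈ Tor f, g = t * sg u w ∨ g = t * w ∨ g = t * sgw u w

/-- An element of `T u` or `T ub`. -/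
def OverU (f : R m → R m → R m → G) (u w g : G) : Prop :=
  ∃ t ∈ Tor f, g = t * u ∨ g = t * ub u w

namespace BOne

/-- The image of a subgroup of `S` in the permutation group. -/
noncomputable def im (h : BOne S m f u w) (D : Subgroup G) : Subgroup (Equiv.Perm (Fin 4)) :=
  (D.subgroupOf S).map h.pi

theorem mem_im (h : BOne S m f u w) {D : Subgroup G} {σ : Equiv.Perm (Fin 4)} :
    σ ∈ h.im D ↔ ∃ s : S, (s : G) ∈ D ∧ h.pi s = σ := by
  rw [im, Subgroup.mem_map]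
  exact Iff.rfl

theorem card_eq_im_mul (h : BOne S m f u w) {D : Subgroup G} (hD : D ≤ S) :
    Nat.card D = Nat.card (h.im D) * Nat.card (D ⊓ Tor f : Subgroup G) := by
  let φ : D.subgroupOf S →* Equiv.Perm (Fin 4) := h.pi.comp (D.subgroupOf S).subtype
  have h1 : Nat.card (D.subgroupOf S) = Nat.card φ.range * Nat.card φ.ker := by
    rw [Subgroup.card_eq_card_quotient_mul_card_subgroup φ.ker,
      Nat.card_congr (QuotientGroup.quotientKerEquivRange φ).toEquiv]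
  have h2 : φ.range = h.im D := by
    ext σ
    rw [h.mem_im]
    constructor
    · rintro ⟨s, rfl⟩
      exact ⟨s.1, s.2, rfl⟩
    · rintro ⟨s, hs, rfl⟩
      exact ⟨⟨s, hs⟩, rfl⟩
  have h3 : Nat.card φ.ker = Nat.card (D ⊓ Tor f : Subgroup G) := by
    apply Nat.card_congr
    refine ⟨fun x => ⟨x.1.1.1, x.1.2, h.pi_eq_one_iff.mp x.2⟩,
      fun x => ⟨⟨⟨x.1, hD x.2.1⟩, x.2.1⟩, h.pi_eq_one_iff.mpr x.2.2⟩, ?_, ?_⟩
    · intro x; rfl
    · intro x; rfl
  rw [h2, h3] at h1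
  rw [← h1]
  exact Nat.card_congr (Subgroup.subgroupOfEquivOfLe hD).symm.toEquiv

theorem card_im_S (h : BOne S m f u w) : Nat.card (h.im S) = 8 := by
  have h1 := h.card_eq_im_mul (le_refl S)
  rw [inf_eq_right.mpr h.Tor_le, h.card_S_eq] at h1
  exact (Nat.eq_of_mul_eq_mul_right (by rw [h.card_Tor]; positivity) h1).symm

theorem pi_mem_im (h : BOne S m f u w) {D : Subgroup G} {s : G} (hs : s ∈ D) (hS : s ∈ S) :
    h.pi ⟨s, hS⟩ ∈ h.im D := h.mem_im.mpr ⟨⟨s, hS⟩, hs, rfl⟩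

theorem im_mono (h : BOne S m f u w) {D E : Subgroup G} (hDE : D ≤ E) : h.im D ≤ h.im E := by
  intro σ hσ
  obtain ⟨s, hs, rfl⟩ := h.mem_im.mp hσ
  exact h.mem_im.mpr ⟨s, hDE hs, rfl⟩

theorem card_im_le (h : BOne S m f u w) {D : Subgroup G} (hD : D ≤ S) (hab : ∀ x ∈ D, ∀ y ∈ D, x * y = y * x) :
    Nat.card (h.im D) ≤ 4 := by
  have h1 : Nat.card (h.im D) ∣ 8 := by
    rw [← h.card_im_S]
    exact Subgroup.card_dvd_of_le (h.im_mono hD)
  by_contra hcon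
  have h8 : Nat.card (h.im D) = 8 := by
    have h2 : Nat.card (h.im D) ≤ 8 := Nat.le_of_dvd (by norm_num) h1
    interval_cases hc : Nat.card (h.im D) <;> revert h1 <;> decide
  have heq : h.im D = h.im S := by
    apply Subgroup.eq_of_le_of_card_ge (h.im_mono hD)
    rw [h8, h.card_im_S]
  have hcomm : ∀ σ ∈ h.im D, ∀ τ ∈ h.im D, σ * τ = τ * σ := by
    intro σ hσ τ hτ
    obtain ⟨a, ha, rfl⟩ := h.mem_im.mp hσ
    obtain ⟨b, hb, rfl⟩ := h.mem_im.mp hτ
    rw [← map_mul, ← map_mul]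
    congr 1
    exact Subtype.ext (hab _ ha _ hb)
  rw [heq] at hcomm
  have h3 := hcomm _ (h.pi_mem_im h.u_mem h.u_mem) _ (h.pi_mem_im h.w_mem h.w_mem)
  rw [h.pi_u, h.pi_w] at h3
  revert h3
  decide

/-- Every element of `S` is `t * d` with `t` in the torus. -/
theorem exists_Rep (h : BOne S m f u w) {g : G} (hg : g ∈ S) : ∃ t ∈ Tor f, ∃ d, Rep u w d ∧ g = t * d := by
  obtain ⟨p, q, r, hgd, d, hd, rfl⟩ := h.mem_S.mp hg
  exact ⟨_, h.f_mem_Tor hgd, d, hd, rfl⟩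

theorem pi_mul (h : BOne S m f u w) {t d : G} (ht : t ∈ Tor f) (hd : d ∈ S) (htd : t * d ∈ S) :
    h.pi ⟨t * d, htd⟩ = h.pi ⟨d, hd⟩ := by
  have h1 : (⟨t * d, htd⟩ : S) = ⟨t, h.Tor_le ht⟩ * ⟨d, hd⟩ := rfl
  rw [h1, map_mul, h.pi_Tor ht, one_mul]

/-- Orders of abelian subgroups with an element over `V#`. -/
theorem card_le_of_overV (h : BOne S m f u w) {D : Subgroup G} (hD : D ≤ S)
    (hab : ∀ x ∈ D, ∀ y ∈ D, x * y = y * x) {v : G} (hvD : v ∈ D) (hv : OverV f u w v) :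
    Nat.card D ≤ 2 ^ (m + 4) := by
  obtain ⟨t, ht, hv⟩ := hv
  obtain ⟨d, hd, hdS, rfl⟩ : ∃ d, (d = sg u w ∨ d = w ∨ d = sgw u w) ∧ d ∈ S ∧ v = t * d := by
    rcases hv with rfl | rfl | rfl
    · exact ⟨_, Or.inl rfl, h.sg_mem, rfl⟩
    · exact ⟨_, Or.inr (Or.inl rfl), h.w_mem, rfl⟩
    · exact ⟨_, Or.inr (Or.inr rfl), h.sgw_mem, rfl⟩
  have hK : ∀ {t d : G}, t ∈ Tor f → t * d ∈ D → ∀ k ∈ (D ⊓ Tor f : Subgroup G), k * d = d * k := by
    intro t d ht htd k hk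
    exact (h.comm_mul_iff ht hk.2).mp (hab _ hk.1 _ htd)
  rw [h.card_eq_im_mul hD]
  by_cases h2 : Nat.card (h.im D) ≤ 2
  · have h3 : Nat.card (D ⊓ Tor f : Subgroup G) ≤ 2 ^ (m + 3) := by
      apply h.card_le_of_fixed_V inf_le_right
      have h4 := hK ht hvD
      rcases hd with rfl | rfl | rfl
      · exact Or.inl h4
      · exact Or.inr (Or.inl h4)
      · exact Or.inr (Or.inr h4)
    calc Nat.card (h.im D) * Nat.card (D ⊓ Tor f : Subgroup G) ≤ 2 * 2 ^ (m + 3) := Nat.mul_le_mul h2 h3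
      _ = 2 ^ (m + 4) := by ring
  · have h4 := h.card_im_le hD hab
    -- a further element
    obtain ⟨σ, hσ, hσ1, hσv⟩ : ∃ σ ∈ h.im D, σ ≠ 1 ∧ σ ≠ h.pi ⟨d, hdS⟩ := by
      by_contra hcon
      push Not at hcon
      apply h2
      have h5 : Nat.card (h.im D) ≤ Nat.card Bool := by
        apply card_le_of_surj (fun b : Bool => if b then (1 : Equiv.Perm (Fin 4)) else h.pi ⟨d, hdS⟩)
        intro σ hσ
        by_cases h1 : σ = 1
        · exact ⟨true, by simp [h1]⟩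
        · exact ⟨false, by simp [hcon σ hσ h1]⟩
      simpa using h5
    obtain ⟨s, hs, rfl⟩ := h.mem_im.mp hσ
    obtain ⟨t', ht', e, he, hse⟩ := h.exists_Rep s.2
    have heS := h.Rep_mem he
    have hpi : h.pi s = h.pi ⟨e, heS⟩ := by
      rw [← h.pi_mul ht' heS (S.mul_mem (h.Tor_le ht') heS)]
      congr 1
      exact Subtype.ext hse
    rw [hpi] at hσ1 hσv
    have he1 : e ≠ 1 := by
      rintro rfl
      exact hσ1 (map_one h.pi)
    have hed : e ≠ d := by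
      rintro rfl
      exact hσv rfl
    have h3 : Nat.card (D ⊓ Tor f : Subgroup G) ≤ 2 ^ (m + 2) :=
      h.card_le_of_fixed_two inf_le_right hd he he1 hed (hK ht hvD) (hK ht' (by rw [← hse]; exact hs))
    calc Nat.card (h.im D) * Nat.card (D ⊓ Tor f : Subgroup G) ≤ 4 * 2 ^ (m + 2) := Nat.mul_le_mul h4 h3
      _ = 2 ^ (m + 4) := by ring

/-- The square of an element over a 4-cycle lies over `sg`. -/
theorem sq_uw (h : BOne S m f u w) {t : G} (ht : t ∈ Tor f) :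
    ∃ t' ∈ Tor f, t * (u * w) * (t * (u * w)) = t' * sg u w := by
  obtain ⟨p, q, r, hg, rfl⟩ := h.mem_Tor.mp ht
  refine ⟨f p q r * f (-q) p (-r + q), Subgroup.mul_mem _ ht (h.f_mem_Tor hg.actw.actu), ?_⟩
  have e1 : u * w * f p q r = f (-q) p (-r + q) * (u * w) := by
    rw [mul_assoc, h.w_f _ _ _ hg, ← mul_assoc, h.u_f _ _ _ hg.actw, mul_assoc]
  have e2 : u * w * (u * w) = sg u w := by rw [sg, ub]; group
  calc f p q r * (u * w) * (f p q r * (u * w)) = f p q r * (u * w * f p q r) * (u * w) := by group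
    _ = f p q r * f (-q) p (-r + q) * (u * w * (u * w)) := by rw [e1]; group
    _ = _ := by rw [e2]

theorem sq_ubw (h : BOne S m f u w) {t : G} (ht : t ∈ Tor f) :
    ∃ t' ∈ Tor f, t * (ub u w * w) * (t * (ub u w * w)) = t' * sg u w := by
  obtain ⟨p, q, r, hg, rfl⟩ := h.mem_Tor.mp ht
  refine ⟨f p q r * f q (-p) (-r - p), Subgroup.mul_mem _ ht (h.f_mem_Tor hg.actw.actub), ?_⟩
  have e1 : ub u w * w * f p q r = f q (-p) (-r - p) * (ub u w * w) := by
    rw [mul_assoc, h.w_f _ _ _ hg, ← mul_assoc, h.ub_f hg.actw, mul_assoc]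
  have e2 : ub u w * w * (ub u w * w) = sg u w := by
    rw [mul_assoc, ← mul_assoc w, h.w_mul_ub, mul_assoc, h.w_w, mul_one, h.ub_mul_u, sg]
  calc f p q r * (ub u w * w) * (f p q r * (ub u w * w)) = f p q r * (ub u w * w * f p q r) * (ub u w * w) := by group
    _ = f p q r * f q (-p) (-r - p) * (ub u w * w * (ub u w * w)) := by rw [e1]; group
    _ = _ := by rw [e2]

/-- The types of elements of `S` outside the torus. -/
theorem trichotomy (h : BOne S m f u w) {g : G} (hg : g ∈ S) (hgT : g ∉ Tor f) :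
    OverU f u w g ∨ OverV f u w g ∨ OverV f u w (g * g) := by
  obtain ⟨t, ht, d, hd, rfl⟩ := h.exists_Rep hg
  rcases hd with rfl | rfl | rfl | rfl | rfl | rfl | rfl | rfl
  · rw [mul_one] at hgT; exact (hgT ht).elim
  · exact Or.inl ⟨t, ht, Or.inl rfl⟩
  · exact Or.inl ⟨t, ht, Or.inr rfl⟩
  · exact Or.inr (Or.inl ⟨t, ht, Or.inl rfl⟩)
  · exact Or.inr (Or.inl ⟨t, ht, Or.inr (Or.inl rfl)⟩)
  · obtain ⟨t', ht', h1⟩ := h.sq_uw ht
    exact Or.inr (Or.inr ⟨t', ht', Or.inl h1⟩)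
  · obtain ⟨t', ht', h1⟩ := h.sq_ubw ht
    exact Or.inr (Or.inr ⟨t', ht', Or.inl h1⟩)
  · exact Or.inr (Or.inl ⟨t, ht, Or.inr (Or.inr rfl)⟩)

end BOne

end Cfsg.Agent.LFourB
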