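import Cfsg.Agent.LFourB.Card

/-!
# Centralisers in the torus
-/

set_option autoImplicit false

namespace Cfsg.Agent.LFourB

variable {G : Type*} [Group G] {S : Subgroup G} {m : ℕ} {f : R m → R m → R m → G} {u w : G}

/-- Adjoining an involution normalising a subgroup. -/
theorem mem_sup_zpowers {H : Subgroup G} {v : G} (hv : v * v = 1) (hn : ∀ b ∈ H, v * b * v ∈ H) {g : G} :
    g ∈ H ⊔ Subgroup.zpowers v ↔ ∃ b ∈ H, g = b ∨ g = b * v := by
  have hvi : v⁻¹ = v := inv_eq_of_mul_eq_one_left hv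
  let K : Subgroup G :=
    { carrier := {g | ∃ b ∈ H, g = b ∨ g = b * v}
      one_mem' := ⟨1, H.one_mem, Or.inl rfl⟩
      mul_mem' := by
        rintro x y ⟨b, hb, hx⟩ ⟨c, hc, hy⟩
        rcases hx with rfl | rfl <;> rcases hy with rfl | rfl
        · exact ⟨_, H.mul_mem hb hc, Or.inl rfl⟩
        · exact ⟨_, H.mul_mem hb hc, Or.inr (mul_assoc _ _ _).symm⟩
        · refine ⟨_, H.mul_mem hb (hn _ hc), Or.inr ?_⟩
          have : b * (v * y * v) * v = b * v * y * (v * v) := by group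
          rw [this, hv, mul_one]
        · refine ⟨_, H.mul_mem hb (hn _ hc), Or.inl ?_⟩
          group
      inv_mem' := by
        rintro x ⟨b, hb, rfl | rfl⟩
        · exact ⟨_, H.inv_mem hb, Or.inl rfl⟩
        · refine ⟨_, hn _ (H.inv_mem hb), Or.inr ?_⟩
          rw [mul_inv_rev, hvi, mul_assoc, hv, mul_one] }
  have hK : H ⊔ Subgroup.zpowers v = K := by
    apply le_antisymm
    · apply sup_le
      · intro b hb
        exact ⟨b, hb, Or.inl rfl⟩
      · rw [Subgroup.zpowers_le]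
        exact ⟨1, H.one_mem, Or.inr (one_mul _).symm⟩
    · rintro x ⟨b, hb, rfl | rfl⟩
      · exact (le_sup_left : H ≤ H ⊔ Subgroup.zpowers v) hb
      · exact Subgroup.mul_mem _ ((le_sup_left : H ≤ H ⊔ Subgroup.zpowers v) hb)
          ((le_sup_right : Subgroup.zpowers v ≤ H ⊔ Subgroup.zpowers v) (Subgroup.mem_zpowers v))
  rw [hK]
  exact Iff.rfl

namespace BOne

section Comm

variable {p q r : R m}

theorem f_u_comm_iff (h : BOne S m f u w) (hg : Good p q r) : f p q r * u = u * f p q r ↔ p = 0 := by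
  rw [h.u_f _ _ _ hg, mul_left_inj, h.f_eq_iff hg hg.actu]
  constructor
  · rintro ⟨-, -, h3⟩
    linear_combination -h3
  · rintro rfl
    exact ⟨by ring, rfl, by ring⟩

theorem f_ub_comm_iff (h : BOne S m f u w) (hg : Good p q r) : f p q r * ub u w = ub u w * f p q r ↔ q = 0 := by
  rw [h.ub_f hg, mul_left_inj, h.f_eq_iff hg hg.actub]
  constructor
  · rintro ⟨-, -, h3⟩
    linear_combination h3
  · rintro rfl
    exact ⟨rfl, by ring, by ring⟩

theorem f_sg_comm_iff (h : BOne S m f u w) (hg : Good p q r) :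
    f p q r * sg u w = sg u w * f p q r ↔ 2 * p = 0 ∧ q = p := by
  rw [h.sg_f hg, mul_left_inj, h.f_eq_iff hg hg.actsg]
  constructor
  · rintro ⟨h1, -, h3⟩
    exact ⟨by linear_combination h1, by linear_combination h3⟩
  · rintro ⟨h1, rfl⟩
    exact ⟨by linear_combination h1, by linear_combination h1, by ring⟩

theorem f_w_comm_iff (h : BOne S m f u w) (hg : Good p q r) :
    f p q r * w = w * f p q r ↔ q = p ∧ 2 * r = 0 := by
  rw [h.w_f _ _ _ hg, mul_left_inj, h.f_eq_iff hg hg.actw]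
  constructor
  · rintro ⟨h1, -, h3⟩
    exact ⟨h1.symm, by linear_combination h3⟩
  · rintro ⟨rfl, h2⟩
    exact ⟨rfl, rfl, by linear_combination h2⟩

theorem f_sgw_comm_iff (h : BOne S m f u w) (hg : Good p q r) :
    f p q r * sgw u w = sgw u w * f p q r ↔ q = -p ∧ 2 * r + 2 * p = 0 := by
  rw [h.sgw_f hg, mul_left_inj, h.f_eq_iff hg hg.actsgw]
  constructor
  · rintro ⟨h1, h2, h3⟩
    exact ⟨h2, by linear_combination h3 + h2⟩
  · rintro ⟨rfl, h2⟩
    exact ⟨by ring, rfl, by linear_combination h2⟩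

end Comm

/-- The elements of the torus commute with an element of `T d` iff they commute with `d`. -/
theorem comm_mul_iff (h : BOne S m f u w) {t s d : G} (ht : t ∈ Tor f) (hs : s ∈ Tor f) :
    s * (t * d) = t * d * s ↔ s * d = d * s := by
  rw [← mul_assoc, h.Tor_comm hs ht, mul_assoc, mul_assoc, mul_right_inj]

/-! ### `B`, `P` -/

theorem mem_Bu (h : BOne S m f u w) {g : G} : g ∈ Bu f ↔ ∃ q r, Good 0 q r ∧ g = f 0 q r := by
  constructor
  · intro hg
    induction hg using Subgroup.closure_induction with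
    | mem x hx => exact hx
    | one => exact ⟨0, 0, Good.zero, h.f_zero.symm⟩
    | mul x y _ _ hx hy =>
      obtain ⟨q, r, hg, rfl⟩ := hx
      obtain ⟨q', r', hg', rfl⟩ := hy
      have h1 := hg.add hg'
      rw [add_zero] at h1
      refine ⟨_, _, h1, ?_⟩
      rw [h.f_mul _ _ _ _ _ _ hg hg', add_zero]
    | inv x _ hx =>
      obtain ⟨q, r, hg, rfl⟩ := hx
      have h1 := hg.neg
      rw [neg_zero] at h1
      refine ⟨_, _, h1, ?_⟩
      rw [h.f_inv hg, neg_zero]
  · intro hg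
    exact Subgroup.subset_closure hg

theorem Bu_le (h : BOne S m f u w) : Bu f ≤ Tor f := by
  intro g hg
  obtain ⟨q, r, hgd, rfl⟩ := h.mem_Bu.mp hg
  exact h.f_mem_Tor hgd

theorem mem_Bu_iff (h : BOne S m f u w) {g : G} : g ∈ Bu f ↔ g ∈ Tor f ∧ g * u = u * g := by
  constructor
  · intro hg
    obtain ⟨q, r, hgd, rfl⟩ := h.mem_Bu.mp hg
    exact ⟨h.f_mem_Tor hgd, (h.f_u_comm_iff hgd).mpr rfl⟩
  · rintro ⟨hg, hc⟩
    obtain ⟨p, q, r, hgd, rfl⟩ := h.mem_Tor.mp hg
    obtain rfl := (h.f_u_comm_iff hgd).mp hc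
    exact h.mem_Bu.mpr ⟨q, r, hgd, rfl⟩

theorem mem_Pu (h : BOne S m f u w) {g : G} : g ∈ Pu f u ↔ ∃ b ∈ Bu f, g = b ∨ g = b * u :=
  mem_sup_zpowers h.u_u (fun b hb => by rw [← ((h.mem_Bu_iff).mp hb).2, mul_assoc, h.u_u, mul_one]; exact hb)

theorem Pu_le (h : BOne S m f u w) : Pu f u ≤ S := by
  intro g hg
  obtain ⟨b, hb, rfl | rfl⟩ := h.mem_Pu.mp hg
  · exact h.Tor_le (h.Bu_le hb)
  · exact S.mul_mem (h.Tor_le (h.Bu_le hb)) h.u_mem

theorem u_not_mem_Tor (h : BOne S m f u w) : u ∉ Tor f := by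
  intro hu
  have h1 := h.Tor_comm (h.f_mem_Tor goodx1) hu
  exact N_ne_zero ((h.f_u_comm_iff goodx1).mp h1)

end BOne

/-- The linear form defining `B`. -/
noncomputable def ghB (m : ℕ) : R m × R m →+ ZMod 4 where
  toFun v := red m (v.1 + 2 * v.2)
  map_zero' := by simp
  map_add' a b := by
    rw [← map_add]
    congr 1
    simp only [Prod.fst_add, Prod.snd_add]
    ring

theorem card_ker_ghB (m : ℕ) : Nat.card (ghB m).ker = 2 ^ (2 * m + 4) := by
  have hs : Function.Surjective (ghB m) := by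
    intro a
    obtain ⟨b, rfl⟩ : ∃ b : R m, red m b = a := ZMod.castHom_surjective _ a
    exact ⟨(b, 0), by simp [ghB]⟩
  have h1 := (ghB m).ker.card_mul_index
  have h2 : (ghB m).ker.index = 4 := by
    have e := Nat.card_congr (QuotientAddGroup.quotientKerEquivOfSurjective (ghB m) hs).toEquiv
    rw [AddSubgroup.index, e, Nat.card_zmod]
  rw [h2, Nat.card_prod, card_R] at h1
  have h3 : 2 ^ (m + 3) * 2 ^ (m + 3) = 2 ^ (2 * m + 4) * 4 := by
    have : (4 : ℕ) = 2 ^ 2 := by norm_num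
    rw [this, ← pow_add, ← pow_add]
    congr 1
    ring
  rw [h3] at h1
  exact Nat.eq_of_mul_eq_mul_right (by norm_num) h1

namespace BOne

theorem card_Bu (h : BOne S m f u w) : Nat.card (Bu f) = 2 ^ (2 * m + 4) := by
  rw [← card_ker_ghB m]
  have hgd : ∀ v : (ghB m).ker, Good (0 : R m) v.1.1 v.1.2 := by
    intro v
    rw [good_iff_red, zero_add]
    exact (ghB m).mem_ker.mp v.2
  let F : (ghB m).ker → Bu f := fun v => ⟨f 0 v.1.1 v.1.2, h.mem_Bu.mpr ⟨_, _, hgd v, rfl⟩⟩
  symm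
  apply Nat.card_eq_of_bijective F
  constructor
  · intro a b hab
    have h1 := (h.f_eq_iff (hgd a) (hgd b)).mp (congrArg Subtype.val hab)
    apply Subtype.ext
    exact Prod.ext h1.2.1 h1.2.2
  · rintro ⟨t, ht⟩
    obtain ⟨q, r, hg, rfl⟩ := h.mem_Bu.mp ht
    rw [good_iff_red, zero_add] at hg
    exact ⟨⟨(q, r), (ghB m).mem_ker.mpr hg⟩, rfl⟩

theorem card_Pu (h : BOne S m f u w) : Nat.card (Pu f u) = 2 ^ (2 * m + 5) := by
  let F : Bool × Bu f → Pu f u := fun a =>
    ⟨if a.1 then (a.2 : G) * u else a.2, h.mem_Pu.mpr ⟨a.2, a.2.2, by cases a.1 <;> simp⟩⟩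
  have hF : Function.Bijective F := by
    constructor
    · rintro ⟨i, b⟩ ⟨j, c⟩ hab
      have h1 : (if i then (b : G) * u else b) = if j then (c : G) * u else c := congrArg Subtype.val hab
      have key : ∀ b c : Bu f, (b : G) = (c : G) * u → False := by
        intro b c hbc
        apply h.u_not_mem_Tor
        have : u = (c : G)⁻¹ * b := by rw [hbc]; group
        rw [this]
        exact h.Bu_le (Subgroup.mul_mem _ (Subgroup.inv_mem _ c.2) b.2)
      rcases i with _ | _ <;> rcases j with _ | _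
      · have h2 : (b : G) = c := h1
        rw [Subtype.ext h2]
      · have h2 : (b : G) = c * u := h1
        exact (key _ _ h2).elim
      · have h2 : (b : G) * u = c := h1
        exact (key _ _ h2.symm).elim
      · have h2 : (b : G) * u = c * u := h1
        rw [Subtype.ext (mul_right_cancel h2)]
    · rintro ⟨g, hg⟩
      obtain ⟨b, hb, hgb | hgb⟩ := h.mem_Pu.mp hg
      · exact ⟨(false, ⟨b, hb⟩), Subtype.ext hgb.symm⟩
      · exact ⟨(true, ⟨b, hb⟩), Subtype.ext hgb.symm⟩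
  rw [← Nat.card_eq_of_bijective F hF, Nat.card_prod, h.card_Bu]
  have : Nat.card Bool = 2 := by simp
  rw [this, ← pow_succ']

/-! ### Upper bounds -/

theorem card_evens (m : ℕ) : Nat.card {c : R m // par m c = 0} = 2 ^ (m + 2) := by
  have h1 := (par m : R m →+ ZMod 2).ker.card_mul_index
  have hs : Function.Surjective (par m : R m →+ ZMod 2) := ZMod.castHom_surjective
    (show 2 ∣ 2 ^ (m + 3) from dvd_pow_self 2 (by omega))
  have h2 : (par m : R m →+ ZMod 2).ker.index = 2 := by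
    have e := Nat.card_congr (QuotientAddGroup.quotientKerEquivOfSurjective (par m : R m →+ ZMod 2) hs).toEquiv
    rw [AddSubgroup.index, e, Nat.card_zmod]
  rw [h2, card_R] at h1
  have h3 : 2 ^ (m + 3) = 2 ^ (m + 2) * 2 := by ring
  exact Nat.eq_of_mul_eq_mul_right (by norm_num) (h1.trans h3)

theorem card_le_evens {K : Subgroup G} (g : R m → G) (h : ∀ k ∈ K, ∃ c, par m c = 0 ∧ k = g c) :
    Nat.card K ≤ 2 ^ (m + 2) := by
  rw [← card_evens m]
  apply card_le_of_surj (fun c : {c : R m // par m c = 0} => g c)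
  intro k hk
  obtain ⟨c, hc, rfl⟩ := h k hk
  exact ⟨⟨c, hc⟩, rfl⟩

theorem card_le_evens_two {K : Subgroup G} (g g' : R m → G) (h : ∀ k ∈ K, ∃ c, par m c = 0 ∧ (k = g c ∨ k = g' c)) :
    Nat.card K ≤ 2 ^ (m + 3) := by
  have h1 : Nat.card (Bool × {c : R m // par m c = 0}) = 2 ^ (m + 3) := by
    rw [Nat.card_prod, card_evens]
    have : Nat.card Bool = 2 := by simp
    rw [this, ← pow_succ']
  rw [← h1]
  apply card_le_of_surj (fun a : Bool × {c : R m // par m c = 0} => if a.1 then g a.2 else g' a.2)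
  intro k hk
  obtain ⟨c, hc, rfl | rfl⟩ := h k hk
  · exact ⟨⟨true, ⟨c, hc⟩⟩, by simp⟩
  · exact ⟨⟨false, ⟨c, hc⟩⟩, by simp⟩

theorem even_of_two_mul {r c : R m} (h : 2 * r = 4 * c) : par m r = 0 := by
  have h2 : 2 * (r - 2 * c) = 0 := by linear_combination h
  rcases eq_of_two_mul h2 with h3 | h3
  · rw [par_eq_zero_iff]; exact ⟨c, by linear_combination h3⟩
  · rw [par_eq_zero_iff]; exact ⟨c + M m, by linear_combination h3 - two_mul_M (m := m)⟩

/-- A bound on the parts of `T` fixed by an element over `V#`. -/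
theorem card_le_of_fixed_V (h : BOne S m f u w) {K : Subgroup G} (hK : K ≤ Tor f)
    (hc : (∀ k ∈ K, k * sg u w = sg u w * k) ∨ (∀ k ∈ K, k * w = w * k) ∨ (∀ k ∈ K, k * sgw u w = sgw u w * k)) :
    Nat.card K ≤ 2 ^ (m + 3) := by
  rcases hc with hc | hc | hc
  · apply card_le_evens_two (fun r => f 0 0 r) (fun r => f (N m) (N m) r)
    intro k hk
    obtain ⟨p, q, r, hg, rfl⟩ := h.mem_Tor.mp (hK hk)
    obtain ⟨h1, rfl⟩ := (h.f_sg_comm_iff hg).mp (hc _ hk)
    obtain ⟨c, hcc⟩ := hg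
    refine ⟨r, even_of_two_mul (c := c) (by linear_combination hcc - h1), ?_⟩
    rcases eq_of_two_mul h1 with rfl | rfl
    · exact Or.inl rfl
    · exact Or.inr rfl
  · apply card_le_evens_two (fun p => f p p 0) (fun p => f p p (N m))
    intro k hk
    obtain ⟨p, q, r, hg, rfl⟩ := h.mem_Tor.mp (hK hk)
    obtain ⟨rfl, h1⟩ := (h.f_w_comm_iff hg).mp (hc _ hk)
    obtain ⟨c, hcc⟩ := hg
    refine ⟨q, even_of_two_mul (c := c) (by linear_combination hcc - h1), ?_⟩
    rcases eq_of_two_mul h1 with rfl | rfl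
    · exact Or.inl rfl
    · exact Or.inr rfl
  · apply card_le_evens_two (fun p => f p (-p) (-p)) (fun p => f p (-p) (-p + N m))
    intro k hk
    obtain ⟨p, q, r, hg, rfl⟩ := h.mem_Tor.mp (hK hk)
    obtain ⟨rfl, h1⟩ := (h.f_sgw_comm_iff hg).mp (hc _ hk)
    obtain ⟨c, hcc⟩ := hg
    refine ⟨p, even_of_two_mul (c := -c) (by linear_combination h1 - hcc), ?_⟩
    have h2 : 2 * (r + p) = 0 := by linear_combination h1
    rcases eq_of_two_mul h2 with h3 | h3
    · left
      have : r = -p := by linear_combination h3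
      rw [this]
    · right
      have : r = -p + N m := by linear_combination h3
      rw [this]

theorem f_uw_comm_iff (h : BOne S m f u w) {p q r : R m} (hg : Good p q r) :
    f p q r * (u * w) = u * w * f p q r ↔ 2 * p = 0 ∧ q = p ∧ 2 * r = p := by
  rw [mul_assoc u w, h.w_f _ _ _ hg, ← mul_assoc u, h.u_f _ _ _ hg.actw, mul_assoc, mul_left_inj,
    h.f_eq_iff hg hg.actw.actu]
  constructor
  · rintro ⟨h1, h2, h3⟩
    exact ⟨by linear_combination h1 - h2, h2, by linear_combination h3 + h2⟩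
  · rintro ⟨h1, rfl, h3⟩
    exact ⟨by linear_combination h1, rfl, by linear_combination h3⟩

theorem f_ubw_comm_iff (h : BOne S m f u w) {p q r : R m} (hg : Good p q r) :
    f p q r * (ub u w * w) = ub u w * w * f p q r ↔ 2 * p = 0 ∧ q = p ∧ 2 * r = p := by
  rw [mul_assoc (ub u w) w, h.w_f _ _ _ hg, ← mul_assoc (ub u w), h.ub_f hg.actw, mul_assoc, mul_left_inj,
    h.f_eq_iff hg hg.actw.actub]
  constructor
  · rintro ⟨h1, h2, h3⟩
    exact ⟨by linear_combination h1 + h2, h1.symm, by linear_combination h3 - h1 - h2⟩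
  · rintro ⟨h1, rfl, h3⟩
    exact ⟨rfl, by linear_combination h1, by linear_combination h3 + h1⟩

theorem card_le_four {K : Subgroup G} (g : Bool → Bool → G) (hK : ∀ k ∈ K, ∃ a b, k = g a b) :
    Nat.card K ≤ 2 ^ (m + 2) := by
  have h1 : Nat.card K ≤ Nat.card (Bool × Bool) := card_le_of_surj (fun b : Bool × Bool => g b.1 b.2)
      (fun k hk => by obtain ⟨a, b, hb⟩ := hK k hk; exact ⟨(a, b), hb.symm⟩)
  have h2 : Nat.card (Bool × Bool) = 4 := by simp [Nat.card_eq_fintype_card]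
  rw [h2] at h1
  refine h1.trans ?_
  have : 1 ≤ 2 ^ m := Nat.one_le_two_pow
  rw [pow_add]
  omega

theorem card_le_Zt {K : Subgroup G} (hK : ∀ k ∈ K, ∃ p r : R m, 2 * p = 0 ∧ 2 * r = 0 ∧ k = f p p r) :
    Nat.card K ≤ 2 ^ (m + 2) := by
  apply card_le_four (fun a b => f (if a then N m else 0) (if a then N m else 0) (if b then N m else 0))
  intro k hk
  obtain ⟨p, r, hp, hr, rfl⟩ := hK k hk
  rcases eq_of_two_mul hp with rfl | rfl <;> rcases eq_of_two_mul hr with rfl | rfl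
  · exact ⟨false, false, rfl⟩
  · exact ⟨false, true, rfl⟩
  · exact ⟨true, false, rfl⟩
  · exact ⟨true, true, rfl⟩

/-- The elements of `T` fixed by an element over `V#` and by a further nontrivial representative. -/
theorem card_le_of_fixed_two (h : BOne S m f u w) {K : Subgroup G} (hK : K ≤ Tor f) {d e : G}
    (hd : d = sg u w ∨ d = w ∨ d = sgw u w) (he : Rep u w e) (he1 : e ≠ 1) (hde : e ≠ d)
    (hKd : ∀ k ∈ K, k * d = d * k) (hKe : ∀ k ∈ K, k * e = e * k) :
    Nat.card K ≤ 2 ^ (m + 2) := by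
  -- the set of coordinates
  have hu : ∀ p q r, Good p q r → f p q r ∈ K → (2 * p = 0 ∧ q = p) →
      (e = u ∨ e = ub u w) → p = 0 ∧ q = 0 := by
    rintro p q r hg hk ⟨-, h2⟩ (h3 | h3)
    · have h4 := hKe _ hk
      rw [h3, h.f_u_comm_iff hg] at h4
      exact ⟨h4, by rw [h2, h4]⟩
    · have h4 := hKe _ hk
      rw [h3, h.f_ub_comm_iff hg] at h4
      exact ⟨by rw [← h2, h4], h4⟩
  have hor : ∀ {x y : R m}, 2 * x = y → 2 * y = 0 → (y = 0 ∧ (x = 0 ∨ x = N m)) ∨ (y = N m ∧ (x = M m ∨ x = -M m)) := by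
    intro x y h1 h2
    have h3 : 4 * x = 0 := by linear_combination 2 * h1 + h2
    rcases eq_of_two_mul h2 with rfl | rfl
    · exact Or.inl ⟨rfl, eq_of_two_mul h1⟩
    · right
      refine ⟨rfl, ?_⟩
      rcases eq_of_four_mul h3 with rfl | rfl | h4 | h4
      · rw [mul_zero] at h1; exact (N_ne_zero h1.symm).elim
      · rw [two_mul_N] at h1; exact (N_ne_zero h1.symm).elim
      · exact Or.inl h4
      · exact Or.inr h4
  have huw : d = sg u w → (e = u * w ∨ e = ub u w * w) → Nat.card K ≤ 2 ^ (m + 2) := by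
    intro _ he'
    apply card_le_four (fun a b => f (if a then N m else 0) (if a then N m else 0)
      (if a then (if b then -M m else M m) else (if b then N m else 0)))
    intro k hk
    obtain ⟨p, q, r, hg, rfl⟩ := h.mem_Tor.mp (hK hk)
    have h1 : 2 * p = 0 ∧ q = p ∧ 2 * r = p := by
      rcases he' with rfl | rfl
      · exact (h.f_uw_comm_iff hg).mp (hKe _ hk)
      · exact (h.f_ubw_comm_iff hg).mp (hKe _ hk)
    obtain ⟨h1, rfl, h3⟩ := h1
    rcases hor h3 h1 with ⟨rfl, rfl | rfl⟩ | ⟨rfl, rfl | rfl⟩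
    · exact ⟨false, false, rfl⟩
    · exact ⟨false, true, rfl⟩
    · exact ⟨true, false, rfl⟩
    · exact ⟨true, true, rfl⟩
  rcases hd with rfl | rfl | rfl
  · -- d = sg
    rcases he with rfl | he' | he' | he' | he' | he' | he' | he'
    · exact (he1 rfl).elim
    · apply card_le_evens (fun r => f 0 0 r)
      intro k hk
      obtain ⟨p, q, r, hg, rfl⟩ := h.mem_Tor.mp (hK hk)
      have h1 := (h.f_sg_comm_iff hg).mp (hKd _ hk)
      obtain ⟨rfl, rfl⟩ := hu p q r hg hk h1 (Or.inl he')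
      obtain ⟨c, hc⟩ := hg
      exact ⟨r, even_of_two_mul (c := c) (by linear_combination hc), rfl⟩
    · apply card_le_evens (fun r => f 0 0 r)
      intro k hk
      obtain ⟨p, q, r, hg, rfl⟩ := h.mem_Tor.mp (hK hk)
      have h1 := (h.f_sg_comm_iff hg).mp (hKd _ hk)
      obtain ⟨rfl, rfl⟩ := hu p q r hg hk h1 (Or.inr he')
      obtain ⟨c, hc⟩ := hg
      exact ⟨r, even_of_two_mul (c := c) (by linear_combination hc), rfl⟩
    · exact (hde he').elim
    · subst he'
      apply card_le_Zt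
      intro k hk
      obtain ⟨p, q, r, hg, rfl⟩ := h.mem_Tor.mp (hK hk)
      obtain ⟨h1, rfl⟩ := (h.f_sg_comm_iff hg).mp (hKd _ hk)
      obtain ⟨-, h2⟩ := (h.f_w_comm_iff hg).mp (hKe _ hk)
      exact ⟨q, r, h1, h2, rfl⟩
    · exact huw rfl (Or.inl he')
    · exact huw rfl (Or.inr he')
    · subst he'
      apply card_le_Zt
      intro k hk
      obtain ⟨p, q, r, hg, rfl⟩ := h.mem_Tor.mp (hK hk)
      obtain ⟨h1, rfl⟩ := (h.f_sg_comm_iff hg).mp (hKd _ hk)
      obtain ⟨-, h2⟩ := (h.f_sgw_comm_iff hg).mp (hKe _ hk)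
      exact ⟨q, r, h1, by linear_combination h2 - h1, rfl⟩
  · -- d = w
    apply card_le_Zt
    intro k hk
    obtain ⟨p, q, r, hg, rfl⟩ := h.mem_Tor.mp (hK hk)
    obtain ⟨rfl, h1⟩ := (h.f_w_comm_iff hg).mp (hKd _ hk)
    refine ⟨q, r, ?_, h1, rfl⟩
    rcases he with rfl | he' | he' | he' | he' | he' | he' | he'
    · exact (he1 rfl).elim
    · subst he'
      rw [(h.f_u_comm_iff hg).mp (hKe _ hk), mul_zero]
    · subst he'
      rw [(h.f_ub_comm_iff hg).mp (hKe _ hk), mul_zero]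
    · subst he'
      exact ((h.f_sg_comm_iff hg).mp (hKe _ hk)).1
    · exact (hde he').elim
    · subst he'
      exact ((h.f_uw_comm_iff hg).mp (hKe _ hk)).1
    · subst he'
      exact ((h.f_ubw_comm_iff hg).mp (hKe _ hk)).1
    · subst he'
      linear_combination ((h.f_sgw_comm_iff hg).mp (hKe _ hk)).1
  · -- d = sgw
    apply card_le_Zt
    intro k hk
    obtain ⟨p, q, r, hg, rfl⟩ := h.mem_Tor.mp (hK hk)
    obtain ⟨rfl, h1⟩ := (h.f_sgw_comm_iff hg).mp (hKd _ hk)
    have key : 2 * p = 0 → ∃ p' r', 2 * p' = 0 ∧ 2 * r' = 0 ∧ f p (-p) r = f p' p' r' := by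
      intro h2
      have h3 : -p = p := by linear_combination -h2
      exact ⟨p, r, h2, by linear_combination h1 - h2, by rw [h3]⟩
    apply key
    rcases he with rfl | he' | he' | he' | he' | he' | he' | he'
    · exact (he1 rfl).elim
    · subst he'
      rw [(h.f_u_comm_iff hg).mp (hKe _ hk), mul_zero]
    · subst he'
      linear_combination -2 * (h.f_ub_comm_iff hg).mp (hKe _ hk)
    · subst he'
      exact ((h.f_sg_comm_iff hg).mp (hKe _ hk)).1
    · subst he'
      linear_combination - ((h.f_w_comm_iff hg).mp (hKe _ hk)).1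
    · subst he'
      exact ((h.f_uw_comm_iff hg).mp (hKe _ hk)).1
    · subst he'
      exact ((h.f_ubw_comm_iff hg).mp (hKe _ hk)).1
    · exact (hde he').elim

end BOne

end Cfsg.Agent.LFourB
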