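import Mathlib
import Cfsg.Agent.TwoFusion.PResidual

/-!
# Transfer into a cyclic quotient of a Sylow 2-subgroup

`P` a 2-subgroup of odd index in `G`, `φ : P →* C` a homomorphism into the cyclic group of order `2 ^ m`, `t ∈ P`, such that
every conjugate of `t ^ k` inside `P` has an image congruent to `k` mod 2.  Then the transfer of `φ` is surjective, already
on `P`.  If moreover `ker φ = Q` lies in `O^2(G)`, then `O^2(G) ∩ P = Q`.
-/

set_option autoImplicit false

namespace Cfsg.Agent.LFourB.CyclicTransfer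

open Subgroup

/-- Reduction mod two on the cyclic group of order `2 ^ m`. -/
def red (m : ℕ) (hm : 1 ≤ m) : Multiplicative (ZMod (2 ^ m)) →* Multiplicative (ZMod 2) :=
  (ZMod.castHom (dvd_pow_self 2 (by omega : m ≠ 0)) (ZMod 2)).toAddMonoidHom.toMultiplicative

/-- A subgroup of the cyclic group of order `2 ^ m` containing an element of odd residue is everything. -/
theorem eq_top_of_red {m : ℕ} (hm : 1 ≤ m) (K : Subgroup (Multiplicative (ZMod (2 ^ m))))
    (c : Multiplicative (ZMod (2 ^ m))) (hc : c ∈ K) (h : red m hm c ≠ 1) : K = ⊤ := by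
  have hodd : ¬ 2 ∣ (Multiplicative.toAdd c).val := by
    intro hd
    apply h
    have h1 : red m hm c = Multiplicative.ofAdd (((Multiplicative.toAdd c).val : ZMod 2)) := by
      show Multiplicative.ofAdd (ZMod.castHom (dvd_pow_self 2 (by omega : m ≠ 0)) (ZMod 2)
        (Multiplicative.toAdd c)) = _
      congr 1
      conv_lhs => rw [← ZMod.natCast_zmod_val (Multiplicative.toAdd c)]
      rw [map_natCast]
    rw [h1, (ZMod.natCast_eq_zero_iff _ _).2 hd]
    rfl
  have hcop : Nat.Coprime (Multiplicative.toAdd c).val (2 ^ m) :=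
    (Nat.Coprime.pow_right m ((Nat.Prime.coprime_iff_not_dvd Nat.prime_two).2 hodd).symm)
  have hunit : IsUnit (Multiplicative.toAdd c) := by
    have := (ZMod.isUnit_iff_coprime (Multiplicative.toAdd c).val (2 ^ m)).2 hcop
    rwa [ZMod.natCast_zmod_val] at this
  obtain ⟨u, hu⟩ := hunit
  rw [eq_top_iff]
  intro x _
  have h2 : c ^ ((Multiplicative.toAdd x) * (↑u⁻¹ : ZMod (2 ^ m))).val = x := by
    apply Multiplicative.toAdd.injective
    rw [toAdd_pow, nsmul_eq_mul, ZMod.natCast_zmod_val, ← hu, mul_assoc, Units.inv_mul, mul_one]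
  rw [← h2]
  exact K.pow_mem hc _

variable {G : Type*} [Group G] [Finite G]

/-- The transfer of `φ` is surjective on `P`. -/
theorem exists_hom (P : Subgroup G) (hP : ¬ 2 ∣ P.index) {m : ℕ} (hm : 1 ≤ m)
    (φ : P →* Multiplicative (ZMod (2 ^ m))) (t : P)
    (key : ∀ (k : ℕ) (x : G) (h : x⁻¹ * (t : G) ^ k * x ∈ P),
      red m hm (φ ⟨x⁻¹ * (t : G) ^ k * x, h⟩) = Multiplicative.ofAdd ((k : ZMod 2))) :
    ∃ V : G →* Multiplicative (ZMod (2 ^ m)), ∀ c, ∃ s ∈ P, V s = c := by
  classical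
  refine ⟨MonoidHom.transfer φ, fun c => ?_⟩
  have h1 : red m hm (MonoidHom.transfer φ (t : G)) =
      MonoidHom.transfer ((red m hm).comp φ) (t : G) := by
    let _ := P.fintypeQuotientOfFiniteIndex
    rw [MonoidHom.transfer_eq_prod_quotient_orbitRel_zpowers_quot,
      MonoidHom.transfer_eq_prod_quotient_orbitRel_zpowers_quot, map_prod]
    rfl
  have key1 : red m hm (φ t) = Multiplicative.ofAdd (1 : ZMod 2) := by
    have h := key 1 1 (by simp)
    have e : (⟨(1 : G)⁻¹ * (t : G) ^ 1 * 1, by simp⟩ : P) = t := by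
      apply Subtype.ext
      simp
    rw [e] at h
    simpa using h
  have h2 : MonoidHom.transfer ((red m hm).comp φ) (t : G) = ((red m hm).comp φ) t ^ P.index := by
    apply TwoFusion.PResidual.transfer_eq_pow_index_of_fusion
    intro k g₀ h
    rw [MonoidHom.comp_apply, key k g₀ h, map_pow, MonoidHom.comp_apply, key1, ← ofAdd_nsmul,
      nsmul_eq_mul, mul_one]
  have h3 : red m hm (MonoidHom.transfer φ (t : G)) ≠ 1 := by
    rw [h1, h2, MonoidHom.comp_apply, key1, ← ofAdd_nsmul, nsmul_eq_mul, mul_one]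
    intro h
    apply hP
    have h4 : ((P.index : ℕ) : ZMod 2) = 0 := Multiplicative.ofAdd.injective h
    exact (ZMod.natCast_eq_zero_iff _ _).1 h4
  have h4 := eq_top_of_red hm (P.map (MonoidHom.transfer φ)) _ (mem_map_of_mem _ t.2) h3
  have h5 : c ∈ P.map (MonoidHom.transfer φ) := by rw [h4]; exact mem_top c
  obtain ⟨s, hs, hsc⟩ := mem_map.1 h5
  exact ⟨s, hs, hsc⟩

/-- `O^2(G) ∩ P = Q`. -/
theorem pResidual_inf_eq (P : Subgroup G) (hP : ¬ 2 ∣ P.index) {m : ℕ} (hm : 1 ≤ m)
    (φ : P →* Multiplicative (ZMod (2 ^ m))) (t : P)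
    (key : ∀ (k : ℕ) (x : G) (h : x⁻¹ * (t : G) ^ k * x ∈ P),
      red m hm (φ ⟨x⁻¹ * (t : G) ^ k * x, h⟩) = Multiplicative.ofAdd ((k : ZMod 2)))
    (Q : Subgroup G) (hQ : ∀ p : P, φ p = 1 → (p : G) ∈ Q) (hQP : Q ≤ P)
    (hQO : Q ≤ Cfsg.pResidual 2 G) : Cfsg.pResidual 2 G ⊓ P = Q := by
  classical
  obtain ⟨V, hV⟩ := exists_hom P hP hm φ t key
  have hfin : Finite (Multiplicative (ZMod (2 ^ m))) := inferInstance
  have hcard : Nat.card (Multiplicative (ZMod (2 ^ m))) = 2 ^ m := by
    rw [Nat.card_congr Multiplicative.toAdd]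
    exact Nat.card_zmod _
  have hker : Cfsg.pResidual 2 G ≤ V.ker := by
    refine TwoFusion.PResidual.pResidual_le 2 (fun g hg => ?_)
    rw [MonoidHom.mem_ker, ← orderOf_eq_one_iff]
    have h1 : orderOf (V g) ∣ orderOf g := orderOf_map_dvd V g
    have h2 : orderOf (V g) ∣ 2 ^ m := by
      have h := _root_.orderOf_dvd_natCard (V g)
      rwa [hcard] at h
    have h3 : Nat.Coprime (orderOf (V g)) (2 ^ m) :=
      Nat.Coprime.pow_right m (Nat.Coprime.coprime_dvd_left h1 hg)
    exact Nat.Coprime.eq_one_of_dvd h3 h2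
  -- compare indices inside `P`
  have hVP : (V.comp P.subtype).ker.index = 2 ^ m := by
    rw [index_ker]
    have : (V.comp P.subtype).range = ⊤ := by
      rw [eq_top_iff]
      intro c _
      obtain ⟨s, hs, hsc⟩ := hV c
      exact ⟨⟨s, hs⟩, hsc⟩
    rw [this, card_top, hcard]
  have hφ : φ.ker.index ∣ 2 ^ m := by
    rw [index_ker]
    have h := card_subgroup_dvd_card φ.range
    rwa [hcard] at h
  have hle1 : φ.ker ≤ Q.subgroupOf P := fun p hp => hQ p hp
  have hle2 : Q.subgroupOf P ≤ (V.comp P.subtype).ker := by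
    intro p hp
    have h1 : (p : G) ∈ Q := hp
    exact hker (hQO h1)
  have hi1 : (Q.subgroupOf P).index ∣ φ.ker.index := index_dvd_of_le hle1
  have hi2 : (V.comp P.subtype).ker.index ∣ (Q.subgroupOf P).index := index_dvd_of_le hle2
  have hi3 : (Q.subgroupOf P).index = (V.comp P.subtype).ker.index :=
    Nat.dvd_antisymm (by rw [hVP]; exact hi1.trans hφ) hi2
  have heq : Q.subgroupOf P = (V.comp P.subtype).ker := by
    refine Subgroup.eq_of_le_of_card_ge hle2 ?_
    have e1 := card_mul_index (Q.subgroupOf P)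
    have e2 := card_mul_index (V.comp P.subtype).ker
    rw [hi3, ← e2] at e1
    have hpos : 0 < (V.comp P.subtype).ker.index := by rw [hVP]; positivity
    exact (Nat.eq_of_mul_eq_mul_right hpos e1).ge
  apply le_antisymm
  · rintro p ⟨hp1, hp2⟩
    have h1 : (⟨p, hp2⟩ : P) ∈ (V.comp P.subtype).ker := hker hp1
    rw [← heq] at h1
    exact h1
  · exact le_inf hQO hQP

end Cfsg.Agent.LFourB.CyclicTransfer
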