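import Mathlib
import Cfsg.Agent.LFourB.CyclicTransfer

/-!
# `O^2(G) ∩ S` from an index-two subgroup with a cyclic transfer

Friendlier forms of `CyclicTransfer.pResidual_inf_eq`: `G0` of index two in `G`, `δ` a homomorphism from `S ∩ G0` into the
cyclic group of order `2 ^ m` (given as a function on `G`), `t ∈ S ∩ G0`.
-/

set_option autoImplicit false

namespace Cfsg.Agent.LFourB.CyclicQuot

open Subgroup

variable {G : Type*} [Group G]

/-- Reduction mod two `ZMod (2 ^ m) → ZMod 2`. -/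
def rd (m : ℕ) (hm : 1 ≤ m) : ZMod (2 ^ m) →+* ZMod 2 :=
  ZMod.castHom (dvd_pow_self 2 (by omega : m ≠ 0)) (ZMod 2)

/-- Elements of odd order lie in a subgroup of index two. -/
theorem pResidual_le_of_index_two (G0 : Subgroup G) (hG0 : G0.index = 2) : Cfsg.pResidual 2 G ≤ G0 := by
  refine TwoFusion.PResidual.pResidual_le 2 (fun g hg => ?_)
  have hn : G0.Normal := normal_of_index_eq_two hG0
  have h1 : orderOf ((g : G ⧸ G0)) ∣ orderOf g := orderOf_map_dvd (QuotientGroup.mk' G0) g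
  have h2 : orderOf ((g : G ⧸ G0)) ∣ 2 := by
    have h := _root_.orderOf_dvd_natCard ((g : G ⧸ G0))
    rwa [← index_eq_card, hG0] at h
  have h3 : orderOf ((g : G ⧸ G0)) = 1 :=
    Nat.Coprime.eq_one_of_dvd (Nat.Coprime.coprime_dvd_left h1 hg) h2
  rw [orderOf_eq_one_iff] at h3
  exact (QuotientGroup.eq_one_iff g).1 h3

/-- `O^2(G) ∩ S = Q`. -/
theorem pResidual_inf_eq [Finite G] (S : Sylow 2 G) (G0 : Subgroup G) (hG0 : G0.index = 2) {m : ℕ} (hm : 1 ≤ m)
    (δ : G → ZMod (2 ^ m))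
    (hδ : ∀ a b, a ∈ S → a ∈ G0 → b ∈ S → b ∈ G0 → δ (a * b) = δ a + δ b)
    (t : G) (htS : t ∈ S) (ht0 : t ∈ G0)
    (key : ∀ (k : ℕ) (x : G), x ∈ G0 → x⁻¹ * t ^ k * x ∈ S → rd m hm (δ (x⁻¹ * t ^ k * x)) = (k : ZMod 2))
    (Q : Subgroup G) (hQ : ∀ p, p ∈ S → p ∈ G0 → δ p = 0 → p ∈ Q) (hQS : Q ≤ S)
    (hQO : Q ≤ Cfsg.pResidual 2 G) : Cfsg.pResidual 2 G ⊓ S = Q := by
  classical
  have hn : G0.Normal := normal_of_index_eq_two hG0
  have hOG0 := pResidual_le_of_index_two G0 hG0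
  -- the residual of `G0`
  have hres : (Cfsg.pResidual 2 G0).map G0.subtype = Cfsg.pResidual 2 G := by
    apply le_antisymm (TwoFusion.PResidual.pResidual_map_subtype_le 2 G0)
    refine TwoFusion.PResidual.pResidual_le 2 (fun g hg => ?_)
    have hg0 : g ∈ G0 := hOG0 (TwoFusion.PResidual.mem_pResidual_of_coprime 2 hg)
    refine ⟨⟨g, hg0⟩, TwoFusion.PResidual.mem_pResidual_of_coprime 2 ?_, rfl⟩
    rwa [← orderOf_coe] 
  let P : Subgroup G0 := (S : Subgroup G).subgroupOf G0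
  have hPidx : ¬ 2 ∣ P.index := by
    have e1 : ((S : Subgroup G) ⊓ G0).relIndex (S : Subgroup G) * (S : Subgroup G).index =
        ((S : Subgroup G) ⊓ G0).index := relIndex_mul_index inf_le_left
    have e2 : ((S : Subgroup G) ⊓ G0).relIndex G0 * G0.index =
        ((S : Subgroup G) ⊓ G0).index := relIndex_mul_index inf_le_right
    rw [inf_relIndex_left] at e1
    rw [inf_relIndex_right, hG0] at e2
    have e3 : G0.relIndex (S : Subgroup G) ∣ 2 := by
      have h := relIndex_dvd_index_of_normal G0 (S : Subgroup G)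
      rwa [hG0] at h
    have e4 : P.index = (S : Subgroup G).relIndex G0 := rfl
    intro h
    obtain ⟨c, hc⟩ := h
    have e5 : ¬ 2 ∣ (S : Subgroup G).index := S.not_dvd_index
    rw [← e4, hc] at e2
    rw [← e2] at e1
    apply e5
    rcases (Nat.dvd_prime Nat.prime_two).1 e3 with h1 | h1
    · rw [h1, one_mul] at e1
      exact ⟨c * 2, by rw [e1]; ring⟩
    · rw [h1] at e1
      exact ⟨c, by omega⟩
  let φ : P →* Multiplicative (ZMod (2 ^ m)) :=
    { toFun := fun p => Multiplicative.ofAdd (δ ((p : G0) : G))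
      map_one' := by
        have h := hδ 1 1 (one_mem _) (one_mem _) (one_mem _) (one_mem _)
        rw [mul_one] at h
        have h1 : δ 1 = 0 := by
          have := h
          rw [left_eq_add] at this
          exact this
        show Multiplicative.ofAdd (δ 1) = 1
        rw [h1]
        rfl
      map_mul' := fun p q => by
        exact congrArg Multiplicative.ofAdd (hδ _ _ p.2 (p : G0).2 q.2 (q : G0).2) }
  have hmain := CyclicTransfer.pResidual_inf_eq P hPidx hm φ ⟨⟨t, ht0⟩, htS⟩ (by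
    intro k x h
    exact congrArg Multiplicative.ofAdd (key k x x.2 h)) (Q.subgroupOf G0)
    (by
      intro p hp
      exact hQ _ p.2 (p : G0).2 (Multiplicative.ofAdd.injective hp))
    (by
      intro q hq
      exact hQS hq)
    (by
      intro q hq
      have h1 : (q : G) ∈ Cfsg.pResidual 2 G := hQO hq
      rw [← hres] at h1
      obtain ⟨q', hq', he⟩ := h1
      have : q' = q := Subtype.ext he
      rwa [← this])
  apply le_antisymm
  · rintro g ⟨hg1, hg2⟩
    have hg0 : g ∈ G0 := hOG0 hg1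
    have h1 : (⟨g, hg0⟩ : G0) ∈ Cfsg.pResidual 2 G0 := by
      have h := hg1
      rw [← hres] at h
      obtain ⟨g', hg', he⟩ := h
      have : g' = ⟨g, hg0⟩ := Subtype.ext he
      rwa [← this]
    have h2 : (⟨g, hg0⟩ : G0) ∈ Cfsg.pResidual 2 G0 ⊓ P := ⟨h1, hg2⟩
    rw [hmain] at h2
    exact h2
  · exact le_inf hQO hQS

/-- The hypothesis `key` from an abelian subgroup `T` with known fusion. -/
theorem key_of (S : Sylow 2 G) (G0 T : Subgroup G) {m : ℕ} (hm : 1 ≤ m) (δ : G → ZMod (2 ^ m))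
    (n : ℕ) (hn : 2 ≤ n) (t : G) (hord : orderOf t = 2 ^ n)
    (hT : ∀ (k : ℕ) (x : G), x ∈ G0 → x⁻¹ * t ^ k * x ∈ T → rd m hm (δ (x⁻¹ * t ^ k * x)) = (k : ZMod 2))
    (hout : ∀ s, s ∈ S → s ∈ G0 → s ∉ T → s * s ≠ 1 → ∀ (i : ℕ), 1 ≤ i → ∀ x, x ∈ G0 →
      s ^ (2 ^ i) ≠ x⁻¹ * t ^ (2 ^ (n - 1)) * x)
    (hinv : ∀ s, s ∈ S → s ∈ G0 → s ∉ T → s * s = 1 → rd m hm (δ s) = 0)
    (ht0 : t ∈ G0) (k : ℕ) (x : G) (hx : x ∈ G0) (hs : x⁻¹ * t ^ k * x ∈ S) :
    rd m hm (δ (x⁻¹ * t ^ k * x)) = (k : ZMod 2) := by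
  by_cases hsT : x⁻¹ * t ^ k * x ∈ T
  · exact hT k x hx hsT
  have hs0 : x⁻¹ * t ^ k * x ∈ G0 := G0.mul_mem (G0.mul_mem (G0.inv_mem hx) (G0.pow_mem ht0 k)) hx
  have hpow : ∀ j : ℕ, (x⁻¹ * t ^ k * x) ^ j = x⁻¹ * t ^ (k * j) * x := by
    intro j
    have h := conj_pow (a := x⁻¹) (b := t ^ k) (i := j)
    rw [inv_inv] at h
    rw [h, pow_mul]
  by_cases hss : (x⁻¹ * t ^ k * x) * (x⁻¹ * t ^ k * x) = 1
  · rw [hinv _ hs hs0 hsT hss]
    rw [← pow_two, hpow] at hss
    have h1 : t ^ (k * 2) = 1 := by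
      have : t ^ (k * 2) = x * (x⁻¹ * t ^ (k * 2) * x) * x⁻¹ := by group
      rw [this, hss]
      group
    have h2 : 2 ^ n ∣ k * 2 := hord ▸ orderOf_dvd_of_pow_eq_one h1
    have h3 : 2 ∣ k := by
      obtain ⟨n', rfl⟩ : ∃ n', n = n' + 2 := ⟨n - 2, by omega⟩
      rw [pow_succ] at h2
      have h4 := Nat.dvd_of_mul_dvd_mul_right (by norm_num) h2
      rw [pow_succ] at h4
      exact (Dvd.intro_left _ rfl).trans h4
    exact ((ZMod.natCast_eq_zero_iff _ _).2 h3).symm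
  · exfalso
    -- the order of `t ^ k` is `2 ^ j`, `j ≥ 2`
    have h1 : orderOf (t ^ k) ∣ 2 ^ n := by
      rw [← hord]
      exact orderOf_pow_dvd k
    obtain ⟨j, hjn, hj⟩ := (Nat.dvd_prime_pow Nat.prime_two).1 h1
    have hj2 : 2 ≤ j := by
      by_contra hcon
      apply hss
      have h5 : orderOf (t ^ k) ∣ 2 := by
        rw [hj]
        exact pow_dvd_pow 2 (by omega : j ≤ 1)
      have h6 : t ^ (k * 2) = 1 := by
        rw [pow_mul]
        exact orderOf_dvd_iff_pow_eq_one.1 h5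
      rw [← pow_two, hpow, h6]
      group
    apply hout _ hs hs0 hsT hss (j - 1) (by omega) x hx
    rw [hpow]
    congr 2
    -- both are the unique involution of `⟨t⟩`
    rw [pow_mul]
    have ho : orderOf ((t ^ k) ^ 2 ^ (j - 1)) = 2 := by
      rw [orderOf_pow' _ (by positivity), hj]
      have : Nat.gcd (2 ^ j) (2 ^ (j - 1)) = 2 ^ (j - 1) :=
        Nat.gcd_eq_right (pow_dvd_pow 2 (by omega))
      rw [this, Nat.pow_div (by omega) (by norm_num)]
      have : j - (j - 1) = 1 := by omega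
      rw [this, pow_one]
    have hk : k * 2 ^ (j - 1) = 2 ^ (n - 1) * (k * 2 ^ (j - 1) / 2 ^ (n - 1)) ∧
        ¬ 2 ∣ (k * 2 ^ (j - 1) / 2 ^ (n - 1)) := by
      have hd : 2 ^ (n - 1) ∣ k * 2 ^ (j - 1) := by
        have h7 : t ^ (k * 2 ^ (j - 1) * 2) = 1 := by
          rw [mul_assoc, pow_mul, pow_mul, ← pow_mul, pow_mul]
          have := pow_orderOf_eq_one ((t ^ k) ^ 2 ^ (j - 1))
          rw [ho] at this
          rw [← pow_mul] at this ⊢
          exact this
        have h8 : 2 ^ n ∣ k * 2 ^ (j - 1) * 2 := hord ▸ orderOf_dvd_of_pow_eq_one h7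
        have h9 : 2 ^ n = 2 ^ (n - 1) * 2 := by
          rw [← pow_succ]
          congr 1
          omega
        rw [h9] at h8
        exact Nat.dvd_of_mul_dvd_mul_right (by norm_num) h8
      refine ⟨(Nat.mul_div_cancel' hd).symm, ?_⟩
      intro h10
      obtain ⟨c, hc⟩ := h10
      have h11 : k * 2 ^ (j - 1) = 2 ^ n * c := by
        rw [← Nat.mul_div_cancel' hd, hc, ← mul_assoc, ← pow_succ]
        congr 2
        omega
      have h12 : (t ^ k) ^ 2 ^ (j - 1) = 1 := by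
        rw [← pow_mul, h11, pow_mul, ← hord, pow_orderOf_eq_one, one_pow]
      rw [h12, orderOf_one] at ho
      norm_num at ho
    obtain ⟨c, hc⟩ : ∃ c, k * 2 ^ (j - 1) / 2 ^ (n - 1) = 2 * c + 1 := by
      have := hk.2
      exact ⟨(k * 2 ^ (j - 1) / 2 ^ (n - 1)) / 2, by omega⟩
    rw [← pow_mul, hk.1, hc, mul_add, mul_one, pow_add, ← mul_assoc, ← pow_succ, pow_mul]
    have h13 : n - 1 + 1 = n := by omega
    rw [h13, ← hord, pow_orderOf_eq_one, one_pow, one_mul]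

end Cfsg.Agent.LFourB.CyclicQuot
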