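import Cfsg.Agent.LFourB.BOne

/-!
# Calculus in a 2-group of type `PSL 4 q`, `q = 1 mod 8`
-/

set_option autoImplicit false

namespace Cfsg.Agent.LFourB

variable {G : Type*} [Group G] {S : Subgroup G} {m : ℕ} {f : R m → R m → R m → G} {u w : G}

namespace BOne

theorem f_zero (h : BOne S m f u w) : f 0 0 0 = 1 := by
  have h1 := h.f_mul 0 0 0 0 0 0 Good.zero Good.zero
  rw [add_zero] at h1
  exact left_eq_mul.mp h1.symm

theorem f_inv (h : BOne S m f u w) {p q r : R m} (hg : Good p q r) : (f p q r)⁻¹ = f (-p) (-q) (-r) := by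
  rw [inv_eq_iff_mul_eq_one, h.f_mul _ _ _ _ _ _ hg hg.neg]
  simp [h.f_zero]

theorem f_comm (h : BOne S m f u w) {p q r p' q' r' : R m} (hg : Good p q r) (hg' : Good p' q' r') :
    f p q r * f p' q' r' = f p' q' r' * f p q r := by
  rw [h.f_mul _ _ _ _ _ _ hg hg', h.f_mul _ _ _ _ _ _ hg' hg, add_comm p, add_comm q, add_comm r]

theorem f_eq_iff (h : BOne S m f u w) {p q r p' q' r' : R m} (hg : Good p q r) (hg' : Good p' q' r') :
    f p q r = f p' q' r' ↔ p = p' ∧ q = q' ∧ r = r' := by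
  constructor
  · intro he
    have h1 : f (p - p') (q - q') (r - r') = 1 := by
      have := h.f_mul _ _ _ _ _ _ hg hg'.neg
      rw [← h.f_inv hg', he, mul_inv_cancel] at this
      rw [sub_eq_add_neg, sub_eq_add_neg, sub_eq_add_neg, ← this]
    obtain ⟨h2, h3, h4⟩ := h.f_inj _ _ _ (hg.sub hg') h1
    exact ⟨sub_eq_zero.mp h2, sub_eq_zero.mp h3, sub_eq_zero.mp h4⟩
  · rintro ⟨rfl, rfl, rfl⟩
    rfl

theorem f_eq_one_iff (h : BOne S m f u w) {p q r : R m} (hg : Good p q r) :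
    f p q r = 1 ↔ p = 0 ∧ q = 0 ∧ r = 0 := by
  constructor
  · exact h.f_inj _ _ _ hg
  · rintro ⟨rfl, rfl, rfl⟩
    exact h.f_zero

theorem f_pow (h : BOne S m f u w) {p q r : R m} (hg : Good p q r) (n : ℕ) :
    f p q r ^ n = f ((n : R m) * p) ((n : R m) * q) ((n : R m) * r) := by
  induction n with
  | zero => simp [h.f_zero]
  | succ n ih =>
    rw [pow_succ, ih, h.f_mul _ _ _ _ _ _ (hg.pow n) hg]
    push_cast
    congr 1 <;> ring

theorem u_inv (h : BOne S m f u w) : u⁻¹ = u := inv_eq_of_mul_eq_one_left h.u_u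

theorem w_inv (h : BOne S m f u w) : w⁻¹ = w := inv_eq_of_mul_eq_one_left h.w_w

theorem w_mul_u (h : BOne S m f u w) : w * u = ub u w * w := by
  rw [ub, mul_assoc, mul_assoc, h.w_w, mul_one]

theorem w_mul_ub (h : BOne S m f u w) : w * ub u w = u * w := by
  rw [ub, ← mul_assoc, ← mul_assoc, h.w_w, one_mul]

theorem ub_mul_ub (h : BOne S m f u w) : ub u w * ub u w = 1 := by
  have : ub u w * ub u w = w * u * (w * w) * u * w := by rw [ub]; group
  rw [this, h.w_w, mul_one, mul_assoc w u u, h.u_u, mul_one, h.w_w]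

theorem ub_inv (h : BOne S m f u w) : (ub u w)⁻¹ = ub u w := inv_eq_of_mul_eq_one_left h.ub_mul_ub

theorem ub_mul_u (h : BOne S m f u w) : ub u w * u = u * ub u w := h.comm.symm

theorem ub_f (h : BOne S m f u w) {p q r : R m} (hg : Good p q r) :
    ub u w * f p q r = f p (-q) (r - q) * ub u w := by
  have h1 : ub u w * f p q r = w * (u * (w * f p q r)) := by rw [ub]; group
  rw [h1, h.w_f _ _ _ hg, ← mul_assoc u, h.u_f _ _ _ hg.actw, mul_assoc, ← mul_assoc w, h.w_f _ _ _ hg.actw.actu]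
  rw [ub, mul_assoc, mul_assoc w u w]
  congr 2
  ring

theorem sg_f (h : BOne S m f u w) {p q r : R m} (hg : Good p q r) :
    sg u w * f p q r = f (-p) (-q) (r + p - q) * sg u w := by
  rw [sg, mul_assoc, h.ub_f hg, ← mul_assoc, h.u_f _ _ _ hg.actub, mul_assoc]
  congr 2
  ring

theorem sgw_f (h : BOne S m f u w) {p q r : R m} (hg : Good p q r) :
    sgw u w * f p q r = f (-q) (-p) (-r + q - p) * sgw u w := by
  have h1 : sgw u w = sg u w * w := rfl
  rw [h1, mul_assoc, h.w_f _ _ _ hg, ← mul_assoc, h.sg_f hg.actw, mul_assoc]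

theorem sg_mul_sg (h : BOne S m f u w) : sg u w * sg u w = 1 := by
  rw [sg, mul_assoc, ← mul_assoc (ub u w), h.ub_mul_u, mul_assoc, h.ub_mul_ub, mul_one, h.u_u]

theorem sg_inv (h : BOne S m f u w) : (sg u w)⁻¹ = sg u w := inv_eq_of_mul_eq_one_left h.sg_mul_sg

theorem w_mul_sg (h : BOne S m f u w) : w * sg u w = sg u w * w := by
  rw [sg, ← mul_assoc, h.w_mul_u, mul_assoc, h.w_mul_ub, ← mul_assoc, h.ub_mul_u]

theorem sgw_mul_sgw (h : BOne S m f u w) : sgw u w * sgw u w = 1 := by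
  have h1 : sgw u w = sg u w * w := rfl
  rw [h1, mul_assoc, ← mul_assoc w, h.w_mul_sg, mul_assoc, h.w_w, mul_one, h.sg_mul_sg]

theorem sgw_inv (h : BOne S m f u w) : (sgw u w)⁻¹ = sgw u w := inv_eq_of_mul_eq_one_left h.sgw_mul_sgw

theorem u_mul_sg (h : BOne S m f u w) : u * sg u w = ub u w := by
  rw [sg, ← mul_assoc, h.u_u, one_mul]

/-- The eight coset representatives of the torus. -/
def Rep (u w d : G) : Prop := d = 1 ∨ d = u ∨ d = ub u w ∨ d = sg u w ∨ d = w ∨ d = u * w ∨ d = ub u w * w ∨ d = sgw u w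

theorem mem_S (h : BOne S m f u w) {g : G} :
    g ∈ S ↔ ∃ p q r, Good p q r ∧ ∃ d, Rep u w d ∧ g = f p q r * d := h.mem_iff g

theorem mem_Tor (h : BOne S m f u w) {g : G} : g ∈ Tor f ↔ ∃ p q r, Good p q r ∧ g = f p q r := by
  constructor
  · intro hg
    induction hg using Subgroup.closure_induction with
    | mem x hx => exact hx
    | one => exact ⟨0, 0, 0, Good.zero, h.f_zero.symm⟩
    | mul x y _ _ hx hy =>
      obtain ⟨p, q, r, hg, rfl⟩ := hx
      obtain ⟨p', q', r', hg', rfl⟩ := hy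
      exact ⟨_, _, _, hg.add hg', h.f_mul _ _ _ _ _ _ hg hg'⟩
    | inv x _ hx =>
      obtain ⟨p, q, r, hg, rfl⟩ := hx
      exact ⟨_, _, _, hg.neg, h.f_inv hg⟩
  · intro hg
    exact Subgroup.subset_closure hg

theorem f_mem_Tor (_h : BOne S m f u w) {p q r : R m} (hg : Good p q r) : f p q r ∈ Tor f :=
  Subgroup.subset_closure ⟨p, q, r, hg, rfl⟩

theorem Tor_comm (h : BOne S m f u w) {a b : G} (ha : a ∈ Tor f) (hb : b ∈ Tor f) : a * b = b * a := by
  obtain ⟨p, q, r, hg, rfl⟩ := h.mem_Tor.mp ha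
  obtain ⟨p', q', r', hg', rfl⟩ := h.mem_Tor.mp hb
  exact h.f_comm hg hg'

theorem f_mem_S (h : BOne S m f u w) {p q r : R m} (hg : Good p q r) : f p q r ∈ S :=
  h.mem_S.mpr ⟨p, q, r, hg, 1, Or.inl rfl, by rw [mul_one]⟩

theorem Rep_mem (h : BOne S m f u w) {d : G} (hd : Rep u w d) : d ∈ S :=
  h.mem_S.mpr ⟨0, 0, 0, Good.zero, d, hd, by rw [h.f_zero, one_mul]⟩

theorem u_mem (h : BOne S m f u w) : u ∈ S := h.Rep_mem (Or.inr (Or.inl rfl))

theorem w_mem (h : BOne S m f u w) : w ∈ S := h.Rep_mem (Or.inr (Or.inr (Or.inr (Or.inr (Or.inl rfl)))))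

theorem ub_mem (h : BOne S m f u w) : ub u w ∈ S := h.Rep_mem (Or.inr (Or.inr (Or.inl rfl)))

theorem sg_mem (h : BOne S m f u w) : sg u w ∈ S := S.mul_mem h.u_mem h.ub_mem

theorem sgw_mem (h : BOne S m f u w) : sgw u w ∈ S := S.mul_mem h.sg_mem h.w_mem

theorem Tor_le (h : BOne S m f u w) : Tor f ≤ S := by
  intro g hg
  obtain ⟨p, q, r, hgd, rfl⟩ := h.mem_Tor.mp hg
  exact h.f_mem_S hgd

/-! ### The small elements -/

theorem good1 : Good 0 0 (N m) := good_of_N (Or.inl rfl) (Or.inl rfl) (by linear_combination 2 * two_mul_N (m := m))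
theorem good2 : Good (N m) (N m) 0 := good_of_N (Or.inr rfl) (Or.inr rfl) (by ring)
theorem good3 : Good (N m) (N m) (N m) :=
  good_of_N (Or.inr rfl) (Or.inr rfl) (by linear_combination 2 * two_mul_N (m := m))
theorem goodx1 : Good (N m) 0 0 := good_of_N (Or.inr rfl) (Or.inl rfl) (by ring)
theorem goodx2 : Good (N m) 0 (N m) :=
  good_of_N (Or.inr rfl) (Or.inl rfl) (by linear_combination 2 * two_mul_N (m := m))
theorem goodx3 : Good 0 (N m) 0 := good_of_N (Or.inl rfl) (Or.inr rfl) (by ring)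
theorem goodx4 : Good 0 (N m) (N m) :=
  good_of_N (Or.inl rfl) (Or.inr rfl) (by linear_combination 2 * two_mul_N (m := m))
theorem goodh1 : Good (N m) 0 (-M m) :=
  good_of_N (Or.inr rfl) (Or.inl rfl) (by linear_combination - four_mul_M (m := m))
theorem goodh2 : Good 0 (N m) (M m) :=
  good_of_N (Or.inl rfl) (Or.inr rfl) four_mul_M
theorem goodss : Good 0 (N m) (-M m) :=
  good_of_N (Or.inl rfl) (Or.inr rfl) (by linear_combination - four_mul_M (m := m))
theorem goodyy : Good (0 : R m) 4 4 := ⟨3, by ring⟩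
theorem goodq1 (a : R m) : Good (2 * a) 0 (-a) := ⟨0, by ring⟩
theorem goodq2 (a : R m) : Good 0 (2 * a) a := ⟨a, by ring⟩
theorem goodtz (a b : R m) : Good (2 * a) (2 * b) (b - a) := ⟨b, by ring⟩

end BOne

end Cfsg.Agent.LFourB
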