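import Mathlib
import Cfsg.Agent.LFourB.Base

/-!
# The homomorphism `δ : T V' → ZMod (2 ^ (m + 2))`

`δ (f p q r) = 2 c - q` for `p + q + 2 r = 4 c` (this is `a1 a2` modulo `± 1`), `δ u = δ ub = M`.  `Del f u w g v` says
`δ g = v`.  The kernel of `δ` is `Q1 Q2`.
-/

set_option autoImplicit false

namespace Cfsg.Agent.LFourB

/-- The quotient of `R m` by `N`. -/
abbrev R1 (m : ℕ) : Type := ZMod (2 ^ (m + 2))

/-- The projection `R m → R1 m`. -/
def pr (m : ℕ) : R m →+* R1 m := ZMod.castHom (pow_dvd_pow 2 (by omega : m + 2 ≤ m + 3)) (ZMod (2 ^ (m + 2)))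

/-- Parity on `R1 m`. -/
def par1 (m : ℕ) : R1 m →+* ZMod 2 := ZMod.castHom (dvd_pow_self 2 (by omega)) (ZMod 2)

section Arith

variable {m : ℕ}

theorem pr_N : pr m (N m) = 0 := by
  rw [N, map_natCast]
  exact ZMod.natCast_self _

theorem pr_M_add : pr m (M m) + pr m (M m) = 0 := by
  rw [← map_add, M_add_M, pr_N]

theorem eq_of_pr {a : R m} (h : pr m a = 0) : a = 0 ∨ a = N m := by
  have hcast : pr m a = ((a.val : ℕ) : R1 m) := by
    conv_lhs => rw [← ZMod.natCast_zmod_val a]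
    exact map_natCast (pr m) _
  rw [hcast, ZMod.natCast_eq_zero_iff] at h
  have hlt : a.val < 2 ^ (m + 3) := ZMod.val_lt a
  have e3 : 2 ^ (m + 3) = 2 * 2 ^ (m + 2) := by ring
  have hpos : 0 < 2 ^ (m + 2) := by positivity
  obtain ⟨e, he⟩ := h
  have hc2 : e < 2 := by
    by_contra hcon
    have : 2 ^ (m + 2) * 2 ≤ 2 ^ (m + 2) * e := Nat.mul_le_mul_left _ (by omega)
    omega
  interval_cases e
  · left
    rw [← ZMod.natCast_zmod_val a, he]
    simp
  · right
    rw [← ZMod.natCast_zmod_val a, he, mul_one]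
    rfl

theorem par1_pr (a : R m) : par1 m (pr m a) = par m a := by
  have h : (par1 m).comp (pr m) = par m := Subsingleton.elim _ _
  exact RingHom.congr_fun h a

/-- `2 c` is determined modulo `N` by `4 c`. -/
theorem pr_two_eq {c c' : R m} (h : 4 * c = 4 * c') : pr m (2 * c) = pr m (2 * c') := by
  have h1 : 2 * (2 * c - 2 * c') = 0 := by linear_combination h
  rcases eq_of_two_mul h1 with h2 | h2
  · rw [sub_eq_zero.mp h2]
  · have : 2 * c = 2 * c' + N m := by rw [← h2]; ring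
    rw [this, map_add, pr_N, add_zero]

/-- An element of `R1 m` killed by 2 is even. -/
theorem par1_eq_zero {v : R1 m} (h : v + v = 0) : par1 m v = 0 := by
  have hcast : par1 m v = ((v.val : ℕ) : ZMod 2) := by
    conv_lhs => rw [← ZMod.natCast_zmod_val v]
    exact map_natCast (par1 m) _
  rw [hcast, ZMod.natCast_eq_zero_iff]
  have h1 : ((2 * v.val : ℕ) : R1 m) = 0 := by
    push_cast
    rw [ZMod.natCast_zmod_val, two_mul]
    exact h
  rw [ZMod.natCast_eq_zero_iff] at h1
  obtain ⟨e, he⟩ := h1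
  have e2 : 2 ^ (m + 2) = 2 * (2 * 2 ^ m) := by ring
  have he' : 2 * v.val = 2 * (2 * 2 ^ m) * e := he.trans (by rw [e2])
  refine ⟨2 ^ m * e, ?_⟩
  have : 2 * v.val = 2 * (2 * (2 ^ m * e)) := by
    rw [he']; ring
  omega

end Arith

variable {G : Type*} [Group G]

/-- `Del f u w g v`: the element `g` of `T V'` has `δ g = v`. -/
def Del {m : ℕ} (f : R m → R m → R m → G) (u w : G) (g : G) (v : R1 m) : Prop :=
  ∃ p q r c : R m, p + q + 2 * r = 4 * c ∧ ∃ i j : ℕ, g = f p q r * (u ^ i * ub u w ^ j) ∧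
    v = pr m (2 * c - q) + ((i + j : ℕ) : R1 m) * pr m (M m)

variable {S : Subgroup G} {m : ℕ} {f : R m → R m → R m → G} {u w : G}

namespace BOne

theorem u_act (h : BOne S m f u w) {p q r c : R m} (hc : p + q + 2 * r = 4 * c) (i : ℕ) :
    ∃ p' q' r' c' : R m, p' + q' + 2 * r' = 4 * c' ∧ 2 * c' - q' = 2 * c - q ∧
      u ^ i * f p q r = f p' q' r' * u ^ i := by
  induction i with
  | zero => exact ⟨p, q, r, c, hc, rfl, by simp⟩
  | succ i ih =>
    obtain ⟨p', q', r', c', h1, h2, h3⟩ := ih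
    refine ⟨-p', q', r' + p', c', by linear_combination h1, h2, ?_⟩
    rw [pow_succ', mul_assoc, h3, ← mul_assoc, h.u_f _ _ _ ⟨c', h1⟩, mul_assoc]

theorem ub_act (h : BOne S m f u w) {p q r c : R m} (hc : p + q + 2 * r = 4 * c) (i : ℕ) :
    ∃ p' q' r' c' : R m, p' + q' + 2 * r' = 4 * c' ∧ 2 * c' - q' = 2 * c - q ∧
      ub u w ^ i * f p q r = f p' q' r' * ub u w ^ i := by
  induction i with
  | zero => exact ⟨p, q, r, c, hc, rfl, by simp⟩
  | succ i ih =>
    obtain ⟨p', q', r', c', h1, h2, h3⟩ := ih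
    refine ⟨p', -q', r' - q', c' - q', by linear_combination h1, by linear_combination h2, ?_⟩
    rw [pow_succ', mul_assoc, h3, ← mul_assoc, h.ub_f ⟨c', h1⟩, mul_assoc]

theorem u_ub_comm (h : BOne S m f u w) (i j : ℕ) : ub u w ^ j * u ^ i = u ^ i * ub u w ^ j := by
  have h1 : Commute (ub u w) u := h.ub_mul_u
  exact (h1.pow_pow j i).eq

theorem del_mul (h : BOne S m f u w) {g g' : G} {v v' : R1 m} (hg : Del f u w g v) (hg' : Del f u w g' v') :
    Del f u w (g * g') (v + v') := by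
  obtain ⟨p, q, r, c, hc, i, j, rfl, rfl⟩ := hg
  obtain ⟨p', q', r', c', hc', i', j', rfl, rfl⟩ := hg'
  obtain ⟨p1, q1, r1, c1, hc1, e1, e2⟩ := h.ub_act hc' j
  obtain ⟨p2, q2, r2, c2, hc2, e3, e4⟩ := h.u_act hc1 i
  refine ⟨p + p2, q + q2, r + r2, c + c2, by linear_combination hc + hc2, i + i', j + j', ?_, ?_⟩
  · calc f p q r * (u ^ i * ub u w ^ j) * (f p' q' r' * (u ^ i' * ub u w ^ j'))
        = f p q r * (u ^ i * (ub u w ^ j * f p' q' r')) * (u ^ i' * ub u w ^ j') := by group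
      _ = f p q r * (u ^ i * f p1 q1 r1) * ub u w ^ j * (u ^ i' * ub u w ^ j') := by rw [e2]; group
      _ = f p q r * f p2 q2 r2 * u ^ i * (ub u w ^ j * u ^ i') * ub u w ^ j' := by rw [e4]; group
      _ = f p q r * f p2 q2 r2 * u ^ i * (u ^ i' * ub u w ^ j) * ub u w ^ j' := by rw [h.u_ub_comm]
      _ = f p q r * f p2 q2 r2 * (u ^ (i + i') * ub u w ^ (j + j')) := by
          rw [pow_add, pow_add]; group
      _ = f (p + p2) (q + q2) (r + r2) * (u ^ (i + i') * ub u w ^ (j + j')) := by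
          rw [h.f_mul _ _ _ _ _ _ ⟨c, hc⟩ ⟨c2, hc2⟩]
  · have e5 : 2 * (c + c2) - (q + q2) = (2 * c - q) + (2 * c' - q') := by
      linear_combination e1 + e3
    rw [e5, map_add]
    push_cast
    ring

theorem del_f (_h : BOne S m f u w) {p q r c : R m} (hc : p + q + 2 * r = 4 * c) :
    Del f u w (f p q r) (pr m (2 * c - q)) :=
  ⟨p, q, r, c, hc, 0, 0, by simp, by simp⟩

theorem del_one (h : BOne S m f u w) : Del f u w 1 0 := by
  have h1 := h.del_f (p := 0) (q := 0) (r := 0) (c := 0) (by ring)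
  rw [h.f_zero] at h1
  simpa using h1

theorem del_u (h : BOne S m f u w) : Del f u w u (pr m (M m)) :=
  ⟨0, 0, 0, 0, by ring, 1, 0, by simp [h.f_zero], by simp⟩

theorem del_ub (h : BOne S m f u w) : Del f u w (ub u w) (pr m (M m)) :=
  ⟨0, 0, 0, 0, by ring, 0, 1, by simp [h.f_zero], by simp⟩

theorem del_inv (h : BOne S m f u w) {g : G} {v : R1 m} (hg : Del f u w g v) : Del f u w g⁻¹ (-v) := by
  obtain ⟨p, q, r, c, hc, i, j, rfl, rfl⟩ := hg
  have hu : ∀ i : ℕ, Del f u w (u ^ i) ((i : R1 m) * pr m (M m)) := by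
    intro i
    exact ⟨0, 0, 0, 0, by ring, i, 0, by simp [h.f_zero], by simp⟩
  have hub : ∀ i : ℕ, Del f u w (ub u w ^ i) ((i : R1 m) * pr m (M m)) := by
    intro i
    exact ⟨0, 0, 0, 0, by ring, 0, i, by simp [h.f_zero], by simp⟩
  have h1 : Del f u w (f (-p) (-q) (-r)) (pr m (2 * (-c) - (-q))) := h.del_f (by linear_combination -hc)
  have e1 : (f p q r * (u ^ i * ub u w ^ j))⁻¹ = ub u w ^ j * u ^ i * f (-p) (-q) (-r) := by
    rw [mul_inv_rev, mul_inv_rev, ← inv_pow, ← inv_pow, h.ub_inv, h.u_inv, h.f_inv ⟨c, hc⟩]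
  rw [e1]
  have h2 := h.del_mul (h.del_mul (hub j) (hu i)) h1
  convert h2 using 1
  have e2 : pr m (2 * (-c) - (-q)) = - pr m (2 * c - q) := by
    rw [← map_neg]; congr 1; ring
  rw [e2]
  have e3 := pr_M_add (m := m)
  push_cast
  linear_combination -((i : R1 m) + j) * e3

/-- `u ^ i * ub ^ j` is in the torus only if `i` and `j` are even. -/
theorem even_of_mem_Tor (h : BOne S m f u w) {i j : ℕ} (hij : u ^ i * ub u w ^ j ∈ Tor f) :
    2 ∣ i ∧ 2 ∣ j := by
  have hu2 : ∀ k : ℕ, u ^ k = u ^ (k % 2) := by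
    intro k
    conv_lhs => rw [← Nat.div_add_mod k 2, pow_add, pow_mul, pow_two, h.u_u, one_pow, one_mul]
  have hub2 : ∀ k : ℕ, ub u w ^ k = ub u w ^ (k % 2) := by
    intro k
    conv_lhs => rw [← Nat.div_add_mod k 2, pow_add, pow_mul, pow_two, h.ub_mul_ub, one_pow, one_mul]
  rw [hu2 i, hub2 j] at hij
  have hgood : Good (1 : R m) (-1) 0 := ⟨0, by ring⟩
  have hne : (1 : R m) ≠ -1 := by
    intro he
    have h2 : (2 : R m) = 0 := by linear_combination he
    apply M_ne_zero (m := m)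
    have : M m = 2 * ((2 ^ m : ℕ) : R m) := by
      rw [M]; push_cast; ring
    rw [this, h2, zero_mul]
  have hcomm : ∀ d, d ∈ Tor f → d * f 1 (-1) 0 = f 1 (-1) 0 * d := fun d hd =>
    h.Tor_comm hd (h.f_mem_Tor hgood)
  rcases Nat.mod_two_eq_zero_or_one i with hi | hi <;> rcases Nat.mod_two_eq_zero_or_one j with hj | hj
  · exact ⟨Nat.dvd_of_mod_eq_zero hi, Nat.dvd_of_mod_eq_zero hj⟩
  · exfalso
    rw [hi, hj, pow_zero, pow_one, one_mul] at hij
    have h1 := hcomm _ hij
    rw [h.ub_f hgood, mul_left_inj, h.f_eq_iff hgood.actub hgood] at h1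
    apply hne
    have := h1.2.1
    rw [neg_neg] at this
    exact this
  · exfalso
    rw [hi, hj, pow_zero, pow_one, mul_one] at hij
    have h1 := hcomm _ hij
    rw [h.u_f _ _ _ hgood, mul_left_inj, h.f_eq_iff hgood.actu hgood] at h1
    exact hne h1.1.symm
  · exfalso
    rw [hi, hj, pow_one, pow_one] at hij
    have h1 := hcomm _ hij
    change sg u w * _ = _ * sg u w at h1
    rw [h.sg_f hgood, mul_left_inj, h.f_eq_iff hgood.actsg hgood] at h1
    exact hne h1.1.symm

theorem del_one_eq (h : BOne S m f u w) {v : R1 m} (hv : Del f u w 1 v) : v = 0 := by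
  obtain ⟨p, q, r, c, hc, i, j, he, rfl⟩ := hv
  have hmem : u ^ i * ub u w ^ j ∈ Tor f := by
    have : u ^ i * ub u w ^ j = (f p q r)⁻¹ := (inv_eq_of_mul_eq_one_right he.symm).symm
    rw [this]
    exact (Tor f).inv_mem (h.f_mem_Tor ⟨c, hc⟩)
  obtain ⟨hi, hj⟩ := h.even_of_mem_Tor hmem
  obtain ⟨i', rfl⟩ := hi
  obtain ⟨j', rfl⟩ := hj
  rw [pow_mul, pow_mul, pow_two, pow_two, h.u_u, h.ub_mul_ub, one_pow, one_pow, mul_one, mul_one] at he
  obtain ⟨rfl, rfl, rfl⟩ := h.f_inj _ _ _ ⟨c, hc⟩ he.symm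
  have h1 : pr m (2 * c - 0) = 0 := by
    rw [sub_zero]
    have := pr_two_eq (m := m) (c := c) (c' := 0) (by rw [← hc]; ring)
    rw [this, mul_zero, map_zero]
  rw [h1]
  have e3 := pr_M_add (m := m)
  push_cast
  linear_combination ((i' : R1 m) + j') * e3

theorem del_unique (h : BOne S m f u w) {g : G} {v v' : R1 m} (hv : Del f u w g v) (hv' : Del f u w g v') :
    v = v' := by
  have h1 := h.del_mul hv (h.del_inv hv')
  rw [mul_inv_cancel] at h1
  have h2 := h.del_one_eq h1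
  linear_combination h2

/-- `T V'` is the domain of `δ`. -/
theorem mem_TVp (h : BOne S m f u w) {g : G} : g ∈ TVp f u w ↔ ∃ v, Del f u w g v := by
  constructor
  · intro hg
    let D : Subgroup G :=
      { carrier := {g | ∃ v, Del f u w g v}
        one_mem' := ⟨0, h.del_one⟩
        mul_mem' := fun {a b} ha hb => by
          obtain ⟨v, hv⟩ := ha
          obtain ⟨v', hv'⟩ := hb
          exact ⟨_, h.del_mul hv hv'⟩
        inv_mem' := fun {a} ha => by
          obtain ⟨v, hv⟩ := ha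
          exact ⟨_, h.del_inv hv⟩ }
    have hle : TVp f u w ≤ D := by
      rw [TVp, sup_le_iff]
      constructor
      · intro x hx
        obtain ⟨p, q, r, ⟨c, hc⟩, rfl⟩ := h.mem_Tor.mp hx
        exact ⟨_, h.del_f hc⟩
      · rw [Subgroup.closure_le]
        rintro x (rfl | hx)
        · exact ⟨_, h.del_u⟩
        · rw [Set.mem_singleton_iff.mp hx]
          exact ⟨_, h.del_ub⟩
    exact hle hg
  · rintro ⟨v, p, q, r, c, hc, i, j, rfl, -⟩
    have h1 : u ∈ TVp f u w := (le_sup_right : _ ≤ TVp f u w) (Subgroup.subset_closure (by simp))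
    have h2 : ub u w ∈ TVp f u w := (le_sup_right : _ ≤ TVp f u w) (Subgroup.subset_closure (by simp))
    have h3 : f p q r ∈ TVp f u w := (le_sup_left : Tor f ≤ TVp f u w) (h.f_mem_Tor ⟨c, hc⟩)
    exact (TVp f u w).mul_mem h3 ((TVp f u w).mul_mem ((TVp f u w).pow_mem h1 _) ((TVp f u w).pow_mem h2 _))

theorem TVp_le (h : BOne S m f u w) : TVp f u w ≤ S := by
  rw [TVp, sup_le_iff]
  refine ⟨h.Tor_le, ?_⟩
  rw [Subgroup.closure_le]
  rintro x (rfl | hx)
  · exact h.u_mem
  · rw [Set.mem_singleton_iff.mp hx]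
    exact h.ub_mem

/-! ### The kernel -/

theorem Qone_le (h : BOne S m f u w) : Qone f u ≤ S := by
  rw [Qone, Subgroup.closure_le]
  rintro x (⟨a, rfl⟩ | hx)
  · exact h.f_mem_S (goodq1 a)
  · rw [Set.mem_singleton_iff.mp hx]
    exact S.mul_mem h.u_mem (h.f_mem_S goodx1)

theorem Qtwo_le (h : BOne S m f u w) : Qtwo f u w ≤ S := by
  rw [Qtwo, Subgroup.closure_le]
  rintro x (⟨a, rfl⟩ | hx)
  · exact h.f_mem_S (goodq2 a)
  · rw [Set.mem_singleton_iff.mp hx]
    exact S.mul_mem h.ub_mem (h.f_mem_S goodx3)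

theorem mem_of_del_zero (h : BOne S m f u w) {g : G} (hg : Del f u w g 0) : g ∈ Qone f u ⊔ Qtwo f u w := by
  -- the torus case
  have htor : ∀ p q r c : R m, p + q + 2 * r = 4 * c → pr m (2 * c - q) = 0 →
      f p q r ∈ Qone f u ⊔ Qtwo f u w := by
    intro p q r c hc hpr
    obtain ⟨c', hc', hq⟩ : ∃ c', p + q + 2 * r = 4 * c' ∧ q = 2 * c' := by
      rcases eq_of_pr hpr with h1 | h1
      · exact ⟨c, hc, by linear_combination -h1⟩
      · refine ⟨c + M m, ?_, ?_⟩
        · have := four_mul_M (m := m)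
          linear_combination hc - this
        · have h2 := two_mul_M (m := m)
          have h3 := N_add_N (m := m)
          linear_combination -h1 - h3 - h2
    have hp : p = 2 * (c' - r) := by linear_combination hc' - hq
    have e : f p q r = f (2 * (c' - r)) 0 (-(c' - r)) * f 0 (2 * c') c' := by
      rw [h.f_mul _ _ _ _ _ _ (goodq1 _) (goodq2 _)]
      congr 1
      · rw [hp]; ring
      · rw [hq]; ring
      · ring
    rw [e]
    exact Subgroup.mul_mem_sup (Subgroup.subset_closure (Or.inl ⟨_, rfl⟩))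
      (Subgroup.subset_closure (Or.inl ⟨_, rfl⟩))
  have hx1 : u * x1 f ∈ Qone f u ⊔ Qtwo f u w :=
    (le_sup_left : Qone f u ≤ _) (Subgroup.subset_closure (Or.inr rfl))
  have hx3 : ub u w * x3 f ∈ Qone f u ⊔ Qtwo f u w :=
    (le_sup_right : Qtwo f u w ≤ _) (Subgroup.subset_closure (Or.inr rfl))
  -- values of `δ` on the generators
  have hN : N m = 4 * ((2 ^ m : ℕ) : R m) := N_eq
  have hM : M m = 2 * ((2 ^ m : ℕ) : R m) := by
    rw [M]; push_cast; ring
  have d1 : Del f u w (u * x1 f) 0 := by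
    have h1 := h.del_f (p := N m) (q := 0) (r := 0) (c := ((2 ^ m : ℕ) : R m)) (by rw [hN]; ring)
    have h2 := h.del_mul h.del_u h1
    have e : pr m (M m) + pr m (2 * ((2 ^ m : ℕ) : R m) - 0) = 0 := by
      rw [sub_zero, ← hM, pr_M_add]
    rw [e] at h2
    exact h2
  have d3 : Del f u w (ub u w * x3 f) 0 := by
    have h1 := h.del_f (p := 0) (q := N m) (r := 0) (c := ((2 ^ m : ℕ) : R m)) (by rw [hN]; ring)
    have h2 := h.del_mul h.del_ub h1
    have e : pr m (M m) + pr m (2 * ((2 ^ m : ℕ) : R m) - N m) = 0 := by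
      rw [map_sub, pr_N, sub_zero, ← hM, pr_M_add]
    rw [e] at h2
    exact h2
  -- reduction to the torus
  have key : ∀ i j : ℕ, ∀ p q r c : R m, p + q + 2 * r = 4 * c →
      Del f u w (f p q r * (u ^ i * ub u w ^ j)) 0 → f p q r * (u ^ i * ub u w ^ j) ∈ Qone f u ⊔ Qtwo f u w := by
    intro i
    induction i with
    | zero =>
      intro j
      induction j with
      | zero =>
        intro p q r c hc hd
        rw [pow_zero, pow_zero, mul_one, mul_one] at hd ⊢
        exact htor p q r c hc (h.del_unique (h.del_f hc) hd)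
      | succ j ih =>
        intro p q r c hc hd
        -- multiply by `ub * x3`
        have e : f p q r * (u ^ 0 * ub u w ^ (j + 1)) =
            (ub u w * x3 f) * ((ub u w * x3 f)⁻¹ * (f p q r * (u ^ 0 * ub u w ^ (j + 1)))) := by group
        have h2 : (ub u w * x3 f)⁻¹ * (f p q r * (u ^ 0 * ub u w ^ (j + 1))) =
            f (0 + p) (-(N m) + -q) (0 + (r - q)) * (u ^ 0 * ub u w ^ j) := by
          rw [mul_inv_rev, x3, h.f_inv goodx3, h.ub_inv, pow_zero, one_mul, one_mul, pow_succ' (ub u w) j, neg_zero]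
          have h3 := h.ub_f (p := p) (q := q) (r := r) ⟨c, hc⟩
          calc f 0 (-N m) 0 * ub u w * (f p q r * (ub u w * ub u w ^ j))
              = f 0 (-N m) 0 * (ub u w * f p q r) * (ub u w * ub u w ^ j) := by group
            _ = f 0 (-N m) 0 * f p (-q) (r - q) * (ub u w * ub u w) * ub u w ^ j := by
                rw [h3]; group
            _ = f 0 (-N m) 0 * f p (-q) (r - q) * ub u w ^ j := by rw [h.ub_mul_ub, mul_one]
            _ = _ := by
                have hg0 : Good (0 : R m) (-N m) 0 := by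
                  have := (goodx3 (m := m)).neg
                  rwa [neg_zero] at this
                rw [h.f_mul _ _ _ _ _ _ hg0 (Good.actub ⟨c, hc⟩)]
        rw [e]
        refine (Qone f u ⊔ Qtwo f u w).mul_mem hx3 ?_
        have hd2 := h.del_mul (h.del_inv d3) hd
        rw [h2] at hd2 ⊢
        rw [neg_zero, add_zero] at hd2
        refine ih _ _ _ (c - q - ((2 ^ m : ℕ) : R m)) ?_ hd2
        rw [hN]
        linear_combination hc
    | succ i ih =>
      intro j p q r c hc hd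
      have e : f p q r * (u ^ (i + 1) * ub u w ^ j) =
          (u * x1 f) * ((u * x1 f)⁻¹ * (f p q r * (u ^ (i + 1) * ub u w ^ j))) := by group
      have h2 : (u * x1 f)⁻¹ * (f p q r * (u ^ (i + 1) * ub u w ^ j)) =
          f (-(N m) + -p) (0 + q) (0 + (r + p)) * (u ^ i * ub u w ^ j) := by
        rw [mul_inv_rev, x1, h.f_inv goodx1, h.u_inv, pow_succ' u i, neg_zero]
        have h3 := h.u_f p q r ⟨c, hc⟩
        calc f (-N m) 0 0 * u * (f p q r * (u * u ^ i * ub u w ^ j))
            = f (-N m) 0 0 * (u * f p q r) * (u * u ^ i * ub u w ^ j) := by group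
          _ = f (-N m) 0 0 * f (-p) q (r + p) * (u * u) * (u ^ i * ub u w ^ j) := by
              rw [h3]; group
          _ = f (-N m) 0 0 * f (-p) q (r + p) * (u ^ i * ub u w ^ j) := by rw [h.u_u, mul_one]
          _ = _ := by
              have hg0 : Good (-N m) (0 : R m) 0 := by
                have := (goodx1 (m := m)).neg
                rwa [neg_zero] at this
              rw [h.f_mul _ _ _ _ _ _ hg0 (Good.actu ⟨c, hc⟩)]
      rw [e]
      refine (Qone f u ⊔ Qtwo f u w).mul_mem hx1 ?_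
      have hd2 := h.del_mul (h.del_inv d1) hd
      rw [h2] at hd2 ⊢
      rw [neg_zero, add_zero] at hd2
      refine ih _ _ _ _ (c - ((2 ^ m : ℕ) : R m)) ?_ hd2
      rw [hN]
      linear_combination hc
  obtain ⟨p, q, r, c, hc, i, j, rfl, hv⟩ := hg
  exact key i j p q r c hc ⟨p, q, r, c, hc, i, j, rfl, hv⟩

/-! ### Conjugation -/

/-- Conjugation by `w` changes the sign of `δ` on the torus. -/
theorem del_w (h : BOne S m f u w) {a : G} {v : R1 m} (ha : a ∈ Tor f) (hv : Del f u w a v) :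
    Del f u w (w * a * w⁻¹) (-v) := by
  obtain ⟨p, q, r, ⟨c, hc⟩, rfl⟩ := h.mem_Tor.mp ha
  have h1 := h.del_unique hv (h.del_f hc)
  have h2 : w * f p q r * w⁻¹ = f q p (-r) := by
    rw [h.w_f _ _ _ ⟨c, hc⟩, mul_inv_cancel_right]
  rw [h2, h1]
  have h3 := h.del_f (p := q) (q := p) (r := -r) (c := c - r) (by linear_combination hc)
  convert h3 using 1
  rw [← map_neg]
  congr 1
  linear_combination hc

end BOne

end Cfsg.Agent.LFourB
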