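import Mathlib
import Cfsg.Agent.LFourB.Delta
import Cfsg.Agent.LFourB.CyclicQuot
import Cfsg.Agent.TwoFusion.IndexTwo

/-!
# `O^2(C(z)) ∩ S = Q1 Q2` (type `PSL 4 q`, `q = 1 mod 8`)

`S` a Sylow 2-subgroup of `G` with coordinates `BOne`, `S ≤ H ≤ G`, `H0` a subgroup of index two of `H` with
`S ∩ H0 = T V'`.  If `H`-fusion in the torus is induced by `S` and `u * x1 ∈ O^2(H)`, then `O^2(H) ∩ S = Q1 Q2`.
-/

set_option autoImplicit false

namespace Cfsg.Agent.LFourB

variable {G : Type*} [Group G] {m : ℕ} {f : R m → R m → R m → G} {u w : G}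

open Classical in
/-- The function `δ`. -/
noncomputable def dl (f : R m → R m → R m → G) (u w : G) (g : G) : R1 m :=
  if hg : ∃ v, Del f u w g v then Classical.choose hg else 0

namespace BOne

section

variable {S : Subgroup G}

theorem dl_eq (h : BOne S m f u w) {g : G} {v : R1 m} (hv : Del f u w g v) : dl f u w g = v := by
  have hex : ∃ v, Del f u w g v := ⟨v, hv⟩
  rw [dl, dif_pos hex]
  exact h.del_unique (Classical.choose_spec hex) hv

theorem dl_mul (h : BOne S m f u w) {a b : G} (ha : a ∈ TVp f u w) (hb : b ∈ TVp f u w) :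
    dl f u w (a * b) = dl f u w a + dl f u w b := by
  obtain ⟨v, hv⟩ := h.mem_TVp.mp ha
  obtain ⟨v', hv'⟩ := h.mem_TVp.mp hb
  rw [h.dl_eq hv, h.dl_eq hv', h.dl_eq (h.del_mul hv hv')]

theorem Tor_le_TVp (_h : BOne S m f u w) : Tor f ≤ TVp f u w := le_sup_left

theorem u_mem_TVp (_h : BOne S m f u w) : u ∈ TVp f u w :=
  (le_sup_right : _ ≤ TVp f u w) (Subgroup.subset_closure (by simp))

theorem ub_mem_TVp (_h : BOne S m f u w) : ub u w ∈ TVp f u w :=
  (le_sup_right : _ ≤ TVp f u w) (Subgroup.subset_closure (by simp))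

/-- Every element of `S` is in `T V'` or is `b * w` with `b ∈ T V'`. -/
theorem mem_S_cases (h : BOne S m f u w) {s : G} (hs : s ∈ S) :
    s ∈ TVp f u w ∨ ∃ b ∈ TVp f u w, s = b * w := by
  obtain ⟨p, q, r, hg, d, hd, rfl⟩ := h.mem_S.mp hs
  have hf : f p q r ∈ TVp f u w := h.Tor_le_TVp (h.f_mem_Tor hg)
  have hsg : sg u w ∈ TVp f u w := (TVp f u w).mul_mem h.u_mem_TVp h.ub_mem_TVp
  rcases hd with rfl | rfl | rfl | rfl | rfl | rfl | rfl | rfl
  · left; rwa [mul_one]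
  · left; exact (TVp f _ w).mul_mem hf h.u_mem_TVp
  · left; exact (TVp f u w).mul_mem hf h.ub_mem_TVp
  · left; exact (TVp f u w).mul_mem hf hsg
  · right; exact ⟨_, hf, rfl⟩
  · right; exact ⟨_, (TVp f u w).mul_mem hf h.u_mem_TVp, by rw [mul_assoc]⟩
  · right; exact ⟨_, (TVp f u w).mul_mem hf h.ub_mem_TVp, by rw [mul_assoc]⟩
  · right; exact ⟨_, (TVp f u w).mul_mem hf hsg, (mul_assoc (f p q r) (u * ub u w) w).symm⟩

/-- `S` acts on the torus preserving `δ` up to sign. -/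
theorem dl_conj (h : BOne S m f u w) {a s : G} (ha : a ∈ Tor f) (hs : s ∈ S) :
    dl f u w (s * a * s⁻¹) = dl f u w a ∨ dl f u w (s * a * s⁻¹) = - dl f u w a := by
  have haV : a ∈ TVp f u w := h.Tor_le_TVp ha
  have hinv : ∀ b ∈ TVp f u w, dl f u w b⁻¹ = - dl f u w b := by
    intro b hb
    obtain ⟨v, hv⟩ := h.mem_TVp.mp hb
    rw [h.dl_eq hv, h.dl_eq (h.del_inv hv)]
  have hconj : ∀ b ∈ TVp f u w, ∀ c ∈ TVp f u w, dl f u w (b * c * b⁻¹) = dl f u w c := by
    intro b hb c hc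
    rw [h.dl_mul ((TVp f u w).mul_mem hb hc) ((TVp f u w).inv_mem hb), h.dl_mul hb hc, hinv b hb]
    ring
  rcases h.mem_S_cases hs with hs' | ⟨b, hb, rfl⟩
  · left
    exact hconj s hs' a haV
  · right
    obtain ⟨v, hv⟩ := h.mem_TVp.mp haV
    have h1 := h.del_w ha hv
    have e : b * w * a * (b * w)⁻¹ = b * (w * a * w⁻¹) * b⁻¹ := by group
    rw [e, hconj b hb _ (h.mem_TVp.mpr ⟨_, h1⟩), h.dl_eq h1, h.dl_eq hv]

/-- The element `t` of the transfer argument. -/
theorem good_t : Good (1 : R m) (-1) 0 := ⟨0, by ring⟩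

theorem del_t (h : BOne S m f u w) (k : ℕ) : Del f u w (f 1 (-1) 0 ^ k) ((k : ℕ) : R1 m) := by
  rw [h.f_pow good_t k]
  have h1 := h.del_f (p := (k : R m) * 1) (q := (k : R m) * (-1)) (r := (k : R m) * 0) (c := 0) (by ring)
  convert h1 using 1
  have e : 2 * 0 - (k : R m) * (-1) = ((k : ℕ) : R m) := by ring
  rw [e, map_natCast]

theorem orderOf_t (h : BOne S m f u w) : orderOf (f 1 (-1) 0) = 2 ^ (m + 3) := by
  apply Nat.dvd_antisymm
  · apply orderOf_dvd_of_pow_eq_one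
    rw [h.f_pow good_t]
    have : ((2 ^ (m + 3) : ℕ) : R m) = 0 := ZMod.natCast_self _
    rw [this]
    simp [h.f_zero]
  · have h1 := pow_orderOf_eq_one (f (1 : R m) (-1) 0)
    rw [h.f_pow good_t, h.f_eq_one_iff (good_t.pow _)] at h1
    have h2 : ((orderOf (f (1 : R m) (-1) 0) : ℕ) : R m) = 0 := by
      have := h1.1
      rwa [mul_one] at this
    exact (ZMod.natCast_eq_zero_iff _ _).1 h2

theorem t_pow_half (h : BOne S m f u w) : f 1 (-1) 0 ^ 2 ^ (m + 2) = f (N m) (N m) 0 := by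
  rw [h.f_pow good_t]
  have e : ((2 ^ (m + 2) : ℕ) : R m) = N m := rfl
  rw [e, mul_one, mul_zero, mul_neg, mul_one, neg_N]

/-- The `S`-conjugates of `z2` are `z2` and `z3`. -/
theorem conj_z2 (h : BOne S m f u w) {s : G} (hs : s ∈ S) :
    ∃ r : R m, Good (N m) (N m) r ∧ s * f (N m) (N m) 0 * s⁻¹ = f (N m) (N m) r := by
  have key : ∀ d : G, Rep u w d → ∃ r : R m, Good (N m) (N m) r ∧
      d * f (N m) (N m) 0 * d⁻¹ = f (N m) (N m) r := by
    intro d hd
    have hNN : N m + N m = 0 := N_add_N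
    have hn : -N m = N m := neg_N
    have gN : Good (N m) (N m) (N m) := good3
    have g0 : Good (N m) (N m) (0 : R m) := good2
    rcases hd with rfl | rfl | rfl | rfl | rfl | rfl | rfl | rfl
    · exact ⟨0, g0, by simp⟩
    · refine ⟨N m, gN, ?_⟩
      rw [h.u_f _ _ _ g0, mul_inv_cancel_right, hn, zero_add]
    · refine ⟨N m, gN, ?_⟩
      rw [h.ub_f g0, mul_inv_cancel_right, hn, zero_sub, hn]
    · refine ⟨0, g0, ?_⟩
      rw [h.sg_f g0, mul_inv_cancel_right, hn, zero_add, sub_self]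
    · refine ⟨0, g0, ?_⟩
      rw [h.w_f _ _ _ g0, mul_inv_cancel_right, neg_zero]
    · refine ⟨N m, gN, ?_⟩
      have e : u * w * f (N m) (N m) 0 * (u * w)⁻¹ = u * (w * f (N m) (N m) 0 * w⁻¹) * u⁻¹ := by group
      rw [e, h.w_f _ _ _ g0, mul_inv_cancel_right, neg_zero, h.u_f _ _ _ g0, mul_inv_cancel_right, hn, zero_add]
    · refine ⟨N m, gN, ?_⟩
      have e : ub u w * w * f (N m) (N m) 0 * (ub u w * w)⁻¹ =
          ub u w * (w * f (N m) (N m) 0 * w⁻¹) * (ub u w)⁻¹ := by group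
      rw [e, h.w_f _ _ _ g0, mul_inv_cancel_right, neg_zero, h.ub_f g0, mul_inv_cancel_right, hn, zero_sub, hn]
    · refine ⟨0, g0, ?_⟩
      rw [h.sgw_f g0, mul_inv_cancel_right, hn, neg_zero, zero_add, sub_self]
  obtain ⟨p, q, r, hg, d, hd, rfl⟩ := h.mem_S.mp hs
  obtain ⟨r', hr', e⟩ := key d hd
  refine ⟨r', hr', ?_⟩
  have e1 : f p q r * d * f (N m) (N m) 0 * (f p q r * d)⁻¹ =
      f p q r * (d * f (N m) (N m) 0 * d⁻¹) * (f p q r)⁻¹ := by group
  rw [e1, e, h.f_comm hg hr', mul_inv_cancel_right]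

/-- An element of `T V' - T` of order at least four has no power of the form `z2`, `z3`. -/
theorem pow_ne (h : BOne S m f u w) {s : G} (hs : s ∈ TVp f u w) (hsT : s ∉ Tor f) (i : ℕ) (hi : 1 ≤ i)
    {r' : R m} (hr' : Good (N m) (N m) r') : s ^ (2 ^ i) ≠ f (N m) (N m) r' := by
  intro he
  obtain ⟨v, p, q, r, c, hc, a, b, rfl, -⟩ := h.mem_TVp.mp hs
  have hg : Good p q r := ⟨c, hc⟩
  have hu2 : ∀ k : ℕ, u ^ k = u ^ (k % 2) := by
    intro k
    conv_lhs => rw [← Nat.div_add_mod k 2, pow_add, pow_mul, pow_two, h.u_u, one_pow, one_mul]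
  have hub2 : ∀ k : ℕ, ub u w ^ k = ub u w ^ (k % 2) := by
    intro k
    conv_lhs => rw [← Nat.div_add_mod k 2, pow_add, pow_mul, pow_two, h.ub_mul_ub, one_pow, one_mul]
  obtain ⟨i', rfl⟩ : ∃ i', i = i' + 1 := ⟨i - 1, by omega⟩
  rw [pow_succ', pow_mul, hu2 a, hub2 b] at he
  rw [hu2 a, hub2 b] at hsT
  have hNne : N m ≠ 0 := N_ne_zero
  rcases Nat.mod_two_eq_zero_or_one a with ha | ha <;> rcases Nat.mod_two_eq_zero_or_one b with hb | hb
  · rw [ha, hb] at hsT
    apply hsT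
    simpa using h.f_mem_Tor hg
  · rw [ha, hb, pow_zero, pow_one, one_mul] at he
    have e1 : (f p q r * ub u w) ^ 2 = f (p + p) (q + -q) (r + (r - q)) := by
      calc (f p q r * ub u w) ^ 2 = f p q r * (ub u w * f p q r) * ub u w := by rw [pow_two]; group
        _ = f p q r * f p (-q) (r - q) * (ub u w * ub u w) := by rw [h.ub_f hg]; group
        _ = f (p + p) (q + -q) (r + (r - q)) := by
            rw [h.ub_mul_ub, mul_one, h.f_mul _ _ _ _ _ _ hg hg.actub]
    rw [e1, h.f_pow (hg.add hg.actub), h.f_eq_iff ((hg.add hg.actub).pow _) hr'] at he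
    apply hNne
    rw [← he.2.1]
    ring
  · rw [ha, hb, pow_zero, pow_one, mul_one] at he
    have e1 : (f p q r * u) ^ 2 = f (p + -p) (q + q) (r + (r + p)) := by
      calc (f p q r * u) ^ 2 = f p q r * (u * f p q r) * u := by rw [pow_two]; group
        _ = f p q r * f (-p) q (r + p) * (u * u) := by rw [h.u_f _ _ _ hg]; group
        _ = f (p + -p) (q + q) (r + (r + p)) := by
            rw [h.u_u, mul_one, h.f_mul _ _ _ _ _ _ hg hg.actu]
    rw [e1, h.f_pow (hg.add hg.actu), h.f_eq_iff ((hg.add hg.actu).pow _) hr'] at he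
    apply hNne
    rw [← he.1]
    ring
  · rw [ha, hb, pow_one, pow_one] at he
    have e1 : (f p q r * (u * ub u w)) ^ 2 = f (p + -p) (q + -q) (r + (r + p - q)) := by
      calc (f p q r * (u * ub u w)) ^ 2 = f p q r * (sg u w * f p q r) * sg u w := by
            rw [pow_two, sg]; group
        _ = f p q r * f (-p) (-q) (r + p - q) * (sg u w * sg u w) := by rw [h.sg_f hg]; group
        _ = f (p + -p) (q + -q) (r + (r + p - q)) := by
            rw [h.sg_mul_sg, mul_one, h.f_mul _ _ _ _ _ _ hg hg.actsg]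
    rw [e1, h.f_pow (hg.add hg.actsg), h.f_eq_iff ((hg.add hg.actsg).pow _) hr'] at he
    apply hNne
    rw [← he.1]
    ring

/-- A normal subgroup of `H ≥ S` containing `u * x1` contains `Q1 Q2`. -/
theorem Q_le_of_mem (h : BOne S m f u w) (K : Subgroup G) (hK : ∀ s ∈ S, ∀ k ∈ K, s * k * s⁻¹ ∈ K)
    (hu : u * x1 f ∈ K) : Qone f u ⊔ Qtwo f u w ≤ K := by
  have h1 : ∀ a : R m, f (2 * a) 0 (-a) ∈ K := by
    intro a
    have hg : Good a (-a) (0 : R m) := ⟨0, by ring⟩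
    have h2 := K.mul_mem (hK _ (h.f_mem_S hg) _ hu) (K.inv_mem hu)
    have e : f a (-a) 0 * (u * x1 f) * (f a (-a) 0)⁻¹ * (u * x1 f)⁻¹ = f (2 * a) 0 (-a) := by
      have e2 : u * f (-a) (- -a) (-0) * u⁻¹ = f (- -a) (- -a) (-0 + -a) := by
        rw [h.u_f _ _ _ hg.neg, mul_inv_cancel_right]
      calc f a (-a) 0 * (u * x1 f) * (f a (-a) 0)⁻¹ * (u * x1 f)⁻¹
          = f a (-a) 0 * (u * (x1 f * f (-a) (- -a) (-0)) * (x1 f)⁻¹ * u⁻¹) := by
            rw [h.f_inv hg]; group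
        _ = f a (-a) 0 * (u * (f (-a) (- -a) (-0) * x1 f) * (x1 f)⁻¹ * u⁻¹) := by
            rw [x1, h.f_comm goodx1 hg.neg]
        _ = f a (-a) 0 * (u * f (-a) (- -a) (-0) * u⁻¹) := by group
        _ = f (2 * a) 0 (-a) := by
            rw [e2, h.f_mul _ _ _ _ _ _ hg hg.neg.actu]
            congr 1 <;> ring
    rwa [e] at h2
  have hQ1 : Qone f u ≤ K := by
    rw [Qone, Subgroup.closure_le]
    rintro x (⟨a, rfl⟩ | hx)
    · exact h1 a
    · rw [Set.mem_singleton_iff.mp hx]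
      exact hu
  refine sup_le hQ1 ?_
  rw [Qtwo, Subgroup.closure_le]
  rintro x (⟨a, rfl⟩ | hx)
  · have h2 := hK w h.w_mem _ (h1 a)
    rw [h.w_f _ _ _ (goodq1 a), mul_inv_cancel_right, neg_neg] at h2
    exact h2
  · rw [Set.mem_singleton_iff.mp hx]
    have h2 := hK w h.w_mem _ hu
    have e : w * (u * x1 f) * w⁻¹ = ub u w * x3 f := by
      have h3 : w * x1 f = x3 f * w := by
        rw [x1, x3, h.w_f _ _ _ goodx1, neg_zero]
      calc w * (u * x1 f) * w⁻¹ = (w * u) * x1 f * w⁻¹ := by group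
        _ = ub u w * (w * x1 f) * w⁻¹ := by rw [h.w_mul_u]; group
        _ = ub u w * x3 f := by rw [h3]; group
    rwa [e] at h2

end

variable [Finite G]

/-- **Step 5.** -/
theorem pResidual_inf (S : Sylow 2 G) (h : BOne (S : Subgroup G) m f u w) (H H0 : Subgroup G)
    (hSH : (S : Subgroup G) ≤ H) (hidx : H0.relIndex H = 2)
    (hSH0 : (S : Subgroup G) ⊓ H0 = TVp f u w)
    (hctl : ∀ g ∈ H, ∀ a ∈ Tor f, g * a * g⁻¹ ∈ Tor f →
      ∃ s ∈ (S : Subgroup G), g * a * g⁻¹ = s * a * s⁻¹)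
    (hu : u * x1 f ∈ (Cfsg.pResidual 2 H).map H.subtype) :
    (Cfsg.pResidual 2 H).map H.subtype ⊓ (S : Subgroup G) = Qone f u ⊔ Qtwo f u w := by
  classical
  have hmTVp : ∀ x : G, x ∈ (S : Subgroup G) → x ∈ H0 → x ∈ TVp f u w := by
    intro x h1 h2
    rw [← hSH0]
    exact ⟨h1, h2⟩
  have hTVpH0 : TVp f u w ≤ H0 := by
    rw [← hSH0]
    exact inf_le_right
  have htT : f (1 : R m) (-1) 0 ∈ Tor f := h.f_mem_Tor good_t
  have htS : f (1 : R m) (-1) 0 ∈ (S : Subgroup G) := h.f_mem_S good_t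
  have ht0 : f (1 : R m) (-1) 0 ∈ H0 := hTVpH0 (h.Tor_le_TVp htT)
  have hrd : CyclicQuot.rd (m + 2) (by omega) = par1 m := Subsingleton.elim _ _
  -- conjugates of powers of `t`
  have hK : ∀ s ∈ (S : Subgroup G), ∀ k ∈ (Cfsg.pResidual 2 H).map H.subtype,
      s * k * s⁻¹ ∈ (Cfsg.pResidual 2 H).map H.subtype := by
    rintro s hs k ⟨k', hk', rfl⟩
    have hn := TwoFusion.PResidual.pResidual_normal (G := H) 2
    exact ⟨_, hn.conj_mem k' hk' ⟨s, hSH hs⟩, rfl⟩
  have hQle : Qone f u ⊔ Qtwo f u w ≤ (Cfsg.pResidual 2 H).map H.subtype := h.Q_le_of_mem _ hK hu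
  have hmain := CyclicQuot.pResidual_inf_eq (G := H) (S.subtype hSH) (H0.subgroupOf H) hidx
    (m := m + 2) (by omega) (fun x => dl f u w (x : G))
    (by
      intro a b ha ha0 hb hb0
      exact h.dl_mul (hmTVp a ha ha0) (hmTVp b hb hb0))
    ⟨f 1 (-1) 0, hSH htS⟩ htS ht0
    (by
      intro k x hx hxS
      refine CyclicQuot.key_of (G := H) (S.subtype hSH) (H0.subgroupOf H) ((Tor f).subgroupOf H)
        (by omega) (fun x => dl f u w (x : G)) (m + 3) (by omega) ⟨f 1 (-1) 0, hSH htS⟩ ?_ ?_ ?_ ?_ ht0 k x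
        hx hxS
      · rw [Subgroup.orderOf_mk]
        exact h.orderOf_t
      · intro k x hx hxT
        have hxT' : (x : G)⁻¹ * f 1 (-1) 0 ^ k * ((x : G)⁻¹)⁻¹ ∈ Tor f := by
          rw [inv_inv]
          exact hxT
        obtain ⟨s, hs, e⟩ := hctl (x : G)⁻¹ (H.inv_mem x.2) _ ((Tor f).pow_mem htT k) hxT'
        rw [inv_inv] at e
        show CyclicQuot.rd (m + 2) _ (dl f u w ((x : G)⁻¹ * f 1 (-1) 0 ^ k * (x : G))) = _
        rw [hrd, e]
        have hd : dl f u w (f 1 (-1) 0 ^ k) = ((k : ℕ) : R1 m) := h.dl_eq (h.del_t k)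
        have hneg : ∀ e : ZMod 2, -e = e := by decide
        rcases h.dl_conj ((Tor f).pow_mem htT k) hs with h1 | h1
        · rw [h1, hd, map_natCast]
        · rw [h1, hd, map_neg, map_natCast, hneg]
      · intro s hs hs0 hsT hss i hi x hx he
        have hsT' : (s : G) ∉ Tor f := hsT
        have hsV : (s : G) ∈ TVp f u w := hmTVp s hs hs0
        -- the power of `s` lies in the torus and is conjugate to `z2`
        have he' : (s : G) ^ (2 ^ i) = (x : G)⁻¹ * f (N m) (N m) 0 * (x : G) := by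
          have h1 := congrArg (Subtype.val : H → G) he
          have h2 : m + 3 - 1 = m + 2 := by omega
          rw [h2] at h1
          rw [← h.t_pow_half]
          exact h1
        have hsq : (s : G) ^ (2 ^ i) ∈ Tor f := by
          obtain ⟨i', rfl⟩ : ∃ i', i = i' + 1 := ⟨i - 1, by omega⟩
          rw [pow_succ', pow_mul]
          refine (Tor f).pow_mem ?_ _
          obtain ⟨v, p, q, r, c, hc, a, b, e, -⟩ := h.mem_TVp.mp hsV
          rw [e]
          have hg : Good p q r := ⟨c, hc⟩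
          obtain ⟨p1, q1, r1, c1, hc1, -, e2⟩ := h.ub_act hc b
          obtain ⟨p2, q2, r2, c2, hc2, -, e4⟩ := h.u_act hc1 a
          have hu2 : u ^ a * u ^ a = 1 := by
            rw [← pow_add, ← two_mul, pow_mul, pow_two, h.u_u, one_pow]
          have hub2 : ub u w ^ b * ub u w ^ b = 1 := by
            rw [← pow_add, ← two_mul, pow_mul, pow_two, h.ub_mul_ub, one_pow]
          have e5 : (f p q r * (u ^ a * ub u w ^ b)) ^ 2 = f p q r * f p2 q2 r2 := by
            calc (f p q r * (u ^ a * ub u w ^ b)) ^ 2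
                = f p q r * (u ^ a * (ub u w ^ b * f p q r)) * (u ^ a * ub u w ^ b) := by
                  rw [pow_two]; group
              _ = f p q r * (u ^ a * f p1 q1 r1) * ub u w ^ b * (u ^ a * ub u w ^ b) := by
                  rw [e2]; group
              _ = f p q r * f p2 q2 r2 * u ^ a * (ub u w ^ b * u ^ a) * ub u w ^ b := by
                  rw [e4]; group
              _ = f p q r * f p2 q2 r2 * (u ^ a * u ^ a) * (ub u w ^ b * ub u w ^ b) := by
                  rw [h.u_ub_comm]; group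
              _ = f p q r * f p2 q2 r2 := by rw [hu2, hub2, mul_one, mul_one]
          rw [e5]
          exact (Tor f).mul_mem (h.f_mem_Tor hg) (h.f_mem_Tor ⟨c2, hc2⟩)
        have hz : (x : G)⁻¹ * f (N m) (N m) 0 * ((x : G)⁻¹)⁻¹ ∈ Tor f := by
          rw [inv_inv, ← he']
          exact hsq
        obtain ⟨s', hs', e⟩ := hctl (x : G)⁻¹ (H.inv_mem x.2) _ (h.f_mem_Tor good2) hz
        rw [inv_inv, ← he'] at e
        obtain ⟨r', hr', e'⟩ := h.conj_z2 hs'
        exact h.pow_ne hsV hsT' i hi hr' (e.trans e')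
      · intro s hs hs0 _ hss
        have hsV : (s : G) ∈ TVp f u w := hmTVp s hs hs0
        have hss' : (s : G) * (s : G) = 1 := congrArg (Subtype.val : H → G) hss
        show CyclicQuot.rd (m + 2) _ (dl f u w (s : G)) = 0
        rw [hrd]
        apply par1_eq_zero
        rw [← h.dl_mul hsV hsV, hss', h.dl_eq h.del_one])
    ((Qone f u ⊔ Qtwo f u w).subgroupOf H)
    (by
      intro p hp hp0 hd
      have hpV : (p : G) ∈ TVp f u w := hmTVp p hp hp0
      obtain ⟨v, hv⟩ := h.mem_TVp.mp hpV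
      have h1 : v = 0 := by
        rw [← h.dl_eq hv]
        exact hd
      rw [h1] at hv
      exact h.mem_of_del_zero hv)
    (by
      intro x hx
      have h1 : (x : G) ∈ Qone f u ⊔ Qtwo f u w := hx
      exact (sup_le h.Qone_le h.Qtwo_le) h1)
    (by
      intro x hx
      have h1 : (x : G) ∈ Qone f u ⊔ Qtwo f u w := hx
      obtain ⟨x', hx', e⟩ := hQle h1
      have : x' = x := Subtype.ext e
      rwa [← this])
  apply le_antisymm
  · rintro g ⟨⟨g', hg', rfl⟩, hg2⟩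
    have h1 : g' ∈ Cfsg.pResidual 2 H ⊓ (S.subtype hSH : Subgroup H) := ⟨hg', hg2⟩
    rw [hmain] at h1
    exact h1
  · exact le_inf hQle (sup_le h.Qone_le h.Qtwo_le)

/-- Control of fusion in the torus, from weak closure and the action of the normaliser. -/
theorem control (S : Sylow 2 G) (h : BOne (S : Subgroup G) m f u w) (H : Subgroup G)
    (hSH : (S : Subgroup G) ≤ H)
    (hwc : ∀ g ∈ H, (∀ a ∈ Tor f, g * a * g⁻¹ ∈ (S : Subgroup G)) → ∀ a ∈ Tor f, g * a * g⁻¹ ∈ Tor f)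
    (hN : ∀ g ∈ H, (∀ a ∈ Tor f, g * a * g⁻¹ ∈ Tor f) →
      ∃ s ∈ (S : Subgroup G), ∀ a ∈ Tor f, g * a * g⁻¹ = s * a * s⁻¹) :
    ∀ g ∈ H, ∀ a ∈ Tor f, g * a * g⁻¹ ∈ Tor f → ∃ s ∈ (S : Subgroup G), g * a * g⁻¹ = s * a * s⁻¹ := by
  intro g hg a ha hga
  have hfact : Fact (Nat.Prime 2) := ⟨Nat.prime_two⟩
  have hTH : Tor f ≤ H := h.Tor_le.trans hSH
  obtain ⟨k, hk1, hk2⟩ := TwoFusion.IndexTwo.exists_normalizer_conj (G := H) (S.subtype hSH)
    ((Tor f).subgroupOf H) (fun x hx => h.Tor_le hx)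
    (fun g' hg' x hx => hwc g' g'.2 (fun b hb => hg' ⟨b, hTH hb⟩ hb) x hx)
    ⟨a, hTH ha⟩ ⟨g, hg⟩⁻¹
    (fun x hx => Subtype.ext (h.Tor_comm hx ha))
    (fun x hx => Subtype.ext (by
      have h1 : ((⟨g, hg⟩⁻¹ : H)⁻¹ * ⟨a, hTH ha⟩ * (⟨g, hg⟩⁻¹ : H) : H) = ⟨g * a * g⁻¹, hTH hga⟩ :=
        Subtype.ext (by simp)
      rw [h1]
      exact h.Tor_comm hx hga))
  have hk1' : ∀ b ∈ Tor f, (k : G) * b * (k : G)⁻¹ ∈ Tor f := fun b hb => hk1 ⟨b, hTH hb⟩ hb
  -- the inverse also normalises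
  have hkinv : ∀ b ∈ Tor f, (k : G)⁻¹ * b * (k : G) ∈ Tor f := by
    have hfin : Finite (Tor f) := inferInstance
    let φ : Tor f → Tor f := fun b => ⟨(k : G) * b * (k : G)⁻¹, hk1' b b.2⟩
    have hinj : Function.Injective φ := by
      intro b b' hbb
      have h1 := congrArg (Subtype.val : Tor f → G) hbb
      have h2 : (k : G) * b * (k : G)⁻¹ = (k : G) * b' * (k : G)⁻¹ := h1
      exact Subtype.ext (mul_left_cancel (mul_right_cancel h2))
    have hsurj := Finite.surjective_of_injective hinj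
    intro b hb
    obtain ⟨b', hb'⟩ := hsurj ⟨b, hb⟩
    have h1 : (k : G) * b' * (k : G)⁻¹ = b := congrArg (Subtype.val : Tor f → G) hb'
    rw [← h1]
    have e : (k : G)⁻¹ * ((k : G) * b' * (k : G)⁻¹) * k = b' := by group
    rw [e]
    exact b'.2
  obtain ⟨s, hs, hs2⟩ := hN (k : G)⁻¹ (H.inv_mem k.2) (by
    intro b hb
    rw [inv_inv]
    exact hkinv b hb)
  refine ⟨s, hs, ?_⟩
  have h1 := congrArg (Subtype.val : H → G) hk2
  have h2 : g * a * g⁻¹ = (k : G)⁻¹ * a * k := by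
    have e : (((⟨g, hg⟩⁻¹ : H)⁻¹ * ⟨a, hTH ha⟩ * (⟨g, hg⟩⁻¹ : H) : H) : G) = g * a * g⁻¹ := by simp
    rw [← e]
    exact h1
  rw [h2]
  have h3 := hs2 a ha
  rw [inv_inv] at h3
  exact h3

end BOne

end Cfsg.Agent.LFourB
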