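import Mathlib

/-!
# Automorphisms of generalised quaternion groups of order at least 16

`eq_one_of_odd`: an automorphism of odd order of `QuaternionGroup (2 ^ k)`, `k ≥ 2`, is trivial.
-/

set_option autoImplicit false

namespace Cfsg.Agent.LFourB.ProdAut

open QuaternionGroup

variable {k : ℕ}

theorem a_pow_nat (c : ZMod (2 * 2 ^ k)) (n : ℕ) : (a c : QuaternionGroup (2 ^ k)) ^ n = a ((n : ZMod (2 * 2 ^ k)) * c) := by
  induction n with
  | zero => rw [pow_zero, Nat.cast_zero, zero_mul, one_def]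
  | succ n ih =>
    rw [pow_succ, ih, a_mul_a]
    congr 1
    push_cast
    ring

theorem exists_map_a (hk : 2 ≤ k) (φ : MulAut (QuaternionGroup (2 ^ k))) :
    ∃ c : ZMod (2 * 2 ^ k), ∀ i, φ (a i) = a (c * i) := by
  have hne : NeZero (2 ^ k) := ⟨by positivity⟩
  have hne' : NeZero (2 * 2 ^ k) := ⟨by positivity⟩
  have h1 : orderOf (φ (a 1)) = 2 * 2 ^ k := by
    rw [MulEquiv.orderOf_eq φ, orderOf_a_one]
  obtain ⟨c, hc⟩ : ∃ c, φ (a 1) = a c := by
    cases h : φ (a 1) with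
    | a c => exact ⟨c, rfl⟩
    | xa c =>
      exfalso
      rw [h, orderOf_xa] at h1
      have h2 : 2 ^ 2 ≤ 2 ^ k := Nat.pow_le_pow_right (by norm_num) hk
      omega
  refine ⟨c, fun i => ?_⟩
  have h2 : (a i : QuaternionGroup (2 ^ k)) = (a 1) ^ i.val := by
    rw [a_pow_nat, ZMod.natCast_zmod_val, mul_one]
  rw [h2, map_pow, hc, a_pow_nat, ZMod.natCast_zmod_val, mul_comm]

theorem eq_one_of_odd (hk : 2 ≤ k) (φ : MulAut (QuaternionGroup (2 ^ k))) {n : ℕ} (hn : Odd n) (h : φ ^ n = 1) :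
    φ = 1 := by
  have hne : NeZero (2 ^ k) := ⟨by positivity⟩
  have hne' : NeZero (2 * 2 ^ k) := ⟨by positivity⟩
  obtain ⟨c, hc⟩ := exists_map_a hk φ
  have hpow : ∀ j : ℕ, ∀ i, (φ ^ j) (a i) = a (c ^ j * i) := by
    intro j
    induction j with
    | zero => intro i; rw [pow_zero, pow_zero, one_mul]; rfl
    | succ j ih =>
      intro i
      rw [pow_succ, MulAut.mul_apply, hc, ih]
      congr 1
      ring
  -- `c = 1`
  have hcn : c ^ n = 1 := by
    have h1 := hpow n 1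
    rw [h, MulAut.one_apply, mul_one] at h1
    exact (a.inj h1).symm
  have hc1 : c = 1 := by
    have hu : IsUnit c := IsUnit.of_pow_eq_one hcn (by rintro rfl; exact absurd hn (by decide))
    obtain ⟨x, rfl⟩ := hu
    have h1 : x ^ n = 1 := by
      apply Units.ext
      rw [Units.val_pow_eq_pow_val, hcn, Units.val_one]
    have h2 : x ^ (2 ^ k) = 1 := by
      have h3 := ZMod.pow_totient x
      have h4 : Nat.totient (2 * 2 ^ k) = 2 ^ k := by
        rw [← pow_succ', Nat.totient_prime_pow_succ Nat.prime_two]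
        simp
      rwa [h4] at h3
    have h3 : Nat.Coprime n (2 ^ k) := by
      apply Nat.Coprime.pow_right
      exact hn.coprime_two_right
    have h4 : x ^ (n.gcd (2 ^ k)) = 1 := pow_gcd_eq_one.2 ⟨h1, h2⟩
    rw [h3, pow_one] at h4
    rw [h4, Units.val_one]
  have hca : ∀ i, φ (a i) = a i := by
    intro i
    rw [hc, hc1, one_mul]
  obtain ⟨j, hj⟩ : ∃ j, φ (xa 0) = xa j := by
    cases h1 : φ (xa 0) with
    | a c =>
      exfalso
      have h2 : φ (xa 0) = φ (a c) := by rw [h1, hca]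
      have h3 := φ.injective h2
      cases h3
    | xa c => exact ⟨c, rfl⟩
  have hxa : ∀ i, φ (xa i) = xa (j + i) := by
    intro i
    have h1 : (xa i : QuaternionGroup (2 ^ k)) = xa 0 * a i := by rw [xa_mul_a, zero_add]
    rw [h1, map_mul, hj, hca, xa_mul_a]
  have hpow' : ∀ l : ℕ, (φ ^ l) (xa 0) = xa ((l : ZMod (2 * 2 ^ k)) * j) := by
    intro l
    induction l with
    | zero => rw [pow_zero, Nat.cast_zero, zero_mul]; rfl
    | succ l ih =>
      rw [pow_succ', MulAut.mul_apply, ih, hxa]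
      congr 1
      push_cast
      ring
  have hj0 : j = 0 := by
    have h1 := hpow' n
    rw [h, MulAut.one_apply] at h1
    have h2 : (n : ZMod (2 * 2 ^ k)) * j = 0 := (xa.inj h1).symm
    have h3 : IsUnit (n : ZMod (2 * 2 ^ k)) := by
      rw [ZMod.isUnit_iff_coprime, ← pow_succ']
      apply Nat.Coprime.pow_right
      exact hn.coprime_two_right
    exact (h3.mul_right_eq_zero).1 h2
  ext g
  cases g with
  | a i => rw [hca, MulAut.one_apply]
  | xa i => rw [hxa, hj0, zero_add, MulAut.one_apply]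

/-- The same for a group isomorphic to `QuaternionGroup (2 ^ k)`. -/
theorem eq_one_of_odd' {Q : Type*} [Group Q] (hk : 2 ≤ k) (e : Q ≃* QuaternionGroup (2 ^ k)) (φ : MulAut Q) {n : ℕ}
    (hn : Odd n) (h : φ ^ n = 1) : φ = 1 := by
  have h1 : (MulAut.congr e φ) ^ n = 1 := by rw [← map_pow, h, map_one]
  have h2 := eq_one_of_odd hk _ hn h1
  exact (MulAut.congr e).injective (by rw [h2, map_one])

open Subgroup in
/-- If a Sylow 2-subgroup induces inner automorphisms on `Q`, then so does the whole normaliser. -/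
theorem exists_inner {K : Type*} [Group K] [Finite K] (R : Sylow 2 K) (Q : Subgroup K) (hk : 2 ≤ k)
    (e : Q ≃* QuaternionGroup (2 ^ k)) (hR : ∀ r ∈ (R : Subgroup K), ∃ q ∈ Q, ∀ x ∈ Q, r * x * r⁻¹ = q * x * q⁻¹)
    {g : K} (hg : ∀ x ∈ Q, g * x * g⁻¹ ∈ Q) : ∃ q ∈ Q, ∀ x ∈ Q, g * x * g⁻¹ = q * x * q⁻¹ := by
  classical
  have hfact : Fact (Nat.Prime 2) := ⟨Nat.prime_two⟩
  have hgN : g ∈ normalizer (Q : Set K) := by
    rw [mem_normalizer_iff]
    intro x
    refine ⟨hg x, fun hx => ?_⟩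
    let φ : Q → Q := fun b => ⟨g * b * g⁻¹, hg b b.2⟩
    have hinj : Function.Injective φ := by
      intro b b' hbb
      have h1 : g * (b : K) * g⁻¹ = g * b' * g⁻¹ := congrArg (Subtype.val : Q → K) hbb
      exact Subtype.ext (mul_left_cancel (mul_right_cancel h1))
    obtain ⟨b', hb'⟩ := Finite.surjective_of_injective hinj ⟨_, hx⟩
    have h1 : g * (b' : K) * g⁻¹ = g * x * g⁻¹ := congrArg (Subtype.val : Q → K) hb'
    have h2 : (b' : K) = x := mul_left_cancel (mul_right_cancel h1)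
    rw [← h2]
    exact b'.2
  have hRN : (R : Subgroup K) ≤ normalizer (Q : Set K) := by
    intro r hr
    obtain ⟨q, hq, h1⟩ := hR r hr
    have key : ∀ r q : K, q ∈ Q → (∀ x ∈ Q, r * x * r⁻¹ = q * x * q⁻¹) → ∀ x ∈ Q, r * x * r⁻¹ ∈ Q := by
      intro r q hq h1 x hx
      rw [h1 x hx]
      exact mul_mem (mul_mem hq hx) (inv_mem hq)
    rw [mem_normalizer_iff]
    intro x
    refine ⟨key r q hq h1 x, fun hx => ?_⟩
    have h2 : r⁻¹ * (r * x * r⁻¹) * r⁻¹⁻¹ = x := by group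
    rw [← h2]
    obtain ⟨q', hq', h3⟩ := hR r⁻¹ (inv_mem hr)
    exact key r⁻¹ q' hq' h3 _ hx
  let N := normalizer (Q : Set K)
  let ψ : N →* MulAut Q := Q.normalizerMonoidHom
  have hψ : ∀ (n : N) (x : Q), ((ψ n x : Q) : K) = (n : K) * x * (n : K)⁻¹ := fun n x => rfl
  -- the range is a 2-group
  have hp : IsPGroup 2 ψ.range := by
    rw [IsPGroup.iff_orderOf]
    intro x
    have hfin : IsOfFinOrder x := isOfFinOrder_of_finite x
    obtain ⟨a, b, hb, hab⟩ := Nat.exists_eq_two_pow_mul_odd (n := orderOf x) hfin.orderOf_pos.ne'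
    have h1 : (x : MulAut Q) ^ (2 ^ a) = 1 := by
      apply eq_one_of_odd' hk e _ hb
      rw [← pow_mul, ← hab]
      have := pow_orderOf_eq_one x
      have h2 := congrArg (Subtype.val) this
      exact h2
    have h2 : x ^ (2 ^ a) = 1 := Subtype.ext h1
    exact (Nat.dvd_prime_pow Nat.prime_two).1 (orderOf_dvd_of_pow_eq_one h2) |>.imp fun _ h => h.2
  -- the image of `R`
  let R' : Sylow 2 N := R.subtype hRN
  let R2 : Sylow 2 ψ.range := R'.mapSurjective ψ.rangeRestrict_surjective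
  have h1 : (R2 : Subgroup ψ.range) = ⊤ := (R2.is_maximal' (hp.to_subgroup ⊤) le_top).symm
  have h2 : (⟨ψ ⟨g, hgN⟩, ⟨_, rfl⟩⟩ : ψ.range) ∈ (R2 : Subgroup ψ.range) := by rw [h1]; exact mem_top _
  have h3 : (⟨ψ ⟨g, hgN⟩, ⟨_, rfl⟩⟩ : ψ.range) ∈ (R' : Subgroup N).map ψ.rangeRestrict := h2
  obtain ⟨r, hr, h4⟩ := h3
  obtain ⟨q, hq, h5⟩ := hR r hr
  refine ⟨q, hq, fun x hx => ?_⟩
  rw [← h5 x hx]
  have h6 : ψ r = ψ ⟨g, hgN⟩ := congrArg Subtype.val h4
  have h7 := congrArg (fun φ : MulAut Q => ((φ ⟨x, hx⟩ : Q) : K)) h6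
  exact h7.symm

end Cfsg.Agent.LFourB.ProdAut
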