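import Mathlib
import Cfsg.Agent.LFourB.ProdAut
import Cfsg.Agent.SylowSp4.Split
import Cfsg.Agent.TwoFusion.PResidual
import Cfsg.Agent.Lib.SylowNormalInf

/-!
# Two commuting strongly closed subgroups: perfection of the normal closures

`Fam R Q1 Q2 t` in a group `K = O^2(K)`, `Q1` induces all automorphisms of `Q1` induced by `N_K(Q1)`, `t ∈ [Q1, Q1]`.
Then `N1 = ⟨Q1^K⟩` is perfect.
-/

set_option autoImplicit false

namespace Cfsg.Agent.LFourB.ProdPerfect

open Subgroup Cfsg.Agent.SylowSp4 Cfsg.Agent.SylowSp4.Split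

universe u

variable {K : Type u} [Group K] [Finite K]

/-- A group `K = O^2(K)` with a central Sylow 2-subgroup has trivial Sylow 2-subgroup. -/
theorem eq_bot_of_central (P : Sylow 2 K) (hres : Cfsg.pResidual 2 K = ⊤)
    (hc : ∀ g : K, ∀ x ∈ (P : Subgroup K), g * x = x * g) : (P : Subgroup K) = ⊥ := by
  have hfact : Fact (Nat.Prime 2) := ⟨Nat.prime_two⟩
  have hP : normalizer ((P : Subgroup K) : Set K) ≤ centralizer ((P : Subgroup K) : Set K) := by
    intro g _
    rw [mem_centralizer_iff]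
    intro x hx
    exact (hc g x hx).symm
  have h1 := MonoidHom.ker_transferSylow_isComplement' P hP
  have h2 : (MonoidHom.transferSylow P hP).ker = ⊤ := by
    rw [eq_top_iff, ← hres]
    apply TwoFusion.PResidual.pResidual_le 2
    intro g hg
    rw [MonoidHom.mem_ker, ← orderOf_eq_one_iff]
    obtain ⟨n, hn⟩ := IsPGroup.iff_orderOf.1 P.isPGroup' (MonoidHom.transferSylow P hP g)
    have h3 : orderOf (MonoidHom.transferSylow P hP g) ∣ orderOf g := orderOf_map_dvd _ g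
    rw [hn] at h3 ⊢
    exact Nat.Coprime.eq_one_of_dvd (Nat.Coprime.pow_left n hg.symm) h3
  rw [h2] at h1
  exact isComplement'_top_left.1 h1

variable {R : Sylow 2 K} {Q1 Q2 : Subgroup K} {t : K} (h : Fam R Q1 Q2 t) (hPT : Hyps.ProductThm.{u})

include h hPT

/-- The Sylow subgroup of `N1`. -/
theorem card_relIndex : ¬ 2 ∣ Q1.relIndex (normalClosure (Q1 : Set K)) := by
  have hfact : Fact (Nat.Prime 2) := ⟨Nat.prime_two⟩
  have h1 := Cfsg.Agent.Lib.SylowNormalInf.not_dvd_relIndex R (normalClosure (Q1 : Set K))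
  have h2 : (R : Subgroup K) ⊓ normalClosure (Q1 : Set K) = Q1 := by
    apply le_antisymm
    · rintro x ⟨hx, hx'⟩
      exact h.mem_Q1 hPT hx' hx
    · exact le_inf h.le1 subset_normalClosure
  rw [← inf_relIndex_right, h2] at h1
  exact h1

/-- `Q1` is a Sylow subgroup of `N1`. -/
theorem exists_sylow : ∃ P : Sylow 2 (normalClosure (Q1 : Set K)),
    (P : Subgroup (normalClosure (Q1 : Set K))) = Q1.subgroupOf (normalClosure (Q1 : Set K)) := by
  have hfact : Fact (Nat.Prime 2) := ⟨Nat.prime_two⟩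
  have hp : IsPGroup 2 (Q1.subgroupOf (normalClosure (Q1 : Set K))) :=
    (R.isPGroup'.to_le h.le1).comap_of_injective (normalClosure (Q1 : Set K)).subtype (subtype_injective _)
  exact ⟨hp.toSylow (card_relIndex h hPT), rfl⟩

/-- The Frattini argument. -/
theorem frattini (g : K) : ∃ n ∈ normalClosure (Q1 : Set K), ∃ m : K, (∀ x ∈ Q1, m * x * m⁻¹ ∈ Q1) ∧ g = n * m := by
  have hfact : Fact (Nat.Prime 2) := ⟨Nat.prime_two⟩
  obtain ⟨P, hP⟩ := exists_sylow h hPT
  have h1 := Sylow.normalizer_sup_eq_top P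
  have h2 : (P : Subgroup (normalClosure (Q1 : Set K))).map (normalClosure (Q1 : Set K)).subtype = Q1 := by
    rw [hP, subgroupOf_map_subtype]
    exact inf_eq_left.2 subset_normalClosure
  have h3 : g ∈ normalizer (((P : Subgroup (normalClosure (Q1 : Set K))).map
      (normalClosure (Q1 : Set K)).subtype : Subgroup K) : Set K) ⊔ normalClosure (Q1 : Set K) := by
    rw [h1]; exact mem_top _
  rw [sup_comm, mem_sup_of_normal_left] at h3
  obtain ⟨n, hn, m, hm, e⟩ := h3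
  refine ⟨n, hn, m, ?_, e.symm⟩
  rw [h2] at hm
  intro x hx
  exact (mem_normalizer_iff.1 hm x).1 hx

/-- `N1` is perfect. -/
theorem perfect (hres : Cfsg.pResidual 2 K = ⊤)
    (hinn : ∀ g : K, (∀ x ∈ Q1, g * x * g⁻¹ ∈ Q1) → ∃ q ∈ Q1, ∀ x ∈ Q1, g * x * g⁻¹ = q * x * q⁻¹)
    (ht : t ∈ ⁅Q1, Q1⁆) :
    ⁅normalClosure (Q1 : Set K), normalClosure (Q1 : Set K)⁆ = normalClosure (Q1 : Set K) := by
  have hfact : Fact (Nat.Prime 2) := ⟨Nat.prime_two⟩
  set N1 := normalClosure (Q1 : Set K) with hN1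
  set N2 := normalClosure (Q2 : Set K) with hN2
  have hQ1 : Q1 ≤ N1 := subset_normalClosure
  have hQ2 : Q2 ≤ N2 := subset_normalClosure
  have hD : ⁅N1, N1⁆ ≤ N1 := commutator_le_left N1 N1
  refine le_antisymm hD ?_
  -- the quotient
  have hZn : (⁅N1, N1⁆ ⊔ N2).Normal := inferInstance
  set Z := ⁅N1, N1⁆ ⊔ N2 with hZ
  let φ := QuotientGroup.mk' Z
  have hφ : Function.Surjective φ := QuotientGroup.mk'_surjective Z
  have hcen : ∀ g : K ⧸ Z, ∀ x ∈ ((R.mapSurjective hφ : Sylow 2 (K ⧸ Z)) : Subgroup (K ⧸ Z)), g * x = x * g := by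
    rintro g _ ⟨r, hr, rfl⟩
    obtain ⟨g, rfl⟩ := hφ g
    obtain ⟨a, ha, b, hb, rfl⟩ := h.prod r hr
    have h1 : φ b = 1 := (QuotientGroup.eq_one_iff b).2 (mem_sup_right (hQ2 hb))
    rw [map_mul φ a b, h1, mul_one]
    rw [← map_mul, ← map_mul]
    have h2 : (a * g)⁻¹ * (g * a) ∈ Z := by
      obtain ⟨n, hn, m, hm, rfl⟩ := frattini h hPT g
      obtain ⟨q, hq, e⟩ := hinn m hm
      apply mem_sup_left
      have h3 : (a * (n * m))⁻¹ * (n * m * a) = m⁻¹ * ((n⁻¹ * a⁻¹ * n * a) * (a⁻¹ * (m * a * m⁻¹))) * m := by group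
      rw [h3]
      have hDn : (⁅N1, N1⁆).Normal := inferInstance
      have h4 : n⁻¹ * a⁻¹ * n * a ∈ ⁅N1, N1⁆ := by
        have := commutator_mem_commutator (inv_mem hn) (inv_mem (hQ1 ha))
        rw [commutatorElement_def, inv_inv, inv_inv] at this
        exact this
      have h5 : a⁻¹ * (m * a * m⁻¹) ∈ ⁅N1, N1⁆ := by
        rw [e a ha]
        have := commutator_mem_commutator (inv_mem (hQ1 ha)) (hQ1 hq)
        rw [commutatorElement_def, inv_inv] at this
        have e2 : a⁻¹ * (q * a * q⁻¹) = a⁻¹ * q * a * q⁻¹ := by group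
        rw [e2]
        exact this
      have h6 := hDn.conj_mem _ (mul_mem h4 h5) m⁻¹
      rwa [inv_inv] at h6
    exact (QuotientGroup.eq.2 h2).symm
  have hres' : Cfsg.pResidual 2 (K ⧸ Z) = ⊤ := by
    rw [eq_top_iff]
    have h1 := TwoFusion.PResidual.map_pResidual_le 2 φ
    rw [hres] at h1
    rwa [← MonoidHom.range_eq_map, MonoidHom.range_eq_top.2 hφ] at h1
  have hbot := eq_bot_of_central _ hres' hcen
  -- so `Q1 ≤ Z`
  have hQZ : Q1 ≤ Z := by
    intro q hq
    have h1 : φ q ∈ ((R.mapSurjective hφ : Sylow 2 (K ⧸ Z)) : Subgroup (K ⧸ Z)) := ⟨q, h.le1 hq, rfl⟩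
    rw [hbot, mem_bot] at h1
    exact (QuotientGroup.eq_one_iff q).1 h1
  apply normalClosure_le_normal
  intro q hq
  obtain ⟨d, hd, n, hn, e⟩ := mem_sup_of_normal_left.1 (hQZ hq)
  have h1 : n = 1 ∨ n = t := by
    apply h.mem_inf hPT _ hn
    have : n = d⁻¹ * q := by rw [← e, inv_mul_cancel_left]
    rw [this]
    exact mul_mem (inv_mem (hD hd)) (hQ1 hq)
  have ht' : t ∈ ⁅N1, N1⁆ := commutator_mono hQ1 hQ1 ht
  rw [← e]
  rcases h1 with rfl | rfl
  · rw [mul_one]; exact hd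
  · exact mul_mem hd ht'

end Cfsg.Agent.LFourB.ProdPerfect
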