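import Mathlib
import Cfsg.Agent.SylowSp4.Closed
import Cfsg.Agent.SylowSp4.Split

/-!
# Facts on the central product `Q ∘ Q`
-/

set_option autoImplicit false

namespace Cfsg.Agent.LFourB.ProdTqq

open Subgroup QuaternionGroup Cfsg.Agent.SylowSp4.Coord Cfsg.Agent.SylowSp4.Closed

variable {G : Type*} [Group G] {R : Subgroup G} {k : ℕ} {f : Q k → Q k → G} (h : TQQ R k f)

include h

theorem f_one_right_inj {a b : Q k} (e : f a 1 = f b 1) : a = b := by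
  rcases h.f_inj _ _ _ _ e with ⟨h1, -⟩ | ⟨-, h1⟩
  · exact h1
  · rw [mul_one] at h1
    exact absurd h1.symm z_ne_one

/-- The isomorphism of the first factor with `Q k`. -/
noncomputable def equivQ1 : h.Q1 ≃* Q k :=
  (MulEquiv.ofBijective
    ({ toFun := fun a => ⟨f a 1, ⟨a, rfl⟩⟩
       map_one' := Subtype.ext h.f_one
       map_mul' := fun a b => Subtype.ext (by
        change f (a * b) 1 = f a 1 * f b 1
        rw [h.f_mul, one_mul]) } : Q k →* h.Q1)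
    ⟨fun a b e => f_one_right_inj h (congrArg Subtype.val e), by
      rintro ⟨_, ⟨a, rfl⟩⟩
      exact ⟨a, rfl⟩⟩).symm

theorem t_mem_Q1 : f (z k) 1 ∈ h.Q1 := ⟨z k, rfl⟩

theorem t_mem_Q2 : f (z k) 1 ∈ h.Q2 := ⟨z k, h.f_one_z.symm⟩

theorem t_mem_commutator : f (z k) 1 ∈ ⁅h.Q1, h.Q1⁆ := by
  have h1 : f (a ((2 ^ (k - 1) : ℕ) : ZMod (2 * 2 ^ k))) 1 ∈ h.Q1 := ⟨_, rfl⟩
  have h2 : f (xa 0) 1 ∈ h.Q1 := ⟨_, rfl⟩
  have h3 := commutator_mem_commutator h1 h2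
  rw [commutatorElement_def] at h3
  have e : (a ((2 ^ (k - 1) : ℕ) : ZMod (2 * 2 ^ k)) : Q k) * xa 0 * (a ((2 ^ (k - 1) : ℕ) : ZMod (2 * 2 ^ k)))⁻¹ *
      (xa 0)⁻¹ = z k := by
    rw [mul_inv_eq_iff_eq_mul, mul_inv_eq_iff_eq_mul, z, a_mul_xa, a_mul_xa, xa_mul_a]
    congr 1
    have hk := h.hk
    have e1 : ((2 ^ k : ℕ) : ZMod (2 * 2 ^ k)) = ((2 ^ (k - 1) : ℕ) : ZMod (2 * 2 ^ k)) +
        ((2 ^ (k - 1) : ℕ) : ZMod (2 * 2 ^ k)) := by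
      rw [← Nat.cast_add]
      congr 1
      have : k = (k - 1) + 1 := by omega
      conv_lhs => rw [this, pow_succ]
      ring
    rw [e1]
    ring
  rw [h.f_inv, h.f_inv, h.f_mul, h.f_mul, h.f_mul, e] at h3
  simpa using h3

theorem t_mem_commutator' : f (z k) 1 ∈ ⁅h.Q2, h.Q2⁆ := by
  have h1 := t_mem_commutator h.swap
  change f 1 (z k) ∈ ⁅h.Q2, h.Q2⁆ at h1
  rwa [h.f_one_z] at h1

theorem inner {r : G} (hr : r ∈ R) : ∃ q ∈ h.Q1, ∀ x ∈ h.Q1, r * x * r⁻¹ = q * x * q⁻¹ := by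
  obtain ⟨a, b, rfl⟩ := (h.mem_iff r).1 hr
  refine ⟨f a 1, ⟨a, rfl⟩, ?_⟩
  rintro _ ⟨c, rfl⟩
  rw [h.f_inv, h.f_inv, h.f_mul, h.f_mul, h.f_mul, h.f_mul]
  simp

theorem inner' {r : G} (hr : r ∈ R) : ∃ q ∈ h.Q2, ∀ x ∈ h.Q2, r * x * r⁻¹ = q * x * q⁻¹ := inner h.swap hr

theorem eq_of_central {c : Q k} (hc : ∀ d : Q k, c * d = d * c) : c = 1 ∨ c = z k := by
  have hk := h.hk
  rcases c with i | i
  · have h1 := hc (xa 0)
    rw [a_mul_xa, xa_mul_a] at h1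
    have h2 := xa.inj h1
    rcases eq_of_add_self (k := k) (i := i) (by linear_combination -h2) with h3 | h3
    · left; rw [h3, ← one_def]
    · right; rw [h3, z]
  · exfalso
    have h1 := hc (a 1)
    rw [a_mul_xa, xa_mul_a] at h1
    have h2 := xa.inj h1
    have h3 : ((2 : ℕ) : ZMod (2 * 2 ^ k)) = 0 := by
      push_cast
      linear_combination h2
    rw [ZMod.natCast_eq_zero_iff] at h3
    have h4 := Nat.le_of_dvd (by norm_num) h3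
    have h5 : 2 ≤ 2 ^ k := by
      calc 2 = 2 ^ 1 := by norm_num
        _ ≤ 2 ^ k := Nat.pow_le_pow_right (by norm_num) hk
    omega

theorem eq_of_comm {x : G} (hx : x ∈ R) (h1 : ∀ y ∈ h.Q1, x * y = y * x) (h2 : ∀ y ∈ h.Q2, x * y = y * x) :
    x = 1 ∨ x = f (z k) 1 := by
  obtain ⟨a, b, rfl⟩ := (h.mem_iff x).1 hx
  have ha : ∀ d : Q k, a * d = d * a := by
    intro d
    have h3 := h1 (f d 1) ⟨d, rfl⟩
    rw [h.f_mul, h.f_mul, mul_one, one_mul] at h3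
    rcases h.f_inj _ _ _ _ h3 with ⟨h4, -⟩ | ⟨-, h4⟩
    · exact h4
    · exact absurd h4 (ne_z_mul b)
  have hb : ∀ d : Q k, b * d = d * b := by
    intro d
    have h3 := h2 (f 1 d) ⟨d, rfl⟩
    rw [h.f_mul, h.f_mul, mul_one, one_mul] at h3
    rcases h.f_inj _ _ _ _ h3 with ⟨-, h4⟩ | ⟨h4, -⟩
    · exact h4
    · exact absurd h4 (ne_z_mul a)
  rcases eq_of_central h ha with rfl | rfl <;> rcases eq_of_central h hb with rfl | rfl
  · left; exact h.f_one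
  · right; exact h.f_one_z
  · right; rfl
  · left; exact h.f_zz

theorem prod {r : G} (hr : r ∈ R) : ∃ a ∈ h.Q1, ∃ b ∈ h.Q2, r = a * b := by
  obtain ⟨a, b, rfl⟩ := (h.mem_iff r).1 hr
  refine ⟨f a 1, ⟨a, rfl⟩, f 1 b, ⟨b, rfl⟩, ?_⟩
  rw [h.f_mul, mul_one, one_mul]

theorem card_Q1 : Nat.card h.Q1 = 2 ^ (k + 2) := by
  rw [Nat.card_congr (equivQ1 h).toEquiv, card_Q]

end Cfsg.Agent.LFourB.ProdTqq
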