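import Mathlib
import Cfsg.Agent.LFourB.ProdTqq
import Cfsg.Agent.LFourB.ProdPerfect
import Cfsg.Agent.SylowSp4.QuatId
import Cfsg.Agent.TwoFusion.ClosedZ

/-!
# Groups with `O^2(X) ∩ P = Q ∘ Q`

`X` finite, `O(X) = 1`, `P` a Sylow 2-subgroup, `P ∩ O^2(X) = Q ∘ Q` (coordinates `f`), the central involution
`f (z k) 1` is central in `X`, `|Q| = 2 ^ (k + 2) ≥ 16`.  Then the normal closures `K1`, `K2` in `O^2(X)` of the two factors
are perfect, commute, meet in `⟨z⟩`, meet `P` in the factors, and their common centraliser lies in `P`.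
-/

set_option autoImplicit false

namespace Cfsg.Agent.LFourB.ProdPair

open Subgroup QuaternionGroup Cfsg.Agent.SylowSp4 Cfsg.Agent.SylowSp4.Coord Cfsg.Agent.SylowSp4.Closed
open Cfsg.Agent.SylowSp4.Split Cfsg.Agent.LFourB.ProdTqq

universe u

/-- The normal closure in `M` of a subgroup `Q ≤ M`, as a subgroup of `X`. -/
def KK {X : Type*} [Group X] (M Q : Subgroup X) : Subgroup X :=
  (normalClosure ((Q.subgroupOf M : Subgroup M) : Set M)).map M.subtype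

structure Hyp {X : Type u} [Group X] [Finite X] (P : Sylow 2 X) (k : ℕ) (f : Q k → Q k → X) : Prop where
  T : TQQ ((P : Subgroup X) ⊓ Cfsg.pResidual 2 X) k f
  O : Cfsg.oddCore X = ⊥
  Z : ∀ g, g * f (z k) 1 = f (z k) 1 * g
  k2 : 2 ≤ k

section gen

variable {X : Type*} [Group X] {M Q : Subgroup X}

theorem KK_le : KK M Q ≤ M := by
  rintro _ ⟨x, -, rfl⟩
  exact x.2

theorem le_KK (hQ : Q ≤ M) : Q ≤ KK M Q := fun x hx =>
  ⟨⟨x, hQ hx⟩, subset_normalClosure (show x ∈ Q from hx), rfl⟩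

theorem KK_conj_mem {g x : X} (hg : g ∈ M) (hx : x ∈ KK M Q) : g * x * g⁻¹ ∈ KK M Q := by
  obtain ⟨y, hy, rfl⟩ := hx
  have hn : (normalClosure ((Q.subgroupOf M : Subgroup M) : Set M)).Normal := normalClosure_normal
  exact ⟨_, hn.conj_mem y hy ⟨g, hg⟩, rfl⟩

theorem KK_conj {Q' : Subgroup X} (hM : M.Normal) {p : X} (hp : ∀ x ∈ Q, x ∈ M → p * x * p⁻¹ ∈ Q') {x : X}
    (hx : x ∈ KK M Q) : p * x * p⁻¹ ∈ KK M Q' := by
  obtain ⟨y, hy, rfl⟩ := hx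
  let φ : M →* X := (MulAut.conj p).toMonoidHom.comp M.subtype
  have hφ : ∀ y : M, φ y = p * y * p⁻¹ := fun y => rfl
  have hn : (normalClosure ((Q'.subgroupOf M : Subgroup M) : Set M)).Normal := normalClosure_normal
  have h1 : normalClosure ((Q.subgroupOf M : Subgroup M) : Set M) ≤ (KK M Q').comap φ := by
    have hn' : ((KK M Q').comap φ).Normal := by
      refine ⟨fun y hy g => ?_⟩
      rw [mem_comap, hφ] at hy ⊢
      have h2 := KK_conj_mem (hM.conj_mem _ g.2 p) hy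
      have e : p * (g : X) * p⁻¹ * (p * (y : X) * p⁻¹) * (p * (g : X) * p⁻¹)⁻¹ =
          p * ((g * y * g⁻¹ : M) : X) * p⁻¹ := by
        push_cast
        group
      rwa [e] at h2
    apply normalClosure_le_normal
    intro y hy
    have hyQ : (y : X) ∈ Q := hy
    have h2 := hp _ hyQ y.2
    exact ⟨⟨_, hM.conj_mem _ y.2 p⟩, subset_normalClosure (show _ ∈ Q' from h2), rfl⟩
  exact h1 hy

end gen

variable {X : Type u} [Group X] [Finite X] {P : Sylow 2 X} {k : ℕ} {f : Q k → Q k → X} (h : Hyp P k f)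

/-- `X = O^2(X) P` -/
theorem exists_mul (P : Sylow 2 X) (g : X) : ∃ m ∈ Cfsg.pResidual 2 X, ∃ p ∈ (P : Subgroup X), g = m * p := by
  have hfact : Fact (Nat.Prime 2) := ⟨Nat.prime_two⟩
  have hM := TwoFusion.PResidual.pResidual_normal (G := X) 2
  have h1 := TwoFusion.PResidual.isPGroup_quotient_pResidual (G := X) 2
  have hs := QuotientGroup.mk'_surjective (Cfsg.pResidual 2 X)
  have h2 : ((P.mapSurjective hs : Sylow 2 (X ⧸ Cfsg.pResidual 2 X)) : Subgroup (X ⧸ Cfsg.pResidual 2 X)) = ⊤ :=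
    ((P.mapSurjective hs).is_maximal' (h1.to_subgroup ⊤) le_top).symm
  have h3 : QuotientGroup.mk' (Cfsg.pResidual 2 X) g ∈ (P : Subgroup X).map (QuotientGroup.mk' (Cfsg.pResidual 2 X)) := by
    change _ ∈ ((P.mapSurjective hs : Sylow 2 (X ⧸ Cfsg.pResidual 2 X)) : Subgroup (X ⧸ Cfsg.pResidual 2 X))
    rw [h2]
    exact mem_top _
  obtain ⟨p, hp, e⟩ := h3
  have h4 : p⁻¹ * g ∈ Cfsg.pResidual 2 X := QuotientGroup.eq.1 e
  refine ⟨p * (p⁻¹ * g) * p⁻¹, hM.conj_mem _ h4 p, p, hp, by group⟩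

include h

theorem Q1_le_M : h.T.Q1 ≤ Cfsg.pResidual 2 X := fun _ hx => (h.T.Q1_le hx).2
theorem Q2_le_M : h.T.Q2 ≤ Cfsg.pResidual 2 X := fun _ hx => (h.T.Q2_le hx).2
theorem Q1_le_P : h.T.Q1 ≤ (P : Subgroup X) := fun _ hx => (h.T.Q1_le hx).1
theorem Q2_le_P : h.T.Q2 ≤ (P : Subgroup X) := fun _ hx => (h.T.Q2_le hx).1

/-- The Sylow subgroup of `M = O^2(X)`. -/
noncomputable def syl (P : Sylow 2 X) : Sylow 2 (Cfsg.pResidual 2 X) :=
  have hfact : Fact (Nat.Prime 2) := ⟨Nat.prime_two⟩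
  have hM := TwoFusion.PResidual.pResidual_normal (G := X) 2
  (Cfsg.Agent.Lib.SylowNormalInf.isPGroup_subgroupOf P (Cfsg.pResidual 2 X)).toSylow
    (Cfsg.Agent.Lib.SylowNormalInf.not_dvd_relIndex P (Cfsg.pResidual 2 X))

omit h in
theorem mem_syl {x : Cfsg.pResidual 2 X} : x ∈ (syl P : Subgroup (Cfsg.pResidual 2 X)) ↔ (x : X) ∈ (P : Subgroup X) :=
  Iff.rfl

theorem tqq_syl : TQQ (syl P : Subgroup (Cfsg.pResidual 2 X)) k
    (fun a b => (⟨f a b, (h.T.f_mem a b).2⟩ : Cfsg.pResidual 2 X)) := by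
  have h1 := h.T.restrict (K := Cfsg.pResidual 2 X) (fun a b => (h.T.f_mem a b).2)
  have e : ((P : Subgroup X) ⊓ Cfsg.pResidual 2 X).subgroupOf (Cfsg.pResidual 2 X) =
      (syl P : Subgroup (Cfsg.pResidual 2 X)) := by
    ext x
    rw [mem_syl, mem_subgroupOf]
    exact ⟨fun hx => hx.1, fun hx => ⟨hx, x.2⟩⟩
  rwa [e] at h1

theorem sub_Q1 : h.T.Q1.subgroupOf (Cfsg.pResidual 2 X) = (tqq_syl h).Q1 := by
  ext x
  constructor
  · rintro ⟨a, e⟩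
    exact ⟨a, Subtype.ext e⟩
  · rintro ⟨a, e⟩
    exact ⟨a, congrArg Subtype.val e⟩

theorem sub_Q2 : h.T.Q2.subgroupOf (Cfsg.pResidual 2 X) = (tqq_syl h).Q2 := by
  ext x
  constructor
  · rintro ⟨a, e⟩
    exact ⟨a, Subtype.ext e⟩
  · rintro ⟨a, e⟩
    exact ⟨a, congrArg Subtype.val e⟩

/-- The family. -/
theorem fam : Fam (syl P) ((tqq_syl h).Q1) ((tqq_syl h).Q2) ⟨f (z k) 1, (h.T.f_mem _ _).2⟩ where
  hO := by
    have hM := TwoFusion.PResidual.pResidual_normal (G := X) 2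
    exact Cfsg.Agent.TwoFusion.ClosedZ.oddCore_eq_bot_of_normal h.O _ hM
  tt := Subtype.ext h.T.t_sq
  t1 e := h.T.t_ne_one (congrArg Subtype.val e)
  tc g := Subtype.ext (h.Z g)
  t1m := t_mem_Q1 (tqq_syl h)
  t2m := t_mem_Q2 (tqq_syl h)
  comm a ha b hb := (tqq_syl h).comm_Q1_Q2 ha hb
  inf a ha hb := (tqq_syl h).eq_of_mem_both ha hb
  prod r hr := prod (tqq_syl h) hr
  le1 := (tqq_syl h).Q1_le
  le2 := (tqq_syl h).Q2_le
  c1 a ha g hg := strongly_closed (tqq_syl h) (fun g => Subtype.ext (h.Z g)) ha hg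
  c2 a ha g hg := strongly_closed' (tqq_syl h) (fun g => Subtype.ext (h.Z g)) ha hg

omit h in
theorem res_M : Cfsg.pResidual 2 (Cfsg.pResidual 2 X) = ⊤ := by
  have h1 : Cfsg.pResidual 2 X ≤ (Cfsg.pResidual 2 (Cfsg.pResidual 2 X)).map (Cfsg.pResidual 2 X).subtype := by
    refine TwoFusion.PResidual.pResidual_le 2 (fun g hg => ?_)
    refine ⟨⟨g, TwoFusion.PResidual.mem_pResidual_of_coprime 2 hg⟩,
      TwoFusion.PResidual.mem_pResidual_of_coprime 2 ?_, rfl⟩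
    rwa [← orderOf_coe]
  rw [eq_top_iff]
  intro x _
  obtain ⟨y, hy, e⟩ := h1 x.2
  have : y = x := Subtype.ext e
  rwa [← this]

theorem Q1_le_KK : h.T.Q1 ≤ KK (Cfsg.pResidual 2 X) h.T.Q1 := le_KK (Q1_le_M h)
theorem Q2_le_KK : h.T.Q2 ≤ KK (Cfsg.pResidual 2 X) h.T.Q2 := le_KK (Q2_le_M h)

theorem t_mem_KK1 : f (z k) 1 ∈ KK (Cfsg.pResidual 2 X) h.T.Q1 := Q1_le_KK h (t_mem_Q1 h.T)
theorem t_mem_KK2 : f (z k) 1 ∈ KK (Cfsg.pResidual 2 X) h.T.Q2 := Q2_le_KK h (t_mem_Q2 h.T)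

variable (hPT : Hyps.ProductThm.{u})

include hPT

theorem comm {x y : X} (hx : x ∈ KK (Cfsg.pResidual 2 X) h.T.Q1) (hy : y ∈ KK (Cfsg.pResidual 2 X) h.T.Q2) :
    x * y = y * x := by
  obtain ⟨x, hx, rfl⟩ := hx
  obtain ⟨y, hy, rfl⟩ := hy
  rw [sub_Q1 h] at hx
  rw [sub_Q2 h] at hy
  exact congrArg Subtype.val ((fam h).comm_N hPT hx hy)

theorem inf {x : X} (hx : x ∈ KK (Cfsg.pResidual 2 X) h.T.Q1) (hy : x ∈ KK (Cfsg.pResidual 2 X) h.T.Q2) :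
    x = 1 ∨ x = f (z k) 1 := by
  obtain ⟨x, hx, rfl⟩ := hx
  obtain ⟨y, hy, e⟩ := hy
  have : y = x := Subtype.ext e
  rw [this] at hy
  rw [sub_Q1 h] at hx
  rw [sub_Q2 h] at hy
  rcases (fam h).mem_inf hPT hx hy with h1 | h1
  · left; exact congrArg Subtype.val h1
  · right; exact congrArg Subtype.val h1

theorem mem_Q1 {x : X} (hx : x ∈ KK (Cfsg.pResidual 2 X) h.T.Q1) (hP : x ∈ (P : Subgroup X)) : x ∈ h.T.Q1 := by
  obtain ⟨x, hx, rfl⟩ := hx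
  rw [sub_Q1 h] at hx
  have h1 := (fam h).mem_Q1 hPT hx (mem_syl.2 hP)
  rw [← sub_Q1 h] at h1
  exact h1

theorem mem_Q2 {x : X} (hx : x ∈ KK (Cfsg.pResidual 2 X) h.T.Q2) (hP : x ∈ (P : Subgroup X)) : x ∈ h.T.Q2 := by
  obtain ⟨x, hx, rfl⟩ := hx
  rw [sub_Q2 h] at hx
  have h1 := (fam h).symm.mem_Q1 hPT hx (mem_syl.2 hP)
  rw [← sub_Q2 h] at h1
  exact h1

theorem perfect1 : ⁅KK (Cfsg.pResidual 2 X) h.T.Q1, KK (Cfsg.pResidual 2 X) h.T.Q1⁆ = KK (Cfsg.pResidual 2 X) h.T.Q1 := by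
  have h1 := ProdPerfect.perfect (fam h) hPT res_M
    (fun g hg => ProdAut.exists_inner (syl P) _ h.k2 (equivQ1 (tqq_syl h)) (fun r hr => inner (tqq_syl h) hr) hg)
    (t_mem_commutator (tqq_syl h))
  rw [KK, sub_Q1 h, ← Subgroup.map_commutator, h1]

theorem perfect2 : ⁅KK (Cfsg.pResidual 2 X) h.T.Q2, KK (Cfsg.pResidual 2 X) h.T.Q2⁆ = KK (Cfsg.pResidual 2 X) h.T.Q2 := by
  have h1 := ProdPerfect.perfect (fam h).symm hPT res_M
    (fun g hg => ProdAut.exists_inner (syl P) _ h.k2 (equivQ1 (tqq_syl h).swap) (fun r hr => inner' (tqq_syl h) hr) hg)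
    (t_mem_commutator' (tqq_syl h))
  rw [KK, sub_Q2 h, ← Subgroup.map_commutator, h1]

end Cfsg.Agent.LFourB.ProdPair
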