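import Mathlib
import Cfsg.Agent.LFourB.ProdPair
import Cfsg.Agent.Lib.Cores

/-!
# Groups with `O^2(X) ∩ P = Q ∘ Q`: permutation of the factors, their centraliser, and their isomorphism type
-/

set_option autoImplicit false

namespace Cfsg.Agent.LFourB.ProdPair

open Subgroup QuaternionGroup Cfsg.Agent.SylowSp4 Cfsg.Agent.SylowSp4.Coord Cfsg.Agent.SylowSp4.Closed
open Cfsg.Agent.SylowSp4.Split Cfsg.Agent.LFourB.ProdTqq

universe u

/-- A core-free group with a central Sylow 2-subgroup is a 2-group. -/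
theorem eq_top_of_central {K : Type*} [Group K] [Finite K] (P : Sylow 2 K) (hO : Cfsg.oddCore K = ⊥)
    (hc : ∀ g : K, ∀ x ∈ (P : Subgroup K), g * x = x * g) : (P : Subgroup K) = ⊤ := by
  have hfact : Fact (Nat.Prime 2) := ⟨Nat.prime_two⟩
  have hP : normalizer ((P : Subgroup K) : Set K) ≤ centralizer ((P : Subgroup K) : Set K) := by
    intro g _
    rw [mem_centralizer_iff]
    intro x hx
    exact (hc g x hx).symm
  have h1 := MonoidHom.ker_transferSylow_isComplement' P hP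
  have h2 : (MonoidHom.transferSylow P hP).ker = ⊥ := by
    rw [eq_bot_iff, ← hO]
    refine Cfsg.Agent.Lib.Cores.le_pPrimeCore inferInstance ?_
    have h3 := MonoidHom.not_dvd_card_ker_transferSylow P hP
    exact ((Nat.Prime.coprime_iff_not_dvd Nat.prime_two).2 h3).symm
  rw [h2] at h1
  exact isComplement'_bot_left.1 h1

variable {X : Type u} [Group X] [Finite X] {P : Sylow 2 X} {k : ℕ} {f : Q k → Q k → X} (h : Hyp P k f)

/-- `P` permutes the two factors. -/
def Perm (h : Hyp P k f) : Prop := ∀ p ∈ (P : Subgroup X),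
  ((∀ x ∈ h.T.Q1, p * x * p⁻¹ ∈ h.T.Q1) ∧ ∀ x ∈ h.T.Q2, p * x * p⁻¹ ∈ h.T.Q2) ∨
  ((∀ x ∈ h.T.Q1, p * x * p⁻¹ ∈ h.T.Q2) ∧ ∀ x ∈ h.T.Q2, p * x * p⁻¹ ∈ h.T.Q1)

include h

theorem perm (hp : Perm h) (g : X) :
    ((∀ x ∈ KK (Cfsg.pResidual 2 X) h.T.Q1, g * x * g⁻¹ ∈ KK (Cfsg.pResidual 2 X) h.T.Q1) ∧
      ∀ x ∈ KK (Cfsg.pResidual 2 X) h.T.Q2, g * x * g⁻¹ ∈ KK (Cfsg.pResidual 2 X) h.T.Q2) ∨
    ((∀ x ∈ KK (Cfsg.pResidual 2 X) h.T.Q1, g * x * g⁻¹ ∈ KK (Cfsg.pResidual 2 X) h.T.Q2) ∧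
      ∀ x ∈ KK (Cfsg.pResidual 2 X) h.T.Q2, g * x * g⁻¹ ∈ KK (Cfsg.pResidual 2 X) h.T.Q1) := by
  have hM := TwoFusion.PResidual.pResidual_normal (G := X) 2
  obtain ⟨m, hm, p, hpP, rfl⟩ := exists_mul P g
  have e : ∀ x, m * p * x * (m * p)⁻¹ = m * (p * x * p⁻¹) * m⁻¹ := fun x => by group
  rcases hp p hpP with ⟨h1, h2⟩ | ⟨h1, h2⟩
  · left
    constructor
    · intro x hx
      rw [e]
      exact KK_conj_mem hm (KK_conj hM (fun y hy _ => h1 y hy) hx)
    · intro x hx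
      rw [e]
      exact KK_conj_mem hm (KK_conj hM (fun y hy _ => h2 y hy) hx)
  · right
    constructor
    · intro x hx
      rw [e]
      exact KK_conj_mem hm (KK_conj hM (fun y hy _ => h1 y hy) hx)
    · intro x hx
      rw [e]
      exact KK_conj_mem hm (KK_conj hM (fun y hy _ => h2 y hy) hx)

/-- The common centraliser of the two factors. -/
def CC (h : Hyp P k f) : Subgroup X :=
  centralizer (KK (Cfsg.pResidual 2 X) h.T.Q1 : Set X) ⊓ centralizer (KK (Cfsg.pResidual 2 X) h.T.Q2 : Set X)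

omit h in
theorem mem_CC {h : Hyp P k f} {g : X} : g ∈ CC h ↔ (∀ x ∈ KK (Cfsg.pResidual 2 X) h.T.Q1, g * x = x * g) ∧
    ∀ x ∈ KK (Cfsg.pResidual 2 X) h.T.Q2, g * x = x * g := by
  rw [CC, mem_inf, mem_centralizer_iff, mem_centralizer_iff]
  constructor
  · rintro ⟨h1, h2⟩
    exact ⟨fun x hx => (h1 x hx).symm, fun x hx => (h2 x hx).symm⟩
  · rintro ⟨h1, h2⟩
    exact ⟨fun x hx => (h1 x hx).symm, fun x hx => (h2 x hx).symm⟩

theorem CC_normal (hp : Perm h) : (CC h).Normal := by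
  refine ⟨fun c hc g => ?_⟩
  rw [mem_CC] at hc ⊢
  have key : ∀ x, c * (g⁻¹ * x * g) = (g⁻¹ * x * g) * c → g * c * g⁻¹ * x = x * (g * c * g⁻¹) := by
    intro x hx
    calc g * c * g⁻¹ * x = g * (c * (g⁻¹ * x * g)) * g⁻¹ := by group
      _ = g * ((g⁻¹ * x * g) * c) * g⁻¹ := by rw [hx]
      _ = x * (g * c * g⁻¹) := by group
  rcases perm h hp g⁻¹ with ⟨h1, h2⟩ | ⟨h1, h2⟩
  · rw [inv_inv] at h1 h2
    exact ⟨fun x hx => key x (hc.1 _ (h1 x hx)), fun x hx => key x (hc.2 _ (h2 x hx))⟩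
  · rw [inv_inv] at h1 h2
    exact ⟨fun x hx => key x (hc.2 _ (h1 x hx)), fun x hx => key x (hc.1 _ (h2 x hx))⟩

theorem eq_of_mem_CC_of_mem_P {x : X} (hx : x ∈ CC h) (hM : x ∈ Cfsg.pResidual 2 X) (hP : x ∈ (P : Subgroup X)) :
    x = 1 ∨ x = f (z k) 1 := by
  rw [mem_CC] at hx
  exact eq_of_comm h.T ⟨hP, hM⟩ (fun y hy => hx.1 y (Q1_le_KK h hy)) (fun y hy => hx.2 y (Q2_le_KK h hy))

/-- `C ∩ M` is of order two. -/
theorem eq_of_mem_CC (hp : Perm h) {x : X} (hx : x ∈ CC h) (hM : x ∈ Cfsg.pResidual 2 X) :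
    x = 1 ∨ x = f (z k) 1 := by
  have hfact : Fact (Nat.Prime 2) := ⟨Nat.prime_two⟩
  have hMn := TwoFusion.PResidual.pResidual_normal (G := X) 2
  have hCn := CC_normal h hp
  set D : Subgroup X := CC h ⊓ Cfsg.pResidual 2 X with hD
  have hDn : D.Normal := inferInstance
  have hDO := Cfsg.Agent.TwoFusion.ClosedZ.oddCore_eq_bot_of_normal h.O D hDn
  let PD : Sylow 2 D := (Cfsg.Agent.Lib.SylowNormalInf.isPGroup_subgroupOf P D).toSylow
    (Cfsg.Agent.Lib.SylowNormalInf.not_dvd_relIndex P D)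
  have h1 : ∀ y ∈ (PD : Subgroup D), (y : X) = 1 ∨ (y : X) = f (z k) 1 := by
    intro y hy
    have hyP : (y : X) ∈ (P : Subgroup X) := hy
    exact eq_of_mem_CC_of_mem_P h y.2.1 y.2.2 hyP
  have h2 := eq_top_of_central PD hDO (by
    intro g y hy
    apply Subtype.ext
    rcases h1 y hy with e | e
    · rw [coe_mul, coe_mul, e, mul_one, one_mul]
    · rw [coe_mul, coe_mul, e, h.Z])
  exact h1 ⟨x, hx, hM⟩ (by rw [h2]; exact mem_top _)

/-- The common centraliser lies in `P`. -/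
theorem CC_le (hp : Perm h) : CC h ≤ (P : Subgroup X) := by
  have hfact : Fact (Nat.Prime 2) := ⟨Nat.prime_two⟩
  have h1 : IsPGroup 2 (CC h) := by
    rw [IsPGroup.iff_orderOf]
    intro x
    obtain ⟨a, b, hab, ⟨j, hj⟩, hb⟩ := TwoFusion.PResidual.exists_pPart_mul_pPrimePart 2 (x : X)
    have hxb : (x : X) ^ b ∈ CC h := zpow_mem x.2 b
    have h2 : (x : X) ^ b = 1 := by
      rcases eq_of_mem_CC h hp hxb (TwoFusion.PResidual.mem_pResidual_of_coprime 2 hb) with h3 | h3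
      · exact h3
      · exfalso
        rw [h3] at hb
        have h4 : orderOf (f (z k) 1) = 2 := orderOf_eq_prime (by rw [sq, h.T.t_sq]) h.T.t_ne_one
        rw [h4] at hb
        norm_num at hb
    rw [h2, mul_one] at hab
    refine ⟨j, ?_⟩
    rw [← orderOf_coe, hab, hj]
  exact (Cfsg.Agent.Lib.Cores.le_pCore (CC_normal h hp) h1).trans (Cfsg.Agent.Lib.Cores.pCore_le_sylow P)

variable (hPT : Hyps.ProductThm.{u}) (hGW : Hyps.GW.{u})

include hPT hGW

omit h in
theorem sl_aux {K : Type u} [Group K] [Finite K] {R : Sylow 2 K} {Q1 Q2 : Subgroup K} {t : K} (h : Fam R Q1 Q2 t)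
    (hperf : ⁅normalClosure (Q1 : Set K), normalClosure (Q1 : Set K)⁆ = normalClosure (Q1 : Set K))
    (hk : 1 ≤ k) (e : Q1 ≃* Q k) :
    (∃ (F : Type) (_ : Field F) (_ : Fintype F), Odd (Fintype.card F) ∧
        Nonempty (normalClosure (Q1 : Set K) ≃* Matrix.SpecialLinearGroup (Fin 2) F)) ∨
      (k = 2 ∧ ∃ φ : normalClosure (Q1 : Set K) →* alternatingGroup (Fin 7), Function.Surjective φ ∧
        ∀ x, φ x = 1 ↔ (x : K) = 1 ∨ (x : K) = t) := by
  have hfact : Fact (Nat.Prime 2) := ⟨Nat.prime_two⟩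
  set N := normalClosure (Q1 : Set K) with hN
  obtain ⟨P, hP⟩ : ∃ P : Sylow 2 N, (P : Subgroup N) = Q1.subgroupOf N := ProdPerfect.exists_sylow h hPT
  have hQN : Q1 ≤ N := subset_normalClosure
  have hNO : Cfsg.oddCore N = ⊥ := Cfsg.Agent.TwoFusion.ClosedZ.oddCore_eq_bot_of_normal h.hO N inferInstance
  have hNp : commutator N = ⊤ := by
    have h1 : (commutator N).map N.subtype = (⊤ : Subgroup N).map N.subtype := by
      rw [commutator_def, Subgroup.map_commutator, ← MonoidHom.range_eq_map, N.range_subtype, hperf]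
    exact Subgroup.map_injective N.subtype_injective h1
  have eP : (P : Subgroup N) ≃* Q k := by
    rw [hP]
    exact (subgroupOfEquivOfLe hQN).trans e
  let τ : N := ⟨t, hQN h.t1m⟩
  have hτ : orderOf τ = 2 := by
    rw [← orderOf_coe]
    exact h.orderOf_t
  have hτc : τ ∈ center N := mem_center_iff.2 fun g => Subtype.ext (h.tc g)
  have hn : (zpowers τ).Normal := by
    have h1 := h.normal_t
    refine ⟨fun x hx g => ?_⟩
    have h2 : Commute g x := by
      obtain ⟨n, rfl⟩ := mem_zpowers_iff.1 hx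
      exact (show Commute g τ from Subtype.ext (h.tc g)).zpow_right n
    rw [h2.eq, mul_inv_cancel_right]
    exact hx
  rcases QuatId.exists_sl hGW hNO hNp P hk eP hτ hτc with h1 | ⟨h1, ⟨e1⟩⟩
  · exact Or.inl h1
  · right
    refine ⟨h1, e1.toMonoidHom.comp (QuotientGroup.mk' (zpowers τ)),
      e1.surjective.comp (QuotientGroup.mk'_surjective _), fun x => ?_⟩
    have h2 : (e1.toMonoidHom.comp (QuotientGroup.mk' (zpowers τ))) x = 1 ↔ x ∈ zpowers τ := by
      rw [MonoidHom.comp_apply]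
      change e1 (QuotientGroup.mk' (zpowers τ) x) = 1 ↔ _
      rw [MulEquiv.map_eq_one_iff]
      exact QuotientGroup.eq_one_iff x
    rw [h2]
    constructor
    · intro hx
      have h3 : (x : K) ∈ zpowers t := by
        obtain ⟨n, rfl⟩ := mem_zpowers_iff.1 hx
        exact zpow_mem (Subgroup.mem_zpowers t) n
      exact h.mem_zpowers h3
    · rintro (h3 | h3)
      · have : x = 1 := Subtype.ext h3
        rw [this]
        exact one_mem _
      · have : x = τ := Subtype.ext h3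
        rw [this]
        exact Subgroup.mem_zpowers τ

omit h hPT hGW in
theorem transport {M Q : Subgroup X} {t : X} {ht : t ∈ M}
    (h2 : (∃ (F : Type) (_ : Field F) (_ : Fintype F), Odd (Fintype.card F) ∧
        Nonempty (normalClosure ((Q.subgroupOf M : Subgroup M) : Set M) ≃* Matrix.SpecialLinearGroup (Fin 2) F)) ∨
      (k = 2 ∧ ∃ φ : normalClosure ((Q.subgroupOf M : Subgroup M) : Set M) →* alternatingGroup (Fin 7),
        Function.Surjective φ ∧ ∀ x, φ x = 1 ↔ (x : M) = 1 ∨ (x : M) = ⟨t, ht⟩)) :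
    (∃ (F : Type) (_ : Field F) (_ : Fintype F), Odd (Fintype.card F) ∧
        Nonempty (KK M Q ≃* Matrix.SpecialLinearGroup (Fin 2) F)) ∨
      (k = 2 ∧ ∃ φ : KK M Q →* alternatingGroup (Fin 7), Function.Surjective φ ∧
        ∀ x, φ x = 1 ↔ (x : X) = 1 ∨ (x : X) = t) := by
  let e : normalClosure ((Q.subgroupOf M : Subgroup M) : Set M) ≃* KK M Q :=
    (normalClosure ((Q.subgroupOf M : Subgroup M) : Set M)).equivMapOfInjective _ M.subtype_injective
  rcases h2 with ⟨F, hF1, hF2, h3, ⟨e1⟩⟩ | ⟨h3, φ, h4, h5⟩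
  · exact Or.inl ⟨F, hF1, hF2, h3, ⟨e.symm.trans e1⟩⟩
  · right
    refine ⟨h3, φ.comp e.symm.toMonoidHom, h4.comp e.symm.surjective, fun x => ?_⟩
    rw [MonoidHom.comp_apply]
    change φ (e.symm x) = 1 ↔ _
    rw [h5]
    have h6 : ((e.symm x : M) : X) = x := by
      have h7 := congrArg (Subtype.val : KK M Q → X) (e.apply_symm_apply x)
      exact h7
    constructor
    · rintro (h7 | h7)
      · left; rw [← h6, h7]; rfl
      · right; rw [← h6, h7]
    · rintro (h7 | h7)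
      · left; apply Subtype.ext; rw [h6, h7]; rfl
      · right; apply Subtype.ext; rw [h6, h7]

/-- The type of the first factor. -/
theorem sl_one : (∃ (F : Type) (_ : Field F) (_ : Fintype F), Odd (Fintype.card F) ∧
        Nonempty (KK (Cfsg.pResidual 2 X) h.T.Q1 ≃* Matrix.SpecialLinearGroup (Fin 2) F)) ∨
      (k = 2 ∧ ∃ φ : KK (Cfsg.pResidual 2 X) h.T.Q1 →* alternatingGroup (Fin 7), Function.Surjective φ ∧
        ∀ x, φ x = 1 ↔ (x : X) = 1 ∨ (x : X) = f (z k) 1) := by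
  have h1 := ProdPerfect.perfect (fam h) hPT res_M
    (fun g hg => ProdAut.exists_inner (syl P) _ h.k2 (equivQ1 (tqq_syl h)) (fun r hr => inner (tqq_syl h) hr) hg)
    (t_mem_commutator (tqq_syl h))
  have h2 := sl_aux hPT hGW (fam h) h1 (le_trans (by norm_num) h.k2) (equivQ1 (tqq_syl h))
  rw [← sub_Q1 h] at h2
  exact transport h2

theorem sl_two : (∃ (F : Type) (_ : Field F) (_ : Fintype F), Odd (Fintype.card F) ∧
        Nonempty (KK (Cfsg.pResidual 2 X) h.T.Q2 ≃* Matrix.SpecialLinearGroup (Fin 2) F)) ∨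
      (k = 2 ∧ ∃ φ : KK (Cfsg.pResidual 2 X) h.T.Q2 →* alternatingGroup (Fin 7), Function.Surjective φ ∧
        ∀ x, φ x = 1 ↔ (x : X) = 1 ∨ (x : X) = f (z k) 1) := by
  have h1 := ProdPerfect.perfect (fam h).symm hPT res_M
    (fun g hg => ProdAut.exists_inner (syl P) _ h.k2 (equivQ1 (tqq_syl h).swap) (fun r hr => inner' (tqq_syl h) hr) hg)
    (t_mem_commutator' (tqq_syl h))
  have h2 := sl_aux hPT hGW (fam h).symm h1 (le_trans (by norm_num) h.k2) (equivQ1 (tqq_syl h).swap)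
  rw [← sub_Q2 h] at h2
  exact transport h2

end Cfsg.Agent.LFourB.ProdPair
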