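import Mathlib
import Cfsg.Agent.LFourB.ProdPairTwo
import Cfsg.Agent.LFourA.Quot
import Cfsg.Agent.LFourA.CzCt

/-!
# The centraliser of an involution `z` with `O^2(C(z)) ∩ S = Q ∘ Q`

`CZP z p K₁ K₂ S Q₁ Q₂` is the variant of `LFourA.CzCt.CZ` without the assumption that `C_X(K₁K₂) = ⟨z⟩`: here the common
centraliser of `K₁` and `K₂` is only in the image of `C_S(Q₁Q₂)`.
-/

set_option autoImplicit false

namespace Cfsg.Agent.LFourB.ProdCent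

open Subgroup QuaternionGroup Cfsg.Agent.SylowSp4 Cfsg.Agent.SylowSp4.Coord Cfsg.Agent.SylowSp4.Closed
open Cfsg.Agent.LFourB.ProdTqq Cfsg.Agent.LFourA.Quot Cfsg.Agent.LFourA.CzCt

universe u

/-! ### Passage to the quotient by the odd core -/

section quot

variable {Y : Type*} [Group Y] [Finite Y]

theorem oddCore_le_pResidual : Cfsg.oddCore Y ≤ Cfsg.pResidual 2 Y := by
  intro x hx
  apply TwoFusion.PResidual.mem_pResidual_of_coprime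
  have h1 : (Nat.card (Cfsg.oddCore Y)).Coprime 2 := Cfsg.Agent.Lib.Cores.pPrimeCore_coprime 2
  have h2 : orderOf x ∣ Nat.card (Cfsg.oddCore Y) := by
    have := orderOf_dvd_natCard (⟨x, hx⟩ : Cfsg.oddCore Y)
    rwa [← orderOf_coe] at this
  exact Nat.Coprime.coprime_dvd_left h2 h1

theorem pResidual_quot_le : Cfsg.pResidual 2 (Y ⧸ Cfsg.oddCore Y) ≤ (Cfsg.pResidual 2 Y).map (pr Y) := by
  have hfact : Fact (Nat.Prime 2) := ⟨Nat.prime_two⟩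
  refine TwoFusion.PResidual.pResidual_le 2 (fun g hg => ?_)
  obtain ⟨g, rfl⟩ := pr_surj g
  obtain ⟨a, b, hab, ⟨j, hj⟩, hb⟩ := TwoFusion.PResidual.exists_pPart_mul_pPrimePart 2 g
  have h1 : pr Y (g ^ a) = 1 := by
    rw [← orderOf_eq_one_iff]
    have h2 : orderOf (pr Y (g ^ a)) ∣ 2 ^ j := hj ▸ orderOf_map_dvd (pr Y) (g ^ a)
    have h3 : orderOf (pr Y (g ^ a)) ∣ orderOf (pr Y g) := by
      rw [map_zpow]
      exact orderOf_dvd_of_mem_zpowers ⟨a, rfl⟩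
    exact Nat.Coprime.eq_one_of_dvd (Nat.Coprime.coprime_dvd_left h3 (Nat.Coprime.pow_right j hg)) h2
  refine ⟨g ^ b, TwoFusion.PResidual.mem_pResidual_of_coprime 2 hb, ?_⟩
  conv_rhs => rw [hab, map_mul, h1, one_mul]

theorem pr_mem_pResidual {y : Y} : pr Y y ∈ Cfsg.pResidual 2 (Y ⧸ Cfsg.oddCore Y) ↔ y ∈ Cfsg.pResidual 2 Y := by
  constructor
  · intro hy
    obtain ⟨m, hm, e⟩ := pResidual_quot_le hy
    have h1 : m⁻¹ * y ∈ Cfsg.oddCore Y := by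
      rw [← pr_eq_one, map_mul, map_inv, e, inv_mul_cancel]
    have h2 := mul_mem hm (oddCore_le_pResidual h1)
    rwa [mul_inv_cancel_left] at h2
  · intro hy
    exact TwoFusion.PResidual.map_pResidual_le 2 (pr Y) ⟨y, hy, rfl⟩

theorem tqq_quot {S : Sylow 2 Y} {k : ℕ} {f : Q k → Q k → Y}
    (h : TQQ ((S : Subgroup Y) ⊓ Cfsg.pResidual 2 Y) k f) :
    TQQ ((Cfsg.Agent.LFourA.Quot.syl S : Subgroup (Y ⧸ Cfsg.oddCore Y)) ⊓ Cfsg.pResidual 2 (Y ⧸ Cfsg.oddCore Y)) k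
      (fun a b => pr Y (f a b)) where
  hk := h.hk
  f_mul a b c d := by rw [← map_mul, h.f_mul]
  f_zz := by rw [h.f_zz, map_one]
  f_inj a b c d e := h.f_inj a b c d (inj_of_mem S (h.f_mem a b).1 (h.f_mem c d).1 e)
  mem_iff g := by
    constructor
    · rintro ⟨h1, h2⟩
      obtain ⟨x, hx, rfl⟩ := (Cfsg.Agent.LFourA.Quot.mem_syl S).1 h1
      obtain ⟨a, b, e⟩ := (h.mem_iff x).1 ⟨hx, pr_mem_pResidual.1 h2⟩
      exact ⟨a, b, by rw [e]⟩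
    · rintro ⟨a, b, rfl⟩
      exact ⟨pr_mem_syl S (h.f_mem a b).1, pr_mem_pResidual.2 (h.f_mem a b).2⟩

end quot

/-! ### The interface -/

/-- `C(z)` modulo its odd core with two commuting subgroups `K₁`, `K₂` and the position of the Sylow subgroup `S`. -/
structure CZP {G X : Type*} [Group G] [Group X] (z : G) (p : ↥(centralizer ({z} : Set G)) →* X) (K₁ K₂ : Subgroup X)
    (S Q₁ Q₂ : Subgroup G) : Prop where
  surj : Function.Surjective p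
  ker : ∀ x, p x = 1 ↔ (x : G) ∈ Cfsg.centralizerPPrimeCore 2 z
  comm : ∀ x ∈ K₁, ∀ y ∈ K₂, x * y = y * x
  z₁ : p (self z) ∈ K₁
  z₂ : p (self z) ∈ K₂
  inf : ∀ x ∈ K₁, x ∈ K₂ → x = 1 ∨ x = p (self z)
  norm : ∀ g : X, ((∀ x ∈ K₁, g * x * g⁻¹ ∈ K₁) ∧ ∀ x ∈ K₂, g * x * g⁻¹ ∈ K₂) ∨
    ((∀ x ∈ K₁, g * x * g⁻¹ ∈ K₂) ∧ ∀ x ∈ K₂, g * x * g⁻¹ ∈ K₁)
  perf₁ : ⁅K₁, K₁⁆ = K₁
  perf₂ : ⁅K₂, K₂⁆ = K₂
  q₁ : Q₁ ≤ up p K₁
  q₂ : Q₂ ≤ up p K₂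
  s₁ : ∀ s ∈ S, s ∈ up p K₁ → s ∈ Q₁
  s₂ : ∀ s ∈ S, s ∈ up p K₂ → s ∈ Q₂
  /-- the common centraliser is in the image of `C_S(Q₁Q₂)` -/
  cent : ∀ g : X, (∀ x ∈ K₁, g * x = x * g) → (∀ x ∈ K₂, g * x = x * g) →
    ∃ s : ↥(centralizer ({z} : Set G)), (s : G) ∈ S ∧ (∀ x ∈ Q₁, (s : G) * x = x * s) ∧
      (∀ x ∈ Q₂, (s : G) * x = x * s) ∧ g = p s
  /-- elements of odd order normalise both factors -/
  odd : ∀ g : X, Odd (orderOf g) → (∀ x ∈ K₁, g * x * g⁻¹ ∈ K₁) ∧ ∀ x ∈ K₂, g * x * g⁻¹ ∈ K₂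

/-- Moreover `K₁`, `K₂` are isomorphic to `SL(2,F)`. -/
structure CZPL {G X : Type*} [Group G] [Group X] (z : G) (F : Type*) [Field F]
    (p : ↥(centralizer ({z} : Set G)) →* X) (K₁ K₂ : Subgroup X) (S Q₁ Q₂ : Subgroup G) : Prop
    extends CZP z p K₁ K₂ S Q₁ Q₂ where
  e₁ : Nonempty (K₁ ≃* Matrix.SpecialLinearGroup (Fin 2) F)
  e₂ : Nonempty (K₂ ≃* Matrix.SpecialLinearGroup (Fin 2) F)

/-- Moreover `K₁ / ⟨z⟩` is isomorphic to `A₇` (the case to be excluded). -/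
structure CZPA {G X : Type*} [Group G] [Group X] (z : G) (p : ↥(centralizer ({z} : Set G)) →* X) (K₁ K₂ : Subgroup X)
    (S Q₁ Q₂ : Subgroup G) : Prop extends CZP z p K₁ K₂ S Q₁ Q₂ where
  a₁ : ∃ φ : K₁ →* alternatingGroup (Fin 7), Function.Surjective φ ∧ ∀ x : K₁, φ x = 1 ↔ (x : X) = 1 ∨ (x : X) = p (self z)
  a₂ : ∃ φ : K₂ →* alternatingGroup (Fin 7), Function.Surjective φ ∧ ∀ x : K₂, φ x = 1 ↔ (x : X) = 1 ∨ (x : X) = p (self z)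

end Cfsg.Agent.LFourB.ProdCent
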