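import Mathlib
import Cfsg.Agent.LFourB.ProdCent

/-!
# The centraliser of an involution `z` with `O^2(C(z)) ∩ S = Q ∘ Q`: existence of the two factors
-/

set_option autoImplicit false

namespace Cfsg.Agent.LFourB.ProdCent

open Subgroup QuaternionGroup Cfsg.Agent.SylowSp4 Cfsg.Agent.SylowSp4.Coord Cfsg.Agent.SylowSp4.Closed
open Cfsg.Agent.LFourB.ProdTqq Cfsg.Agent.LFourA.Quot Cfsg.Agent.LFourA.CzCt

universe u

variable {G : Type u} [Group G] [Finite G] {S : Sylow 2 G} {c : G} {k : ℕ} {f : Q k → Q k → G} {R : Subgroup G}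

/-- The hypotheses on `G`. -/
structure HypG (S : Sylow 2 G) (c : G) (k : ℕ) (f : Q k → Q k → G) (R : Subgroup G) : Prop where
  T : TQQ R k f
  c_eq : f (z k) 1 = c
  le : (S : Subgroup G) ≤ centralizer ({c} : Set G)
  R_eq : (Cfsg.pResidual 2 (centralizer ({c} : Set G))).map (centralizer ({c} : Set G)).subtype ⊓ (S : Subgroup G) = R
  k2 : 2 ≤ k
  perm : ∀ s ∈ (S : Subgroup G),
    ((∀ x ∈ T.Q1, s * x * s⁻¹ ∈ T.Q1) ∧ ∀ x ∈ T.Q2, s * x * s⁻¹ ∈ T.Q2) ∨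
    ((∀ x ∈ T.Q1, s * x * s⁻¹ ∈ T.Q2) ∧ ∀ x ∈ T.Q2, s * x * s⁻¹ ∈ T.Q1)

variable (h : HypG S c k f R)

include h

theorem f_mem_S (a b : Q k) : f a b ∈ (S : Subgroup G) := by
  have h1 := h.T.f_mem a b
  rw [← h.R_eq] at h1
  exact h1.2

theorem f_mem_C (a b : Q k) : f a b ∈ centralizer ({c} : Set G) := h.le (f_mem_S h a b)

/-- The Sylow subgroup of `C(z)`. -/
noncomputable def sylC (h : HypG S c k f R) : Sylow 2 (centralizer ({c} : Set G)) := S.subtype h.le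

omit h in
theorem mem_sylC {h : HypG S c k f R} {x : centralizer ({c} : Set G)} :
    x ∈ (sylC h : Subgroup (centralizer ({c} : Set G))) ↔ (x : G) ∈ (S : Subgroup G) := Iff.rfl

theorem tqq_C : TQQ ((sylC h : Subgroup (centralizer ({c} : Set G))) ⊓ Cfsg.pResidual 2 (centralizer ({c} : Set G))) k
    (fun a b => (⟨f a b, f_mem_C h a b⟩ : centralizer ({c} : Set G))) := by
  have h1 := h.T.restrict (K := centralizer ({c} : Set G)) (f_mem_C h)
  have e : R.subgroupOf (centralizer ({c} : Set G)) =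
      (sylC h : Subgroup (centralizer ({c} : Set G))) ⊓ Cfsg.pResidual 2 (centralizer ({c} : Set G)) := by
    ext x
    have e0 : (x : G) ∈ R ↔ (x : G) ∈
        (Cfsg.pResidual 2 (centralizer ({c} : Set G))).map (centralizer ({c} : Set G)).subtype ⊓ (S : Subgroup G) := by
      rw [h.R_eq]
    rw [mem_subgroupOf, e0, mem_inf, mem_inf, mem_sylC]
    constructor
    · rintro ⟨⟨y, hy, e⟩, h2⟩
      have : y = x := Subtype.ext e
      exact ⟨h2, by rwa [← this]⟩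
    · rintro ⟨h2, h3⟩
      exact ⟨⟨x, h3, rfl⟩, h2⟩
  rwa [e] at h1

/-- The hypotheses for `C(z) / O(C(z))`. -/
theorem hypX : ProdPair.Hyp (Cfsg.Agent.LFourA.Quot.syl (sylC h)) k
    (fun a b => pr (centralizer ({c} : Set G)) ⟨f a b, f_mem_C h a b⟩) where
  T := tqq_quot (tqq_C h)
  O := oddCore_quot
  Z g := by
    obtain ⟨g, rfl⟩ := pr_surj g
    rw [← map_mul, ← map_mul]
    congr 1
    apply Subtype.ext
    change (g : G) * f (z k) 1 = f (z k) 1 * g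
    rw [h.c_eq]
    exact mem_centralizer_singleton_iff.1 g.2
  k2 := h.k2

theorem mem_Q1_iff {x : centralizer ({c} : Set G)} (hx : (x : G) ∈ (S : Subgroup G)) :
    pr _ x ∈ (hypX h).T.Q1 ↔ (x : G) ∈ h.T.Q1 := by
  constructor
  · rintro ⟨a, e⟩
    have h1 := inj_of_mem (sylC h) (mem_sylC.2 hx) (f_mem_S h a 1) e
    exact ⟨a, congrArg Subtype.val h1⟩
  · rintro ⟨a, e⟩
    exact ⟨a, congrArg (pr _) (Subtype.ext e)⟩

theorem mem_Q2_iff {x : centralizer ({c} : Set G)} (hx : (x : G) ∈ (S : Subgroup G)) :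
    pr _ x ∈ (hypX h).T.Q2 ↔ (x : G) ∈ h.T.Q2 := by
  constructor
  · rintro ⟨a, e⟩
    have h1 := inj_of_mem (sylC h) (mem_sylC.2 hx) (f_mem_S h 1 a) e
    exact ⟨a, congrArg Subtype.val h1⟩
  · rintro ⟨a, e⟩
    exact ⟨a, congrArg (pr _) (Subtype.ext e)⟩

theorem Q1_le_S : h.T.Q1 ≤ (S : Subgroup G) := by
  rintro _ ⟨a, rfl⟩
  exact f_mem_S h _ _

theorem Q2_le_S : h.T.Q2 ≤ (S : Subgroup G) := by
  rintro _ ⟨a, rfl⟩
  exact f_mem_S h _ _

theorem conj_key {s : centralizer ({c} : Set G)} (hs' : (s : G) ∈ (S : Subgroup G))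
    (A B : Subgroup G)
    (A' B' : Subgroup (centralizer ({c} : Set G) ⧸ Cfsg.oddCore (centralizer ({c} : Set G))))
    (h1 : ∀ x : centralizer ({c} : Set G), (x : G) ∈ (S : Subgroup G) → (pr _ x ∈ A' ↔ (x : G) ∈ A))
    (h2 : ∀ x : centralizer ({c} : Set G), (x : G) ∈ (S : Subgroup G) → (pr _ x ∈ B' ↔ (x : G) ∈ B))
    (h3 : ∀ y ∈ A', ∃ x : centralizer ({c} : Set G), (x : G) ∈ (S : Subgroup G) ∧ pr _ x = y)
    (h4 : ∀ x ∈ A, (s : G) * x * (s : G)⁻¹ ∈ B) : ∀ y ∈ A', pr _ s * y * (pr _ s)⁻¹ ∈ B' := by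
  have _ := h
  intro y hy
  obtain ⟨x, hx, rfl⟩ := h3 y hy
  rw [← map_mul, ← map_inv, ← map_mul]
  have h5 : ((s * x * s⁻¹ : centralizer ({c} : Set G)) : G) ∈ (S : Subgroup G) := by
    push_cast
    exact mul_mem (mul_mem hs' hx) (inv_mem hs')
  rw [h2 _ h5]
  push_cast
  exact h4 x ((h1 x hx).1 hy)

theorem lift_Q1 : ∀ y ∈ (hypX h).T.Q1, ∃ x : centralizer ({c} : Set G), (x : G) ∈ (S : Subgroup G) ∧ pr _ x = y := by
  rintro _ ⟨a, rfl⟩
  exact ⟨_, f_mem_S h _ _, rfl⟩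

theorem lift_Q2 : ∀ y ∈ (hypX h).T.Q2, ∃ x : centralizer ({c} : Set G), (x : G) ∈ (S : Subgroup G) ∧ pr _ x = y := by
  rintro _ ⟨a, rfl⟩
  exact ⟨_, f_mem_S h _ _, rfl⟩

theorem conj_swap {s : centralizer ({c} : Set G)} (hs' : (s : G) ∈ (S : Subgroup G))
    (h1 : ∀ x ∈ h.T.Q1, (s : G) * x * (s : G)⁻¹ ∈ h.T.Q2) (h2 : ∀ x ∈ h.T.Q2, (s : G) * x * (s : G)⁻¹ ∈ h.T.Q1) :
    (∀ x ∈ (hypX h).T.Q1, pr _ s * x * (pr _ s)⁻¹ ∈ (hypX h).T.Q2) ∧
      ∀ x ∈ (hypX h).T.Q2, pr _ s * x * (pr _ s)⁻¹ ∈ (hypX h).T.Q1 :=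
  ⟨conj_key h hs' _ _ _ _ (fun _ => mem_Q1_iff h) (fun _ => mem_Q2_iff h) (lift_Q1 h) h1,
    conj_key h hs' _ _ _ _ (fun _ => mem_Q2_iff h) (fun _ => mem_Q1_iff h) (lift_Q2 h) h2⟩

theorem permX : ProdPair.Perm (hypX h) := by
  intro p hp
  obtain ⟨s, hs, rfl⟩ := (Cfsg.Agent.LFourA.Quot.mem_syl (sylC h)).1 hp
  have hs' : (s : G) ∈ (S : Subgroup G) := hs
  rcases h.perm s hs' with ⟨h1, h2⟩ | ⟨h1, h2⟩
  · left
    exact ⟨conj_key h hs' _ _ _ _ (fun _ => mem_Q1_iff h) (fun _ => mem_Q1_iff h) (lift_Q1 h) h1,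
      conj_key h hs' _ _ _ _ (fun _ => mem_Q2_iff h) (fun _ => mem_Q2_iff h) (lift_Q2 h) h2⟩
  · right
    exact conj_swap h hs' h1 h2

theorem pr_self : pr (centralizer ({c} : Set G)) (self c) =
    pr (centralizer ({c} : Set G)) ⟨f (z k) 1, f_mem_C h (z k) 1⟩ := by
  congr 1
  exact Subtype.ext h.c_eq.symm

/-- The two factors of `C(z) / O(C(z))`. -/
noncomputable def K1 (h : HypG S c k f R) :
    Subgroup (centralizer ({c} : Set G) ⧸ Cfsg.oddCore (centralizer ({c} : Set G))) :=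
  ProdPair.KK (Cfsg.pResidual 2 _) (hypX h).T.Q1

noncomputable def K2 (h : HypG S c k f R) :
    Subgroup (centralizer ({c} : Set G) ⧸ Cfsg.oddCore (centralizer ({c} : Set G))) :=
  ProdPair.KK (Cfsg.pResidual 2 _) (hypX h).T.Q2

theorem czp (hPT : Hyps.ProductThm.{u}) :
    CZP c (pr (centralizer ({c} : Set G))) (K1 h) (K2 h) (S : Subgroup G) h.T.Q1 h.T.Q2 where
  surj := pr_surj
  ker x := by
    rw [pr_eq_one]
    constructor
    · intro hx
      exact ⟨x, hx, rfl⟩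
    · rintro ⟨y, hy, e⟩
      have : y = x := Subtype.ext e
      rwa [← this]
  comm x hx y hy := ProdPair.comm (hypX h) hPT hx hy
  z₁ := by
    rw [pr_self h]
    exact ProdPair.t_mem_KK1 (hypX h)
  z₂ := by
    rw [pr_self h]
    exact ProdPair.t_mem_KK2 (hypX h)
  inf x hx hy := by
    rw [pr_self h]
    exact ProdPair.inf (hypX h) hPT hx hy
  norm g := ProdPair.perm (hypX h) (permX h) g
  perf₁ := ProdPair.perfect1 (hypX h) hPT
  perf₂ := ProdPair.perfect2 (hypX h) hPT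
  q₁ := by
    intro x hx
    have hxS := Q1_le_S h hx
    refine mem_up.2 ⟨h.le hxS, ProdPair.Q1_le_KK (hypX h) ((mem_Q1_iff h hxS).2 hx)⟩
  q₂ := by
    intro x hx
    have hxS := Q2_le_S h hx
    refine mem_up.2 ⟨h.le hxS, ProdPair.Q2_le_KK (hypX h) ((mem_Q2_iff h hxS).2 hx)⟩
  s₁ s hs hs1 := by
    obtain ⟨h1, h2⟩ := mem_up.1 hs1
    exact (mem_Q1_iff h hs).1 (ProdPair.mem_Q1 (hypX h) hPT h2 (pr_mem_syl (sylC h) hs))
  s₂ s hs hs1 := by
    obtain ⟨h1, h2⟩ := mem_up.1 hs1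
    exact (mem_Q2_iff h hs).1 (ProdPair.mem_Q2 (hypX h) hPT h2 (pr_mem_syl (sylC h) hs))
  cent g hg1 hg2 := by
    have h1 : g ∈ ProdPair.CC (hypX h) := ProdPair.mem_CC.2 ⟨hg1, hg2⟩
    obtain ⟨s, hs, rfl⟩ := (Cfsg.Agent.LFourA.Quot.mem_syl (sylC h)).1 (ProdPair.CC_le (hypX h) (permX h) h1)
    have hs' : (s : G) ∈ (S : Subgroup G) := hs
    refine ⟨s, hs', ?_, ?_, rfl⟩
    · intro x hx
      have hxS := Q1_le_S h hx
      have h2 := hg1 (pr _ ⟨x, h.le hxS⟩) (ProdPair.Q1_le_KK (hypX h) ((mem_Q1_iff h hxS).2 hx))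
      rw [← map_mul, ← map_mul] at h2
      have h3 := inj_of_mem (sylC h) (mem_sylC.2 (by push_cast; exact mul_mem hs' hxS))
        (mem_sylC.2 (by push_cast; exact mul_mem hxS hs')) h2
      exact congrArg Subtype.val h3
    · intro x hx
      have hxS := Q2_le_S h hx
      have h2 := hg2 (pr _ ⟨x, h.le hxS⟩) (ProdPair.Q2_le_KK (hypX h) ((mem_Q2_iff h hxS).2 hx))
      rw [← map_mul, ← map_mul] at h2
      have h3 := inj_of_mem (sylC h) (mem_sylC.2 (by push_cast; exact mul_mem hs' hxS))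
        (mem_sylC.2 (by push_cast; exact mul_mem hxS hs')) h2
      exact congrArg Subtype.val h3
  odd g hg := by
    have h1 : g ∈ Cfsg.pResidual 2 (centralizer ({c} : Set G) ⧸ Cfsg.oddCore (centralizer ({c} : Set G))) :=
      TwoFusion.PResidual.mem_pResidual_of_coprime 2 hg.coprime_two_right
    exact ⟨fun x hx => ProdPair.KK_conj_mem h1 hx, fun x hx => ProdPair.KK_conj_mem h1 hx⟩

/-- The isomorphism between the two factors. -/
theorem nonempty_equiv (hsw : ∃ s ∈ (S : Subgroup G), (∀ x ∈ h.T.Q1, s * x * s⁻¹ ∈ h.T.Q2) ∧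
    ∀ x ∈ h.T.Q2, s * x * s⁻¹ ∈ h.T.Q1) :
    ∃ e : K1 h ≃* K2 h, ∀ x : K1 h, (x : centralizer ({c} : Set G) ⧸ Cfsg.oddCore (centralizer ({c} : Set G))) =
      pr _ (self c) ↔ ((e x : K2 h) : centralizer ({c} : Set G) ⧸ Cfsg.oddCore (centralizer ({c} : Set G))) =
      pr _ (self c) := by
  obtain ⟨s, hs, h1, h2⟩ := hsw
  obtain ⟨h3, h4⟩ := conj_swap h (s := ⟨s, h.le hs⟩) hs h1 h2
  have hM := TwoFusion.PResidual.pResidual_normal
    (G := centralizer ({c} : Set G) ⧸ Cfsg.oddCore (centralizer ({c} : Set G))) 2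
  set g := pr (centralizer ({c} : Set G)) ⟨s, h.le hs⟩ with hg
  have h5 : ∀ x ∈ K1 h, g * x * g⁻¹ ∈ K2 h := fun x hx => ProdPair.KK_conj hM (fun y hy _ => h3 y hy) hx
  have h6 : ∀ x ∈ K2 h, g * x * g⁻¹ ∈ K1 h := fun x hx => ProdPair.KK_conj hM (fun y hy _ => h4 y hy) hx
  let φ : K1 h →* K2 h :=
    { toFun := fun x => ⟨g * x * g⁻¹, h5 x x.2⟩
      map_one' := Subtype.ext (by simp)
      map_mul' := fun x y => Subtype.ext (by simp [mul_assoc]) }
  let ψ : K2 h →* K1 h :=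
    { toFun := fun x => ⟨g * x * g⁻¹, h6 x x.2⟩
      map_one' := Subtype.ext (by simp)
      map_mul' := fun x y => Subtype.ext (by simp [mul_assoc]) }
  have hφ : Function.Injective φ := by
    intro x y hxy
    have h7 := congrArg (Subtype.val) hxy
    exact Subtype.ext (mul_left_cancel (mul_right_cancel h7))
  have hψ : Function.Injective ψ := by
    intro x y hxy
    have h7 := congrArg (Subtype.val) hxy
    exact Subtype.ext (mul_left_cancel (mul_right_cancel h7))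
  have hb : Function.Bijective φ := (Nat.bijective_iff_injective_and_card φ).2
    ⟨hφ, le_antisymm (Nat.card_le_card_of_injective φ hφ) (Nat.card_le_card_of_injective ψ hψ)⟩
  have hc : g * pr _ (self c) * g⁻¹ = pr _ (self c) := by
    rw [hg, ← map_mul, ← map_inv, ← map_mul]
    congr 1
    apply Subtype.ext
    change s * c * s⁻¹ = c
    rw [mem_centralizer_singleton_iff.1 (h.le hs), mul_inv_cancel_right]
  refine ⟨MulEquiv.ofBijective φ hb, fun x => ?_⟩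
  change _ ↔ g * (x : centralizer ({c} : Set G) ⧸ Cfsg.oddCore (centralizer ({c} : Set G))) * g⁻¹ = _
  constructor
  · intro h7
    rw [h7, hc]
  · intro h7
    rw [← hc] at h7
    exact mul_left_cancel (mul_right_cancel h7)

theorem typ (hPT : Hyps.ProductThm.{u}) (hGW : Hyps.GW.{u})
    (hsw : ∃ s ∈ (S : Subgroup G), (∀ x ∈ h.T.Q1, s * x * s⁻¹ ∈ h.T.Q2) ∧ ∀ x ∈ h.T.Q2, s * x * s⁻¹ ∈ h.T.Q1) :
    (∃ (F : Type) (_ : Field F) (_ : Fintype F), Odd (Fintype.card F) ∧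
      CZPL c F (pr (centralizer ({c} : Set G))) (K1 h) (K2 h) (S : Subgroup G) h.T.Q1 h.T.Q2) ∨
    (k = 2 ∧ CZPA c (pr (centralizer ({c} : Set G))) (K1 h) (K2 h) (S : Subgroup G) h.T.Q1 h.T.Q2) := by
  obtain ⟨e, he⟩ := nonempty_equiv h hsw
  have h0 : (∃ (F : Type) (_ : Field F) (_ : Fintype F), Odd (Fintype.card F) ∧
        Nonempty (K1 h ≃* Matrix.SpecialLinearGroup (Fin 2) F)) ∨
      (k = 2 ∧ ∃ φ : K1 h →* alternatingGroup (Fin 7), Function.Surjective φ ∧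
        ∀ x : K1 h, φ x = 1 ↔ (x : centralizer ({c} : Set G) ⧸ Cfsg.oddCore (centralizer ({c} : Set G))) = 1 ∨
          (x : centralizer ({c} : Set G) ⧸ Cfsg.oddCore (centralizer ({c} : Set G))) =
            pr (centralizer ({c} : Set G)) ⟨f (z k) 1, f_mem_C h (z k) 1⟩) :=
    ProdPair.sl_one (hypX h) hPT hGW
  rw [← pr_self h] at h0
  rcases h0 with ⟨F, hF, hF2, hodd, ⟨e1⟩⟩ | ⟨hk, φ, hφ, hφ2⟩
  · left
    exact ⟨F, hF, hF2, hodd, { czp h hPT with e₁ := ⟨e1⟩, e₂ := ⟨e.symm.trans e1⟩ }⟩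
  · right
    refine ⟨hk, { czp h hPT with a₁ := ⟨φ, hφ, fun x => ?_⟩, a₂ := ⟨φ.comp e.symm.toMonoidHom, hφ.comp e.symm.surjective, fun x => ?_⟩ }⟩
    · exact hφ2 x
    · rw [MonoidHom.comp_apply]
      change φ (e.symm x) = 1 ↔ _
      have h1 := hφ2 (e.symm x)
      refine h1.trans ?_
      have h2 := he (e.symm x)
      rw [e.apply_symm_apply] at h2
      rw [← h2]
      constructor
      · rintro (h3 | h3)
        · left
          have h4 : e.symm x = 1 := Subtype.ext h3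
          have h5 := (e.symm.map_eq_one_iff).1 h4
          rw [h5]; rfl
        · exact Or.inr h3
      · rintro (h3 | h3)
        · left
          have h4 : x = 1 := Subtype.ext h3
          rw [h4, map_one]; rfl
        · exact Or.inr h3

end Cfsg.Agent.LFourB.ProdCent
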