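import Mathlib
import Cfsg.Agent.LFourB.Delta
import Cfsg.Agent.LFourB.ProdCentMain

/-!
# The quaternion groups `Q1`, `Q2` in a 2-group of type `PSL 4 q`, `q = 1 mod 8`, as a central product
-/

set_option autoImplicit false

namespace Cfsg.Agent.LFourB

open QuaternionGroup Cfsg.Agent.SylowSp4.Coord Cfsg.Agent.SylowSp4.Closed

variable {G : Type*} [Group G] {m : ℕ} {f : R m → R m → R m → G} {u w : G}

/-- The identification of the exponents. -/
def kap (m : ℕ) : ZMod (2 * 2 ^ (m + 2)) ≃+* R m := ZMod.ringEquivCongr (by rw [pow_succ 2 (m + 2), mul_comm])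

theorem kap_half : kap m ((2 ^ (m + 2) : ℕ) : ZMod (2 * 2 ^ (m + 2))) = N m := by
  rw [map_natCast, N]

/-- The first factor. -/
def qone (f : R m → R m → R m → G) (u : G) : Q (m + 2) → G
  | a i => f (2 * kap m i) 0 (-kap m i)
  | xa i => u * x1 f * f (2 * kap m i) 0 (-kap m i)

/-- The second factor. -/
def qtwo (f : R m → R m → R m → G) (u w : G) (x : Q (m + 2)) : G := w * qone f u x * w⁻¹

/-- The coordinates on `Q1 Q2`. -/
def qq (f : R m → R m → R m → G) (u w : G) (x y : Q (m + 2)) : G := qone f u x * qtwo f u w y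

namespace BOne

variable {S : Subgroup G}

theorem v_mul_v (h : BOne S m f u w) : u * x1 f * (u * x1 f) = f 0 0 (N m) := by
  have h1 : u * x1 f * (u * x1 f) = (u * x1 f) * u * x1 f := by group
  rw [h1, x1, h.u_f _ _ _ goodx1, mul_assoc (f _ _ _) u u, h.u_u, mul_one,
    h.f_mul _ _ _ _ _ _ goodx1.actu goodx1]
  congr 1
  · ring
  · ring
  · ring

theorem v_mul (h : BOne S m f u w) (c : R m) :
    u * x1 f * f (2 * c) 0 (-c) = f (2 * (-c)) 0 (-(-c)) * (u * x1 f) := by
  rw [x1, mul_assoc, h.f_comm goodx1 (goodq1 c), ← mul_assoc, h.u_f _ _ _ (goodq1 c), mul_assoc]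
  congr 2 <;> ring

theorem q_mul (h : BOne S m f u w) (c d : R m) :
    f (2 * c) 0 (-c) * f (2 * d) 0 (-d) = f (2 * (c + d)) 0 (-(c + d)) := by
  rw [h.f_mul _ _ _ _ _ _ (goodq1 c) (goodq1 d)]
  congr 1 <;> ring

theorem q_N (_h : BOne S m f u w) : f (2 * N m) 0 (-N m) = f 0 0 (N m) := by
  rw [two_mul_N, neg_N]

theorem qone_mul (h : BOne S m f u w) (x y : Q (m + 2)) : qone f u (x * y) = qone f u x * qone f u y := by
  rcases x with i | i <;> rcases y with j | j
  · rw [a_mul_a]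
    change f (2 * kap m (i + j)) 0 (-kap m (i + j)) = f (2 * kap m i) 0 (-kap m i) * f (2 * kap m j) 0 (-kap m j)
    rw [h.q_mul, map_add]
  · rw [a_mul_xa]
    change u * x1 f * f (2 * kap m (j - i)) 0 (-kap m (j - i)) =
      f (2 * kap m i) 0 (-kap m i) * (u * x1 f * f (2 * kap m j) 0 (-kap m j))
    have h1 : f (2 * kap m i) 0 (-kap m i) * (u * x1 f) = u * x1 f * f (2 * (-kap m i)) 0 (-(-kap m i)) := by
      rw [h.v_mul, neg_neg]
    rw [← mul_assoc, h1, mul_assoc (u * x1 f) (f _ _ _) (f _ _ _), h.q_mul, map_sub]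
    congr 2 <;> ring
  · rw [xa_mul_a]
    change u * x1 f * f (2 * kap m (i + j)) 0 (-kap m (i + j)) =
      u * x1 f * f (2 * kap m i) 0 (-kap m i) * f (2 * kap m j) 0 (-kap m j)
    rw [mul_assoc (u * x1 f) (f _ _ _) (f _ _ _), h.q_mul, map_add]
  · rw [xa_mul_xa]
    change f (2 * kap m (((2 ^ (m + 2) : ℕ) : ZMod (2 * 2 ^ (m + 2))) + j - i)) 0
        (-kap m (((2 ^ (m + 2) : ℕ) : ZMod (2 * 2 ^ (m + 2))) + j - i)) =
      u * x1 f * f (2 * kap m i) 0 (-kap m i) * (u * x1 f * f (2 * kap m j) 0 (-kap m j))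
    have h1 : f (2 * kap m i) 0 (-kap m i) * (u * x1 f) = u * x1 f * f (2 * (-kap m i)) 0 (-(-kap m i)) := by
      rw [h.v_mul, neg_neg]
    have h2 : u * x1 f * f (2 * kap m i) 0 (-kap m i) * (u * x1 f * f (2 * kap m j) 0 (-kap m j)) =
        (u * x1 f) * (f (2 * kap m i) 0 (-kap m i) * (u * x1 f)) * f (2 * kap m j) 0 (-kap m j) := by group
    rw [h2, h1, ← mul_assoc (u * x1 f) (u * x1 f), h.v_mul_v, ← h.q_N, h.q_mul, h.q_mul, map_sub, map_add, kap_half]
    congr 1 <;> ring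

theorem qone_one (h : BOne S m f u w) : qone f u 1 = 1 := by
  rw [one_def]
  change f (2 * kap m 0) 0 (-kap m 0) = 1
  rw [map_zero, mul_zero, neg_zero, h.f_zero]

theorem qtwo_mul (h : BOne S m f u w) (x y : Q (m + 2)) : qtwo f u w (x * y) = qtwo f u w x * qtwo f u w y := by
  rw [qtwo, qtwo, qtwo, h.qone_mul]
  group

theorem qtwo_one (h : BOne S m f u w) : qtwo f u w 1 = 1 := by
  rw [qtwo, h.qone_one]
  group

theorem w_v (h : BOne S m f u w) : w * (u * x1 f) * w⁻¹ = ub u w * x3 f := by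
  have h3 : w * x1 f = x3 f * w := by
    rw [x1, x3, h.w_f _ _ _ goodx1, neg_zero]
  calc w * (u * x1 f) * w⁻¹ = (w * u) * x1 f * w⁻¹ := by group
    _ = ub u w * (w * x1 f) * w⁻¹ := by rw [h.w_mul_u]; group
    _ = ub u w * x3 f := by rw [h3]; group

theorem qtwo_a (h : BOne S m f u w) (i : ZMod (2 * 2 ^ (m + 2))) :
    qtwo f u w (a i) = f 0 (2 * kap m i) (kap m i) := by
  change w * f (2 * kap m i) 0 (-kap m i) * w⁻¹ = _
  rw [h.w_f _ _ _ (goodq1 _), mul_inv_cancel_right, neg_neg]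

theorem qtwo_xa (h : BOne S m f u w) (i : ZMod (2 * 2 ^ (m + 2))) :
    qtwo f u w (xa i) = ub u w * x3 f * f 0 (2 * kap m i) (kap m i) := by
  change w * (u * x1 f * f (2 * kap m i) 0 (-kap m i)) * w⁻¹ = _
  have e : w * (u * x1 f * f (2 * kap m i) 0 (-kap m i)) * w⁻¹ =
      (w * (u * x1 f) * w⁻¹) * (w * f (2 * kap m i) 0 (-kap m i) * w⁻¹) := by group
  rw [e, h.w_v, h.w_f _ _ _ (goodq1 _), mul_inv_cancel_right, neg_neg]

/-- Elements commuting with the generators of the second factor. -/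
theorem comm_aux (h : BOne S m f u w) {g : G} (h1 : ∀ c : R m, g * f 0 (2 * c) c = f 0 (2 * c) c * g)
    (h2 : g * (ub u w * x3 f) = ub u w * x3 f * g) (y : Q (m + 2)) : g * qtwo f u w y = qtwo f u w y * g := by
  rcases y with i | i
  · rw [h.qtwo_a, h1]
  · rw [h.qtwo_xa, ← mul_assoc, h2, mul_assoc, h1, ← mul_assoc]

theorem u_x3_comm (h : BOne S m f u w) : u * x3 f = x3 f * u := by
  rw [x3, h.u_f _ _ _ goodx3, neg_zero, add_zero]

theorem ub_x1 (h : BOne S m f u w) : ub u w * x1 f = x1 f * ub u w := by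
  rw [x1, h.ub_f goodx1, neg_zero, sub_zero]

theorem q_comm (h : BOne S m f u w) (x y : Q (m + 2)) : qone f u x * qtwo f u w y = qtwo f u w y * qone f u x := by
  have hub : ∀ c : R m, ub u w * f (2 * c) 0 (-c) = f (2 * c) 0 (-c) * ub u w := by
    intro c
    rw [h.ub_f (goodq1 c), neg_zero, sub_zero]
  have hu : ∀ c : R m, u * f 0 (2 * c) c = f 0 (2 * c) c * u := by
    intro c
    rw [h.u_f _ _ _ (goodq2 c), neg_zero, add_zero]
  have ha : ∀ c : R m, f (2 * c) 0 (-c) * (ub u w * x3 f) = ub u w * x3 f * f (2 * c) 0 (-c) := by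
    intro c
    rw [← mul_assoc, ← hub, mul_assoc, x3, h.f_comm (goodq1 c) goodx3, ← mul_assoc]
  have hv1 : ∀ c : R m, u * x1 f * f 0 (2 * c) c = f 0 (2 * c) c * (u * x1 f) := by
    intro c
    rw [mul_assoc, x1, h.f_comm goodx1 (goodq2 c), ← mul_assoc, hu, mul_assoc]
  have hv2 : u * x1 f * (ub u w * x3 f) = ub u w * x3 f * (u * x1 f) := by
    have e1 : x1 f * x3 f = x3 f * x1 f := by
      rw [x1, x3, h.f_comm goodx1 goodx3]
    calc u * x1 f * (ub u w * x3 f) = u * (x1 f * ub u w) * x3 f := by group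
      _ = (u * ub u w) * (x1 f * x3 f) := by rw [← h.ub_x1]; group
      _ = (ub u w * u) * (x3 f * x1 f) := by rw [h.ub_mul_u, e1]
      _ = ub u w * (u * x3 f) * x1 f := by group
      _ = ub u w * x3 f * (u * x1 f) := by rw [h.u_x3_comm]; group
  rcases x with i | i
  · exact h.comm_aux (fun c => h.f_comm (goodq1 _) (goodq2 c)) (ha _) y
  · change u * x1 f * f (2 * kap m i) 0 (-kap m i) * qtwo f u w y =
      qtwo f u w y * (u * x1 f * f (2 * kap m i) 0 (-kap m i))
    rw [mul_assoc, h.comm_aux (fun c => h.f_comm (goodq1 _) (goodq2 c)) (ha _) y, ← mul_assoc,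
      h.comm_aux hv1 hv2 y, mul_assoc]

theorem qq_mul (h : BOne S m f u w) (a b c d : Q (m + 2)) :
    qq f u w a b * qq f u w c d = qq f u w (a * c) (b * d) := by
  rw [qq, qq, qq, h.qone_mul, h.qtwo_mul]
  calc qone f u a * qtwo f u w b * (qone f u c * qtwo f u w d)
      = qone f u a * (qtwo f u w b * qone f u c) * qtwo f u w d := by group
    _ = qone f u a * qone f u c * (qtwo f u w b * qtwo f u w d) := by rw [← h.q_comm]; group

theorem qone_z (h : BOne S m f u w) : qone f u (z (m + 2)) = z1 f := by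
  change f (2 * kap m ((2 ^ (m + 2) : ℕ) : ZMod (2 * 2 ^ (m + 2)))) 0
    (-kap m ((2 ^ (m + 2) : ℕ) : ZMod (2 * 2 ^ (m + 2)))) = _
  rw [kap_half, h.q_N, z1]

theorem qtwo_z (h : BOne S m f u w) : qtwo f u w (z (m + 2)) = z1 f := by
  rw [qtwo, h.qone_z, z1, h.w_f _ _ _ good1, mul_inv_cancel_right, neg_N]

theorem qq_one_right (h : BOne S m f u w) (x : Q (m + 2)) : qq f u w x 1 = qone f u x := by
  rw [qq, h.qtwo_one, mul_one]

theorem qq_one_left (h : BOne S m f u w) (x : Q (m + 2)) : qq f u w 1 x = qtwo f u w x := by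
  rw [qq, h.qone_one, one_mul]

theorem z1_mul_z1 (h : BOne S m f u w) : z1 f * z1 f = 1 := by
  rw [z1, h.f_mul _ _ _ _ _ _ good1 good1, N_add_N, add_zero, h.f_zero]

theorem qone_eq_qtwo (h : BOne S m f u w) {x y : Q (m + 2)} (e : qone f u x = qtwo f u w y) :
    (x = 1 ∧ y = 1) ∨ (x = z (m + 2) ∧ y = z (m + 2)) := by
  rcases x with i | i <;> rcases y with j | j
  · rw [h.qtwo_a] at e
    change f (2 * kap m i) 0 (-kap m i) = _ at e
    obtain ⟨h1, h2, h3⟩ := (h.f_eq_iff (goodq1 _) (goodq2 _)).1 e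
    rcases eq_of_two_mul h1 with h4 | h4
    · left
      rw [h4, neg_zero] at h3
      constructor
      · rw [(kap m).map_eq_zero_iff.1 h4, one_def]
      · rw [(kap m).map_eq_zero_iff.1 h3.symm, one_def]
    · right
      rw [h4, neg_N] at h3
      rw [← kap_half] at h3 h4
      constructor
      · rw [(kap m).injective h4, z]
      · rw [← (kap m).injective h3, z]
  · exfalso
    rw [h.qtwo_xa] at e
    change f (2 * kap m i) 0 (-kap m i) = _ at e
    have h1 : u ^ 0 * ub u w ^ 1 ∈ Tor f := by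
      rw [pow_zero, one_mul, pow_one]
      have h2 : ub u w = f (2 * kap m i) 0 (-kap m i) * (x3 f * f 0 (2 * kap m j) (kap m j))⁻¹ := by
        rw [e]; group
      rw [h2]
      exact (Tor f).mul_mem (h.f_mem_Tor (goodq1 _)) ((Tor f).inv_mem ((Tor f).mul_mem (h.f_mem_Tor goodx3)
        (h.f_mem_Tor (goodq2 _))))
    have h3 := h.even_of_mem_Tor h1
    exact absurd h3.2 (by decide)
  · exfalso
    rw [h.qtwo_a] at e
    change u * x1 f * f (2 * kap m i) 0 (-kap m i) = _ at e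
    have h1 : u ^ 1 * ub u w ^ 0 ∈ Tor f := by
      rw [pow_zero, mul_one, pow_one]
      have h2 : u = f 0 (2 * kap m j) (kap m j) * (x1 f * f (2 * kap m i) 0 (-kap m i))⁻¹ := by
        rw [← e]; group
      rw [h2]
      exact (Tor f).mul_mem (h.f_mem_Tor (goodq2 _)) ((Tor f).inv_mem ((Tor f).mul_mem (h.f_mem_Tor goodx1)
        (h.f_mem_Tor (goodq1 _))))
    have h3 := h.even_of_mem_Tor h1
    exact absurd h3.1 (by decide)
  · exfalso
    rw [h.qtwo_xa] at e
    change u * x1 f * f (2 * kap m i) 0 (-kap m i) = _ at e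
    have h1 : u ^ 1 * ub u w ^ 1 ∈ Tor f := by
      rw [pow_one, pow_one]
      have h2 : u * ub u w = (ub u w * (x3 f * f 0 (2 * kap m j) (kap m j) *
          (x1 f * f (2 * kap m i) 0 (-kap m i))⁻¹) * ub u w) := by
        have e1 : u = ub u w * x3 f * f 0 (2 * kap m j) (kap m j) * (x1 f * f (2 * kap m i) 0 (-kap m i))⁻¹ := by
          rw [← e]; group
        calc u * ub u w = ub u w * x3 f * f 0 (2 * kap m j) (kap m j) *
              (x1 f * f (2 * kap m i) 0 (-kap m i))⁻¹ * ub u w := by rw [← e1]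
          _ = _ := by group
      rw [h2]
      have h4 : x3 f * f 0 (2 * kap m j) (kap m j) * (x1 f * f (2 * kap m i) 0 (-kap m i))⁻¹ ∈ Tor f :=
        (Tor f).mul_mem ((Tor f).mul_mem (h.f_mem_Tor goodx3)
          (h.f_mem_Tor (goodq2 _))) ((Tor f).inv_mem ((Tor f).mul_mem (h.f_mem_Tor goodx1)
          (h.f_mem_Tor (goodq1 _))))
      obtain ⟨p, q, r, hg, e2⟩ := h.mem_Tor.1 h4
      rw [e2, h.ub_f hg, mul_assoc, h.ub_mul_ub, mul_one]
      exact h.f_mem_Tor hg.actub
    have h3 := h.even_of_mem_Tor h1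
    exact absurd h3.1 (by decide)

end BOne

end Cfsg.Agent.LFourB
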