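import Mathlib
import Cfsg.Agent.LFourB.ProdBOne
import Cfsg.Agent.LFourB.DihedralQuot
import Cfsg.Agent.LFourB.Cent

/-!
# The quaternion groups `Q1`, `Q2` in a 2-group of type `PSL 4 q`, `q = 1 mod 8`: action of `S`, centraliser
-/

set_option autoImplicit false

namespace Cfsg.Agent.LFourB

open QuaternionGroup Cfsg.Agent.SylowSp4.Coord Cfsg.Agent.SylowSp4.Closed

variable {G : Type*} [Group G] {m : ℕ} {f : R m → R m → R m → G} {u w : G}

namespace BOne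

variable {S : Subgroup G}

theorem qone_inv (h : BOne S m f u w) (x : Q (m + 2)) : qone f u x⁻¹ = (qone f u x)⁻¹ := by
  apply eq_inv_of_mul_eq_one_left
  rw [← h.qone_mul, inv_mul_cancel, h.qone_one]

theorem qtwo_inv (h : BOne S m f u w) (x : Q (m + 2)) : qtwo f u w x⁻¹ = (qtwo f u w x)⁻¹ := by
  rw [qtwo, qtwo, h.qone_inv]
  group

theorem mem_Qone (h : BOne S m f u w) {g : G} : g ∈ Qone f u ↔ ∃ x, g = qone f u x := by
  constructor
  · intro hg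
    induction hg using Subgroup.closure_induction with
    | mem x hx =>
      rcases hx with ⟨c, rfl⟩ | hx
      · refine ⟨a ((kap m).symm c), ?_⟩
        change _ = f (2 * kap m ((kap m).symm c)) 0 (-kap m ((kap m).symm c))
        rw [RingEquiv.apply_symm_apply]
      · rw [Set.mem_singleton_iff.mp hx]
        refine ⟨xa 0, ?_⟩
        change _ = u * x1 f * f (2 * kap m 0) 0 (-kap m 0)
        rw [map_zero, mul_zero, neg_zero, h.f_zero, mul_one]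
    | one => exact ⟨1, h.qone_one.symm⟩
    | mul x y _ _ hx hy =>
      obtain ⟨a, rfl⟩ := hx
      obtain ⟨b, rfl⟩ := hy
      exact ⟨a * b, (h.qone_mul a b).symm⟩
    | inv x _ hx =>
      obtain ⟨a, rfl⟩ := hx
      exact ⟨a⁻¹, (h.qone_inv a).symm⟩
  · rintro ⟨x, rfl⟩
    rcases x with i | i
    · exact Subgroup.subset_closure (Or.inl ⟨kap m i, rfl⟩)
    · exact (Qone f u).mul_mem (Subgroup.subset_closure (Or.inr rfl)) (Subgroup.subset_closure (Or.inl ⟨kap m i, rfl⟩))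

theorem mem_Qtwo (h : BOne S m f u w) {g : G} : g ∈ Qtwo f u w ↔ ∃ x, g = qtwo f u w x := by
  constructor
  · intro hg
    induction hg using Subgroup.closure_induction with
    | mem x hx =>
      rcases hx with ⟨c, rfl⟩ | hx
      · refine ⟨a ((kap m).symm c), ?_⟩
        rw [h.qtwo_a, RingEquiv.apply_symm_apply]
      · rw [Set.mem_singleton_iff.mp hx]
        refine ⟨xa 0, ?_⟩
        rw [h.qtwo_xa, map_zero, mul_zero, h.f_zero, mul_one]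
    | one => exact ⟨1, h.qtwo_one.symm⟩
    | mul x y _ _ hx hy =>
      obtain ⟨a, rfl⟩ := hx
      obtain ⟨b, rfl⟩ := hy
      exact ⟨a * b, (h.qtwo_mul a b).symm⟩
    | inv x _ hx =>
      obtain ⟨a, rfl⟩ := hx
      exact ⟨a⁻¹, (h.qtwo_inv a).symm⟩
  · rintro ⟨x, rfl⟩
    rcases x with i | i
    · rw [h.qtwo_a]
      exact Subgroup.subset_closure (Or.inl ⟨kap m i, rfl⟩)
    · rw [h.qtwo_xa]
      exact (Qtwo f u w).mul_mem (Subgroup.subset_closure (Or.inr rfl))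
        (Subgroup.subset_closure (Or.inl ⟨kap m i, rfl⟩))

theorem mem_QQ (h : BOne S m f u w) {g : G} : g ∈ Qone f u ⊔ Qtwo f u w ↔ ∃ x y, g = qq f u w x y := by
  constructor
  · intro hg
    let φ : Q (m + 2) × Q (m + 2) →* G :=
      { toFun := fun x => qq f u w x.1 x.2
        map_one' := by
          change qq f u w 1 1 = 1
          rw [h.qq_one_right, h.qone_one]
        map_mul' := fun x y => (h.qq_mul _ _ _ _).symm }
    have h1 : Qone f u ⊔ Qtwo f u w ≤ φ.range := by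
      apply sup_le
      · intro x hx
        obtain ⟨y, rfl⟩ := h.mem_Qone.1 hx
        exact ⟨(y, 1), h.qq_one_right y⟩
      · intro x hx
        obtain ⟨y, rfl⟩ := h.mem_Qtwo.1 hx
        exact ⟨(1, y), h.qq_one_left y⟩
    obtain ⟨x, hx⟩ := h1 hg
    exact ⟨x.1, x.2, hx.symm⟩
  · rintro ⟨x, y, rfl⟩
    exact Subgroup.mul_mem _ (Subgroup.mem_sup_left (h.mem_Qone.2 ⟨x, rfl⟩))
      (Subgroup.mem_sup_right (h.mem_Qtwo.2 ⟨y, rfl⟩))

/-- `Q1 Q2` is a central product of two quaternion groups. -/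
theorem tqq (h : BOne S m f u w) : TQQ (Qone f u ⊔ Qtwo f u w) (m + 2) (qq f u w) where
  hk := by omega
  f_mul := h.qq_mul
  f_zz := by rw [qq, h.qone_z, h.qtwo_z, h.z1_mul_z1]
  f_inj a b c d e := by
    have e1 : qone f u (c⁻¹ * a) = qtwo f u w (d * b⁻¹) := by
      rw [h.qone_mul, h.qtwo_mul, h.qone_inv, h.qtwo_inv]
      rw [qq, qq] at e
      calc (qone f u c)⁻¹ * qone f u a
          = (qone f u c)⁻¹ * (qone f u a * qtwo f u w b) * (qtwo f u w b)⁻¹ := by group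
        _ = qtwo f u w d * (qtwo f u w b)⁻¹ := by rw [e]; group
    rcases h.qone_eq_qtwo e1 with ⟨h1, h2⟩ | ⟨h1, h2⟩
    · left
      exact ⟨(inv_mul_eq_one.1 h1).symm, (mul_inv_eq_one.1 h2).symm⟩
    · right
      constructor
      · rw [z_comm, ← h1, mul_inv_cancel_left]
      · have h3 : d = z (m + 2) * b := by rw [← h2, inv_mul_cancel_right]
        rw [h3, zz_mul]
  mem_iff _ := h.mem_QQ

theorem tqq_Q1 (h : BOne S m f u w) : h.tqq.Q1 = Qone f u := by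
  ext g
  rw [TQQ.mem_Q1, h.mem_Qone]
  constructor
  · rintro ⟨x, rfl⟩
    exact ⟨x, h.qq_one_right x⟩
  · rintro ⟨x, rfl⟩
    exact ⟨x, (h.qq_one_right x).symm⟩

theorem tqq_Q2 (h : BOne S m f u w) : h.tqq.Q2 = Qtwo f u w := by
  ext g
  rw [TQQ.mem_Q2, h.mem_Qtwo]
  constructor
  · rintro ⟨x, rfl⟩
    exact ⟨x, h.qq_one_left x⟩
  · rintro ⟨x, rfl⟩
    exact ⟨x, (h.qq_one_left x).symm⟩

/-! ### The action of `S` -/

/-- the conjugates of the generators decide -/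
theorem conj_le {A B : Subgroup G} {T : Set G} (hA : A = Subgroup.closure T) {g : G}
    (hg : ∀ x ∈ T, g * x * g⁻¹ ∈ B) : ∀ x ∈ A, g * x * g⁻¹ ∈ B := by
  have h1 : A ≤ B.comap (MulAut.conj g).toMonoidHom := by
    rw [hA, Subgroup.closure_le]
    intro x hx
    exact hg x hx
  exact fun x hx => h1 hx

theorem w_Qone (h : BOne S m f u w) : ∀ x ∈ Qone f u, w * x * w⁻¹ ∈ Qtwo f u w := by
  intro x hx
  obtain ⟨y, rfl⟩ := h.mem_Qone.1 hx
  exact h.mem_Qtwo.2 ⟨y, rfl⟩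

theorem w_Qtwo (h : BOne S m f u w) : ∀ x ∈ Qtwo f u w, w * x * w⁻¹ ∈ Qone f u := by
  intro x hx
  obtain ⟨y, rfl⟩ := h.mem_Qtwo.1 hx
  refine h.mem_Qone.2 ⟨y, ?_⟩
  rw [qtwo]
  have e : w * (w * qone f u y * w⁻¹) * w⁻¹ = w * w * qone f u y * (w * w)⁻¹ := by group
  rw [e, h.w_w]
  group

theorem gen1 (_h : BOne S m f u w) (c : R m) : f (2 * c) 0 (-c) ∈ Qone f u := Subgroup.subset_closure (Or.inl ⟨c, rfl⟩)

theorem gen2 (_h : BOne S m f u w) : u * x1 f ∈ Qone f u := Subgroup.subset_closure (Or.inr rfl)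

/-- The torus normalises `Q1`. -/
theorem tor_Qone (h : BOne S m f u w) {t : G} (ht : t ∈ Tor f) : ∀ x ∈ Qone f u, t * x * t⁻¹ ∈ Qone f u := by
  obtain ⟨p, q, r, hg, rfl⟩ := h.mem_Tor.1 ht
  apply conj_le rfl
  rintro x (⟨c, rfl⟩ | hx)
  · rw [h.f_comm hg (goodq1 c), mul_inv_cancel_right]
    exact h.gen1 c
  · rw [Set.mem_singleton_iff.mp hx]
    have e1 : f p q r * u = u * f (-p) q (r + p) := by
      have h1 := h.u_f (-p) q (r + p) hg.actu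
      have h2 : u * f (-p) q (r + p) = f p q r * u := by
        rw [h1]
        congr 2 <;> ring
      exact h2.symm
    have e2 : f p q r * (u * x1 f) * (f p q r)⁻¹ = u * x1 f * f (2 * (-p)) 0 (-(-p)) := by
      calc f p q r * (u * x1 f) * (f p q r)⁻¹ = f p q r * u * x1 f * (f p q r)⁻¹ := by group
        _ = u * f (-p) q (r + p) * x1 f * f (-p) (-q) (-r) := by rw [e1, h.f_inv hg]
        _ = u * (x1 f * f (-p) q (r + p)) * f (-p) (-q) (-r) := by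
          rw [x1, mul_assoc u, h.f_comm hg.actu goodx1]
        _ = u * x1 f * (f (-p) q (r + p) * f (-p) (-q) (-r)) := by group
        _ = u * x1 f * f (2 * (-p)) 0 (-(-p)) := by
          rw [h.f_mul _ _ _ _ _ _ hg.actu hg.neg]
          congr 2 <;> ring
    rw [e2]
    exact (Qone f u).mul_mem h.gen2 (h.gen1 _)

theorem u_Qone (h : BOne S m f u w) : ∀ x ∈ Qone f u, u * x * u⁻¹ ∈ Qone f u := by
  intro x hx
  have h1 : u = u * x1 f * (x1 f)⁻¹ := by group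
  have hx1 : (x1 f)⁻¹ ∈ Tor f := (Tor f).inv_mem (h.f_mem_Tor goodx1)
  have e : u * x * u⁻¹ = u * x1 f * ((x1 f)⁻¹ * x * (x1 f)⁻¹⁻¹) * (u * x1 f)⁻¹ := by group
  rw [e]
  exact (Qone f u).mul_mem ((Qone f u).mul_mem h.gen2 (h.tor_Qone hx1 x hx)) ((Qone f u).inv_mem h.gen2)

theorem tor_Qtwo (h : BOne S m f u w) {t : G} (ht : t ∈ Tor f) : ∀ x ∈ Qtwo f u w, t * x * t⁻¹ ∈ Qtwo f u w := by
  intro x hx
  have h1 := h.w_Qtwo x hx
  have h2 : w⁻¹ * t * w ∈ Tor f := by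
    obtain ⟨p, q, r, hg, rfl⟩ := h.mem_Tor.1 ht
    have e : w⁻¹ * f p q r * w = w * f p q r * w⁻¹ := by rw [h.w_inv]
    rw [e, h.w_f _ _ _ hg, mul_inv_cancel_right]
    exact h.f_mem_Tor hg.actw
  have h3 := h.w_Qone _ (h.tor_Qone h2 _ h1)
  have e : w * (w⁻¹ * t * w * (w * x * w⁻¹) * (w⁻¹ * t * w)⁻¹) * w⁻¹ = t * (w * w * x * (w * w)⁻¹) * t⁻¹ := by group
  rw [e, h.w_w] at h3
  simpa using h3

theorem u_Qtwo (h : BOne S m f u w) : ∀ x ∈ Qtwo f u w, u * x * u⁻¹ ∈ Qtwo f u w := by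
  intro x hx
  have h1 : u = u * x1 f * (x1 f)⁻¹ := by group
  have hx1 : (x1 f)⁻¹ ∈ Tor f := (Tor f).inv_mem (h.f_mem_Tor goodx1)
  have h2 := h.tor_Qtwo hx1 x hx
  obtain ⟨y, hy⟩ := h.mem_Qtwo.1 h2
  obtain ⟨c, hc⟩ := h.mem_Qone.1 h.gen2
  have e : u * x * u⁻¹ = u * x1 f * ((x1 f)⁻¹ * x * (x1 f)⁻¹⁻¹) * (u * x1 f)⁻¹ := by group
  rw [e, hy, hc, h.q_comm, mul_inv_cancel_right]
  exact h.mem_Qtwo.2 ⟨y, rfl⟩

theorem ub_Qone (h : BOne S m f u w) : ∀ x ∈ Qone f u, ub u w * x * (ub u w)⁻¹ ∈ Qone f u := by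
  intro x hx
  have h1 := h.w_Qtwo _ (h.u_Qtwo _ (h.w_Qone x hx))
  have e : w * (u * (w * x * w⁻¹) * u⁻¹) * w⁻¹ = ub u w * x * (ub u w)⁻¹ := by
    rw [ub]
    have e1 : (w * u * w)⁻¹ = w⁻¹ * u⁻¹ * w⁻¹ := by group
    rw [e1]
    group
  rwa [e] at h1

theorem ub_Qtwo (h : BOne S m f u w) : ∀ x ∈ Qtwo f u w, ub u w * x * (ub u w)⁻¹ ∈ Qtwo f u w := by
  intro x hx
  have h1 := h.w_Qone _ (h.u_Qone _ (h.w_Qtwo x hx))
  have e : w * (u * (w * x * w⁻¹) * u⁻¹) * w⁻¹ = ub u w * x * (ub u w)⁻¹ := by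
    rw [ub]
    have e1 : (w * u * w)⁻¹ = w⁻¹ * u⁻¹ * w⁻¹ := by group
    rw [e1]
    group
  rwa [e] at h1

theorem conj_mul_mem {A B C : Subgroup G} {g g' : G} (h1 : ∀ x ∈ A, g' * x * g'⁻¹ ∈ B)
    (h2 : ∀ x ∈ B, g * x * g⁻¹ ∈ C) : ∀ x ∈ A, g * g' * x * (g * g')⁻¹ ∈ C := by
  intro x hx
  have e : g * g' * x * (g * g')⁻¹ = g * (g' * x * g'⁻¹) * g⁻¹ := by group
  rw [e]
  exact h2 _ (h1 x hx)

/-- `T V'` normalises both factors. -/
theorem TVp_conj (h : BOne S m f u w) {t : G} (ht : t ∈ TVp f u w) :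
    (∀ x ∈ Qone f u, t * x * t⁻¹ ∈ Qone f u) ∧ ∀ x ∈ Qtwo f u w, t * x * t⁻¹ ∈ Qtwo f u w := by
  obtain ⟨v, p, q, r, c, hc, i, j, rfl, -⟩ := h.mem_TVp.mp ht
  have hf : f p q r ∈ Tor f := h.f_mem_Tor ⟨c, hc⟩
  have hpow : ∀ (A : Subgroup G) (g : G), (∀ x ∈ A, g * x * g⁻¹ ∈ A) → ∀ n : ℕ, ∀ x ∈ A, g ^ n * x * (g ^ n)⁻¹ ∈ A := by
    intro A g hg n
    induction n with
    | zero => intro x hx; simpa using hx
    | succ n ih =>
      rw [pow_succ]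
      exact conj_mul_mem hg ih
  refine ⟨?_, ?_⟩
  · exact conj_mul_mem (conj_mul_mem (hpow _ _ h.ub_Qone j) (hpow _ _ h.u_Qone i)) (h.tor_Qone hf)
  · exact conj_mul_mem (conj_mul_mem (hpow _ _ h.ub_Qtwo j) (hpow _ _ h.u_Qtwo i)) (h.tor_Qtwo hf)

/-- `S` permutes the two factors. -/
theorem S_conj (h : BOne S m f u w) {s : G} (hs : s ∈ S) :
    ((∀ x ∈ Qone f u, s * x * s⁻¹ ∈ Qone f u) ∧ ∀ x ∈ Qtwo f u w, s * x * s⁻¹ ∈ Qtwo f u w) ∨
    ((∀ x ∈ Qone f u, s * x * s⁻¹ ∈ Qtwo f u w) ∧ ∀ x ∈ Qtwo f u w, s * x * s⁻¹ ∈ Qone f u) := by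
  rcases h.mem_S_cases hs with h1 | ⟨b, hb, rfl⟩
  · exact Or.inl (h.TVp_conj h1)
  · right
    exact ⟨conj_mul_mem h.w_Qone (h.TVp_conj hb).2, conj_mul_mem h.w_Qtwo (h.TVp_conj hb).1⟩

end BOne

end Cfsg.Agent.LFourB
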