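import Mathlib
import Cfsg.Agent.LFourB.ProdBOneTwo

/-!
# `C(z1)` modulo its odd core in type `PSL 4 q`, `q = 1 mod 8`

If `O^2(C(z1)) ∩ S = Q1 Q2`, then `C(z1) / O(C(z1))` has two commuting perfect subgroups `K1`, `K2` swapped by `w`, both
isomorphic to `SL(2,F)` or (only for `m = 0`) both coverings of `A7`.
-/

set_option autoImplicit false

namespace Cfsg.Agent.LFourB

open QuaternionGroup Subgroup Cfsg.Agent.SylowSp4 Cfsg.Agent.SylowSp4.Coord Cfsg.Agent.SylowSp4.Closed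
open Cfsg.Agent.LFourB.ProdCent Cfsg.Agent.LFourA.Quot Cfsg.Agent.LFourA.CzCt

universe v

section

variable {G : Type*} [Group G] {m : ℕ} {f : R m → R m → R m → G} {u w : G}

namespace BOne

variable {S : Subgroup G}

theorem z1_comm (h : BOne S m f u w) {s : G} (hs : s ∈ S) : s * z1 f = z1 f * s := by
  obtain ⟨p, q, r, hg, d, hd, rfl⟩ := h.mem_S.mp hs
  have hu : u * z1 f = z1 f * u := by
    rw [z1, h.u_f _ _ _ good1, neg_zero, add_zero]
  have hw : w * z1 f = z1 f * w := by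
    rw [z1, h.w_f _ _ _ good1, neg_N]
  have hub : ub u w * z1 f = z1 f * ub u w := by
    rw [z1, h.ub_f good1, neg_zero, sub_zero]
  have hf : f p q r * z1 f = z1 f * f p q r := by rw [z1, h.f_comm hg good1]
  have hsg : sg u w * z1 f = z1 f * sg u w := by
    rw [sg, mul_assoc, hub, ← mul_assoc, hu, mul_assoc]
  have key : d * z1 f = z1 f * d := by
    rcases hd with rfl | rfl | rfl | rfl | rfl | rfl | rfl | rfl
    · rw [mul_one, one_mul]
    · exact hu
    · exact hub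
    · exact hsg
    · exact hw
    · rw [mul_assoc, hw, ← mul_assoc, hu, mul_assoc]
    · rw [mul_assoc, hw, ← mul_assoc, hub, mul_assoc]
    · change sg u w * w * z1 f = z1 f * (sg u w * w)
      rw [mul_assoc, hw, ← mul_assoc, hsg, mul_assoc]
  rw [mul_assoc, key, ← mul_assoc, hf, mul_assoc]

theorem four_ne (_h : BOne S m f u w) : (2 : R m) ≠ 2 * (-1) := by
  intro e
  have h1 : ((4 : ℕ) : R m) = 0 := by
    push_cast
    linear_combination e
  rw [ZMod.natCast_eq_zero_iff] at h1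
  have h2 := Nat.le_of_dvd (by norm_num) h1
  have h3 : 2 ^ 3 ≤ 2 ^ (m + 3) := Nat.pow_le_pow_right (by norm_num) (by omega)
  omega

theorem two_ne (_h : BOne S m f u w) : (2 : R m) ≠ 0 := by
  intro e
  have h1 : ((2 : ℕ) : R m) = 0 := by exact_mod_cast e
  rw [ZMod.natCast_eq_zero_iff] at h1
  have h2 := Nat.le_of_dvd (by norm_num) h1
  have h3 : 2 ^ 3 ≤ 2 ^ (m + 3) := Nat.pow_le_pow_right (by norm_num) (by omega)
  omega

/-- `C_S(Q1 Q2)` is cyclic. -/
theorem cent_QQ (h : BOne S m f u w) {s : G} (hs : s ∈ S) (h1 : ∀ x ∈ Qone f u, s * x = x * s)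
    (h2 : ∀ x ∈ Qtwo f u w, s * x = x * s) : ∃ c : R m, s = f 0 0 (2 * c) := by
  obtain ⟨p, q, r, hg, d, hd, rfl⟩ := h.mem_S.mp hs
  have g1 : Good (2 : R m) 0 (-1) := ⟨0, by ring⟩
  have g2 : Good (0 : R m) 2 1 := ⟨1, by ring⟩
  have e1 : f p q r * d * f 2 0 (-1) = f 2 0 (-1) * (f p q r * d) := by
    have := h1 (f (2 * 1) 0 (-1)) (h.gen1 1)
    rwa [mul_one] at this
  have e2 : f p q r * d * f 0 2 1 = f 0 2 1 * (f p q r * d) := by
    have := h2 (f 0 (2 * 1) 1) (Subgroup.subset_closure (Or.inl ⟨1, rfl⟩))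
    rwa [mul_one] at this
  have e1' : d * f 2 0 (-1) = f 2 0 (-1) * d := by
    rw [mul_assoc] at e1
    rw [← mul_assoc (f 2 0 (-1)), h.f_comm g1 hg, mul_assoc] at e1
    exact mul_left_cancel e1
  have e2' : d * f 0 2 1 = f 0 2 1 * d := by
    rw [mul_assoc] at e2
    rw [← mul_assoc (f 0 2 1), h.f_comm g2 hg, mul_assoc] at e2
    exact mul_left_cancel e2
  have hd1 : d = 1 := by
    rcases hd with rfl | rfl | rfl | rfl | rfl | rfl | rfl | rfl
    · rfl
    · exfalso
      rw [h.u_f _ _ _ g1] at e1'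
      have e3 := (h.f_eq_iff g1.actu g1).1 (mul_right_cancel e1')
      apply h.four_ne
      linear_combination -e3.1
    · exfalso
      rw [h.ub_f g2] at e2'
      have e3 := (h.f_eq_iff g2.actub g2).1 (mul_right_cancel e2')
      apply h.four_ne
      linear_combination -e3.2.1
    · exfalso
      rw [h.sg_f g1] at e1'
      have g3 : Good (-2 : R m) (-0) (-1 + 2 - 0) := ⟨0, by ring⟩
      have e3 := (h.f_eq_iff g3 g1).1 (mul_right_cancel e1')
      apply h.four_ne
      linear_combination -e3.1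
    · exfalso
      rw [h.w_f _ _ _ g1] at e1'
      have e3 := (h.f_eq_iff g1.actw g1).1 (mul_right_cancel e1')
      exact h.two_ne e3.2.1
    · exfalso
      rw [mul_assoc, h.w_f _ _ _ g1, ← mul_assoc, h.u_f _ _ _ g1.actw, mul_assoc] at e1'
      have e3 := (h.f_eq_iff g1.actw.actu g1).1 (mul_right_cancel e1')
      exact h.two_ne e3.2.1
    · exfalso
      rw [mul_assoc, h.w_f _ _ _ g1, ← mul_assoc, h.ub_f g1.actw, mul_assoc] at e1'
      have e3 := (h.f_eq_iff g1.actw.actub g1).1 (mul_right_cancel e1')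
      apply h.two_ne
      rw [← neg_eq_zero]
      exact e3.2.1
    · exfalso
      rw [h.sgw_f g1] at e1'
      have g3 : Good (-0 : R m) (-2) (-(-1) + 0 - 2) := ⟨-1, by ring⟩
      have e3 := (h.f_eq_iff g3 g1).1 (mul_right_cancel e1')
      apply h.two_ne
      rw [← neg_eq_zero]
      exact e3.2.1
  subst hd1
  rw [mul_one] at h1 h2 ⊢
  have hp : p = 0 := by
    rw [← h.f_u_comm_iff hg]
    have e3 := h1 _ h.gen2
    have e4 : x1 f * f p q r = f p q r * x1 f := by rw [x1, h.f_comm goodx1 hg]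
    have e5 : f p q r * u * x1 f = u * f p q r * x1 f := by
      calc f p q r * u * x1 f = f p q r * (u * x1 f) := by group
        _ = u * (x1 f * f p q r) := by rw [e3]; group
        _ = u * f p q r * x1 f := by rw [e4]; group
    exact mul_right_cancel e5
  have hq : q = 0 := by
    rw [← h.f_ub_comm_iff hg]
    have e3 := h2 _ (Subgroup.subset_closure (Or.inr rfl))
    have e4 : x3 f * f p q r = f p q r * x3 f := by rw [x3, h.f_comm goodx3 hg]
    have e5 : f p q r * ub u w * x3 f = ub u w * f p q r * x3 f := by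
      calc f p q r * ub u w * x3 f = f p q r * (ub u w * x3 f) := by group
        _ = ub u w * (x3 f * f p q r) := by rw [e3]; group
        _ = ub u w * f p q r * x3 f := by rw [e4]; group
    exact mul_right_cancel e5
  subst hp hq
  obtain ⟨c, hc⟩ := hg
  have h3 : 2 * (r - 2 * c) = 0 := by linear_combination hc
  rcases eq_of_two_mul h3 with h4 | h4
  · exact ⟨c, by rw [sub_eq_zero.1 h4]⟩
  · refine ⟨c + M m, ?_⟩
    congr 1
    rw [mul_add, two_mul_M]
    linear_combination h4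

end BOne

end

variable {G : Type v} [Group G] [Finite G] {m : ℕ} {f : R m → R m → R m → G} {u w : G}

namespace BOne

theorem S_le_centralizer {S : Subgroup G} (h : BOne S m f u w) : S ≤ centralizer ({z1 f} : Set G) := by
  intro s hs
  rw [mem_centralizer_singleton_iff]
  exact h.z1_comm hs

/-- The hypotheses of `ProdCent`. -/
theorem hypG (S : Sylow 2 G) (h : BOne (S : Subgroup G) m f u w)
    (hR : (Cfsg.pResidual 2 (centralizer ({z1 f} : Set G))).map (centralizer ({z1 f} : Set G)).subtype ⊓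
      (S : Subgroup G) = Qone f u ⊔ Qtwo f u w) :
    HypG S (z1 f) (m + 2) (qq f u w) (Qone f u ⊔ Qtwo f u w) where
  T := h.tqq
  c_eq := by rw [h.qq_one_right, h.qone_z]
  le := h.S_le_centralizer
  R_eq := hR
  k2 := by omega
  perm s hs := by
    rw [h.tqq_Q1, h.tqq_Q2]
    exact h.S_conj hs

/-- **(C) + (D) + (E)**: the two factors of `C(z1) / O(C(z1))`. -/
theorem exists_factors (S : Sylow 2 G) (h : BOne (S : Subgroup G) m f u w)
    (hR : (Cfsg.pResidual 2 (centralizer ({z1 f} : Set G))).map (centralizer ({z1 f} : Set G)).subtype ⊓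
      (S : Subgroup G) = Qone f u ⊔ Qtwo f u w)
    (hPT : Hyps.ProductThm.{v}) (hGW : Hyps.GW.{v}) :
    ∃ K₁ K₂ : Subgroup (centralizer ({z1 f} : Set G) ⧸ Cfsg.oddCore (centralizer ({z1 f} : Set G))),
      (∃ (F : Type) (_ : Field F) (_ : Fintype F), Odd (Fintype.card F) ∧
        CZPL (z1 f) F (Cfsg.Agent.LFourA.Quot.pr (centralizer ({z1 f} : Set G))) K₁ K₂ (S : Subgroup G) (Qone f u) (Qtwo f u w)) ∨
      (m = 0 ∧ CZPA (z1 f) (Cfsg.Agent.LFourA.Quot.pr (centralizer ({z1 f} : Set G))) K₁ K₂ (S : Subgroup G) (Qone f u) (Qtwo f u w)) := by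
  have h1 := ProdCent.typ (h.hypG S hR) hPT hGW ⟨w, h.w_mem, by
    rw [h.tqq_Q1, h.tqq_Q2]
    exact ⟨h.w_Qone, h.w_Qtwo⟩⟩
  refine ⟨ProdCent.K1 (h.hypG S hR), ProdCent.K2 (h.hypG S hR), ?_⟩
  have e1 : (h.hypG S hR).T.Q1 = Qone f u := h.tqq_Q1
  have e2 : (h.hypG S hR).T.Q2 = Qtwo f u w := h.tqq_Q2
  rw [e1, e2] at h1
  rcases h1 with h1 | ⟨h1, h2⟩
  · exact Or.inl h1
  · exact Or.inr ⟨by omega, h2⟩

/-- Elements of `X` centralising both factors come from the cyclic group of the `f 0 0 (2 * c)`. -/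
theorem cent_cyclic (S : Sylow 2 G) (h : BOne (S : Subgroup G) m f u w) {X : Type*} [Group X]
    {p : ↥(centralizer ({z1 f} : Set G)) →* X} {K₁ K₂ : Subgroup X}
    (hcz : CZP (z1 f) p K₁ K₂ (S : Subgroup G) (Qone f u) (Qtwo f u w)) {g : X}
    (h1 : ∀ x ∈ K₁, g * x = x * g) (h2 : ∀ x ∈ K₂, g * x = x * g) :
    ∃ c : R m, ∃ hc : f 0 0 (2 * c) ∈ centralizer ({z1 f} : Set G), g = p ⟨f 0 0 (2 * c), hc⟩ := by
  obtain ⟨s, hs, h3, h4, rfl⟩ := hcz.cent g h1 h2
  obtain ⟨c, hc⟩ := h.cent_QQ hs h3 h4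
  refine ⟨c, by rw [← hc]; exact s.2, ?_⟩
  congr 1
  exact Subtype.ext hc

/-- An involution centralising both factors is `z1`. -/
theorem eq_of_cent_sq (S : Sylow 2 G) (h : BOne (S : Subgroup G) m f u w) {X : Type*} [Group X]
    {p : ↥(centralizer ({z1 f} : Set G)) →* X} {K₁ K₂ : Subgroup X}
    (hcz : CZP (z1 f) p K₁ K₂ (S : Subgroup G) (Qone f u) (Qtwo f u w)) {g : X}
    (h1 : ∀ x ∈ K₁, g * x = x * g) (h2 : ∀ x ∈ K₂, g * x = x * g) (hg : g * g = 1) :
    g = 1 ∨ g = p (self (z1 f)) := by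
  obtain ⟨c, hc, rfl⟩ := h.cent_cyclic S hcz h1 h2
  have gc : Good (0 : R m) 0 (2 * c) := ⟨c, by ring⟩
  rw [← map_mul] at hg
  -- the kernel of `p` meets `S` trivially
  have h3 := (hcz.ker _).1 hg
  have h4 : f 0 0 (2 * c) * f 0 0 (2 * c) ∈ (S : Subgroup G) := mul_mem (h.f_mem_S gc) (h.f_mem_S gc)
  have h5 : f 0 0 (2 * c) * f 0 0 (2 * c) = 1 := by
    obtain ⟨y, hy, e⟩ := h3
    have hy' : (y : G) = f 0 0 (2 * c) * f 0 0 (2 * c) := e
    have h6 : Cfsg.Agent.LFourA.Quot.pr (centralizer ({z1 f} : Set G)) y = 1 := pr_eq_one.2 hy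
    have h7 := Cfsg.Agent.LFourA.Quot.eq_one_of_mem (S.subtype h.S_le_centralizer) (x := y)
      (by
        change (y : G) ∈ (S : Subgroup G)
        rw [hy']
        exact h4) h6
    rw [← hy', h7]
    rfl
  rw [h.f_mul _ _ _ _ _ _ gc gc, h.f_eq_one_iff (gc.add gc)] at h5
  have h6 : 2 * (2 * c) = 0 := by
    have := h5.2.2
    linear_combination this
  rcases eq_of_two_mul h6 with h7 | h7
  · left
    have : (⟨f 0 0 (2 * c), hc⟩ : centralizer ({z1 f} : Set G)) = 1 := by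
      apply Subtype.ext
      change f 0 0 (2 * c) = 1
      rw [h7, h.f_zero]
    rw [this, map_one]
  · right
    congr 1
    apply Subtype.ext
    change f 0 0 (2 * c) = z1 f
    rw [h7, z1]

end BOne

end Cfsg.Agent.LFourB
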