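import Mathlib
import Cfsg.Agent.LFourB.ProdBOneMain
import Cfsg.Agent.LFourB.FixQuat
import Cfsg.Agent.LFourA.KlQuot
import Cfsg.Agent.Lib.SylowNormalInf

/-!
# The factors of `C(z1)` and the involution `x4` (S0510, case B1)

`x4 = f 0 0 M * h2` where `f 0 0 M` centralises both factors `K₁`, `K₂` of `C(z1)` modulo its odd core, and `h2 ∈ Q₂`. So
`x4` centralises `K₁`, and `C(z1) ∩ C(x4)` normalises `K₁` and covers it.
-/

set_option autoImplicit false
set_option linter.unusedSectionVars false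

namespace Cfsg.Agent.LFourB.CentXCz

open Subgroup Cfsg.Agent.LFourB Cfsg.Agent.LFourB.ProdCent
open Cfsg.Agent.LFourB.BOne (good1 goodh1 goodh2 goodq1 goodq2 goodx1 goodx3 goodx4)
open Cfsg.Agent.LFourA.CzCt Cfsg.Agent.LFourA.KlQuot

universe v

/-! ### Sylow subgroups of subnormal subgroups -/

theorem not_dvd_relIndex {X : Type*} [Group X] [Finite X] (T : Sylow 2 X) {X0 K : Subgroup X} (hn0 : X0.Normal)
    (hK : K ≤ X0) (hn : X0 ≤ normalizer (K : Set X)) : ¬ 2 ∣ (T : Subgroup X).relIndex K := by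
  have hfact : Fact (Nat.Prime 2) := ⟨Nat.prime_two⟩
  let T' : Sylow 2 X0 := (Lib.SylowNormalInf.isPGroup_subgroupOf T X0).toSylow (Lib.SylowNormalInf.not_dvd_relIndex T X0)
  have hn1 : (K.subgroupOf X0).Normal := (normal_subgroupOf_iff_le_normalizer hK).2 hn
  have h1 := Lib.SylowNormalInf.not_dvd_relIndex T' (K.subgroupOf X0)
  have h2 : ((T' : Subgroup X0)).relIndex (K.subgroupOf X0) = (T : Subgroup X).relIndex K := by
    change ((T : Subgroup X).subgroupOf X0).relIndex (K.subgroupOf X0) = _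
    rw [relIndex_subgroupOf hK]
  rwa [h2] at h1

section czp

variable {G : Type v} [Group G] [Finite G] {X : Type*} [Group X] {z : G} {p : ↥(centralizer ({z} : Set G)) →* X}
  {K₁ K₂ : Subgroup X} {S Q₁ Q₂ : Subgroup G}

theorem quo (hcz : CZP z p K₁ K₂ S Q₁ Q₂) : Quo z p := ⟨hcz.surj, hcz.ker⟩

theorem sup_normal (hcz : CZP z p K₁ K₂ S Q₁ Q₂) : (K₁ ⊔ K₂).Normal := by
  constructor
  intro x hx g
  have h1 : (K₁ ⊔ K₂).map (MulAut.conj g).toMonoidHom ≤ K₁ ⊔ K₂ := by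
    rw [Subgroup.map_sup, sup_le_iff, map_le_iff_le_comap, map_le_iff_le_comap]
    rcases hcz.norm g with ⟨h1, h2⟩ | ⟨h1, h2⟩
    · exact ⟨fun y hy => (le_sup_left : K₁ ≤ K₁ ⊔ K₂) (h1 y hy), fun y hy => (le_sup_right : K₂ ≤ K₁ ⊔ K₂) (h2 y hy)⟩
    · exact ⟨fun y hy => (le_sup_right : K₂ ≤ K₁ ⊔ K₂) (h1 y hy), fun y hy => (le_sup_left : K₁ ≤ K₁ ⊔ K₂) (h2 y hy)⟩
  exact h1 ⟨x, hx, rfl⟩

theorem sup_le_normalizer (hcz : CZP z p K₁ K₂ S Q₁ Q₂) :
    K₁ ⊔ K₂ ≤ normalizer (K₁ : Set X) ∧ K₁ ⊔ K₂ ≤ normalizer (K₂ : Set X) := by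
  refine ⟨sup_le le_normalizer fun x hx => ?_, sup_le (fun x hx => ?_) le_normalizer⟩
  · rw [mem_normalizer_iff]
    intro y
    constructor
    · intro hy
      rwa [← hcz.comm y hy x hx, mul_inv_cancel_right]
    · intro hy
      have h1 := hcz.comm _ hy x hx
      have h2 : x * y * x⁻¹ = y := by
        have : x * y = x * (x * y * x⁻¹) := by rw [← h1, inv_mul_cancel_right]
        exact (mul_left_cancel this).symm
      rwa [h2] at hy
  · rw [mem_normalizer_iff]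
    intro y
    constructor
    · intro hy
      rwa [hcz.comm x hx y hy, mul_inv_cancel_right]
    · intro hy
      have h1 := hcz.comm x hx _ hy
      have h2 : x * y * x⁻¹ = y := by
        have : x * y = x * (x * y * x⁻¹) := by rw [h1, inv_mul_cancel_right]
        exact (mul_left_cancel this).symm
      rwa [h2] at hy

/-- The intersection of the image of `S` with `K₁` is the image of `Q₁`. -/
theorem inf_eq (T : Sylow 2 ↥(centralizer ({z} : Set G))) {K : Subgroup X} {Q : Subgroup G}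
    (hT : ∀ x, x ∈ (T : Subgroup ↥(centralizer ({z} : Set G))) → (x : G) ∈ S)
    (hT' : ∀ x : ↥(centralizer ({z} : Set G)), (x : G) ∈ S → x ∈ (T : Subgroup ↥(centralizer ({z} : Set G))))
    (hq : Q ≤ up p K) (hs : ∀ s ∈ S, s ∈ up p K → s ∈ Q) (hQS : Q ≤ S) :
    (T : Subgroup ↥(centralizer ({z} : Set G))).map p ⊓ K = dn p Q := by
  ext y
  constructor
  · rintro ⟨⟨x, hx, rfl⟩, hy⟩
    exact mem_dn.2 ⟨x, x.2, hs x (hT x hx) (mem_up.2 ⟨x.2, hy⟩), rfl⟩
  · intro hy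
    obtain ⟨g, hg, hgQ, rfl⟩ := mem_dn.1 hy
    refine ⟨⟨⟨g, hg⟩, hT' ⟨g, hg⟩ (hQS hgQ), rfl⟩, ?_⟩
    exact (mem_up.1 (hq hgQ)).2

/-- The image of `Q₁` is a Sylow 2-subgroup of `K₁`. -/
theorem odd_relIndex (P : Sylow 2 G) (hPz : (P : Subgroup G) ≤ centralizer ({z} : Set G)) (hcz : CZP z p K₁ K₂ P Q₁ Q₂)
    (h1 : Q₁ ≤ P) (h2 : Q₂ ≤ P) :
    (IsPGroup 2 (dn p Q₁) ∧ Odd ((dn p Q₁).relIndex K₁)) ∧ (IsPGroup 2 (dn p Q₂) ∧ Odd ((dn p Q₂).relIndex K₂)) := by
  have hfact : Fact (Nat.Prime 2) := ⟨Nat.prime_two⟩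
  have : Finite X := Finite.of_surjective p hcz.surj
  have hn := sup_normal hcz
  obtain ⟨hn1, hn2⟩ := sup_le_normalizer hcz
  let T := Sylow.mapSurjective hcz.surj (P.subtype hPz)
  have hTc : (T : Subgroup X) = ((P.subtype hPz : Sylow 2 _) : Subgroup _).map p := Sylow.coe_mapSurjective _ _
  have e1 : (T : Subgroup X) ⊓ K₁ = dn p Q₁ := by
    rw [hTc]
    exact inf_eq (S := (P : Subgroup G)) (P.subtype hPz) (fun x hx => hx) (fun x hx => hx) hcz.q₁ hcz.s₁ h1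
  have e2 : (T : Subgroup X) ⊓ K₂ = dn p Q₂ := by
    rw [hTc]
    exact inf_eq (S := (P : Subgroup G)) (P.subtype hPz) (fun x hx => hx) (fun x hx => hx) hcz.q₂ hcz.s₂ h2
  refine ⟨⟨?_, ?_⟩, ⟨?_, ?_⟩⟩
  · rw [← e1]; exact T.isPGroup'.to_le inf_le_left
  · rw [← e1, inf_relIndex_right, ← Nat.not_even_iff_odd, even_iff_two_dvd]
    exact not_dvd_relIndex T hn le_sup_left hn1
  · rw [← e2]; exact T.isPGroup'.to_le inf_le_left
  · rw [← e2, inf_relIndex_right, ← Nat.not_even_iff_odd, even_iff_two_dvd]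
    exact not_dvd_relIndex T hn le_sup_right hn2

end czp

/-! ### The element `f 0 0 M` -/

section cz

variable {G : Type v} [Group G] {m : ℕ} {f : R m → R m → R m → G} {u w : G} {S : Subgroup G}

/-- The central element of order 4 of `Q₁Q₂C(Q₁Q₂)`. -/
def cz (f : R m → R m → R m → G) : G := f 0 0 (M m)

theorem goodcz : Good (0 : R m) 0 (M m) := by
  refine ⟨((2 ^ m : ℕ) : R m), ?_⟩
  rw [← N_eq, ← two_mul_M]
  ring

theorem cz_sq (h : BOne S m f u w) : cz f * cz f = z1 f := by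
  rw [cz, h.f_mul _ _ _ _ _ _ goodcz goodcz, add_zero, M_add_M, z1]

theorem x4_eq (h : BOne S m f u w) : x4 f = cz f * h2 f := by
  rw [cz, h2, h.f_mul _ _ _ _ _ _ goodcz goodh2, add_zero, zero_add, M_add_M, x4]

theorem h2_mem (_h : BOne S m f u w) : h2 f ∈ Qtwo f u w := by
  refine Subgroup.subset_closure (Or.inl ⟨M m, ?_⟩)
  rw [two_mul_M, h2]

theorem h1_mem (_h : BOne S m f u w) : h1 f ∈ Qone f u := by
  refine Subgroup.subset_closure (Or.inl ⟨M m, ?_⟩)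
  rw [two_mul_M, h1]

theorem h1_sq (h : BOne S m f u w) : h1 f * h1 f = z1 f := by
  rw [h1, h.f_mul _ _ _ _ _ _ goodh1 goodh1, add_zero, N_add_N, ← neg_add, M_add_M, neg_N, z1]

theorem h2_sq (h : BOne S m f u w) : h2 f * h2 f = z1 f := by
  rw [h2, h.f_mul _ _ _ _ _ _ goodh2 goodh2, add_zero, N_add_N, M_add_M, z1]

theorem z1_ne (h : BOne S m f u w) : z1 f ≠ 1 := by
  rw [z1, Ne, h.f_eq_one_iff good1]
  exact fun e => N_ne_zero e.2.2

theorem comm_Qone (h : BOne S m f u w) {q r : R m} (hg : Good 0 q r) :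
    ∀ x ∈ Qone f u, f 0 q r * x = x * f 0 q r := by
  intro x hx
  refine Subgroup.closure_induction (p := fun x _ => f 0 q r * x = x * f 0 q r) ?_ ?_ ?_ ?_ hx
  · rintro y (⟨a, rfl⟩ | hy)
    · exact h.f_comm hg (goodq1 a)
    · rw [Set.mem_singleton_iff] at hy
      subst hy
      have h1 := h.u_f _ _ _ hg
      rw [neg_zero, add_zero] at h1
      rw [← mul_assoc, ← h1, mul_assoc, x1, h.f_comm hg goodx1, ← mul_assoc]
  · rw [mul_one, one_mul]
  · intro a b _ _ ha hb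
    rw [← mul_assoc, ha, mul_assoc, hb, mul_assoc]
  · intro a _ ha
    exact (Commute.inv_right (show Commute _ _ from ha)).eq

theorem comm_Qtwo (h : BOne S m f u w) {p r : R m} (hg : Good p 0 r) :
    ∀ x ∈ Qtwo f u w, f p 0 r * x = x * f p 0 r := by
  intro x hx
  refine Subgroup.closure_induction (p := fun x _ => f p 0 r * x = x * f p 0 r) ?_ ?_ ?_ ?_ hx
  · rintro y (⟨a, rfl⟩ | hy)
    · exact h.f_comm hg (goodq2 a)
    · rw [Set.mem_singleton_iff] at hy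
      subst hy
      have h1 := h.ub_f hg
      rw [neg_zero, sub_zero] at h1
      rw [← mul_assoc, ← h1, mul_assoc, x3, h.f_comm hg goodx3, ← mul_assoc]
  · rw [mul_one, one_mul]
  · intro a b _ _ ha hb
    rw [← mul_assoc, ha, mul_assoc, hb, mul_assoc]
  · intro a _ ha
    exact (Commute.inv_right (show Commute _ _ from ha)).eq

theorem Qone_le (h : BOne S m f u w) : Qone f u ≤ S := by
  rw [Qone, closure_le]
  rintro _ (⟨a, rfl⟩ | hy)
  · exact h.f_mem_S (goodq1 a)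
  · rw [Set.mem_singleton_iff] at hy
    subst hy
    exact mul_mem h.u_mem (h.f_mem_S goodx1)

theorem Qtwo_le (h : BOne S m f u w) : Qtwo f u w ≤ S := by
  rw [Qtwo, closure_le]
  rintro _ (⟨a, rfl⟩ | hy)
  · exact h.f_mem_S (goodq2 a)
  · rw [Set.mem_singleton_iff] at hy
    subst hy
    exact mul_mem h.ub_mem (h.f_mem_S goodx3)

theorem card_Qone (h : BOne S m f u w) : Nat.card (Qone f u) = 2 ^ (m + 4) := by
  rw [← h.tqq_Q1, Cfsg.Agent.LFourB.ProdTqq.card_Q1 h.tqq]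

theorem x4_sq (h : BOne S m f u w) : x4 f * x4 f = 1 := by
  rw [x4, h.f_mul _ _ _ _ _ _ goodx4 goodx4, add_zero, N_add_N, h.f_zero]

end cz

/-! ### The action of `x4` -/

section main

variable {G : Type v} [Group G] [Finite G] {m : ℕ} {f : R m → R m → R m → G} {u w : G} {P : Sylow 2 G}
  {X : Type*} [Group X] {p : ↥(centralizer ({z1 f} : Set G)) →* X} {K₁ K₂ : Subgroup X}

/-- Elements with square `z` normalising `K` and centralising `Q` centralise `K`. -/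
def Fix (z : X) (K Q : Subgroup X) : Prop :=
  ∀ c : X, c * c = z → c ∈ normalizer (K : Set X) → (∀ x ∈ Q, c * x = x * c) → ∀ a ∈ K, c * a = a * c

/-- The image of an element of `S`. -/
def im (h : BOne (P : Subgroup G) m f u w) (p : ↥(centralizer ({z1 f} : Set G)) →* X) (s : G)
    (hs : s ∈ (P : Subgroup G)) : X := p ⟨s, h.S_le_centralizer hs⟩

theorem cz_mem (h : BOne (P : Subgroup G) m f u w) : cz f ∈ (P : Subgroup G) := h.f_mem_S goodcz
theorem x4_mem (h : BOne (P : Subgroup G) m f u w) : x4 f ∈ (P : Subgroup G) := h.f_mem_S goodx4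
theorem h1_memS (h : BOne (P : Subgroup G) m f u w) : h1 f ∈ (P : Subgroup G) := h.f_mem_S goodh1
theorem h2_memS (h : BOne (P : Subgroup G) m f u w) : h2 f ∈ (P : Subgroup G) := h.f_mem_S goodh2
theorem z1_mem (h : BOne (P : Subgroup G) m f u w) : z1 f ∈ (P : Subgroup G) := h.f_mem_S good1

theorem im_mul (h : BOne (P : Subgroup G) m f u w) {s t : G} (hs : s ∈ (P : Subgroup G)) (ht : t ∈ (P : Subgroup G)) :
    im h p s hs * im h p t ht = im h p (s * t) (mul_mem hs ht) := (map_mul p _ _).symm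

theorem im_congr (h : BOne (P : Subgroup G) m f u w) {s t : G} (hs : s ∈ (P : Subgroup G)) (e : s = t) :
    im h p s hs = im h p t (e ▸ hs) := by subst e; rfl

theorem im_z1 (h : BOne (P : Subgroup G) m f u w) : im h p (z1 f) (z1_mem h) = p (self (z1 f)) := rfl

variable (h : BOne (P : Subgroup G) m f u w) (hcz : CZP (z1 f) p K₁ K₂ P (Qone f u) (Qtwo f u w))

include h hcz

theorem pz_ne : p (self (z1 f)) ≠ 1 :=
  ne_one_of_inv (quo hcz) (self (z1 f)).2 h.z1_mul_z1 (z1_ne h)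

theorem pz_sq : p (self (z1 f)) * p (self (z1 f)) = 1 := by
  rw [← im_z1 h, im_mul, im_congr h _ h.z1_mul_z1]
  exact map_one p

theorem norm_of_comm {c : X} (hc : c * im h p (h1 f) (h1_memS h) = im h p (h1 f) (h1_memS h) * c) :
    c ∈ normalizer (K₁ : Set X) ∧ c ∈ normalizer (K₂ : Set X) := by
  have : Finite X := Finite.of_surjective p hcz.surj
  rcases hcz.norm c with ⟨h1', h2'⟩ | ⟨h1', -⟩
  · exact ⟨mem_normalizer_fintype h1', mem_normalizer_fintype h2'⟩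
  · exfalso
    have h3 : im h p (h1 f) (h1_memS h) ∈ K₁ := (mem_up.1 (hcz.q₁ (h1_mem h))).2
    have h4 := h1' _ h3
    rw [hc, mul_inv_cancel_right] at h4
    have h5 : im h p (h1 f) (h1_memS h) * im h p (h1 f) (h1_memS h) = p (self (z1 f)) := by
      rw [im_mul, im_congr h _ (h1_sq h)]; rfl
    rcases hcz.inf _ h3 h4 with h6 | h6
    · rw [h6, mul_one] at h5
      exact pz_ne h hcz h5.symm
    · rw [h6, pz_sq h hcz] at h5
      exact pz_ne h hcz h5.symm

theorem tor_comm {q r : R m} (hg : Good 0 q r) :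
    im h p (f 0 q r) (h.f_mem_S hg) * im h p (h1 f) (h1_memS h) =
      im h p (h1 f) (h1_memS h) * im h p (f 0 q r) (h.f_mem_S hg) := by
  rw [im_mul, im_mul, im_congr h _ (show f 0 q r * h1 f = h1 f * f 0 q r from h.f_comm hg goodh1)]

theorem cz_sq' : im h p (cz f) (cz_mem h) * im h p (cz f) (cz_mem h) = p (self (z1 f)) := by
  rw [im_mul, im_congr h _ (cz_sq h)]; rfl

theorem comm_dn_one {q r : R m} (hg : Good 0 q r) :
    ∀ x ∈ dn p (Qone f u), im h p (f 0 q r) (h.f_mem_S hg) * x = x * im h p (f 0 q r) (h.f_mem_S hg) := by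
  intro x hx
  obtain ⟨g, hg', hgQ, rfl⟩ := mem_dn.1 hx
  change p _ * p _ = p _ * p _
  rw [← map_mul, ← map_mul]
  exact congrArg p (Subtype.ext (comm_Qone h hg g hgQ))

theorem comm_dn_two {q r : R m} (hg : Good q 0 r) :
    ∀ x ∈ dn p (Qtwo f u w), im h p (f q 0 r) (h.f_mem_S hg) * x = x * im h p (f q 0 r) (h.f_mem_S hg) := by
  intro x hx
  obtain ⟨g, hg', hgQ, rfl⟩ := mem_dn.1 hx
  change p _ * p _ = p _ * p _
  rw [← map_mul, ← map_mul]
  exact congrArg p (Subtype.ext (comm_Qtwo h hg g hgQ))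

/-- `f 0 0 M` centralises `K₁`. -/
theorem cz_one (hF : Fix (p (self (z1 f))) K₁ (dn p (Qone f u))) :
    ∀ a ∈ K₁, im h p (cz f) (cz_mem h) * a = a * im h p (cz f) (cz_mem h) :=
  hF _ (cz_sq' h hcz) (norm_of_comm h hcz (tor_comm h hcz goodcz)).1 (comm_dn_one h hcz goodcz)

/-- `f 0 0 M` centralises `K₂`. -/
theorem cz_two (hF : Fix (p (self (z1 f))) K₂ (dn p (Qtwo f u w))) :
    ∀ a ∈ K₂, im h p (cz f) (cz_mem h) * a = a * im h p (cz f) (cz_mem h) :=
  hF _ (cz_sq' h hcz) (norm_of_comm h hcz (tor_comm h hcz goodcz)).2 (comm_dn_two h hcz goodcz)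

/-- `x4` centralises `K₁`. -/
theorem x4_one (hF : Fix (p (self (z1 f))) K₁ (dn p (Qone f u))) :
    ∀ a ∈ K₁, im h p (x4 f) (x4_mem h) * a = a * im h p (x4 f) (x4_mem h) := by
  intro a ha
  have e : im h p (x4 f) (x4_mem h) = im h p (cz f) (cz_mem h) * im h p (h2 f) (h2_memS h) := by
    rw [im_mul, im_congr h _ (x4_eq h)]
  have h2' : im h p (h2 f) (h2_memS h) ∈ K₂ := (mem_up.1 (hcz.q₂ (h2_mem h))).2
  rw [e, mul_assoc, ← hcz.comm a ha _ h2', ← mul_assoc, cz_one h hcz hF a ha, mul_assoc]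

/-- `x4` does not centralise both factors. -/
theorem x4_not (h1' : ∀ a ∈ K₁, im h p (x4 f) (x4_mem h) * a = a * im h p (x4 f) (x4_mem h))
    (h2' : ∀ a ∈ K₂, im h p (x4 f) (x4_mem h) * a = a * im h p (x4 f) (x4_mem h)) : False := by
  obtain ⟨c, hc, e⟩ := h.cent_cyclic P hcz h1' h2'
  have gc : Good (0 : R m) 0 (2 * c) := ⟨c, by ring⟩
  have e2 : im h p (x4 f) (x4_mem h) = im h p (f 0 0 (2 * c)) (h.f_mem_S gc) := e
  have e3 : im h p (f 0 0 (-(2 * c))) (h.f_mem_S (by have := gc.neg; rwa [neg_zero] at this)) *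
      im h p (x4 f) (x4_mem h) = 1 := by
    rw [e2, im_mul, im_congr h _ (t := 1) (by
      rw [h.f_mul _ _ _ _ _ _ (by have := gc.neg; rwa [neg_zero] at this) gc, add_zero, neg_add_cancel, h.f_zero])]
    exact map_one p
  rw [im_mul] at e3
  have gn : Good (0 : R m) 0 (-(2 * c)) := by have := gc.neg; rwa [neg_zero] at this
  have gx := gn.add (goodx4 (m := m))
  have e4 : f 0 0 (-(2 * c)) * x4 f = f (0 + 0) (0 + N m) (-(2 * c) + N m) := by
    rw [x4, h.f_mul _ _ _ _ _ _ gn goodx4]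
  have e5 : f 0 0 (-(2 * c)) * x4 f = 1 := by
    refine eq_one_of_two (quo hcz) (m := m + 3) (h.S_le_centralizer (mul_mem (h.f_mem_S gn) (x4_mem h))) e3 ?_
    rw [e4, h.f_pow gx]
    have h0 : ((2 ^ (m + 3) : ℕ) : R m) = 0 := ZMod.natCast_self _
    rw [h0, zero_mul, zero_mul, zero_mul, h.f_zero]
  rw [e4, h.f_eq_one_iff gx] at e5
  have h6 := e5.2.1
  rw [zero_add] at h6
  exact N_ne_zero h6

/-- `C(z1) ∩ C(x4)` normalises `K₁`. -/
theorem norm_one (hF : Fix (p (self (z1 f))) K₁ (dn p (Qone f u))) {g : G}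
    (hg : g ∈ centralizer ({z1 f} : Set G)) (hgx : g * x4 f = x4 f * g) :
    ∀ x ∈ K₁, p ⟨g, hg⟩ * x * (p ⟨g, hg⟩)⁻¹ ∈ K₁ := by
  rcases hcz.norm (p ⟨g, hg⟩) with h1' | h1'
  · exact h1'.1
  · exfalso
    have h4 := x4_one h hcz hF
    refine x4_not h hcz h4 fun a ha => ?_
    have h5 := h4 _ (h1'.2 a ha)
    have h6 : im h p (x4 f) (x4_mem h) * p ⟨g, hg⟩ = p ⟨g, hg⟩ * im h p (x4 f) (x4_mem h) := by
      change p _ * p _ = p _ * p _
      rw [← map_mul, ← map_mul]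
      exact congrArg p (Subtype.ext hgx.symm)
    have h7 : (p ⟨g, hg⟩)⁻¹ * im h p (x4 f) (x4_mem h) = im h p (x4 f) (x4_mem h) * (p ⟨g, hg⟩)⁻¹ :=
      (Commute.inv_right (show Commute _ _ from h6)).eq.symm
    have h8 : p ⟨g, hg⟩ * (im h p (x4 f) (x4_mem h) * a) * (p ⟨g, hg⟩)⁻¹ =
        p ⟨g, hg⟩ * (a * im h p (x4 f) (x4_mem h)) * (p ⟨g, hg⟩)⁻¹ := by
      calc _ = (p ⟨g, hg⟩ * im h p (x4 f) (x4_mem h)) * a * (p ⟨g, hg⟩)⁻¹ := by group
        _ = im h p (x4 f) (x4_mem h) * (p ⟨g, hg⟩ * a * (p ⟨g, hg⟩)⁻¹) := by rw [← h6]; group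
        _ = p ⟨g, hg⟩ * a * ((p ⟨g, hg⟩)⁻¹ * im h p (x4 f) (x4_mem h)) := by rw [h5]; group
        _ = _ := by rw [h7]; group
    exact mul_left_cancel (mul_right_cancel h8)

/-- `C(z1) ∩ C(x4)` covers `K₁`. -/
theorem exists_lift_one (hF : Fix (p (self (z1 f))) K₁ (dn p (Qone f u))) {y : X} (hy : y ∈ K₁) :
    ∃ (g : G) (hg : g ∈ centralizer ({z1 f} : Set G)), g * x4 f = x4 f * g ∧ p ⟨g, hg⟩ = y :=
  exists_lift (quo hcz) (h.S_le_centralizer (x4_mem h)) (x4_sq h) (x4_one h hcz hF y hy).symm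

theorem card_dn_one : Nat.card (dn p (Qone f u)) = 2 ^ (m + 4) := by
  rw [← card_Qone h]
  have hle : Qone f u ≤ centralizer ({z1 f} : Set G) := (Qone_le h).trans h.S_le_centralizer
  rw [← Nat.card_congr (subgroupOfEquivOfLe hle).toEquiv]
  refine (Nat.card_congr (Equiv.ofBijective (fun x : (Qone f u).subgroupOf (centralizer ({z1 f} : Set G)) =>
    (⟨p x, mem_map_of_mem p x.2⟩ : dn p (Qone f u))) ⟨?_, ?_⟩)).symm
  · intro x y e
    have e1 : p x = p y := congrArg Subtype.val e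
    have e2 : p ((x : ↥(centralizer ({z1 f} : Set G)))⁻¹ * y) = 1 := by rw [map_mul, map_inv, e1, inv_mul_cancel]
    have e3 : (((x : ↥(centralizer ({z1 f} : Set G)))⁻¹ * y : ↥(centralizer ({z1 f} : Set G))) : G) ∈
        (P : Subgroup G) := mul_mem (inv_mem (Qone_le h x.2)) (Qone_le h y.2)
    have hfact : Fact (Nat.Prime 2) := ⟨Nat.prime_two⟩
    obtain ⟨k, hk⟩ := P.isPGroup' ⟨_, e3⟩
    have e4 := eq_one_of_two (quo hcz) (m := k)
      ((x : ↥(centralizer ({z1 f} : Set G)))⁻¹ * y : ↥(centralizer ({z1 f} : Set G))).2 e2 (congrArg Subtype.val hk)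
    have e5 : (x : ↥(centralizer ({z1 f} : Set G)))⁻¹ * y = 1 := Subtype.ext e4
    exact Subtype.ext (inv_mul_eq_one.1 e5)
  · rintro ⟨_, x, hx, rfl⟩
    exact ⟨⟨x, hx⟩, rfl⟩

/-- The 2-part of `|K₁|`. -/
theorem factorization_one [Finite X] : (Nat.card K₁).factorization 2 = m + 4 := by
  obtain ⟨⟨-, h1'⟩, -⟩ := odd_relIndex P h.S_le_centralizer hcz (Qone_le h) (Qtwo_le h)
  have h2' : dn p (Qone f u) ≤ K₁ := by
    intro x hx
    obtain ⟨g, hg, hgQ, rfl⟩ := mem_dn.1 hx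
    exact (mem_up.1 (hcz.q₁ hgQ)).2
  rw [← Lib.SylowNormalInf.card_mul_relIndex _ _ h2', card_dn_one h hcz,
    Nat.factorization_mul (by positivity) (by
      intro h0
      rw [h0] at h1'
      exact absurd h1' (by decide)), Finsupp.add_apply, Nat.Prime.factorization_pow Nat.prime_two,
    Finsupp.single_eq_same, Nat.factorization_eq_zero_of_not_dvd (by
      rw [← even_iff_two_dvd, Nat.not_even_iff_odd]; exact h1')]

end main

/-! ### The two cases -/

section cases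

variable {G : Type v} [Group G] [Finite G] {m : ℕ} {f : R m → R m → R m → G} {u w : G} {P : Sylow 2 G}
  {X : Type*} [Group X] {p : ↥(centralizer ({z1 f} : Set G)) →* X} {K₁ K₂ : Subgroup X}

theorem fix_sl {F : Type*} [Field F] [Finite F] (h2 : (2 : F) ≠ 0) (h : BOne (P : Subgroup G) m f u w)
    (hcz : CZPL (z1 f) F p K₁ K₂ P (Qone f u) (Qtwo f u w)) :
    Fix (p (self (z1 f))) K₁ (dn p (Qone f u)) ∧ Fix (p (self (z1 f))) K₂ (dn p (Qtwo f u w)) := by
  obtain ⟨⟨a1, a2⟩, ⟨b1, b2⟩⟩ := odd_relIndex P h.S_le_centralizer hcz.toCZP (Qone_le h) (Qtwo_le h)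
  obtain ⟨e1⟩ := hcz.e₁
  obtain ⟨e2⟩ := hcz.e₂
  refine ⟨fun c hc hn hq => ?_, fun c hc hn hq => ?_⟩
  · refine FixQuat.centralizes h2 e1 a1 a2 hn (fun a ha => ?_) hq
    rw [hc]
    exact (hcz.comm a ha _ hcz.z₂).symm
  · refine FixQuat.centralizes h2 e2 b1 b2 hn (fun a ha => ?_) hq
    rw [hc]
    exact hcz.comm _ hcz.z₁ a ha

end cases

end Cfsg.Agent.LFourB.CentXCz
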