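import Mathlib
import Cfsg.Agent.LFourA.KlOAbs
import Cfsg.Agent.TwoFusion.PerfCore
import Cfsg.Agent.ClassicalGeometry.PSL2Basic

/-!
# Comparing components seen through two homomorphisms with odd kernel

`card_eq`: `p : Y → X`, `p' : Y → X'` with kernels of odd order, `K ≤ p(Y)` perfect and normalised by `p(Y)`, `A ≤ p'(Y)`
containing all perfect subgroups of `p'(Y)` and without proper normal perfect subgroups. Then `|K| = |A|`.
-/

set_option autoImplicit false

namespace Cfsg.Agent.LFourB.CentXCmpAbs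

open Subgroup Cfsg.Agent.LFourA.KlOAbs Cfsg.Agent.TwoFusion.PerfCore

/-- The normal perfect subgroups of `A` are `⊥` and `A`. -/
def NoPerf {X : Type*} [Group X] (A : Subgroup X) : Prop :=
  ∀ N : Subgroup X, N ≤ A → (∀ a ∈ A, ∀ x ∈ N, a * x * a⁻¹ ∈ N) → ⁅N, N⁆ = N → N = ⊥ ∨ N = A

section

variable {Y X X' : Type*} [Group Y] [Group X] [Group X'] [Finite Y]

theorem card_eq {p : Y →* X} {p' : Y →* X'} (hk : Odd (Nat.card p.ker)) (hk' : Odd (Nat.card p'.ker))
    {K : Subgroup X} (hK : ⁅K, K⁆ = K) (hne : K ≠ ⊥) (hle : K ≤ p.range)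
    (hnorm : ∀ y : Y, ∀ x ∈ K, p y * x * (p y)⁻¹ ∈ K) (hKo : NoOdd K)
    {A : Subgroup X'} (hA : A ≤ p'.range) (hmax : ∀ D : Subgroup X', D ≤ p'.range → ⁅D, D⁆ = D → D ≤ A)
    (hAo : NoOdd A) (hAn : NoPerf A) : Nat.card K = Nat.card A := by
  have hn : (K.comap p).Normal := by
    constructor
    intro x hx g
    rw [mem_comap] at hx ⊢
    rw [map_mul, map_mul, map_inv]
    exact hnorm g _ hx
  have hE : (perf (K.comap p)).Normal := perf_normal hn
  set E := perf (K.comap p) with hEdef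
  have hEK : E.map p = K := by
    rw [hEdef, map_perf, map_comap_eq, inf_eq_right.2 hle, perf_eq_self hK]
  have hEp : ⁅E.map p', E.map p'⁆ = E.map p' := map_perfect (perf_perfect _) p'
  have hEle : E.map p' ≤ A := hmax _ (by rw [MonoidHom.range_eq_map]; exact map_mono le_top) hEp
  have hEn : ∀ a ∈ A, ∀ x ∈ E.map p', a * x * a⁻¹ ∈ E.map p' := by
    rintro a ha _ ⟨x, hx, rfl⟩
    obtain ⟨y, rfl⟩ := hA ha
    refine ⟨y * x * y⁻¹, hE.conj_mem x hx y, ?_⟩
    rw [map_mul, map_mul, map_inv]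
  have hEA : E.map p' = A := by
    rcases hAn (E.map p') hEle hEn hEp with h | h
    · exfalso
      apply hne
      apply hKo K le_rfl (fun a ha x hx => mul_mem (mul_mem ha hx) (inv_mem ha))
      have h1 : E ≤ p'.ker := (Subgroup.map_eq_bot_iff _).1 h
      have h2 : Nat.card K ∣ Nat.card E := by
        rw [← hEK]; exact card_map_dvd _ _
      exact odd_of_dvd (h2.trans (card_dvd_of_le h1)) hk'
    · exact h
  have r1 : (p.comp E.subtype).range = K := by
    rw [MonoidHom.range_comp, range_subtype]; exact hEK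
  have r2 : (p'.comp E.subtype).range = A := by
    rw [MonoidHom.range_comp, range_subtype]; exact hEA
  have hker : (p.comp E.subtype).ker = (p'.comp E.subtype).ker := by
    ext ⟨x, hx⟩
    rw [MonoidHom.mem_ker, MonoidHom.mem_ker]
    exact ⟨fun e => ker_le p p' hk E hEA hAo hx e, fun e => ker_le p' p hk' E hEK hKo hx e⟩
  rw [← r1, ← r2, ← Subgroup.index_ker, ← Subgroup.index_ker, hker]

end

section sl

local notation "SL2" => Matrix.SpecialLinearGroup (Fin 2)

variable {F : Type*} [Field F] [Finite F] {X : Type*} [Group X] {A : Subgroup X}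

theorem card_of_sl (e : A ≃* SL2 F) : Nat.card A = Nat.card F * (Nat.card F ^ 2 - 1) := by
  rw [Nat.card_congr e.toEquiv, card_sl]

theorem sl_cases (h3 : 3 < Nat.card F) (e : A ≃* SL2 F) {N : Subgroup X} (hN : N ≤ A)
    (hnorm : ∀ a ∈ A, ∀ x ∈ N, a * x * a⁻¹ ∈ N) :
    (∀ x ∈ N, x * x = 1) ∨ N = A := by
  have := Fintype.ofFinite F
  have hn : (N.subgroupOf A).Normal := by
    constructor
    intro x hx g
    exact hnorm g g.2 x hx
  have hn' : ((N.subgroupOf A).map e.toMonoidHom).Normal := hn.map _ e.surjective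
  rcases Cfsg.Agent.SylowSp4.SLGen.normal_cases (by rwa [← Nat.card_eq_fintype_card]) _ hn' with h | h
  · left
    intro x hx
    have h1 : e ⟨x, hN hx⟩ ∈ Subgroup.center (SL2 F) := h ⟨⟨x, hN hx⟩, hx, rfl⟩
    have h2 : e (⟨x, hN hx⟩ * ⟨x, hN hx⟩) = 1 := by
      rw [map_mul]
      rcases Cfsg.Agent.ClassicalGeometry.PSL2Basic.mem_center_SL2_iff.1 h1 with h2 | h2 <;> rw [h2]
      · rw [mul_one]
      · rw [neg_mul_neg, mul_one]
    rw [map_eq_one_iff e e.injective] at h2
    exact congrArg Subtype.val h2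
  · right
    refine le_antisymm hN fun x hx => ?_
    have h1 : e ⟨x, hx⟩ ∈ (N.subgroupOf A).map e.toMonoidHom := by rw [h]; trivial
    obtain ⟨y, hy, e1⟩ := h1
    have h2 : y = ⟨x, hx⟩ := e.injective e1
    rw [h2] at hy
    exact hy

theorem sl_noOdd (h2 : (2 : F) ≠ 0) (h3 : 3 < Nat.card F) (e : A ≃* SL2 F) : NoOdd A := by
  intro N hN hnorm hodd
  rcases sl_cases h3 e hN hnorm with h | h
  · rw [eq_bot_iff]
    intro x hx
    rw [mem_bot]
    have h4 : orderOf (⟨x, hx⟩ : N) ∣ 2 := by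
      rw [orderOf_dvd_iff_pow_eq_one, pow_two]
      exact Subtype.ext (h x hx)
    have h5 : orderOf (⟨x, hx⟩ : N) ∣ Nat.card N := orderOf_dvd_natCard _
    have h6 : orderOf (⟨x, hx⟩ : N) = 1 := Nat.Coprime.eq_one_of_dvd
      (Nat.Coprime.coprime_dvd_left h5 (Nat.coprime_two_right.2 hodd)) h4
    exact congrArg Subtype.val (orderOf_eq_one_iff.1 h6)
  · exfalso
    rw [h, card_of_sl e] at hodd
    have h4 : Nat.card F % 2 = 1 := Cfsg.Agent.Lib.PSL2Torus.odd_card h2
    obtain ⟨k, hk⟩ : ∃ k, Nat.card F = 2 * k + 1 := ⟨Nat.card F / 2, by omega⟩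
    rw [hk] at hodd
    have h5 : (2 * k + 1) ^ 2 - 1 = 2 * (2 * (k * (k + 1))) := by
      rw [Nat.sub_eq_iff_eq_add (Nat.one_le_pow _ _ (by omega))]
      ring
    rw [h5] at hodd
    exact (Nat.not_even_iff_odd.2 hodd) ((even_two_mul _).mul_left _)

theorem sl_noPerf (h3 : 3 < Nat.card F) (e : A ≃* SL2 F) : NoPerf A := by
  intro N hN hnorm hperf
  rcases sl_cases h3 e hN hnorm with h | h
  · left
    rw [← hperf, eq_bot_iff, commutator_le]
    intro x hx y hy
    rw [mem_bot, commutatorElement_eq_one_iff_mul_comm]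
    have h1 := h _ (mul_mem hx hy)
    have hx' : x⁻¹ = x := inv_eq_of_mul_eq_one_left (h x hx)
    have hy' : y⁻¹ = y := inv_eq_of_mul_eq_one_left (h y hy)
    have h4 : (x * y)⁻¹ = x * y := inv_eq_of_mul_eq_one_left h1
    rw [← h4, mul_inv_rev, hx', hy']
  · exact Or.inr h

theorem sl_perfect (h3 : 3 < Nat.card F) (e : A ≃* SL2 F) : ⁅A, A⁆ = A := by
  have h1 := range_perfect h3 (A.subtype.comp e.symm.toMonoidHom)
  have h2 : (A.subtype.comp e.symm.toMonoidHom).range = A := by
    rw [MonoidHom.range_comp, MonoidHom.range_eq_top.2 e.symm.surjective, ← MonoidHom.range_eq_map, range_subtype]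
  rwa [h2] at h1

end sl

section seven

variable {X : Type*} [Group X] {K : Subgroup X} {z : X}

theorem card_seven : Nat.card (alternatingGroup (Fin 7)) = 2520 := by
  rw [nat_card_alternatingGroup, Nat.card_eq_fintype_card, Fintype.card_fin]
  rfl

/-- coverings of `A₇` -/
theorem seven_noOdd (φ : K →* alternatingGroup (Fin 7)) (hφ : Function.Surjective φ)
    (hker : ∀ x : K, φ x = 1 ↔ (x : X) = 1 ∨ (x : X) = z) (hz : z * z = 1) : NoOdd K := by
  intro N hN hnorm hodd
  have hn : (N.subgroupOf K).Normal := by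
    constructor
    intro x hx g
    exact hnorm g g.2 x hx
  have hn' : ((N.subgroupOf K).map φ).Normal := hn.map _ hφ
  have hsimple : IsSimpleGroup (alternatingGroup (Fin 7)) := alternatingGroup.isSimpleGroup (by simp)
  rcases hsimple.eq_bot_or_eq_top_of_normal _ hn' with h | h
  · rw [eq_bot_iff]
    intro x hx
    rw [mem_bot]
    have h1 : φ ⟨x, hN hx⟩ = 1 := by
      have : φ ⟨x, hN hx⟩ ∈ (N.subgroupOf K).map φ := ⟨⟨x, hN hx⟩, hx, rfl⟩
      rwa [h, mem_bot] at this
    rcases (hker _).1 h1 with h2 | h2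
    · exact h2
    · have h3 : x = z := h2
      have h4 : orderOf (⟨x, hx⟩ : N) ∣ 2 := by
        rw [orderOf_dvd_iff_pow_eq_one, pow_two]
        refine Subtype.ext ?_
        change x * x = 1
        rw [h3, hz]
      have h5 : orderOf (⟨x, hx⟩ : N) ∣ Nat.card N := orderOf_dvd_natCard _
      have h6 : orderOf (⟨x, hx⟩ : N) = 1 := Nat.Coprime.eq_one_of_dvd
        (Nat.Coprime.coprime_dvd_left h5 (Nat.coprime_two_right.2 hodd)) h4
      exact congrArg Subtype.val (orderOf_eq_one_iff.1 h6)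
  · exfalso
    have h1 : Nat.card ((N.subgroupOf K).map φ) ∣ Nat.card (N.subgroupOf K) := card_map_dvd _ _
    rw [h, Nat.card_congr Subgroup.topEquiv.toEquiv, card_seven] at h1
    have h2 : Nat.card (N.subgroupOf K) = Nat.card N := Nat.card_congr (subgroupOfEquivOfLe hN).toEquiv
    rw [h2] at h1
    have h3 := odd_of_dvd h1 hodd
    revert h3
    decide

theorem seven_card (φ : K →* alternatingGroup (Fin 7)) (hφ : Function.Surjective φ)
    (hker : ∀ x : K, φ x = 1 ↔ (x : X) = 1 ∨ (x : X) = z) (hz1 : z ≠ 1) (hzK : z ∈ K) :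
    Nat.card K = 5040 := by
  rw [← Subgroup.card_mul_index φ.ker, Subgroup.index_ker, MonoidHom.range_eq_top.2 hφ,
    Nat.card_congr Subgroup.topEquiv.toEquiv, card_seven]
  have h1 : Nat.card φ.ker = 2 := by
    rw [Nat.card_eq_two_iff]
    refine ⟨1, ⟨⟨z, hzK⟩, (hker _).2 (Or.inr rfl)⟩, fun h => hz1 ?_, ?_⟩
    · exact (congrArg (fun x : φ.ker => ((x : K) : X)) h).symm
    · rw [Set.eq_univ_iff_forall]
      intro x
      rcases (hker x).1 x.2 with h | h
      · left
        exact Subtype.ext (Subtype.ext h)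
      · right
        rw [Set.mem_singleton_iff]
        exact Subtype.ext (Subtype.ext h)
  rw [h1]

theorem seven_ne {n : ℕ} (h : 5040 = n * (n ^ 2 - 1)) : False := by
  rcases Nat.lt_or_ge n 18 with h1 | h1
  · interval_cases n <;> omega
  · have h2 : 18 ^ 2 ≤ n ^ 2 := Nat.pow_le_pow_left h1 2
    have h3 : 18 * (18 ^ 2 - 1) ≤ n * (n ^ 2 - 1) := Nat.mul_le_mul h1 (by omega)
    omega

end seven

end Cfsg.Agent.LFourB.CentXCmpAbs
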