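import Mathlib
import Cfsg.Agent.LThreeModel.SU3
import Cfsg.Agent.LFourB.CentXCmpAbs
import Cfsg.Agent.Transfer.Residual
import Cfsg.Agent.TwoFusion.CentResidualBasic

/-!
# The component `SL(2,F)` in the centraliser of an involution of `PSL(3,F)`, `PSU(3,q)`
-/

set_option autoImplicit false

namespace Cfsg.Agent.LFourB.CentXModel

open Subgroup Matrix Cfsg.Agent.TwoFusion.PerfCore

local notation "SL2" => Matrix.SpecialLinearGroup (Fin 2)

/-- The perfect core of the centraliser of an involution is isomorphic to `SL(2,F)`. -/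
def HasStd (Γ : Type*) [Group Γ] (F : Type*) [Field F] : Prop :=
  ∀ s t : Γ, s * s = 1 → t * t = 1 → s ≠ 1 → t ≠ 1 → s ≠ t → s * t = t * s →
    ∃ A : Subgroup Γ, (∀ a ∈ A, a * s = s * a) ∧
      (∀ D : Subgroup Γ, ⁅D, D⁆ = D → (∀ d ∈ D, d * s = s * d) → D ≤ A) ∧ Nonempty (A ≃* SL2 F)

theorem HasStd.congr {Γ Γ' : Type*} [Group Γ] [Group Γ'] {F : Type*} [Field F] (e : Γ ≃* Γ') (h : HasStd Γ' F) :
    HasStd Γ F := by
  intro s t hs ht hs1 ht1 hst hc
  obtain ⟨A, hA, hmax, ⟨i⟩⟩ := h (e s) (e t) (by rw [← map_mul, hs, map_one]) (by rw [← map_mul, ht, map_one])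
    (by rwa [Ne, map_eq_one_iff e e.injective]) (by rwa [Ne, map_eq_one_iff e e.injective])
    (fun h => hst (e.injective h)) (by rw [← map_mul, ← map_mul, hc])
  refine ⟨A.comap e.toMonoidHom, fun a ha => ?_, fun D hD hDs x hx => ?_, ⟨?_⟩⟩
  · apply e.injective
    rw [map_mul, map_mul]
    exact hA _ ha
  · refine hmax (D.map e.toMonoidHom) (map_perfect hD _) ?_ ⟨x, hx, rfl⟩
    rintro _ ⟨d, hd, rfl⟩
    change e d * e s = e s * e d
    rw [← map_mul, ← map_mul, hDs d hd]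
  · refine MulEquiv.trans (MulEquiv.ofBijective
      ({ toFun := fun x => ⟨e x, x.2⟩
         map_one' := Subtype.ext (map_one e)
         map_mul' := fun a b => Subtype.ext (map_mul e _ _) } : A.comap e.toMonoidHom →* A) ⟨?_, ?_⟩) i
    · intro x y h
      exact Subtype.ext (e.injective (congrArg Subtype.val h))
    · intro y
      exact ⟨⟨e.symm y, by
        change e (e.symm y) ∈ A
        rw [e.apply_symm_apply]; exact y.2⟩, Subtype.ext (e.apply_symm_apply _)⟩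

/-- Transport along a conjugation. -/
theorem hasStd_of_conj {Γ : Type*} [Group Γ] {F : Type*} [Field F] (d : Γ) (A : Subgroup Γ)
    (hconj : ∀ s t : Γ, s * s = 1 → t * t = 1 → s ≠ 1 → t ≠ 1 → s ≠ t → s * t = t * s →
      ∃ g : Γ, g * s * g⁻¹ = d)
    (hA : ∀ a ∈ A, a * d = d * a) (hmax : ∀ D : Subgroup Γ, ⁅D, D⁆ = D → (∀ x ∈ D, x * d = d * x) → D ≤ A)
    (hi : Nonempty (A ≃* SL2 F)) : HasStd Γ F := by
  intro s t hs ht hs1 ht1 hst hc
  obtain ⟨g, hg⟩ := hconj s t hs ht hs1 ht1 hst hc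
  obtain ⟨i⟩ := hi
  have hs' : s = g⁻¹ * d * g := by rw [← hg]; group
  refine ⟨A.map (MulAut.conj g⁻¹).toMonoidHom, ?_, fun D hD hDs x hx => ?_, ⟨?_⟩⟩
  · rintro _ ⟨a, ha, rfl⟩
    change (g⁻¹ * a * g⁻¹⁻¹) * s = s * (g⁻¹ * a * g⁻¹⁻¹)
    rw [hs', inv_inv]
    calc g⁻¹ * a * g * (g⁻¹ * d * g) = g⁻¹ * (a * d) * g := by group
      _ = g⁻¹ * (d * a) * g := by rw [hA a ha]
      _ = _ := by group
  · have h1 : D.map (MulAut.conj g).toMonoidHom ≤ A := by
      refine hmax _ (map_perfect hD _) ?_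
      rintro _ ⟨y, hy, rfl⟩
      change g * y * g⁻¹ * d = d * (g * y * g⁻¹)
      have h2 := hDs y hy
      rw [hs'] at h2
      calc g * y * g⁻¹ * d = g * (y * (g⁻¹ * d * g)) * g⁻¹ := by group
        _ = g * ((g⁻¹ * d * g) * y) * g⁻¹ := by rw [h2]
        _ = _ := by group
    refine ⟨g * x * g⁻¹, h1 ⟨x, hx, rfl⟩, ?_⟩
    change g⁻¹ * (g * x * g⁻¹) * g⁻¹⁻¹ = x
    group
  · exact (A.equivMapOfInjective _ (MulAut.conj g⁻¹).injective).symm.trans i

theorem hasStd_psl {F : Type*} [Field F] (h2 : (2 : F) ≠ 0) :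
    HasStd (ProjectiveSpecialLinearGroup (Fin 3) F) F := by
  have hab : (0 : Fin 3) ≠ 1 := by decide
  have hbc : (1 : Fin 3) ≠ 2 := by decide
  have hac : (0 : Fin 3) ≠ 2 := by decide
  refine hasStd_of_conj (Γ := CTFrame.SL3.S3 F ⧸ Subgroup.center (CTFrame.SL3.S3 F))
    (LThreeModel.SL3.pr F (CTFrame.SL3.dg 2)) ((CTFrame.SL3.std 0 1 : Subgroup (CTFrame.SL3.S3 F)).map (LThreeModel.SL3.pr F))
    ?_ ?_ ?_ ?_
  · intro s t hs ht hs1 ht1 hst hc
    obtain ⟨g, hg, -⟩ := LThreeModel.SL3.exists_conj h2 hs ht hs1 ht1 hst hc (a := 2) (b := 0) (by decide)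
    exact ⟨g, hg⟩
  · rintro _ ⟨a, ha, rfl⟩
    rw [← map_mul, ← map_mul]
    congr 1
    have hB := CTFrame.SL3.std_le_Blk hab hbc hac ha
    have h1 : CTFrame.SL3.dg 2 * a * (CTFrame.SL3.dg 2)⁻¹ = a := by
      have hdg := CTFrame.SL3.std_le_Blk (F := F) hab hbc hac (CTFrame.SL3.dg_mem_std hab hbc hac)
      refine CTFrame.SL3.blk_ext hab hbc hac (mul_mem (mul_mem hdg hB) (inv_mem hdg)) hB ?_ ?_ ?_ ?_
      · rw [CTFrame.SL3.dg_conj, if_neg hac]; ring
      · rw [CTFrame.SL3.dg_conj, if_neg hac, if_neg hbc]; ring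
      · rw [CTFrame.SL3.dg_conj, if_neg hbc, if_neg hac]; ring
      · rw [CTFrame.SL3.dg_conj, if_neg hbc]; ring
    exact (mul_inv_eq_iff_eq_mul.mp h1).symm
  · intro D hD hDs
    exact LThreeModel.SL3.le_std hab hbc hac h2 hD (fun x hx => mem_centralizer_singleton_iff.2 (hDs x hx))
  · obtain ⟨i⟩ := LThreeModel.SL3.std_equiv (F := F) hab hbc hac
    refine ⟨MulEquiv.trans (MulEquiv.ofBijective (((LThreeModel.SL3.pr F).subgroupMap _)) ⟨?_, ?_⟩).symm i⟩
    · intro x y e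
      exact Subtype.ext (LThreeModel.SL3.pr_inj hab hbc hac x.2 y.2 (congrArg Subtype.val e))
    · exact MonoidHom.subgroupMap_surjective _ _

theorem hasStd_psu {F : Type*} [Field F] [Fintype F] {q : ℕ} (hF : Fintype.card F = q ^ 2) (h2 : (2 : F) ≠ 0) :
    HasStd (Cfsg.PSU 3 F q) (Phan.fixedField hF) := by
  refine hasStd_of_conj (LThreeModel.SU3.pr F q (LThreeModel.SU3.dg hF 2))
    ((LThreeExt.SU3.std hF 2).map (LThreeModel.SU3.pr F q)) ?_ ?_ ?_ ?_
  · intro s t hs ht hs1 ht1 hst hc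
    obtain ⟨g, hg, -⟩ := LThreeModel.SU3.exists_conj hF h2 hs ht hs1 ht1 hst hc (a := 2) (b := 0) (by decide)
    exact ⟨g, hg⟩
  · rintro _ ⟨x, hx, rfl⟩
    rw [← map_mul, ← map_mul]
    congr 1
    apply Phan.mat_inj
    rw [Phan.mat_mul, Phan.mat_mul, LThreeModel.SU3.mat_dg]
    ext i j
    rw [Matrix.mul_diagonal, Matrix.diagonal_mul]
    by_cases hi : i = 2
    · by_cases hj : j = 2
      · rw [hi, hj]; ring
      · have h1 := (LThreeModel.SU3.blk_of_mem_std hF hx j).2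
        rw [if_neg hj] at h1
        rw [hi, h1]; ring
    · by_cases hj : j = 2
      · have h1 := (LThreeModel.SU3.blk_of_mem_std hF hx i).1
        rw [if_neg hi] at h1
        rw [hj, h1]; ring
      · rw [if_neg hi, if_neg hj]; ring
  · intro D hD hDs
    exact LThreeModel.SU3.le_std hF h2 hD (fun x hx => mem_centralizer_singleton_iff.2 (hDs x hx))
  · obtain ⟨i⟩ := LThreeModel.SU3.std_equiv hF 2
    refine ⟨MulEquiv.trans (MulEquiv.ofBijective (((LThreeModel.SU3.pr F q).subgroupMap _)) ⟨?_, ?_⟩).symm i⟩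
    · intro x y e
      exact Subtype.ext (LThreeModel.SU3.pr_inj' hF x.2 y.2 (congrArg Subtype.val e))
    · exact MonoidHom.subgroupMap_surjective _ _

end Cfsg.Agent.LFourB.CentXModel
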