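import Mathlib
import Cfsg.Agent.LFourB.CentXModel
import Cfsg.Agent.LFourA.KlQuot

/-!
# The comparison of the components of `C(z)` and `C(t)` for commuting involutions `z`, `t`
-/

set_option autoImplicit false

namespace Cfsg.Agent.LFourB.CentXSide

open Subgroup Cfsg.Agent.TwoFusion.PerfCore Cfsg.Agent.LFourB.CentXModel Cfsg.Agent.LFourB.CentXCmpAbs
open Cfsg.Agent.LFourA.KlQuot Cfsg.Agent.LFourA.KlOAbs

universe u

local notation "SL2" => Matrix.SpecialLinearGroup (Fin 2)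

/-- The perfect subgroups of `X` are in `L`. -/
theorem perfect_le (hFT : ∀ (K : Type u) [Group K] [Finite K], Odd (Nat.card K) → Group.IsSolvable K)
    {X : Type u} [Group X] [Finite X] {L : Subgroup X} (hn : L.Normal) (hle : L ≤ Cfsg.pResidual 2 X)
    (hodd : Odd (L.relIndex (Cfsg.pResidual 2 X))) {D : Subgroup X} (hD : ⁅D, D⁆ = D) : D ≤ L := by
  have hfact : Fact (Nat.Prime 2) := ⟨Nat.prime_two⟩
  have hn' : (Cfsg.pResidual 2 X).Normal := Transfer.Residual.pResidual_normal 2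
  have h1 : D ≤ Cfsg.pResidual 2 X := by
    have h2 : IsPGroup 2 (X ⧸ Cfsg.pResidual 2 X) := Transfer.Residual.isPGroup_quotient_pResidual
    have h3 : Group.IsSolvable (D.map (QuotientGroup.mk' (Cfsg.pResidual 2 X))) := by
      have h4 : Group.IsNilpotent (D.map (QuotientGroup.mk' (Cfsg.pResidual 2 X))) :=
        (h2.to_subgroup _).isNilpotent
      infer_instance
    have h4 := le_ker_of_perfect hD (QuotientGroup.mk' (Cfsg.pResidual 2 X)) h3
    rwa [QuotientGroup.ker_mk'] at h4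
  refine Cfsg.Agent.TwoFusion.CentResidual.perfect_le_of_odd hFT hD.ge
    (by rw [normalizer_eq_top]; exact le_top) ?_
  have h2 : L.relIndex (L ⊔ D) * (L ⊔ D).relIndex (Cfsg.pResidual 2 X) = L.relIndex (Cfsg.pResidual 2 X) :=
    relIndex_mul_relIndex _ _ _ le_sup_left (sup_le hle h1)
  rw [relIndex_sup_left] at h2
  exact odd_of_dvd (Dvd.intro _ h2) hodd

section side

variable {G : Type u} [Group G] [Finite G] {z t : G}

/-- `C(z) ∩ C(t) → C(t) / O(C(t))`. -/
def incl (z t : G) {X : Type*} [Group X] (p : ↥(centralizer ({t} : Set G)) →* X) :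
    ↥(centralizer ({z} : Set G) ⊓ centralizer ({t} : Set G) : Subgroup G) →* X :=
  p.comp (Subgroup.inclusion inf_le_right)

/-- `C(z) ∩ C(t) → C(z) / O(C(z))`. -/
def incl' (z t : G) {X : Type*} [Group X] (p : ↥(centralizer ({z} : Set G)) →* X) :
    ↥(centralizer ({z} : Set G) ⊓ centralizer ({t} : Set G) : Subgroup G) →* X :=
  p.comp (Subgroup.inclusion inf_le_left)

theorem odd_ker {X : Type*} [Group X] {p : ↥(centralizer ({t} : Set G)) →* X} (h : Quo t p) :
    Odd (Nat.card (incl z t p).ker) := by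
  have h1 := ker_odd h
  refine odd_of_dvd ?_ h1
  have h2 : (incl z t p).ker.map (Subgroup.inclusion inf_le_right) ≤ p.ker := by
    rintro _ ⟨x, hx, rfl⟩
    exact hx
  have h3 : Nat.card ((incl z t p).ker.map (Subgroup.inclusion (inf_le_right :
      centralizer ({z} : Set G) ⊓ centralizer ({t} : Set G) ≤ _))) = Nat.card (incl z t p).ker :=
    card_map_of_injective (Subgroup.inclusion_injective inf_le_right)
  rw [← h3]
  exact card_dvd_of_le h2

theorem odd_ker' {X : Type*} [Group X] {p : ↥(centralizer ({z} : Set G)) →* X} (h : Quo z p) :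
    Odd (Nat.card (incl' z t p).ker) := by
  have h1 := ker_odd h
  refine odd_of_dvd ?_ h1
  have h2 : (incl' z t p).ker.map (Subgroup.inclusion inf_le_left) ≤ p.ker := by
    rintro _ ⟨x, hx, rfl⟩
    exact hx
  have h3 : Nat.card ((incl' z t p).ker.map (Subgroup.inclusion (inf_le_left :
      centralizer ({z} : Set G) ⊓ centralizer ({t} : Set G) ≤ _))) = Nat.card (incl' z t p).ker :=
    card_map_of_injective (Subgroup.inclusion_injective inf_le_left)
  rw [← h3]
  exact card_dvd_of_le h2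

/-- The component of `C(z)` seen in `C(t)`. -/
theorem exists_std (hFT : ∀ (K : Type u) [Group K] [Finite K], Odd (Nat.card K) → Group.IsSolvable K)
    {X : Type u} [Group X] [Finite X] {p : ↥(centralizer ({t} : Set G)) →* X} (h : Quo t p)
    {L : Subgroup X} (hn : L.Normal) (hle : L ≤ Cfsg.pResidual 2 X)
    (hodd : Odd (L.relIndex (Cfsg.pResidual 2 X))) {F : Type*} [Field F] (hstd : HasStd L F)
    (hzt : z ∈ centralizer ({t} : Set G)) (hzz : z * z = 1) (hz1 : z ≠ 1) (hzL : p ⟨z, hzt⟩ ∈ L)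
    {s : G} (hst : s ∈ centralizer ({t} : Set G)) (hss : s * s = 1) (hs1 : s ≠ 1) (hsL : p ⟨s, hst⟩ ∈ L)
    (hsz : z * s = s * z) (hne : z ≠ s) :
    ∃ A : Subgroup X, A ≤ (incl z t p).range ∧
      (∀ D : Subgroup X, D ≤ (incl z t p).range → ⁅D, D⁆ = D → D ≤ A) ∧ Nonempty (A ≃* SL2 F) := by
  have hzs : (z * s) * (z * s) = 1 := by
    calc (z * s) * (z * s) = (z * s) * (s * z) := by rw [← hsz]
      _ = z * (s * s) * z := by group
      _ = 1 := by rw [hss, mul_one, hzz]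
  obtain ⟨A, hA, hmax, ⟨i⟩⟩ := hstd ⟨p ⟨z, hzt⟩, hzL⟩ ⟨p ⟨s, hst⟩, hsL⟩
    (Subtype.ext (by
      change p ⟨z, hzt⟩ * p ⟨z, hzt⟩ = 1
      rw [← map_mul]
      exact (congrArg p (Subtype.ext hzz)).trans (map_one p)))
    (Subtype.ext (by
      change p ⟨s, hst⟩ * p ⟨s, hst⟩ = 1
      rw [← map_mul]
      exact (congrArg p (Subtype.ext hss)).trans (map_one p)))
    (fun e => ne_one_of_inv h hzt hzz hz1 (congrArg Subtype.val e))
    (fun e => ne_one_of_inv h hst hss hs1 (congrArg Subtype.val e))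
    (fun e => by
      have e1 : p ⟨z, hzt⟩ = p ⟨s, hst⟩ := congrArg Subtype.val e
      refine ne_one_of_inv h (x := z * s) (mul_mem hzt hst) hzs ?_ ?_
      · intro e2
        apply hne
        rw [eq_inv_of_mul_eq_one_left e2, inv_eq_of_mul_eq_one_left hss]
      · have e3 : p (⟨z, hzt⟩ * ⟨s, hst⟩) = 1 := by
          rw [map_mul, ← e1, ← map_mul]
          exact (congrArg p (Subtype.ext hzz)).trans (map_one p)
        exact e3)
    (Subtype.ext (by
      change p ⟨z, hzt⟩ * p ⟨s, hst⟩ = p ⟨s, hst⟩ * p ⟨z, hzt⟩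
      rw [← map_mul, ← map_mul]
      exact congrArg p (Subtype.ext hsz)))
  refine ⟨A.map L.subtype, ?_, fun D hD hDD => ?_, ⟨?_⟩⟩
  · rintro _ ⟨a, ha, rfl⟩
    have h1 : (a : X) * p ⟨z, hzt⟩ = p ⟨z, hzt⟩ * a := congrArg Subtype.val (hA a ha)
    obtain ⟨x, hx, hxz, e⟩ := exists_lift h hzt hzz h1
    exact ⟨⟨x, mem_inf.2 ⟨mem_centralizer_singleton_iff.2 hxz, hx⟩⟩, e⟩
  · have hDL : D ≤ L := perfect_le hFT hn hle hodd hDD
    have h1 : (D.subgroupOf L).map L.subtype = D := by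
      rw [subgroupOf_map_subtype, inf_eq_left.2 hDL]
    have h2 : ⁅D.subgroupOf L, D.subgroupOf L⁆ = D.subgroupOf L := by
      apply map_injective L.subtype_injective
      rw [map_commutator, h1, hDD]
    rw [← h1]
    refine map_mono (hmax _ h2 ?_)
    rintro ⟨d, hdL⟩ hd
    obtain ⟨⟨y, hy⟩, e⟩ := hD hd
    apply Subtype.ext
    change d * p ⟨z, hzt⟩ = p ⟨z, hzt⟩ * d
    have e' : p (Subgroup.inclusion inf_le_right ⟨y, hy⟩) = d := e
    rw [← e']
    rw [← map_mul, ← map_mul]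
    exact congrArg p (Subtype.ext (mem_centralizer_singleton_iff.1 hy.1))
  · exact (A.equivMapOfInjective _ L.subtype_injective).symm.trans i

/-- **The comparison.** -/
theorem card_eq_std (hFT : ∀ (K : Type u) [Group K] [Finite K], Odd (Nat.card K) → Group.IsSolvable K)
    {X' : Type*} [Group X'] {p' : ↥(centralizer ({z} : Set G)) →* X'} (h' : Quo z p')
    {K : Subgroup X'} (hK : ⁅K, K⁆ = K) (hKne : K ≠ ⊥) (hKo : NoOdd K)
    (hlift : ∀ y ∈ K, ∃ (g : G) (hg : g ∈ centralizer ({z} : Set G)), g * t = t * g ∧ p' ⟨g, hg⟩ = y)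
    (hnorm : ∀ (g : G) (hg : g ∈ centralizer ({z} : Set G)), g * t = t * g →
      ∀ x ∈ K, p' ⟨g, hg⟩ * x * (p' ⟨g, hg⟩)⁻¹ ∈ K)
    {X : Type u} [Group X] [Finite X] {p : ↥(centralizer ({t} : Set G)) →* X} (h : Quo t p)
    {L : Subgroup X} (hn : L.Normal) (hle : L ≤ Cfsg.pResidual 2 X)
    (hodd : Odd (L.relIndex (Cfsg.pResidual 2 X))) {F : Type*} [Field F] [Finite F] (hstd : HasStd L F)
    (h2 : (2 : F) ≠ 0) (h3 : 3 < Nat.card F)
    (hzt : z ∈ centralizer ({t} : Set G)) (hzz : z * z = 1) (hz1 : z ≠ 1) (hzL : p ⟨z, hzt⟩ ∈ L)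
    {s : G} (hst : s ∈ centralizer ({t} : Set G)) (hss : s * s = 1) (hs1 : s ≠ 1) (hsL : p ⟨s, hst⟩ ∈ L)
    (hsz : z * s = s * z) (hne : z ≠ s) :
    Nat.card K = Nat.card F * (Nat.card F ^ 2 - 1) := by
  obtain ⟨A, hA, hmax, ⟨i⟩⟩ := exists_std hFT h hn hle hodd hstd hzt hzz hz1 hzL hst hss hs1 hsL hsz hne
  rw [← card_of_sl i]
  refine card_eq (p := incl' z t p') (p' := incl z t p) (odd_ker' h') (odd_ker h) hK hKne ?_ ?_ hKo hA hmax
    (sl_noOdd h2 h3 i) (sl_noPerf h3 i)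
  · intro y hy
    obtain ⟨g, hg, hgt, e⟩ := hlift y hy
    exact ⟨⟨g, mem_inf.2 ⟨hg, mem_centralizer_singleton_iff.2 hgt⟩⟩, e⟩
  · rintro ⟨g, hg⟩ x hx
    exact hnorm g hg.1 (mem_centralizer_singleton_iff.1 hg.2) x hx

end side

end Cfsg.Agent.LFourB.CentXSide
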