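import Mathlib
import Cfsg.Agent.SectRankFour.AutAlt

/-!
# S0510, B1: an element whose square is the centre of `2A₇` and which centralises a Sylow
2-subgroup centralises `2A₇`.
-/

set_option autoImplicit false

namespace Cfsg.Agent.LFourB.FixSeven

open Cfsg.Agent.SectRankFour.AutAlt Equiv Subgroup
open scoped commutatorElement

/-! ### The check in `S₇` -/

def pa : Equiv.Perm (Fin 7) := c[0, 1, 2, 3] * c[4, 5]
def pb : Equiv.Perm (Fin 7) := c[0, 2] * c[4, 5]
def pg : Equiv.Perm (Fin 7) := c[0, 4] * c[2, 5]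
def ph : Equiv.Perm (Fin 7) := c[1, 2] * c[4, 5]

theorem moved (σ : Equiv.Perm (Fin 7)) (ha : σ * pa = pa * σ) (hb : σ * pb = pb * σ)
    (h : σ ≠ 1) :
    pg * σ * pg⁻¹ * σ⁻¹ = pb ∨ ph * σ * ph⁻¹ * σ⁻¹ = pa * pb := by
  have ha' : ∀ i, σ (pa i) = pa (σ i) := fun i => congrArg (fun f => f i) ha
  have hb' : ∀ i, σ (pb i) = pb (σ i) := fun i => congrArg (fun f => f i) hb
  have h6 : σ 6 = 6 := by
    have e : pa (σ 6) = σ 6 := by rw [← ha']; congr 1
    have : ∀ x : Fin 7, pa x = x → x = 6 := by decide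
    exact this _ e
  have h1 : σ 1 = 1 ∨ σ 1 = 3 := by
    have e : pb (σ 1) = σ 1 := by rw [← hb']; congr 1
    have : ∀ x : Fin 7, pb x = x → x = 1 ∨ x = 3 ∨ x = 6 := by decide
    rcases this _ e with h | h | h
    · exact .inl h
    · exact .inr h
    · rw [← h6] at h
      exact absurd (σ.injective h) (by decide)
  have h4 : σ 4 = 4 ∨ σ 4 = 5 := by
    have e : pa (pa (σ 4)) = σ 4 := by rw [← ha', ← ha']; congr 1
    have : ∀ x : Fin 7, pa (pa x) = x → x = 4 ∨ x = 5 ∨ x = 6 := by decide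
    rcases this _ e with h | h | h
    · exact .inl h
    · exact .inr h
    · rw [← h6] at h
      exact absurd (σ.injective h) (by decide)
  have h5 : σ 5 = pa (σ 4) := by rw [← ha']; congr 1
  have h2 : σ 2 = pa (σ 1) := by rw [← ha']; congr 1
  have h3 : σ 3 = pa (pa (σ 1)) := by rw [← ha', ← ha']; congr 1
  have h0 : σ 0 = pa (pa (pa (σ 1))) := by rw [← ha', ← ha', ← ha']; congr 1
  have key : ∀ τ : Equiv.Perm (Fin 7), τ 6 = σ 6 → τ 1 = σ 1 → τ 4 = σ 4 → τ 5 = σ 5 →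
      τ 2 = σ 2 → τ 3 = σ 3 → τ 0 = σ 0 → σ = τ := by
    intro τ _ _ _ _ _ _ _
    ext i : 1
    fin_cases i <;> symm <;> assumption
  rcases h1 with h1 | h1 <;> rcases h4 with h4 | h4 <;> rw [h1] at h0 h2 h3 <;> rw [h4] at h5
  · exact absurd (key 1 (by rw [h6]; decide) (by rw [h1]; decide) (by rw [h4]; decide)
      (by rw [h5]; decide) (by rw [h2]; decide) (by rw [h3]; decide) (by rw [h0]; decide)) h
  · left
    rw [key c[4, 5] (by rw [h6]; decide) (by rw [h1]; decide) (by rw [h4]; decide)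
      (by rw [h5]; decide) (by rw [h2]; decide) (by rw [h3]; decide) (by rw [h0]; decide)]
    decide
  · right
    rw [key (c[0, 2] * c[1, 3]) (by rw [h6]; decide) (by rw [h1]; decide) (by rw [h4]; decide)
      (by rw [h5]; decide) (by rw [h2]; decide) (by rw [h3]; decide) (by rw [h0]; decide)]
    decide
  · right
    rw [key (c[0, 2] * c[1, 3] * c[4, 5]) (by rw [h6]; decide) (by rw [h1]; decide)
      (by rw [h4]; decide)
      (by rw [h5]; decide) (by rw [h2]; decide) (by rw [h3]; decide) (by rw [h0]; decide)]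
    decide

def aa : A7 := ⟨pa, by rw [Equiv.Perm.mem_alternatingGroup]; decide⟩
def ab : A7 := ⟨pb, by rw [Equiv.Perm.mem_alternatingGroup]; decide⟩
def ag : A7 := ⟨pg, by rw [Equiv.Perm.mem_alternatingGroup]; decide⟩
def ah : A7 := ⟨ph, by rw [Equiv.Perm.mem_alternatingGroup]; decide⟩

theorem isPGroup_zpowers {G : Type*} [Group G] (x : G) (hx : x ^ 4 = 1) :
    IsPGroup 2 (zpowers x) := by
  rintro ⟨y, hy⟩
  obtain ⟨n, rfl⟩ := mem_zpowers_iff.1 hy
  refine ⟨2, Subtype.ext ?_⟩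
  show (x ^ n) ^ (2 ^ 2) = 1
  rw [← zpow_natCast, ← zpow_mul, mul_comm, zpow_mul]
  norm_num
  rw [hx, one_zpow]

theorem exists_moved (D : Sylow 2 A7) (σ : Equiv.Perm (Fin 7))
    (hσ : ∀ x : A7, x ∈ (D : Subgroup A7) → σ * x = x * σ) (h : σ ≠ 1) :
    ∃ g d : A7, d ∈ (D : Subgroup A7) ∧ d ≠ 1 ∧
      (g : Equiv.Perm (Fin 7)) * σ * (g : Equiv.Perm (Fin 7))⁻¹ * σ⁻¹ = d := by
  have haa : aa ^ 4 = 1 := Subtype.ext (by decide)
  have hbb : ab ^ 4 = 1 := Subtype.ext (by decide)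
  have hab : ab * aa * ab⁻¹ = aa⁻¹ := Subtype.ext (by decide)
  have hn : zpowers ab ≤ normalizer (zpowers aa : Set A7) := by
    rw [zpowers_le, mem_normalizer_iff]
    intro x
    constructor
    · rintro hx
      obtain ⟨n, rfl⟩ := mem_zpowers_iff.1 hx
      rw [← conj_zpow, hab]
      exact zpow_mem (inv_mem (mem_zpowers aa)) n
    · intro hx
      obtain ⟨n, hn⟩ := mem_zpowers_iff.1 hx
      have e : ab⁻¹ * aa * ab = aa⁻¹ := Subtype.ext (by decide)
      have : x = ab⁻¹ * aa ^ n * ab := by rw [hn]; group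
      have e2 : ab⁻¹ * aa ^ n * ab = (ab⁻¹ * aa * ab) ^ n := by
        have := (conj_zpow (a := ab⁻¹) (b := aa) (i := n)).symm
        rw [inv_inv] at this
        exact this
      rw [this, e2, e]
      exact zpow_mem (inv_mem (mem_zpowers aa)) n
  have hP : IsPGroup 2 (zpowers ab ⊔ zpowers aa : Subgroup A7) :=
    IsPGroup.to_sup_of_normal_right' (isPGroup_zpowers _ hbb) (isPGroup_zpowers _ haa) hn
  obtain ⟨P, hP'⟩ := hP.exists_le_sylow
  obtain ⟨t, ht⟩ := MulAction.exists_smul_eq A7 P D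
  have hconj : ∀ x ∈ (P : Subgroup A7), t * x * t⁻¹ ∈ (D : Subgroup A7) := by
    intro x hx
    rw [← ht, Sylow.coe_subgroup_smul]
    exact Subgroup.smul_mem_pointwise_smul x (MulAut.conj t) _ hx
  have hPa : aa ∈ (P : Subgroup A7) := hP' (mem_sup_right (mem_zpowers aa))
  have hPb : ab ∈ (P : Subgroup A7) := hP' (mem_sup_left (mem_zpowers ab))
  obtain ⟨τ, hτ⟩ : ∃ τ : Equiv.Perm (Fin 7), τ = t.1 := ⟨_, rfl⟩
  have hcomm : ∀ x : A7, x ∈ (P : Subgroup A7) → τ⁻¹ * σ * τ * x = x * (τ⁻¹ * σ * τ) := by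
    intro x hx
    have e := hσ _ (hconj x hx)
    have e' : σ * (τ * x * τ⁻¹) = τ * x * τ⁻¹ * σ := by rw [hτ]; exact e
    calc τ⁻¹ * σ * τ * x = τ⁻¹ * (σ * (τ * x * τ⁻¹)) * τ := by group
      _ = τ⁻¹ * (τ * x * τ⁻¹ * σ) * τ := by rw [e']
      _ = _ := by group
  have hne : τ⁻¹ * σ * τ ≠ 1 := by
    intro e
    apply h
    have : σ = τ * (τ⁻¹ * σ * τ) * τ⁻¹ := by group
    rw [this, e]
    group
  rcases moved _ (hcomm _ hPa) (hcomm _ hPb) hne with e | e
  · refine ⟨t * ag * t⁻¹, t * ab * t⁻¹, hconj _ hPb, ?_, ?_⟩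
    · intro e'
      have : ab = 1 := by
        have : ab = t⁻¹ * (t * ab * t⁻¹) * t := by group
        rw [this, e']
        group
      exact absurd (congrArg Subtype.val this) (by decide)
    · show t.1 * pg * t.1⁻¹ * σ * (t.1 * pg * t.1⁻¹)⁻¹ * σ⁻¹ = t.1 * pb * t.1⁻¹
      rw [← hτ, ← e]
      group
  · refine ⟨t * ah * t⁻¹, t * (aa * ab) * t⁻¹, hconj _ (mul_mem hPa hPb), ?_, ?_⟩
    · intro e'
      have : aa * ab = 1 := by
        have : aa * ab = t⁻¹ * (t * (aa * ab) * t⁻¹) * t := by group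
        rw [this, e']
        group
      exact absurd (congrArg Subtype.val this) (by decide)
    · show t.1 * ph * t.1⁻¹ * σ * (t.1 * ph * t.1⁻¹)⁻¹ * σ⁻¹ = t.1 * (pa * pb) * t.1⁻¹
      rw [← hτ, ← e]
      group

/-! ### The lemma -/

/-- Two epimorphisms with the same kernel differ by an automorphism of the image. -/
theorem exists_aut {K A : Type*} [Group K] [Group A] [Finite A] (φ θ : K →* A)
    (hφ : Function.Surjective φ) (hθ : Function.Surjective θ) (h : ∀ x, φ x = 1 → θ x = 1) :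
    ∃ α : MulAut A, ∀ x, α (φ x) = θ x := by
  classical
  have hk : φ.ker ≤ θ.ker := fun x hx => h x hx
  obtain ⟨f, hf⟩ : ∃ f : A →* A, ∀ x, f (φ x) = θ x :=
    ⟨φ.liftOfSurjective hφ ⟨θ, hk⟩, fun x => φ.liftOfRightInverse_comp_apply _ _ ⟨θ, hk⟩ x⟩
  have hs : Function.Surjective f := by
    intro a
    obtain ⟨x, rfl⟩ := hθ a
    exact ⟨φ x, hf x⟩
  exact ⟨MulEquiv.ofBijective f ⟨Finite.injective_iff_surjective.2 hs, hs⟩, hf⟩

theorem fix_seven {X : Type*} [Group X] [Finite X] {K Q : Subgroup X} {z c : X}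
    (φ : K →* alternatingGroup (Fin 7)) (hφ : Function.Surjective φ)
    (hker : ∀ x : K, φ x = 1 ↔ (x : X) = 1 ∨ (x : X) = z) (hz : z ≠ 1) (hK : ⁅K, K⁆ = K)
    (hcz : c * c = z) (hQK : Q ≤ K) (hQ2 : IsPGroup 2 Q) (hQi : Odd (Q.relIndex K))
    (hQz : ∀ x ∈ Q, x * x = 1 → x = 1 ∨ x = z) (hc : c ∈ normalizer (K : Set X))
    (hcQ : ∀ x ∈ Q, c * x = x * c) : ∀ x ∈ K, c * x = x * c := by
  classical
  have : Fact (Nat.Prime 2) := ⟨Nat.prime_two⟩
  -- the Sylow subgroup of `K`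
  have hQ' : IsPGroup 2 (Q.subgroupOf K) :=
    hQ2.of_equiv (Subgroup.subgroupOfEquivOfLe hQK).symm
  have hodd : ¬ 2 ∣ (Q.subgroupOf K).index := by
    have : (Q.subgroupOf K).index = Q.relIndex K := rfl
    rw [this]
    exact fun h => (Nat.not_even_iff_odd.2 hQi) (even_iff_two_dvd.2 h)
  obtain ⟨S, hS⟩ : ∃ S : Sylow 2 K, (S : Subgroup K) = Q.subgroupOf K :=
    ⟨hQ'.toSylow hodd, rfl⟩
  have hSmem : ∀ x : K, x ∈ (S : Subgroup K) ↔ (x : X) ∈ Q := fun x => by
    rw [hS, mem_subgroupOf]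
  -- the image
  obtain ⟨D, hD⟩ : ∃ D : Sylow 2 A7, (D : Subgroup A7) = (S : Subgroup K).map φ :=
    ⟨S.mapSurjective hφ, rfl⟩
  -- `z ∈ Q`
  have hzQ : z ∈ Q := by
    have h1 : Nat.card A7 ∣ Nat.card K := Subgroup.card_dvd_of_surjective φ hφ
    have h2 : Nat.card Q * Q.relIndex K = Nat.card K := by
      rw [← Subgroup.card_mul_index (Q.subgroupOf K),
        Nat.card_congr (Subgroup.subgroupOfEquivOfLe hQK).toEquiv]
      rfl
    have h3 : 2 ∣ Nat.card Q := by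
      have h4 : 2 ∣ Nat.card Q * Q.relIndex K := by
        rw [h2]
        exact dvd_trans (by rw [card_A7]; norm_num) h1
      rcases (Nat.Prime.dvd_mul Nat.prime_two).1 h4 with h5 | h5
      · exact h5
      · exact absurd (even_iff_two_dvd.2 h5) (Nat.not_even_iff_odd.2 hQi)
    obtain ⟨x, hx⟩ := exists_prime_orderOf_dvd_card' 2 h3
    have h4 : (x : X) * x = 1 := by
      have := pow_orderOf_eq_one x
      rw [hx, pow_two] at this
      exact congrArg Subtype.val this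
    rcases hQz x x.2 h4 with h5 | h5
    · have : x = 1 := Subtype.ext h5
      rw [this, orderOf_one] at hx
      omega
    · rw [← h5]
      exact x.2
  have hzK : z ∈ K := hQK hzQ
  have hφz : φ ⟨z, hzK⟩ = 1 := (hker _).2 (.inr rfl)
  have hzz : z * z = 1 := by
    have h1 : φ ⟨z * z, mul_mem hzK hzK⟩ = 1 := by
      have : (⟨z * z, mul_mem hzK hzK⟩ : K) = ⟨z, hzK⟩ * ⟨z, hzK⟩ := rfl
      rw [this, map_mul, hφz, one_mul]
    rcases (hker _).1 h1 with h2 | h2
    · exact h2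
    · exact absurd (mul_eq_left.1 h2) hz
  -- `z` is central
  have hzc : ∀ x ∈ K, x * z = z * x := by
    intro x hx
    have h1 : φ (⟨x, hx⟩ * ⟨z, hzK⟩ * ⟨x, hx⟩⁻¹) = 1 := by
      rw [map_mul, map_mul, hφz, mul_one, map_inv, mul_inv_cancel]
    rcases (hker _).1 h1 with h2 | h2
    · have h3 : x * z * x⁻¹ = 1 := h2
      rw [mul_inv_eq_one] at h3
      exact absurd (mul_eq_left.1 h3) hz
    · have h3 : x * z * x⁻¹ = z := h2
      exact mul_inv_eq_iff_eq_mul.1 h3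
  -- the twisted map
  have hcK : ∀ x, x ∈ K → c * x * c⁻¹ ∈ K := fun x hx => (mem_normalizer_iff.1 hc x).1 hx
  have hcK' : ∀ x, x ∈ K → c⁻¹ * x * c ∈ K := fun x hx =>
    (mem_normalizer_iff.1 hc _).2 (by
      have : c * (c⁻¹ * x * c) * c⁻¹ = x := by group
      rw [this]; exact hx)
  have hczc : c * z * c⁻¹ = z := by rw [← hcz]; group
  let γ : K →* K :=
    { toFun := fun x => ⟨c * x * c⁻¹, hcK _ x.2⟩
      map_one' := Subtype.ext (by simp)
      map_mul' := fun x y => Subtype.ext (by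
        show c * (x * y : K) * c⁻¹ = c * x * c⁻¹ * (c * y * c⁻¹)
        rw [Subgroup.coe_mul]; group) }
  have hγ : ∀ x : K, ((γ x : K) : X) = c * x * c⁻¹ := fun x => rfl
  have hγs : Function.Surjective γ := by
    intro x
    exact ⟨⟨c⁻¹ * x * c, hcK' _ x.2⟩, Subtype.ext (by rw [hγ]; group)⟩
  obtain ⟨α, hα⟩ := exists_aut φ (φ.comp γ) hφ (hφ.comp hγs) (by
    intro x hx
    show φ (γ x) = 1
    rw [hker] at hx ⊢
    rcases hx with hx | hx
    · left; rw [hγ, hx]; group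
    · right; rw [hγ, hx]; exact hczc)
  obtain ⟨σ, hσ⟩ := exists_perm α
  have hσ' : ∀ x : K, ((φ (γ x) : A7) : Equiv.Perm (Fin 7)) = σ * (φ x : A7) * σ⁻¹ := by
    intro x
    rw [← hσ, hα]
    rfl
  have hσD : ∀ x : A7, x ∈ (D : Subgroup A7) → σ * x = x * σ := by
    intro x hx
    rw [hD] at hx
    obtain ⟨y, hy, rfl⟩ := hx
    have hyQ : (y : X) ∈ Q := (hSmem y).1 hy
    have h1 : γ y = y := Subtype.ext (by rw [hγ, hcQ _ hyQ]; group)
    have h2 := hσ' y
    rw [h1] at h2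
    exact (mul_inv_eq_iff_eq_mul.1 h2.symm)
  -- `σ = 1`
  have hσ1 : σ = 1 := by
    by_contra hne
    obtain ⟨g, d, hdD, hd1, hgd⟩ := exists_moved D σ hσD hne
    obtain ⟨t, rfl⟩ := hφ g
    -- `k = t c t⁻¹ c⁻¹`
    obtain ⟨k, hk⟩ : ∃ k : K, k = t * γ t⁻¹ := ⟨_, rfl⟩
    have hkX : (k : X) = t * (c * (t : X)⁻¹ * c⁻¹) := by rw [hk]; rfl
    have hφk : φ k = d := by
      apply Subtype.ext
      rw [← hgd, hk, map_mul]
      show ((φ t : A7) : Equiv.Perm (Fin 7)) * ((φ (γ t⁻¹) : A7) : Equiv.Perm (Fin 7)) = _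
      rw [hσ', map_inv]
      show _ * (σ * ((φ t : A7) : Equiv.Perm (Fin 7))⁻¹ * σ⁻¹) = _
      group
    have hkQ : (k : X) ∈ Q := by
      rw [hD] at hdD
      obtain ⟨y, hy, hyd⟩ := hdD
      have hyQ : (y : X) ∈ Q := (hSmem y).1 hy
      have h1 : φ (k * y⁻¹) = 1 := by rw [map_mul, map_inv, hφk, hyd, mul_inv_cancel]
      have h2 : (k : X) = ((k * y⁻¹ : K) : X) * y := by
        rw [Subgroup.coe_mul, Subgroup.coe_inv]; group
      rw [h2]
      rcases (hker _).1 h1 with h3 | h3 <;> rw [h3]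
      · rw [one_mul]; exact hyQ
      · exact mul_mem hzQ hyQ
    have hkc : c * k = k * c := hcQ _ hkQ
    have h1 : ((k : X) * c) * (k * c) = z := by
      have h2 : (k : X) * c = t * c * (t : X)⁻¹ := by rw [hkX]; group
      rw [h2]
      calc (t : X) * c * (t : X)⁻¹ * (t * c * (t : X)⁻¹) = t * (c * c) * (t : X)⁻¹ := by group
        _ = t * z * (t : X)⁻¹ := by rw [hcz]
        _ = z * t * (t : X)⁻¹ := by rw [hzc _ t.2]
        _ = z := by group
    have h2 : (k : X) * k = 1 := by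
      have h3 : ((k : X) * c) * (k * c) = k * k * z := by
        calc ((k : X) * c) * (k * c) = k * (c * k) * c := by group
          _ = k * (k * c) * c := by rw [hkc]
          _ = k * k * (c * c) := by group
          _ = _ := by rw [hcz]
      rw [h1] at h3
      exact (mul_eq_right.1 h3.symm)
    have h3 : φ k = 1 := (hker k).2 (hQz _ hkQ h2)
    exact hd1 (by rw [← hφk, h3])
  -- hence `c` acts trivially modulo `z`
  have hmod : ∀ x ∈ K, c * x * c⁻¹ = x ∨ c * x * c⁻¹ = z * x := by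
    intro x hx
    have h1 : φ (γ ⟨x, hx⟩ * ⟨x, hx⟩⁻¹) = 1 := by
      have h2 := hσ' ⟨x, hx⟩
      rw [hσ1, one_mul, inv_one, mul_one] at h2
      rw [map_mul, Subtype.ext h2, map_inv, mul_inv_cancel]
    rcases (hker _).1 h1 with h2 | h2
    · left
      have h3 : c * x * c⁻¹ * x⁻¹ = 1 := h2
      exact mul_inv_eq_one.1 h3
    · right
      have h3 : c * x * c⁻¹ * x⁻¹ = z := h2
      exact mul_inv_eq_iff_eq_mul.1 h3
  have hcomm : ∀ x ∈ K, ∀ y ∈ K, ⁅x, y⁆ * c = c * ⁅x, y⁆ := by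
    intro x hx y hy
    have h1 : c * ⁅x, y⁆ * c⁻¹ = ⁅c * x * c⁻¹, c * y * c⁻¹⁆ := by
      simp only [commutatorElement_def]; group
    have hz1 : ∀ a ∈ K, ∀ b ∈ K, ⁅z * a, b⁆ = ⁅a, b⁆ := by
      intro a ha b hb
      have h2 := hzc _ (mul_mem (mul_mem ha hb) (inv_mem ha))
      calc ⁅z * a, b⁆ = z * (a * b * a⁻¹) * z⁻¹ * b⁻¹ := by
            rw [commutatorElement_def]; group
        _ = (a * b * a⁻¹ * z) * z⁻¹ * b⁻¹ := by rw [h2]
        _ = ⁅a, b⁆ := by rw [commutatorElement_def]; group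
    have hz2 : ∀ a ∈ K, ∀ b ∈ K, ⁅a, z * b⁆ = ⁅a, b⁆ := by
      intro a ha b hb
      have h2 := hz1 b hb a ha
      rw [← commutatorElement_inv, h2, commutatorElement_inv]
    have h2 : ⁅c * x * c⁻¹, c * y * c⁻¹⁆ = ⁅x, y⁆ := by
      rcases hmod x hx with e1 | e1 <;> rcases hmod y hy with e2 | e2 <;> rw [e1, e2]
      · exact hz2 x hx y hy
      · exact hz1 x hx y hy
      · rw [hz1 x hx _ (mul_mem hzK hy)]
        exact hz2 x hx y hy
    rw [h2] at h1
    exact (mul_inv_eq_iff_eq_mul.1 h1).symm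
  have hle : K ≤ centralizer ({c} : Set X) := by
    conv_lhs => rw [← hK]
    rw [commutator_le]
    intro x hx y hy
    rw [mem_centralizer_singleton_iff]
    exact hcomm x hx y hy
  intro x hx
  exact (mem_centralizer_singleton_iff.1 (hle hx)).symm

end Cfsg.Agent.LFourB.FixSeven
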