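import Mathlib
import Cfsg.Agent.LFourB.CentXSide
import Cfsg.Agent.LFourB.CentXCz
import Cfsg.Agent.LFourB.CentXId
import Cfsg.Agent.LFourB.FixSeven
import Cfsg.Agent.LFourB.ClBGlue

/-!
# The isomorphism type of the simple section of `C(x4)` (S0510, case B1)

Comparing the factor `K₁` of `C(z1)` with the standard `SL(2,q)` of the simple section `L` of `C(x4)`: `L` is `PSL(3,F)` with
`|F| = 1 mod 8` or `PSU(3,r)` with `r = 7 mod 8`, and `K₁ = SL(2,|F|)` or `SL(2,r)`; `K₁` is not a covering of `A₇`.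
-/

set_option autoImplicit false

namespace Cfsg.Agent.LFourB.CentXCmp

open Subgroup Cfsg.Agent.LFourB Cfsg.Agent.LFourB.ProdCent Cfsg.Agent.LFourA.CzCt Cfsg.Agent.LFourA.KlQuot
open Cfsg.Agent.LFourB.CentXCz Cfsg.Agent.LFourB.CentXModel Cfsg.Agent.LFourB.CentXCmpAbs Cfsg.Agent.LFourB.CentXSide

universe u

/-! ### The Sylow 2-subgroup of the simple section -/

section syl

variable {C : Type u} [Group C] [Finite C] {Q : Sylow 2 C} {W D : Subgroup C}
  {L : Subgroup (C ⧸ Cfsg.pPrimeCore 2 C)}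

theorem eq_one_of_mem (Q : Sylow 2 C) {x : C} (hx : x ∈ (Q : Subgroup C))
    (hx' : QuotientGroup.mk' (Cfsg.pPrimeCore 2 C) x = 1) : x = 1 := by
  have hcop : (Nat.card (Cfsg.pPrimeCore 2 C)).Coprime 2 := Lib.Cores.pPrimeCore_coprime 2
  have h1 : x ∈ Cfsg.pPrimeCore 2 C := (QuotientGroup.eq_one_iff x).1 hx'
  obtain ⟨k, hk⟩ := Q.isPGroup' ⟨x, hx⟩
  have h2 : orderOf x ∣ 2 ^ k := orderOf_dvd_of_pow_eq_one (congrArg Subtype.val hk)
  have h3 : orderOf x ∣ Nat.card (Cfsg.pPrimeCore 2 C) := by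
    have := orderOf_dvd_natCard (⟨x, h1⟩ : Cfsg.pPrimeCore 2 C)
    rwa [Subgroup.orderOf_mk] at this
  exact orderOf_eq_one_iff.1 (Nat.Coprime.eq_one_of_dvd
    (Nat.Coprime.coprime_dvd_left h3 (Nat.Coprime.pow_right k hcop)) h2)

theorem exists_sylow (h : CentXTail.Out Q W D L) (hW : Cfsg.IsWreathed W) (hWQ : W ≤ (Q : Subgroup C)) {n : ℕ}
    (hc : Nat.card W = 2 ^ n) :
    ∃ T : Sylow 2 L, Cfsg.IsWreathed (T : Subgroup L) ∧ (Nat.card L).factorization 2 = n := by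
  have hfact : Fact (Nat.Prime 2) := ⟨Nat.prime_two⟩
  have hn := h.normal
  let Q' : Sylow 2 (C ⧸ Cfsg.pPrimeCore 2 C) := Q.mapSurjective (QuotientGroup.mk'_surjective _)
  let T : Sylow 2 L := (Lib.SylowNormalInf.isPGroup_subgroupOf Q' L).toSylow
    (Lib.SylowNormalInf.not_dvd_relIndex Q' L)
  have hT : (T : Subgroup L) = (W.map (QuotientGroup.mk' (Cfsg.pPrimeCore 2 C))).subgroupOf L := by
    change (Q' : Subgroup (C ⧸ Cfsg.pPrimeCore 2 C)).subgroupOf L = _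
    have h1 := h.inf
    have h2 : (Q' : Subgroup (C ⧸ Cfsg.pPrimeCore 2 C)) =
      (Q : Subgroup C).map (QuotientGroup.mk' (Cfsg.pPrimeCore 2 C)) := Sylow.coe_mapSurjective _ _
    rw [h2, ← h1, inf_subgroupOf_left]
  have e1 : W ≃* W.map (QuotientGroup.mk' (Cfsg.pPrimeCore 2 C)) :=
    MulEquiv.ofBijective ((QuotientGroup.mk' (Cfsg.pPrimeCore 2 C)).subgroupMap W) ⟨by
      intro x y e
      have e' : QuotientGroup.mk' (Cfsg.pPrimeCore 2 C) ((x : C)⁻¹ * y) = 1 := by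
        have e2 : QuotientGroup.mk' (Cfsg.pPrimeCore 2 C) (x : C) = QuotientGroup.mk' (Cfsg.pPrimeCore 2 C) (y : C) :=
          congrArg Subtype.val e
        rw [map_mul, map_inv, e2, inv_mul_cancel]
      have h3 := eq_one_of_mem Q (mul_mem (inv_mem (hWQ x.2)) (hWQ y.2)) e'
      exact Subtype.ext (inv_mul_eq_one.1 h3), MonoidHom.subgroupMap_surjective _ _⟩
  have e2 : W ≃* (T : Subgroup L) := by
    rw [hT]
    exact e1.trans (subgroupOfEquivOfLe h.W_le).symm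
  refine ⟨T, TwoFusion.SylowTypeTransfer.isWreathed_of_mulEquiv e2 hW, ?_⟩
  have h4 := T.card_eq_multiplicity
  rw [← Nat.card_congr e2.toEquiv, hc] at h4
  exact (Nat.pow_right_injective le_rfl h4).symm

end syl

/-! ### The small fields -/

theorem psl_three {F : Type*} [Field F] [Fintype F] (h3 : Fintype.card F = 3) {K : Type*} [Group K]
    (e : K ≃* Matrix.ProjectiveSpecialLinearGroup (Fin 3) F) (h7 : 2 ^ 7 ∣ Nat.card K) : False := by
  have h1 := Cfsg.Agent.S0243.result h3 3 (by norm_num)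
  rw [← Nat.card_congr e.toEquiv, Fin.prod_univ_three] at h1
  norm_num at h1
  obtain ⟨c, hc⟩ := h7
  rw [hc] at h1
  omega

theorem psu_three {F : Type*} [Field F] [Fintype F] (h3 : Fintype.card F = 3 ^ 2) {K : Type*} [Group K]
    (e : K ≃* Cfsg.PSU 3 F 3) (h7 : 2 ^ 7 ∣ Nat.card K) : False := by
  have h1 := Cfsg.Agent.S0280.result h3 3 (by norm_num)
  rw [← Nat.card_congr e.toEquiv, Finset.prod_range_succ, Finset.prod_range_succ, Finset.prod_range_one] at h1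
  simp only [Even.zero, if_true, Nat.not_even_one, if_false, even_two] at h1
  norm_num at h1
  obtain ⟨c, hc⟩ := h7
  rw [hc] at h1
  omega

theorem two_ne {F : Type*} [Field F] [Fintype F] (h : Odd (Fintype.card F)) : (2 : F) ≠ 0 :=
  two_ne_zero_of_odd (Nat.odd_iff.1 h)

/-- `PSL(3,F)`, `PSU(3,r)`: the standard `SL(2,q)`. -/
theorem exists_hasStd {K : Type u} [Group K] (h : CentXId.Mdl K) (h7 : 2 ^ 7 ∣ Nat.card K) :
    ∃ (F : Type) (_ : Field F) (_ : Finite F), (2 : F) ≠ 0 ∧ 3 < Nat.card F ∧ HasStd K F ∧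
      ((∃ (F1 : Type) (_ : Field F1) (_ : Fintype F1), Odd (Fintype.card F1) ∧ Fintype.card F1 = Nat.card F ∧
          Nonempty (K ≃* Matrix.ProjectiveSpecialLinearGroup (Fin 3) F1)) ∨
        (∃ (F1 : Type) (_ : Field F1) (_ : Fintype F1) (q : ℕ), Fintype.card F1 = q ^ 2 ∧ Odd q ∧ q = Nat.card F ∧
          Nonempty (K ≃* Cfsg.PSU 3 F1 q))) := by
  rcases h with ⟨F, _, _, hF, ⟨e⟩⟩ | ⟨F, _, _, q, hF, hq, ⟨e⟩⟩
  · refine ⟨F, inferInstance, inferInstance, two_ne hF, ?_, (hasStd_psl (two_ne hF)).congr e,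
      Or.inl ⟨F, inferInstance, inferInstance, hF, Nat.card_eq_fintype_card.symm, ⟨e⟩⟩⟩
    have h1 : 1 < Nat.card F := Finite.one_lt_card
    rw [Nat.card_eq_fintype_card] at h1 ⊢
    by_contra hcon
    obtain ⟨k, hk⟩ := hF
    exact psl_three (by omega) e h7
  · have hF' : Odd (Fintype.card F) := by rw [hF]; exact hq.pow
    have hc : Nat.card (Phan.fixedField hF) = q := Phan.card_fixedField hF
    have h2 : (2 : Phan.fixedField hF) ≠ 0 := by
      intro h0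
      apply two_ne hF'
      have := congrArg (Subfield.subtype (Phan.fixedField hF)) h0
      rwa [map_ofNat, map_zero] at this
    refine ⟨Phan.fixedField hF, inferInstance, inferInstance, h2, ?_, (hasStd_psu hF (two_ne hF')).congr e,
      Or.inr ⟨F, inferInstance, inferInstance, q, hF, hq, hc.symm, ⟨e⟩⟩⟩
    have h1 : 1 < Nat.card (Phan.fixedField hF) := Finite.one_lt_card
    rw [hc] at h1 ⊢
    by_contra hcon
    obtain ⟨k, hk⟩ := hq
    obtain rfl : q = 3 := by omega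
    exact psu_three hF e h7

/-! ### The comparison -/

section main

variable {G : Type u} [Group G] [Finite G]

omit [Finite G] in
theorem quo_mk (t : G) : Quo t (QuotientGroup.mk' (Cfsg.pPrimeCore 2 ↥(centralizer ({t} : Set G)))) where
  surj := QuotientGroup.mk'_surjective _
  ker x := by
    rw [QuotientGroup.mk'_apply, QuotientGroup.eq_one_iff]
    constructor
    · intro hx
      exact ⟨x, hx, rfl⟩
    · rintro ⟨y, hy, e⟩
      rwa [← Subtype.ext e]

variable {m : ℕ} {f : R m → R m → R m → G} {u w : G} {P : Sylow 2 G}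
  {X : Type*} [Group X] {p : ↥(centralizer ({z1 f} : Set G)) →* X} {K₁ K₂ : Subgroup X}

/-- Coverings of `A₇`: the element `f 0 0 M` centralises the factors. -/
theorem fix_seven_one [Finite X] (h : BOne (P : Subgroup G) m f u w)
    (hcz : CZPA (z1 f) p K₁ K₂ P (Qone f u) (Qtwo f u w)) :
    Fix (p (self (z1 f))) K₁ (dn p (Qone f u)) := by
  obtain ⟨⟨a1, a2⟩, -⟩ := odd_relIndex P h.S_le_centralizer hcz.toCZP (Qone_le h) (Qtwo_le h)
  obtain ⟨φ, hφ, hker⟩ := hcz.a₁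
  intro c hc hn hq
  have hQK : dn p (Qone f u) ≤ K₁ := by
    intro x hx
    obtain ⟨g, hg, hgQ, rfl⟩ := mem_dn.1 hx
    exact (mem_up.1 (hcz.q₁ hgQ)).2
  refine FixSeven.fix_seven φ hφ hker (pz_ne h hcz.toCZP) hcz.perf₁ hc hQK a1 a2 ?_ hn hq
  intro x hx hxx
  obtain ⟨g, hg, hgQ, rfl⟩ := mem_dn.1 hx
  have hgS : g ∈ (P : Subgroup G) := Qone_le h hgQ
  have h1 : g * g = 1 := by
    obtain ⟨k, hk⟩ := P.isPGroup' ⟨g * g, mul_mem hgS hgS⟩
    refine eq_one_of_two (quo hcz.toCZP) (m := k) (mul_mem hg hg) ?_ (congrArg Subtype.val hk)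
    have h2 : p (⟨g, hg⟩ * ⟨g, hg⟩) = 1 := by rw [map_mul]; exact hxx
    exact h2
  obtain ⟨y, rfl⟩ := h.mem_Qone.1 hgQ
  rw [← h.qone_mul] at h1
  have h3 : y * y = 1 := by
    have h4 := h.tqq.f_inj (y * y) 1 1 1 (by rw [h.qq_one_right, h.qq_one_right, h1, h.qone_one])
    rcases h4 with h4 | h4
    · exact h4.1
    · exfalso
      have h5 := h4.2
      rw [mul_one] at h5
      exact SylowSp4.Coord.z_ne_one h5.symm
  rcases SylowSp4.Coord.eq_of_sq_one h3 with h4 | h4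
  · left
    subst h4
    have h5 : (⟨qone f u 1, hg⟩ : ↥(centralizer ({z1 f} : Set G))) = 1 := Subtype.ext h.qone_one
    rw [h5, map_one]
  · right
    subst h4
    exact congrArg p (Subtype.ext h.qone_z)

variable {Q : Sylow 2 ↥(centralizer ({x4 f} : Set G))} {ρ : ↥(centralizer ({x4 f} : Set G))}

/-- The isomorphism type of `L` with its standard subgroup of order `|K₁|`. -/
theorem exists_card (hFT : ∀ (K : Type u) [Group K] [Finite K], Odd (Nat.card K) → Group.IsSolvable K)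
    (h523 : ∀ (K : Type u) [Group K] [Finite K] [IsSimpleGroup K] (S : Sylow 2 K),
      Cfsg.IsWreathed (S : Subgroup K) →
      (∃ (F : Type) (_ : Field F) (_ : Fintype F), Odd (Fintype.card F) ∧
          Nonempty (K ≃* Matrix.ProjectiveSpecialLinearGroup (Fin 3) F)) ∨
        (∃ (F : Type) (_ : Field F) (_ : Fintype F) (q : ℕ), Fintype.card F = q ^ 2 ∧ Odd q ∧
          Nonempty (K ≃* Cfsg.PSU 3 F q)) ∨
        Cfsg.IsM11 K)
    (h : BOne (P : Subgroup G) m f u w)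
    (hcz : CZP (z1 f) p K₁ K₂ P (Qone f u) (Qtwo f u w)) (hKo : Cfsg.Agent.LFourA.KlOAbs.NoOdd K₁)
    (hF : Fix (p (self (z1 f))) K₁ (dn p (Qone f u)))
    (hx : XDat Q m (lft (centralizer ({x4 f} : Set G)) f) ⟨u, h.cx_u_mem_cent⟩ ρ)
    {L : Subgroup ((centralizer ({x4 f} : Set G) : Subgroup G) ⧸
      Cfsg.pPrimeCore 2 (centralizer ({x4 f} : Set G) : Subgroup G))}
    (hL : CentXTail.Out Q hx.Wr (Dd (lft (centralizer ({x4 f} : Set G)) f) ρ) L) :
    (Nat.card L).factorization 2 = 2 * m + 7 ∧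
    ∃ (F : Type) (_ : Field F) (_ : Finite F), (2 : F) ≠ 0 ∧ 3 < Nat.card F ∧
      Nat.card K₁ = Nat.card F * (Nat.card F ^ 2 - 1) ∧
      ((∃ (F1 : Type) (_ : Field F1) (_ : Fintype F1), Odd (Fintype.card F1) ∧ Fintype.card F1 = Nat.card F ∧
          Nonempty (L ≃* Matrix.ProjectiveSpecialLinearGroup (Fin 3) F1)) ∨
        (∃ (F1 : Type) (_ : Field F1) (_ : Fintype F1) (q : ℕ), Fintype.card F1 = q ^ 2 ∧ Odd q ∧ q = Nat.card F ∧
          Nonempty (L ≃* Cfsg.PSU 3 F1 q))) := by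
  have hfact : Fact (Nat.Prime 2) := ⟨Nat.prime_two⟩
  have hs := hL.simple
  obtain ⟨T, hTw, hTc⟩ := exists_sylow hL hx.isWreathed hx.Wr_le hx.card_Wr
  have hTc' : (Nat.card L).factorization 2 = 2 * m + 7 := by rw [hTc]; ring
  refine ⟨hTc', ?_⟩
  have h7 : 2 ^ 7 ∣ Nat.card L := by
    have h8 : 2 ^ (Nat.card L).factorization 2 ∣ Nat.card L := Nat.ordProj_dvd _ _
    exact (pow_dvd_pow 2 (by omega)).trans h8
  obtain ⟨F, _, _, h2, h3, hstd, hmod⟩ := exists_hasStd (CentXId.exists_model h523 T hTw h7) h7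
  refine ⟨F, inferInstance, inferInstance, h2, h3, ?_, hmod⟩
  have hT := h.cx_T_le_cent
  have hz1 : z1 (lft (centralizer ({x4 f} : Set G)) f) ∈ hx.Wr :=
    hx.mem_Wr_of_phi (hx.Tor_le (hx.f_mem_Tor BOne.good1)) hx.phi_z1
  have hz3 : z3 (lft (centralizer ({x4 f} : Set G)) f) ∈ hx.Wr := by
    apply hx.Tone_le_Wr
    rw [← hx.ρ_z1]
    apply hx.ρ_mem_Tone
    refine ⟨hx.f_mem_Tor BOne.good1, ?_⟩
    have h1 := hx.phi_z1
    have h2 : z1 (lft (centralizer ({x4 f} : Set G)) f) ∈ Tor (lft (centralizer ({x4 f} : Set G)) f) :=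
      hx.f_mem_Tor BOne.good1
    rwa [hx.phi_T h2] at h1
  have e1 : ((z1 (lft (centralizer ({x4 f} : Set G)) f) : ↥(centralizer ({x4 f} : Set G))) : G) = z1 f :=
    h.cx_lft_coe hT BOne.good1
  have e3 : ((z3 (lft (centralizer ({x4 f} : Set G)) f) : ↥(centralizer ({x4 f} : Set G))) : G) = z3 f :=
    h.cx_lft_coe hT BOne.good3
  have hz1c : z1 f ∈ centralizer ({x4 f} : Set G) := by rw [← e1]; exact Subtype.prop _
  have hz3c : z3 f ∈ centralizer ({x4 f} : Set G) := by rw [← e3]; exact Subtype.prop _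
  have hne : K₁ ≠ ⊥ := by
    intro h0
    have h4 := hcz.z₁
    rw [h0, mem_bot] at h4
    exact pz_ne h hcz h4
  refine card_eq_std (z := z1 f) (t := x4 f) (s := z3 f) hFT (quo hcz) hcz.perf₁ hne hKo
    (fun y hy => exists_lift_one h hcz hF hy) (fun g hg hgx => norm_one h hcz hF hg hgx)
    (quo_mk (x4 f)) hL.normal hL.le_residual hL.odd hstd h2 h3 hz1c h.z1_mul_z1 (z1_ne h) ?_ hz3c ?_ ?_ ?_ ?_ ?_
  · refine hL.W_le ⟨z1 (lft (centralizer ({x4 f} : Set G)) f), hz1, ?_⟩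
    exact congrArg _ (Subtype.ext e1)
  · rw [z3, h.f_mul _ _ _ _ _ _ BOne.good3 BOne.good3, N_add_N, h.f_zero]
  · rw [z3, Ne, h.f_eq_one_iff BOne.good3]
    exact fun e => N_ne_zero e.1
  · refine hL.W_le ⟨z3 (lft (centralizer ({x4 f} : Set G)) f), hz3, ?_⟩
    exact congrArg _ (Subtype.ext e3)
  · exact h.f_comm BOne.good1 BOne.good3
  · rw [z1, z3, Ne, h.f_eq_iff BOne.good1 BOne.good3]
    exact fun e => N_ne_zero e.1.symm

/-- The isomorphism type of the simple section `L` of `C(x4)` and its relation to the field of `K₁`. -/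
def Cmp (m : ℕ) (L : Type u) [Group L] (q : ℕ) : Prop :=
  (∃ (F1 : Type) (_ : Field F1) (_ : Fintype F1), Fintype.card F1 = q ∧ q % 8 = 1 ∧ 2 ^ (m + 3) ∣ q - 1 ∧
      ¬ 2 ^ (m + 4) ∣ q - 1 ∧ Nonempty (L ≃* Matrix.ProjectiveSpecialLinearGroup (Fin 3) F1)) ∨
    (∃ (F1 : Type) (_ : Field F1) (_ : Fintype F1), Fintype.card F1 = q ^ 2 ∧ q % 8 = 7 ∧ 2 ^ (m + 3) ∣ q + 1 ∧
      ¬ 2 ^ (m + 4) ∣ q + 1 ∧ Nonempty (L ≃* Cfsg.PSU 3 F1 q))

theorem Cmp.typ {L : Type u} [Group L] {q : ℕ} (h : Cmp m L q) : Typ L := by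
  rcases h with ⟨F1, i1, i2, hc, h8, -, -, e⟩ | ⟨F1, i1, i2, hc, h8, -, -, e⟩
  · exact Or.inl ⟨F1, i1, i2, by rw [hc]; exact h8, e⟩
  · exact Or.inr ⟨F1, i1, i2, q, hc, h8, e⟩

theorem Cmp.mdl {L : Type u} [Group L] {q : ℕ} (h : Cmp m L q) : CentXId.Mdl L := by
  rcases h with ⟨F1, i1, i2, hc, h8, -, -, e⟩ | ⟨F1, i1, i2, hc, h8, -, -, e⟩
  · exact Or.inl ⟨F1, i1, i2, Nat.odd_iff.2 (by rw [hc]; omega), e⟩
  · exact Or.inr ⟨F1, i1, i2, q, hc, Nat.odd_iff.2 (by omega), e⟩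

/-- **The factors of `C(z1)` are `SL(2,q)`, and the simple section of `C(x4)` is `PSL(3,q)` with `q = 1 mod 8` or
`PSU(3,q)` with `q = 7 mod 8`.** -/
theorem main (hFT : ∀ (K : Type u) [Group K] [Finite K], Odd (Nat.card K) → Group.IsSolvable K)
    (h523 : ∀ (K : Type u) [Group K] [Finite K] [IsSimpleGroup K] (S : Sylow 2 K),
      Cfsg.IsWreathed (S : Subgroup K) →
      (∃ (F : Type) (_ : Field F) (_ : Fintype F), Odd (Fintype.card F) ∧
          Nonempty (K ≃* Matrix.ProjectiveSpecialLinearGroup (Fin 3) F)) ∨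
        (∃ (F : Type) (_ : Field F) (_ : Fintype F) (q : ℕ), Fintype.card F = q ^ 2 ∧ Odd q ∧
          Nonempty (K ≃* Cfsg.PSU 3 F q)) ∨
        Cfsg.IsM11 K)
    (h : BOne (P : Subgroup G) m f u w)
    (hx : XDat Q m (lft (centralizer ({x4 f} : Set G)) f) ⟨u, h.cx_u_mem_cent⟩ ρ)
    {L : Subgroup ((centralizer ({x4 f} : Set G) : Subgroup G) ⧸
      Cfsg.pPrimeCore 2 (centralizer ({x4 f} : Set G) : Subgroup G))}
    (hL : CentXTail.Out Q hx.Wr (Dd (lft (centralizer ({x4 f} : Set G)) f) ρ) L)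
    (hK : (∃ (F : Type) (_ : Field F) (_ : Fintype F), Odd (Fintype.card F) ∧
        CZPL (z1 f) F p K₁ K₂ (P : Subgroup G) (Qone f u) (Qtwo f u w)) ∨
      (m = 0 ∧ CZPA (z1 f) p K₁ K₂ (P : Subgroup G) (Qone f u) (Qtwo f u w))) :
    ∃ (F : Type) (_ : Field F) (_ : Fintype F), Odd (Fintype.card F) ∧
      CZPL (z1 f) F p K₁ K₂ (P : Subgroup G) (Qone f u) (Qtwo f u w) ∧ Cmp m L (Fintype.card F) := by
  rcases hK with ⟨F, _, _, hodd, hcz⟩ | ⟨-, hcz⟩
  · have : Finite X := Finite.of_surjective p hcz.surj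
    refine ⟨F, inferInstance, inferInstance, hodd, hcz, ?_⟩
    obtain ⟨e⟩ := hcz.e₁
    have hcK : Nat.card K₁ = Nat.card F * (Nat.card F ^ 2 - 1) := card_of_sl e
    have hfac := factorization_one h hcz.toCZP
    have h2 : (2 : F) ≠ 0 := two_ne hodd
    have h1 : 1 < Nat.card F := Finite.one_lt_card
    have h3 : 3 < Nat.card F := by
      rw [← Nat.card_eq_fintype_card] at hodd
      by_contra hcon
      obtain ⟨k, hk⟩ := hodd
      have h4 : Nat.card F = 3 := by omega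
      rw [hcK, h4] at hfac
      have h5 : (3 * (3 ^ 2 - 1)).factorization 2 = 3 := by
        rw [show 3 * (3 ^ 2 - 1) = 2 ^ 3 * 3 by norm_num, Nat.factorization_mul (by norm_num) (by norm_num),
          Finsupp.add_apply, Nat.Prime.factorization_pow Nat.prime_two, Finsupp.single_eq_same,
          Nat.factorization_eq_zero_of_not_dvd (by norm_num)]
      omega
    obtain ⟨hLf, F', _, _, h2', h3', hc, hmod⟩ := exists_card hFT h523 h hcz.toCZP (sl_noOdd h2 h3 e)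
      (fix_sl h2 h hcz).1 hx hL
    have hFF : Nat.card F = Nat.card F' := by
      apply Cfsg.Agent.LFourA.KlOAbs.eq_of_cubic _ h1 (by omega)
      rw [← hcK, hc]
    rw [hc] at hfac
    rw [← Nat.card_eq_fintype_card, hFF]
    rcases hmod with ⟨F1, i1, i2, ho, hc1, ⟨e1⟩⟩ | ⟨F1, i1, i2, r, hc1, ho, hr, ⟨e1⟩⟩
    · left
      rw [← hc1] at hfac
      have h5 := CentXId.plus ho e1 hLf hfac
      exact ⟨F1, i1, i2, hc1, hc1 ▸ h5.2.2, hc1 ▸ h5.1, hc1 ▸ h5.2.1, ⟨e1⟩⟩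
    · right
      subst hr
      have h5 := CentXId.minus hc1 ho e1 hLf hfac
      exact ⟨F1, i1, i2, hc1, h5.2.2, h5.1, h5.2.1, ⟨e1⟩⟩
  · exfalso
    have : Finite X := Finite.of_surjective p hcz.surj
    obtain ⟨φ, hφ, hker⟩ := hcz.a₁
    obtain ⟨-, F', _, _, h2', h3', hc, -⟩ := exists_card hFT h523 h hcz.toCZP
      (seven_noOdd φ hφ hker (pz_sq h hcz.toCZP)) (fix_seven_one h hcz) hx hL
    rw [seven_card φ hφ hker (pz_ne h hcz.toCZP) hcz.z₁] at hc
    exact seven_ne hc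

end main

end Cfsg.Agent.LFourB.CentXCmp
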