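import Cfsg.Agent.LFourB.EssTwo

/-!
# The subgroup `Ru = B ⟨h1, u⟩` and its odd automorphisms
-/

set_option autoImplicit false

namespace Cfsg.Agent.LFourB.EssThree

open Subgroup Cfsg.Agent.LFourB.EssHalf Cfsg.Agent.LFourB.EssOne
open Cfsg.Agent.LFourB.EssTwo

section Half

variable {C : Type*} [Group C] {P : Subgroup C} {m : ℕ} {f : R m → R m → R m → C} {u : C} {X : Subgroup C}

theorem good_t0 (m : ℕ) : Good (M m) 0 (-((2 ^ m : ℕ) : R m)) :=
  ⟨0, by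
    have : (M m : R m) = 2 * ((2 ^ m : ℕ) : R m) := by rw [M]; push_cast; ring
    rw [this]; ring⟩

/-- the element `t0 = diag (ζ, ζ⁻¹, 1, 1)` moves `t u` to `h1 t u` -/
theorem conj_t0 (h : Half P m f u) {t : C} (ht : t ∈ Tor f) :
    f (M m) 0 (-((2 ^ m : ℕ) : R m)) * (t * u) * (f (M m) 0 (-((2 ^ m : ℕ) : R m)))⁻¹ = h1 f * (t * u) := by
  set t0 := f (M m) 0 (-((2 ^ m : ℕ) : R m)) with ht0
  have hg := good_t0 m
  have ht0T : t0 ∈ Tor f := h.f_mem_Tor hg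
  have e1 : t0 * (t * u) * t0⁻¹ = (t0 * (u * t0⁻¹ * u)) * (t * u) := by
    have k1 : t * (u * t0⁻¹ * u) = (u * t0⁻¹ * u) * t := h.Tor_comm ht (h.conj_u_mem (inv_mem ht0T))
    have k2 : t0 * (t * u) * t0⁻¹ = t0 * (t * (u * t0⁻¹ * u)) * u⁻¹ := by group
    rw [k2, k1, h.u_inv]
    group
  have e2 : t0 * (u * t0⁻¹ * u) = h1 f := by
    rw [ht0, h.f_inv hg, h.u_f_u hg.neg, h.f_mul _ _ _ _ _ _ hg hg.neg.actu, h1]
    have k1 : (M m : R m) + M m = N m := M_add_M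
    congr 1
    · rw [neg_neg]; exact k1
    · rw [neg_zero, add_zero]
    · ring
  rw [e1, e2]

theorem mem_normalizer_of [Finite C] {g : C} (hg : ∀ e ∈ X, g * e * g⁻¹ ∈ X) : g ∈ normalizer (X : Set C) := by
  rw [Cfsg.Agent.Lib.GoldschmidtFusion.mem_normalizer_iff_map_conj]
  refine Subgroup.eq_of_le_of_card_ge ?_ (by rw [Cfsg.Agent.Lib.GoldschmidtFusion.card_map_conj])
  rintro _ ⟨e, he, rfl⟩
  exact hg e he

/-! ### The subgroup `Ru` -/

/-- `Ru` as a set -/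
def RS (h : Half P m f u) : Subgroup C where
  carrier := {e | ∃ p q r, 2 * p = 0 ∧ Good p q r ∧ (e = f p q r ∨ e = f p q r * u)}
  one_mem' := ⟨0, 0, 0, mul_zero 2, Good.zero, Or.inl h.f_zero.symm⟩
  mul_mem' := by
    rintro a b ⟨p, q, r, hp, hg, ha⟩ ⟨p', q', r', hp', hg', hb⟩
    have k1 : 2 * (p + p') = 0 := by rw [mul_add, hp, hp', add_zero]
    have k2 : 2 * (p + -p') = 0 := by rw [mul_add, mul_neg, hp, hp', neg_zero, add_zero]
    rcases ha with rfl | rfl <;> rcases hb with rfl | rfl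
    · exact ⟨_, _, _, k1, hg.add hg', Or.inl (h.f_mul _ _ _ _ _ _ hg hg')⟩
    · exact ⟨_, _, _, k1, hg.add hg', Or.inr (by rw [← mul_assoc, h.f_mul _ _ _ _ _ _ hg hg'])⟩
    · refine ⟨_, _, _, k2, hg.add hg'.actu, Or.inr ?_⟩
      rw [mul_assoc, h.u_f _ _ _ hg', ← mul_assoc, h.f_mul _ _ _ _ _ _ hg hg'.actu]
    · refine ⟨_, _, _, k2, hg.add hg'.actu, Or.inl ?_⟩
      have e1 : f p q r * u * (f p' q' r' * u) = f p q r * (u * f p' q' r' * u) := by group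
      rw [e1, h.u_f_u hg', h.f_mul _ _ _ _ _ _ hg hg'.actu]
  inv_mem' := by
    rintro a ⟨p, q, r, hp, hg, ha⟩
    rcases ha with rfl | rfl
    · exact ⟨_, _, _, by rw [mul_neg, hp, neg_zero], hg.neg, Or.inl (h.f_inv hg)⟩
    · refine ⟨_, _, _, ?_, hg.neg.actu, Or.inr ?_⟩
      · rw [neg_neg]; exact hp
      · rw [mul_inv_rev, h.u_inv, h.f_inv hg, h.u_f _ _ _ hg.neg]

theorem f_mem_Ru (h : Half P m f u) {p q r : R m} (hp : 2 * p = 0) (hg : Good p q r) : f p q r ∈ Ru f u := by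
  have hh : h1 f ∈ Ru f u := mem_sup_right (subset_closure (Or.inl rfl))
  have hB : Bu f ≤ Ru f u := le_sup_left
  rcases eq_of_two_mul hp with rfl | rfl
  · exact hB (h.f_mem_Bu hg)
  · have hg' : Good (0 : R m) q (r + M m) := by
      have := hg.sub BOne.goodh1
      rwa [sub_self, sub_zero, sub_neg_eq_add] at this
    have e1 : f (N m) q r = h1 f * f 0 q (r + M m) := by
      rw [h1, h.f_mul _ _ _ _ _ _ BOne.goodh1 hg']
      congr 1 <;> ring
    rw [e1]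
    exact mul_mem hh (hB (h.f_mem_Bu hg'))

theorem Ru_eq (h : Half P m f u) : Ru f u = RS h := by
  apply le_antisymm
  · refine sup_le ?_ ?_
    · intro b hb
      obtain ⟨q, r, hg, rfl⟩ := h.mem_Bu.1 hb
      exact ⟨0, q, r, mul_zero 2, hg, Or.inl rfl⟩
    · rw [closure_le]
      rintro x (rfl | rfl)
      · exact ⟨N m, 0, -M m, two_mul_N, BOne.goodh1, Or.inl rfl⟩
      · exact ⟨0, 0, 0, mul_zero 2, Good.zero, Or.inr (by rw [h.f_zero, one_mul])⟩
  · rintro x ⟨p, q, r, hp, hg, rfl | rfl⟩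
    · exact f_mem_Ru h hp hg
    · exact mul_mem (f_mem_Ru h hp hg) (mem_sup_right (subset_closure (Or.inr rfl)))

theorem mem_Ru (h : Half P m f u) {e : C} :
    e ∈ Ru f u ↔ ∃ p q r, 2 * p = 0 ∧ Good p q r ∧ (e = f p q r ∨ e = f p q r * u) := by
  rw [Ru_eq h]; rfl

theorem u_mem_Ru : u ∈ Ru f u := mem_sup_right (subset_closure (Or.inr rfl))

theorem h1_mem_Ru : h1 f ∈ Ru f u := mem_sup_right (subset_closure (Or.inl rfl))

theorem Bu_le_Ru : Bu f ≤ Ru f u := le_sup_left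

theorem Ru_le (h : Half P m f u) : Ru f u ≤ P := by
  intro e he
  obtain ⟨p, q, r, -, hg, k⟩ := (mem_Ru h).1 he
  exact (h.mem_iff e).2 ⟨p, q, r, hg, k⟩

theorem two_of_mem_Ru (h : Half P m f u) {p q r : R m} (hg : Good p q r) (he : f p q r ∈ Ru f u) : 2 * p = 0 := by
  obtain ⟨p', q', r', hp, hg', k | k⟩ := (mem_Ru h).1 he
  · rw [((h.f_eq_iff hg hg').1 k).1]; exact hp
  · exact absurd (k ▸ h.f_mem_Tor hg) (h.tu_notMem (h.f_mem_Tor hg'))

theorem EX_Ru (h : Half P m f u) : EX P (Ru f u) f u where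
  le := Ru_le h
  cen := by
    rintro e ⟨hc, heP⟩
    have hc' := mem_centralizer_iff.1 hc
    rcases h.mem_or heP with k | ⟨t', ht', rfl⟩
    · obtain ⟨p, q, r, hg, rfl⟩ := h.mem_Tor.1 k
      have k1 := hc' u u_mem_Ru
      rw [h.u_f _ _ _ hg] at k1
      have k2 := (h.f_eq_iff hg.actu hg).1 (mul_right_cancel k1)
      have : p = 0 := by linear_combination k2.2.2
      subst this
      exact Bu_le_Ru (h.f_mem_Bu hg)
    · exfalso
      have k1 := h.conj_T ht' h.h1_mem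
      rw [← hc' _ h1_mem_Ru, mul_inv_cancel_right, h.u_h1_u] at k1
      exact h.z1_ne (left_eq_mul.1 k1)
  tu := ⟨1, one_mem _, by rw [one_mul]; exact u_mem_Ru⟩
  h1X := h1_mem_Ru
  two := fun _ _ _ hg he => two_of_mem_Ru h hg he

/-- an element `t u` with square `z1` is `T`-conjugate to `f 0 q M * u` -/
theorem exists_conj_u (h : Half P m f u) {t : C} (ht : t ∈ Tor f) (hsq : (t * u) * (t * u) = z1 f) :
    ∃ y ∈ Tor f, ∃ q : R m, (q = 0 ∨ q = N m) ∧ Good 0 q (M m) ∧ y⁻¹ * (t * u) * y = f 0 q (M m) * u := by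
  obtain ⟨p, q, r, hgd, htf⟩ := h.mem_Tor.1 ht
  have hcoord : 2 * q = 0 ∧ 2 * r + p = N m := by
    have k1 : (t * u) * (t * u) = f 0 (2 * q) (2 * r + p) := by
      have e1 : (t * u) * (t * u) = t * (u * t * u) := by group
      rw [e1, htf, h.u_f_u hgd, h.f_mul _ _ _ _ _ _ hgd hgd.actu]
      congr 1 <;> ring
    have hgg : Good 0 (2 * q) (2 * r + p) := by
      have := hgd.add hgd.actu
      rw [add_neg_cancel] at this
      have e1 : q + q = 2 * q := by ring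
      have e2 : r + (r + p) = 2 * r + p := by ring
      rwa [e1, e2] at this
    rw [hsq, z1, h.f_eq_iff BOne.good1 hgg] at k1
    exact ⟨k1.2.1.symm, k1.2.2.symm⟩
  have k5 : (2 : R m) * M m = N m := two_mul_M
  set c : R m := M m - r with hc
  have hgy : Good c (-c) 0 := ⟨0, by ring⟩
  have hyT : f c (-c) 0 ∈ Tor f := h.f_mem_Tor hgy
  have hgM : Good 0 q (M m) := by
    obtain ⟨a, ha⟩ := hgd
    exact ⟨a, by linear_combination ha - hcoord.2 + k5⟩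
  refine ⟨f c (-c) 0, hyT, q, eq_of_two_mul hcoord.1, hgM, ?_⟩
  have e1 : (f c (-c) 0)⁻¹ * (t * u) * f c (-c) 0 = (t * ((f c (-c) 0)⁻¹ * (u * f c (-c) 0 * u))) * u := by
    have k1 : (f c (-c) 0)⁻¹ * t = t * (f c (-c) 0)⁻¹ := h.Tor_comm (inv_mem hyT) ht
    have k2 : (f c (-c) 0)⁻¹ * (t * u) * f c (-c) 0 = ((f c (-c) 0)⁻¹ * t) * u * f c (-c) 0 := by group
    rw [k2, k1]
    have k4 : t * ((f c (-c) 0)⁻¹ * (u * f c (-c) 0 * u)) * u = t * (f c (-c) 0)⁻¹ * u * f c (-c) 0 * (u * u) := by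
      group
    rw [k4, h.u_u, mul_one]
  rw [e1, h.f_inv hgy, h.u_f_u hgy, h.f_mul _ _ _ _ _ _ hgy.neg hgy.actu, htf,
    h.f_mul _ _ _ _ _ _ hgd (hgy.neg.add hgy.actu)]
  congr 2
  · rw [hc]; linear_combination hcoord.2 - k5
  · ring
  · rw [hc]; ring

theorem map_conj_eq (h : Half P m f u) (hX : EX P X f u) {t : C} (ht : t ∈ Tor f) (htu : t * u ∈ X) {y : C}
    (hy : y ∈ Tor f) {q : R m} (hq : Good 0 q (M m)) (hyt : y⁻¹ * (t * u) * y = f 0 q (M m) * u) :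
    X = (Ru f u).map (MulAut.conj y).toMonoidHom := by
  have hB := Bu_le' h hX.le hX.cen
  have hTX : ∀ a ∈ Ru f u, a ∈ Tor f → a ∈ X := by
    intro a ha haT
    rcases mem_T h (EX_Ru h) ha haT with k | ⟨b, hb, rfl⟩
    · exact hB k
    · exact mul_mem hX.h1X (hB hb)
  have hXT : ∀ a ∈ X, a ∈ Tor f → a ∈ Ru f u := by
    intro a ha haT
    rcases mem_T h hX ha haT with k | ⟨b, hb, rfl⟩
    · exact Bu_le_Ru k
    · exact mul_mem h1_mem_Ru (Bu_le_Ru hb)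
  have hfq : f 0 q (M m) ∈ Ru f u := Bu_le_Ru (h.f_mem_Bu hq)
  have hyt' : y * (f 0 q (M m) * u) * y⁻¹ = t * u := by rw [← hyt]; group
  apply le_antisymm
  · intro e he
    refine ⟨y⁻¹ * e * y, ?_, by simp [mul_assoc]⟩
    rcases h.mem_or (hX.le he) with k | ⟨t', ht', k⟩
    · have e1 : y⁻¹ * e * y = e := by rw [mul_assoc, h.Tor_comm k hy, inv_mul_cancel_left]
      rw [e1]
      exact hXT e he k
    · have e1 : e * (t * u)⁻¹ = t' * t⁻¹ := by rw [k]; group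
      have k1 : e * (t * u)⁻¹ ∈ Tor f := by rw [e1]; exact mul_mem ht' (inv_mem ht)
      have k2 := hXT _ (mul_mem he (inv_mem htu)) k1
      have e2 : y⁻¹ * e * y = (y⁻¹ * (e * (t * u)⁻¹) * y) * (y⁻¹ * (t * u) * y) := by group
      have e3 : y⁻¹ * (e * (t * u)⁻¹) * y = e * (t * u)⁻¹ := by
        rw [mul_assoc, h.Tor_comm k1 hy, inv_mul_cancel_left]
      rw [e2, e3, hyt]
      exact mul_mem k2 (mul_mem hfq u_mem_Ru)
  · rintro _ ⟨e, he, rfl⟩
    change y * e * y⁻¹ ∈ X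
    rcases h.mem_or (Ru_le h he) with k | ⟨t', ht', k⟩
    · rw [h.Tor_comm hy k, mul_inv_cancel_right]
      exact hTX e he k
    · have k3 : e * (f 0 q (M m) * u)⁻¹ ∈ Tor f := by
        have e1 : e * (f 0 q (M m) * u)⁻¹ = t' * (f 0 q (M m))⁻¹ := by rw [k]; group
        rw [e1]
        exact mul_mem ht' (inv_mem (h.f_mem_Tor hq))
      have k2 := hTX _ (mul_mem he (inv_mem (mul_mem hfq u_mem_Ru))) k3
      have e2 : y * e * y⁻¹ = (y * (e * (f 0 q (M m) * u)⁻¹) * y⁻¹) * (y * (f 0 q (M m) * u) * y⁻¹) := by group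
      rw [e2, h.Tor_comm hy k3, mul_inv_cancel_right, hyt']
      exact mul_mem k2 htu

theorem exists_conj_eq (h : Half P m f u) (hX : EX P X f u) {g : C} (hx : g * x4 f = x4 f * g)
    (hg : g ∈ normalizer (X : Set C)) (ho : ¬ 2 ∣ orderOf g) (hgc : g ∉ centralizer (X : Set C)) :
    ∃ y ∈ Tor f, ∃ q : R m, (q = 0 ∨ q = N m) ∧ Good 0 q (M m) ∧ y⁻¹ * (g * h1 f * g⁻¹) * y = f 0 q (M m) * u ∧
      X = (Ru f u).map (MulAut.conj y).toMonoidHom := by
  have hnm := conj_h1_notMem h hX hx hg ho hgc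
  have he1X : g * h1 f * g⁻¹ ∈ X := conj_mem_of hg hX.h1X
  obtain ⟨t, ht, het⟩ : ∃ t ∈ Tor f, g * h1 f * g⁻¹ = t * u := by
    rcases h.mem_or (hX.le he1X) with k | k
    · exact absurd k hnm
    · exact k
  have hgz : g * z1 f = z1 f * g := odd_comm_Bu h hX hx hg ho h.z1_mem
  have hsq : (t * u) * (t * u) = z1 f := by
    have e1 : g * h1 f * g⁻¹ * (g * h1 f * g⁻¹) = g * (h1 f * h1 f) * g⁻¹ := by group
    rw [← het, e1, h.h1_sq, hgz, mul_inv_cancel_right]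
  obtain ⟨y, hy, q, hq, hgq, hyt⟩ := exists_conj_u h ht hsq
  exact ⟨y, hy, q, hq, hgq, by rw [het, hyt], map_conj_eq h hX ht (het ▸ he1X) hy hgq hyt⟩

/-- **(E1)** centric subgroups of `P` with a nontrivial odd automorphism commuting with `x4`. -/
theorem eq_Tor_or (h : Half P m f u) (hXP : X ≤ P) (hcen : centralizer (X : Set C) ⊓ P ≤ X) {g : C}
    (hx : g * x4 f = x4 f * g) (hg : g ∈ normalizer (X : Set C)) (ho : ¬ 2 ∣ orderOf g)
    (hgc : g ∉ centralizer (X : Set C)) :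
    X = Tor f ∨ ∃ y ∈ Tor f, X = (Ru f u).map (MulAut.conj y).toMonoidHom := by
  by_cases hT : X ≤ Tor f
  · exact Or.inl (eq_Tor h hcen hT)
  · obtain ⟨y, hy, -, -, -, -, k⟩ := exists_conj_eq h (EX.of_odd h hXP hcen hT hg hx ho hgc) hx hg ho hgc
    exact Or.inr ⟨y, hy, k⟩

end Half

end Cfsg.Agent.LFourB.EssThree
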