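import Cfsg.Agent.LFourB.Invol

/-!
# Large abelian subgroups of a 2-group of type `PSL 4 q`, `q = 1 mod 8`; weak closure of the torus
-/

set_option autoImplicit false

namespace Cfsg.Agent.LFourB

variable {G : Type*} [Group G] {S : Subgroup G} {m : ℕ} {f : R m → R m → R m → G} {u w : G}

namespace BOne

/-- `u` normalises the torus etc. -/
theorem u_conj_Tor (h : BOne S m f u w) {t : G} (ht : t ∈ Tor f) : u * t * u⁻¹ ∈ Tor f := by
  obtain ⟨p, q, r, hg, rfl⟩ := h.mem_Tor.mp ht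
  rw [h.u_f _ _ _ hg, mul_inv_cancel_right]
  exact h.f_mem_Tor hg.actu

theorem w_conj_Tor (h : BOne S m f u w) {t : G} (ht : t ∈ Tor f) : w * t * w⁻¹ ∈ Tor f := by
  obtain ⟨p, q, r, hg, rfl⟩ := h.mem_Tor.mp ht
  rw [h.w_f _ _ _ hg, mul_inv_cancel_right]
  exact h.f_mem_Tor hg.actw

/-- The torus is normal in `S`. -/
theorem conj_mem_Tor (h : BOne S m f u w) {s t : G} (hs : s ∈ S) (ht : t ∈ Tor f) : s * t * s⁻¹ ∈ Tor f := by
  have h1 : h.pi (⟨s, hs⟩ * ⟨t, h.Tor_le ht⟩ * ⟨s, hs⟩⁻¹) = 1 := by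
    rw [map_mul, map_mul, h.pi_Tor ht, mul_one, map_inv, mul_inv_cancel]
  exact h.pi_eq_one_iff.mp h1

theorem S_le_normalizer (h : BOne S m f u w) : S ≤ Subgroup.normalizer (Tor f : Set G) := by
  intro s hs
  rw [Subgroup.mem_normalizer_iff]
  intro t
  constructor
  · exact fun ht => h.conj_mem_Tor hs ht
  · intro ht
    have h1 := h.conj_mem_Tor (S.inv_mem hs) ht
    have h2 : s⁻¹ * (s * t * s⁻¹) * s⁻¹⁻¹ = t := by group
    rwa [h2] at h1

theorem pi_sg (h : BOne S m f u w) : h.pi ⟨sg u w, h.sg_mem⟩ = Equiv.swap 0 1 * Equiv.swap 2 3 := by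
  have h1 : (⟨sg u w, h.sg_mem⟩ : S) = ⟨u, h.u_mem⟩ * ⟨ub u w, h.ub_mem⟩ := rfl
  rw [h1, map_mul, h.pi_u, h.pi_ub]

theorem pi_sgw (h : BOne S m f u w) : h.pi ⟨sgw u w, h.sgw_mem⟩ = Equiv.swap 0 3 * Equiv.swap 1 2 := by
  have h1 : (⟨sgw u w, h.sgw_mem⟩ : S) = ⟨sg u w, h.sg_mem⟩ * ⟨w, h.w_mem⟩ := rfl
  rw [h1, map_mul, h.pi_sg, h.pi_w]
  decide

theorem exists_eq_of_pi_eq (h : BOne S m f u w) {g d : G} (hg : g ∈ S) (hd : d ∈ S)
    (he : h.pi ⟨g, hg⟩ = h.pi ⟨d, hd⟩) : ∃ t ∈ Tor f, g = t * d := by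
  refine ⟨g * d⁻¹, ?_, by group⟩
  have h1 : h.pi (⟨g, hg⟩ * ⟨d, hd⟩⁻¹) = 1 := by rw [map_mul, map_inv, he, mul_inv_cancel]
  exact h.pi_eq_one_iff.mp h1

theorem overV_iff (h : BOne S m f u w) {g : G} (hg : g ∈ S) : OverV f u w g ↔
    (h.pi ⟨g, hg⟩ = Equiv.swap 0 1 * Equiv.swap 2 3 ∨ h.pi ⟨g, hg⟩ = Equiv.swap 0 2 * Equiv.swap 1 3 ∨
      h.pi ⟨g, hg⟩ = Equiv.swap 0 3 * Equiv.swap 1 2) := by
  constructor
  · rintro ⟨t, ht, rfl | rfl | rfl⟩
    · left; rw [h.pi_mul ht h.sg_mem, h.pi_sg]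
    · right; left; rw [h.pi_mul ht h.w_mem, h.pi_w]
    · right; right; rw [h.pi_mul ht h.sgw_mem, h.pi_sgw]
  · rintro (h1 | h1 | h1)
    · obtain ⟨t, ht, rfl⟩ := h.exists_eq_of_pi_eq hg h.sg_mem (h1.trans h.pi_sg.symm)
      exact ⟨t, ht, Or.inl rfl⟩
    · obtain ⟨t, ht, rfl⟩ := h.exists_eq_of_pi_eq hg h.w_mem (h1.trans h.pi_w.symm)
      exact ⟨t, ht, Or.inr (Or.inl rfl)⟩
    · obtain ⟨t, ht, rfl⟩ := h.exists_eq_of_pi_eq hg h.sgw_mem (h1.trans h.pi_sgw.symm)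
      exact ⟨t, ht, Or.inr (Or.inr rfl)⟩

theorem overU_iff (h : BOne S m f u w) {g : G} (hg : g ∈ S) : OverU f u w g ↔
    (h.pi ⟨g, hg⟩ = Equiv.swap 0 1 ∨ h.pi ⟨g, hg⟩ = Equiv.swap 2 3) := by
  constructor
  · rintro ⟨t, ht, rfl | rfl⟩
    · left; rw [h.pi_mul ht h.u_mem, h.pi_u]
    · right; rw [h.pi_mul ht h.ub_mem, h.pi_ub]
  · rintro (h1 | h1)
    · obtain ⟨t, ht, rfl⟩ := h.exists_eq_of_pi_eq hg h.u_mem (h1.trans h.pi_u.symm)
      exact ⟨t, ht, Or.inl rfl⟩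
    · obtain ⟨t, ht, rfl⟩ := h.exists_eq_of_pi_eq hg h.ub_mem (h1.trans h.pi_ub.symm)
      exact ⟨t, ht, Or.inr rfl⟩

theorem exists_pi_eq (h : BOne S m f u w) (s : S) : ∃ i j l : Bool, h.pi s =
    (if i then Equiv.swap 0 1 else 1) * (if j then Equiv.swap 2 3 else 1) *
      (if l then Equiv.swap 0 2 * Equiv.swap 1 3 else 1) := by
  obtain ⟨t, ht, i, j, l, hs⟩ := h.exists_rep s.2
  refine ⟨i, j, l, ?_⟩
  rw [← h.pi_rep, ← h.pi_mul_rep ht]
  congr 1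
  exact Subtype.ext hs

theorem overV_conj (h : BOne S m f u w) {s g : G} (hs : s ∈ S) (hg : OverV f u w g) : OverV f u w (s * g * s⁻¹) := by
  have hgS := h.overV_mem hg
  have hsg : s * g * s⁻¹ ∈ S := S.mul_mem (S.mul_mem hs hgS) (S.inv_mem hs)
  rw [h.overV_iff hsg]
  rw [h.overV_iff hgS] at hg
  have h1 : h.pi ⟨s * g * s⁻¹, hsg⟩ = h.pi ⟨s, hs⟩ * h.pi ⟨g, hgS⟩ * (h.pi ⟨s, hs⟩)⁻¹ := by
    rw [← map_inv, ← map_mul, ← map_mul]
    rfl
  rw [h1]
  obtain ⟨i, j, l, h2⟩ := h.exists_pi_eq ⟨s, hs⟩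
  rw [h2]
  clear h2 h1
  rcases hg with h3 | h3 | h3 <;> rw [h3] <;> revert i j l <;> decide

theorem overU_conj (h : BOne S m f u w) {s g : G} (hs : s ∈ S) (hg : OverU f u w g) : OverU f u w (s * g * s⁻¹) := by
  have hgS := h.overU_mem hg
  have hsg : s * g * s⁻¹ ∈ S := S.mul_mem (S.mul_mem hs hgS) (S.inv_mem hs)
  rw [h.overU_iff hsg]
  rw [h.overU_iff hgS] at hg
  have h1 : h.pi ⟨s * g * s⁻¹, hsg⟩ = h.pi ⟨s, hs⟩ * h.pi ⟨g, hgS⟩ * (h.pi ⟨s, hs⟩)⁻¹ := by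
    rw [← map_inv, ← map_mul, ← map_mul]
    rfl
  rw [h1]
  obtain ⟨i, j, l, h2⟩ := h.exists_pi_eq ⟨s, hs⟩
  rw [h2]
  clear h2 h1
  rcases hg with h3 | h3 <;> rw [h3] <;> revert i j l <;> decide

theorem not_overV_overU (h : BOne S m f u w) {g : G} (hg : OverU f u w g) : ¬ OverV f u w g := by
  intro hV
  have hgS := h.overU_mem hg
  rw [h.overV_iff hgS] at hV
  rw [h.overU_iff hgS] at hg
  rcases hg with h1 | h1 <;> rw [h1] at hV <;> revert hV <;> decide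

/-- The abelian subgroups with an element over `u`, none over `V#`. -/
theorem abelian_over_u (h : BOne S m f u w) {D : Subgroup G} (hD : D ≤ S)
    (hab : ∀ x ∈ D, ∀ y ∈ D, x * y = y * x) (hV : ∀ x ∈ D, ¬ OverV f u w x) {t : G} (ht : t ∈ Tor f)
    (htu : t * u ∈ D) : (D ⊓ Tor f : Subgroup G) ≤ Bu f ∧ ∀ x ∈ D, x ∈ Tor f ∨ x * (t * u)⁻¹ ∈ (D ⊓ Tor f : Subgroup G) := by
  constructor
  · intro k hk
    exact h.mem_Bu_iff.mpr ⟨hk.2, (h.comm_mul_iff ht hk.2).mp (hab _ hk.1 _ htu)⟩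
  · intro x hx
    by_cases hxT : x ∈ Tor f
    · exact Or.inl hxT
    · right
      refine ⟨D.mul_mem hx (D.inv_mem htu), ?_⟩
      rcases h.trichotomy (hD hx) hxT with h1 | h1 | h1
      · obtain ⟨t', ht', rfl | rfl⟩ := h1
        · have : t' * u * (t * u)⁻¹ = t' * t⁻¹ := by group
          rw [this]
          exact (Tor f).mul_mem ht' ((Tor f).inv_mem ht)
        · exfalso
          apply hV _ (D.mul_mem htu hx)
          refine ⟨t * (u * t' * u⁻¹), (Tor f).mul_mem ht (h.u_conj_Tor ht'), Or.inl ?_⟩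
          rw [sg]
          group
      · exact (hV _ hx h1).elim
      · exact (hV _ (D.mul_mem hx hx) h1).elim

theorem card_abelian_over_u (h : BOne S m f u w) {D : Subgroup G} (hD : D ≤ S)
    (hab : ∀ x ∈ D, ∀ y ∈ D, x * y = y * x) (hV : ∀ x ∈ D, ¬ OverV f u w x) {t : G} (ht : t ∈ Tor f)
    (htu : t * u ∈ D) : Nat.card D ≤ 2 ^ (2 * m + 5) := by
  obtain ⟨h1, h2⟩ := h.abelian_over_u hD hab hV ht htu
  have h3 : Nat.card D ≤ Nat.card (Bool × Bu f) := by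
    have : Finite (Bu f) := Nat.finite_of_card_ne_zero (by rw [h.card_Bu]; positivity)
    apply card_le_of_surj (fun a : Bool × Bu f => if a.1 then (a.2 : G) * (t * u) else a.2)
    intro x hx
    rcases h2 x hx with hxT | hxT
    · exact ⟨(false, ⟨x, h1 ⟨hx, hxT⟩⟩), rfl⟩
    · exact ⟨(true, ⟨_, h1 hxT⟩), inv_mul_cancel_right x (t * u)⟩
  rw [Nat.card_prod, h.card_Bu] at h3
  have h4 : Nat.card Bool = 2 := by simp
  rw [h4, ← pow_succ'] at h3
  exact h3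

theorem map_conj_le (_h : BOne S m f u w) {D : Subgroup G} (hD : D ≤ S) {s : G} (hs : s ∈ S) :
    D.map (MulAut.conj s).toMonoidHom ≤ S := by
  rintro _ ⟨x, hx, rfl⟩
  exact S.mul_mem (S.mul_mem hs (hD hx)) (S.inv_mem hs)

theorem comm_map_conj {D : Subgroup G} (hab : ∀ x ∈ D, ∀ y ∈ D, x * y = y * x) (s : G) :
    ∀ x ∈ D.map (MulAut.conj s).toMonoidHom, ∀ y ∈ D.map (MulAut.conj s).toMonoidHom, x * y = y * x := by
  rintro _ ⟨x, hx, rfl⟩ _ ⟨y, hy, rfl⟩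
  rw [← map_mul, ← map_mul, hab x hx y hy]

theorem card_map_conj (D : Subgroup G) (s : G) : Nat.card (D.map (MulAut.conj s).toMonoidHom) = Nat.card D :=
  (Nat.card_congr (D.equivMapOfInjective _ (MulAut.conj s).injective).toEquiv).symm

theorem mem_map_conj {D : Subgroup G} {s x : G} : x ∈ D.map (MulAut.conj s).toMonoidHom ↔ s⁻¹ * x * s ∈ D := by
  constructor
  · rintro ⟨y, hy, rfl⟩
    have : s⁻¹ * (MulAut.conj s).toMonoidHom y * s = y := by simp [mul_assoc]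
    rw [this]; exact hy
  · intro hx
    exact ⟨_, hx, by simp [mul_assoc]⟩

/-- **Abelian subgroups of `S` not contained in the torus are small.** -/
theorem card_abelian_le (h : BOne S m f u w) {D : Subgroup G} (hD : D ≤ S)
    (hab : ∀ x ∈ D, ∀ y ∈ D, x * y = y * x) (hT : ¬ D ≤ Tor f) : Nat.card D ≤ 2 ^ (2 * m + 5) := by
  by_cases hV : ∃ x ∈ D, OverV f u w x
  · obtain ⟨x, hx, hxV⟩ := hV
    refine (h.card_le_of_overV hD hab hx hxV).trans ?_
    exact Nat.pow_le_pow_right (by norm_num) (by omega)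
  · push Not at hV
    obtain ⟨g, hgD, hgT⟩ := SetLike.not_le_iff_exists.mp hT
    rcases h.trichotomy (hD hgD) hgT with h1 | h1 | h1
    · obtain ⟨t, ht, rfl | rfl⟩ := h1
      · exact h.card_abelian_over_u hD hab hV ht hgD
      · -- conjugate by `w`
        rw [← card_map_conj D w]
        have e1 : w * (t * ub u w) * w⁻¹ = (w * t * w⁻¹) * u := by
          have : w * (t * ub u w) * w⁻¹ = (w * t * w⁻¹) * (w * ub u w * w⁻¹) := by group
          rw [this, h.w_mul_ub, mul_inv_cancel_right]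
        refine h.card_abelian_over_u (h.map_conj_le hD h.w_mem) (comm_map_conj hab w) ?_ (h.w_conj_Tor ht) ?_
        · intro x hx hxV
          rw [mem_map_conj] at hx
          have h3 := h.overV_conj (S.inv_mem h.w_mem) hxV
          rw [inv_inv] at h3
          exact hV _ hx h3
        · rw [← e1, mem_map_conj]
          have : w⁻¹ * (w * (t * ub u w) * w⁻¹) * w = t * ub u w := by group
          rw [this]
          exact hgD
    · exact (hV _ hgD h1).elim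
    · exact (hV _ (D.mul_mem hgD hgD) h1).elim

/-- The torus is the only abelian subgroup of its order in `S`. -/
theorem eq_Tor (h : BOne S m f u w) {D : Subgroup G} (hD : D ≤ S) (hab : ∀ x ∈ D, ∀ y ∈ D, x * y = y * x)
    (hc : 2 ^ (3 * m + 7) ≤ Nat.card D) : D = Tor f := by
  have hle : D ≤ Tor f := by
    by_contra hcon
    have h1 := hc.trans (h.card_abelian_le hD hab hcon)
    have h2 : 2 ^ (2 * m + 5) < 2 ^ (3 * m + 7) := Nat.pow_lt_pow_right (by norm_num) (by omega)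
    omega
  have : Finite (Tor f) := Nat.finite_of_card_ne_zero (by rw [h.card_Tor]; positivity)
  exact Subgroup.eq_of_le_of_card_ge hle (by rw [h.card_Tor]; exact hc)

/-- **The torus is weakly closed.** -/
theorem weakly_closed (h : BOne S m f u w) {g : G} (hg : (Tor f).map (MulAut.conj g).toMonoidHom ≤ S) :
    (Tor f).map (MulAut.conj g).toMonoidHom = Tor f := by
  apply h.eq_Tor hg (comm_map_conj (fun x hx y hy => h.Tor_comm hx hy) g)
  rw [card_map_conj, h.card_Tor]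

/-- No abelian subgroup of order `|P|` contains an element over `V#`. -/
theorem not_overV_of_card (h : BOne S m f u w) {D : Subgroup G} (hD : D ≤ S)
    (hab : ∀ x ∈ D, ∀ y ∈ D, x * y = y * x) (hc : 2 ^ (2 * m + 5) ≤ Nat.card D) : ∀ x ∈ D, ¬ OverV f u w x := by
  intro x hx hxV
  have h1 := hc.trans (h.card_le_of_overV hD hab hx hxV)
  have h2 : 2 ^ (m + 4) < 2 ^ (2 * m + 5) := Nat.pow_lt_pow_right (by norm_num) (by omega)
  omega

/-- **The abelian subgroups of order `|P|` with an involution outside the torus are the conjugates of `P`.** -/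
theorem exists_conj_Pu (h : BOne S m f u w) {D : Subgroup G} (hD : D ≤ S)
    (hab : ∀ x ∈ D, ∀ y ∈ D, x * y = y * x) (hc : 2 ^ (2 * m + 5) ≤ Nat.card D) {v : G} (hvD : v ∈ D)
    (hvT : v ∉ Tor f) (hi : v * v = 1) : ∃ s ∈ S, D.map (MulAut.conj s).toMonoidHom = Pu f u := by
  have hV := h.not_overV_of_card hD hab hc
  have hvU : OverU f u w v := (h.involution_cases (hD hvD) hvT hi).resolve_right (hV v hvD)
  obtain ⟨s, hs, hv⟩ := h.exists_conj_overU hvU hi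
  refine ⟨s⁻¹, S.inv_mem hs, ?_⟩
  set D' := D.map (MulAut.conj s⁻¹).toMonoidHom with hD'
  have hD'S : D' ≤ S := h.map_conj_le hD (S.inv_mem hs)
  have hab' : ∀ x ∈ D', ∀ y ∈ D', x * y = y * x := comm_map_conj hab s⁻¹
  have hV' : ∀ x ∈ D', ¬ OverV f u w x := by
    intro x hx hxV
    rw [hD', mem_map_conj, inv_inv] at hx
    exact hV _ hx (h.overV_conj hs hxV)
  obtain ⟨t, ht, htu, htB⟩ : ∃ t ∈ Tor f, t * u ∈ D' ∧ t ∈ Bu f := by
    rcases hv with rfl | rfl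
    · exact ⟨1, (Tor f).one_mem, by rw [hD', mem_map_conj, one_mul, inv_inv]; exact hvD, (Bu f).one_mem⟩
    · refine ⟨x4 f, h.f_mem_Tor goodx4, by rw [hD', mem_map_conj, inv_inv]; exact hvD, ?_⟩
      exact h.mem_Bu.mpr ⟨_, _, goodx4, rfl⟩
  obtain ⟨h1, h2⟩ := h.abelian_over_u hD'S hab' hV' ht htu
  have hle : D' ≤ Pu f u := by
    intro x hx
    rcases h2 x hx with hxT | hxT
    · exact h.mem_Pu.mpr ⟨x, h1 ⟨hx, hxT⟩, Or.inl rfl⟩
    · refine h.mem_Pu.mpr ⟨x * (t * u)⁻¹ * t, (Bu f).mul_mem (h1 hxT) htB, Or.inr ?_⟩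
      group
  have : Finite (Pu f u) := Nat.finite_of_card_ne_zero (by rw [h.card_Pu]; positivity)
  exact Subgroup.eq_of_le_of_card_ge hle (by rw [h.card_Pu, hD', card_map_conj]; exact hc)

end BOne

end Cfsg.Agent.LFourB
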