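import Cfsg.Agent.LFourB.ClBComm
import Cfsg.Agent.LFourB.Weak
import Cfsg.Agent.LFourB.EssThree
import Cfsg.Agent.Lib.TwoClassEnd
import Cfsg.Agent.TwoFusion.IsolatedCenter

/-!
# Closing of type `B1`: fusion of involutions in a subgroup containing `C(z1)`, `C(x4)` and `N(T)`
-/

set_option autoImplicit false

namespace Cfsg.Agent.LFourB

open Subgroup

variable {G : Type*} [Group G] {S : Subgroup G} {m : ℕ} {f : R m → R m → R m → G} {u w : G}

/-- The odd element fusing `h1` and `f 0 q M * u` (the output of `EssOne.exists_d`). -/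
structure DD {G : Type*} [Group G] {m : ℕ} (f : R m → R m → R m → G) (u d : G) (q : R m) : Prop where
  q_eq : q = 0 ∨ q = N m
  odd : ¬ 2 ∣ orderOf d
  comm : ∀ b ∈ Bu f, d * b = b * d
  h1 : d * h1 f * d⁻¹ = f 0 q (M m) * u
  e1 : d * (f 0 q (M m) * u) * d⁻¹ = LFourB.h1 f * (f 0 q (M m) * u) ∨
    d * (f 0 q (M m) * u) * d⁻¹ = LFourB.h1 f * (f 0 q (M m) * u) * z1 f
  cent : ∀ c : G, (∀ b ∈ Bu f, c * b = b * c) → c * LFourB.h1 f = LFourB.h1 f * c → c * u = u * c →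
    ∀ n : ℕ, c ^ 2 ^ n = 1 → c ∈ Bu f

namespace ClB

theorem comm_conj {g c x : G} (h : c * (g * x * g⁻¹) = g * x * g⁻¹ * c) : g⁻¹ * c * g * x = x * (g⁻¹ * c * g) := by
  calc g⁻¹ * c * g * x = g⁻¹ * (c * (g * x * g⁻¹)) * g := by group
    _ = g⁻¹ * (g * x * g⁻¹ * c) * g := by rw [h]
    _ = x * (g⁻¹ * c * g) := by group

theorem kap {g e x y : G} (h1 : e * x = x * e) (h2 : e * y = y * e) (hg : g * x * g⁻¹ = y) :
    g⁻¹ * e * g * e⁻¹ * x = x * (g⁻¹ * e * g * e⁻¹) := by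
  have h3 : e⁻¹ * x = x * e⁻¹ := by rw [inv_mul_eq_iff_eq_mul, ← mul_assoc, h1, mul_inv_cancel_right]
  calc g⁻¹ * e * g * e⁻¹ * x = g⁻¹ * e * g * (e⁻¹ * x) := by group
    _ = g⁻¹ * e * (g * x * g⁻¹) * g * e⁻¹ := by rw [h3]; group
    _ = g⁻¹ * (e * y) * g * e⁻¹ := by rw [hg]; group
    _ = g⁻¹ * (g * x * g⁻¹) * e * g * e⁻¹ := by rw [h2, hg]; group
    _ = x * (g⁻¹ * e * g * e⁻¹) := by group

/-- The centraliser of `B`, `x`, `y`. -/
def CC (B : Subgroup G) (x y : G) : Subgroup G := centralizer ((B : Set G) ∪ {x, y})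

theorem mem_CC {B : Subgroup G} {x y c : G} :
    c ∈ CC B x y ↔ (∀ b ∈ B, c * b = b * c) ∧ c * x = x * c ∧ c * y = y * c := by
  rw [CC, mem_centralizer_iff]
  constructor
  · intro h
    exact ⟨fun b hb => (h b (Or.inl hb)).symm, (h x (Or.inr (by simp))).symm, (h y (Or.inr (by simp))).symm⟩
  · rintro ⟨h1, h2, h3⟩ b (hb | hb)
    · exact (h1 b hb).symm
    · rcases hb with rfl | rfl
      · exact h2.symm
      · exact h3.symm

end ClB

namespace BOne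

theorem good_qM {q : R m} (hq : q = 0 ∨ q = N m) : Good 0 q (M m) := by
  rcases hq with rfl | rfl
  · exact good_of_N (Or.inl rfl) (Or.inl rfl) four_mul_M
  · exact goodh2

theorem comm_Bu_Tor (h : BOne S m f u w) {b t : G} (hb : b ∈ Bu f) (ht : t ∈ Tor f) : b * t = t * b :=
  h.Tor_comm (h.mem_Bu_iff.mp hb).1 ht

theorem h1_mem_Tor (h : BOne S m f u w) : LFourB.h1 f ∈ Tor f := h.f_mem_Tor goodh1

theorem h1_mul_h1 (h : BOne S m f u w) : LFourB.h1 f * LFourB.h1 f = z1 f := by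
  rw [LFourB.h1, h.f_mul _ _ _ _ _ _ goodh1 goodh1, N_add_N, add_zero, z1]
  congr 1
  rw [← neg_add, M_add_M, neg_N]

/-- The odd element can be chosen in the centraliser of `e`. -/
theorem exists_comm_e [Finite G] (h : BOne S m f u w) {d : G} {q : R m} (D : DD f u d q) {t : G} (ht : t ∈ Tor f)
    {e : G} (heB : ∀ b ∈ Bu f, e * b * e⁻¹ ∈ Bu f) (hee : e * e ∈ Bu f) (he1 : e * h1 f = h1 f * e)
    (he2 : e * (t * (f 0 q (M m) * u) * t⁻¹) = t * (f 0 q (M m) * u) * t⁻¹ * e) :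
    ∃ d', (∀ b ∈ Bu f, d' * b = b * d') ∧ d' * h1 f * d'⁻¹ = t * (f 0 q (M m) * u) * t⁻¹ ∧ e * d' = d' * e := by
  set e1 := t * (f 0 q (M m) * u) * t⁻¹ with he1d
  set dt := t * d * t⁻¹ with hdt
  have hBt : ∀ b ∈ Bu f, b * t = t * b := fun b hb => h.comm_Bu_Tor hb ht
  have hBt' : ∀ b ∈ Bu f, t⁻¹ * b = b * t⁻¹ := fun b hb => by
    rw [inv_mul_eq_iff_eq_mul, ← mul_assoc, ← hBt b hb, mul_inv_cancel_right]
  have hh1t : h1 f * t = t * h1 f := h.Tor_comm h.h1_mem_Tor ht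
  have hh1t' : t⁻¹ * h1 f = h1 f * t⁻¹ := by
    rw [inv_mul_eq_iff_eq_mul, ← mul_assoc, ← hh1t, mul_inv_cancel_right]
  have hz1t' : t⁻¹ * z1 f = z1 f * t⁻¹ := by
    rw [← h.h1_mul_h1, ← mul_assoc, hh1t', mul_assoc, hh1t', mul_assoc]
  have hdB : ∀ b ∈ Bu f, dt * b = b * dt := by
    intro b hb
    calc dt * b = t * d * (t⁻¹ * b) := by rw [hdt]; group
      _ = t * (d * b) * t⁻¹ := by rw [hBt' b hb]; group
      _ = t * b * d * t⁻¹ := by rw [D.comm b hb]; group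
      _ = b * dt := by rw [← hBt b hb, hdt]; group
  have hdh1 : dt * h1 f * dt⁻¹ = e1 := by
    calc dt * h1 f * dt⁻¹ = t * d * (t⁻¹ * h1 f) * t * d⁻¹ * t⁻¹ := by rw [hdt]; group
      _ = t * (d * h1 f * d⁻¹) * t⁻¹ := by rw [hh1t']; group
      _ = e1 := by rw [D.h1]
  have hde1 : ∃ ζ, (ζ = 1 ∨ ζ = z1 f) ∧ dt * e1 * dt⁻¹ = h1 f * e1 * ζ := by
    have h0 : dt * e1 * dt⁻¹ = t * (d * (f 0 q (M m) * u) * d⁻¹) * t⁻¹ := by rw [hdt, he1d]; group
    rcases D.e1 with k | k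
    · refine ⟨1, Or.inl rfl, ?_⟩
      rw [h0, k, mul_one, he1d]
      rw [← mul_assoc t (h1 f), ← hh1t]
      group
    · refine ⟨z1 f, Or.inr rfl, ?_⟩
      rw [h0, k, he1d]
      calc t * (h1 f * (f 0 q (M m) * u) * z1 f) * t⁻¹ = t * h1 f * (f 0 q (M m) * u) * (z1 f * t⁻¹) := by group
        _ = h1 f * (t * (f 0 q (M m) * u) * t⁻¹) * z1 f := by rw [← hz1t', ← hh1t]; group
  obtain ⟨ζ, hζ, hde1⟩ := hde1
  -- commuting with `ζ`
  have hcζ : ∀ c : G, c * h1 f = h1 f * c → c * ζ = ζ * c := by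
    intro c hc
    rcases hζ with rfl | rfl
    · rw [mul_one, one_mul]
    · rw [← h.h1_mul_h1, ← mul_assoc, hc, mul_assoc, hc, mul_assoc]
  have heB' : ∀ b ∈ Bu f, e⁻¹ * b * e ∈ Bu f := by
    intro b hb
    have h1 : e⁻¹ * b * e = (e * e)⁻¹ * (e * b * e⁻¹) * (e * e) := by group
    rw [h1]
    exact (Bu f).mul_mem ((Bu f).mul_mem ((Bu f).inv_mem hee) (heB b hb)) hee
  set C := ClB.CC (Bu f) (h1 f) e1 with hC
  have hprod : ∀ c : G, c * h1 f = h1 f * c → c * e1 = e1 * c → c * (h1 f * e1 * ζ) = h1 f * e1 * ζ * c := by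
    intro c h1 h2
    calc c * (LFourB.h1 f * e1 * ζ) = c * LFourB.h1 f * e1 * ζ := by group
      _ = LFourB.h1 f * (c * e1) * ζ := by rw [h1]; group
      _ = LFourB.h1 f * e1 * (c * ζ) := by rw [h2]; group
      _ = LFourB.h1 f * e1 * ζ * c := by rw [hcζ c h1]; group
  obtain ⟨c, hc, hce⟩ := ClB.exists_comm (G := G) (d := dt) (e := e) (B := Bu f) (C := C) (n := orderOf d)
    (a := 2 * m + 4) (by rw [hdt, conj_pow, pow_orderOf_eq_one, mul_one, mul_inv_cancel]) D.odd h.card_Bu hdB heB hee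
    (by
      intro b hb
      rw [hC, ClB.mem_CC]
      refine ⟨fun b' hb' => h.comm_Bu_Tor hb (h.mem_Bu_iff.mp hb').1, h.comm_Bu_Tor hb h.h1_mem_Tor, ?_⟩
      have h3 : b * (f 0 q (M m) * u) = f 0 q (M m) * u * b := by
        rw [← mul_assoc, h.comm_Bu_Tor hb (h.f_mem_Tor (good_qM D.q_eq)), mul_assoc, (h.mem_Bu_iff.mp hb).2, mul_assoc]
      calc b * e1 = b * t * (f 0 q (M m) * u) * t⁻¹ := by rw [he1d]; group
        _ = t * (b * (f 0 q (M m) * u)) * t⁻¹ := by rw [hBt b hb]; group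
        _ = t * (f 0 q (M m) * u) * (b * t⁻¹) := by rw [h3]; group
        _ = e1 * b := by rw [← hBt' b hb, he1d]; group)
    (by
      intro b hb c hc
      rw [hC, ClB.mem_CC] at hc
      exact (hc.1 b hb).symm)
    (by
      intro c hc k hk
      rw [hC, ClB.mem_CC] at hc
      obtain ⟨hc1, hc2, hc3⟩ := hc
      have h0 : t⁻¹ * c * t ∈ Bu f := by
        have hf : t⁻¹ * c * t * (f 0 q (M m) * u) = f 0 q (M m) * u * (t⁻¹ * c * t) := ClB.comm_conj hc3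
        have hb : ∀ b ∈ Bu f, t⁻¹ * c * t * b = b * (t⁻¹ * c * t) := by
          intro b hb
          apply ClB.comm_conj
          rw [← hBt b hb, mul_inv_cancel_right]
          exact hc1 b hb
        apply D.cent (t⁻¹ * c * t) hb _ _ k
        · have h4 : t⁻¹ * c * t = t⁻¹ * c * (t⁻¹)⁻¹ := by rw [inv_inv]
          rw [h4, conj_pow, hk, mul_one, mul_inv_cancel]
        · apply ClB.comm_conj
          rw [← hh1t, mul_inv_cancel_right]
          exact hc2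
        · have h5 := hb _ (h.mem_Bu.mpr ⟨q, M m, good_qM D.q_eq, rfl⟩)
          have h6 : f 0 q (M m) * (t⁻¹ * c * t * u) = f 0 q (M m) * (u * (t⁻¹ * c * t)) := by
            rw [← mul_assoc, ← h5, mul_assoc, hf, mul_assoc]
          exact mul_left_cancel h6
      have h1 : c = t * (t⁻¹ * c * t) * t⁻¹ := by group
      rw [h1, ← hBt _ h0, mul_inv_cancel_right]
      exact h0)
    (by
      intro c hc
      rw [hC, ClB.mem_CC] at hc ⊢
      obtain ⟨hc1, hc2, hc3⟩ := hc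
      refine ⟨fun b hb => ClB.comm_conj ?_, ClB.comm_conj ?_, ClB.comm_conj ?_⟩
      · rw [hdB b hb, mul_inv_cancel_right]
        exact hc1 b hb
      · rw [hdh1]
        exact hc3
      · rw [hde1]
        exact hprod c hc2 hc3)
    (by
      intro c hc
      rw [hC, ClB.mem_CC] at hc ⊢
      obtain ⟨hc1, hc2, hc3⟩ := hc
      have key : ∀ x, c * (e⁻¹ * x * e) = e⁻¹ * x * e * c → e * c * e⁻¹ * x = x * (e * c * e⁻¹) := by
        intro x hx
        have h1 := ClB.comm_conj (g := e⁻¹) (c := c) (x := x) (by rw [inv_inv]; exact hx)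
        rwa [inv_inv] at h1
      refine ⟨fun b hb => key b (hc1 _ (heB' b hb)), key _ ?_, key _ ?_⟩
      · rw [mul_assoc, ← he1, inv_mul_cancel_left]
        exact hc2
      · rw [mul_assoc, ← he2, inv_mul_cancel_left]
        exact hc3)
    (by
      rw [hC, ClB.mem_CC]
      refine ⟨?_, ClB.kap he1 he2 hdh1, ClB.kap he2 (hprod e he1 he2) hde1⟩
      intro b hb
      have hb' := heB' b hb
      calc dt⁻¹ * e * dt * e⁻¹ * b = dt⁻¹ * e * (dt * (e⁻¹ * b * e)) * e⁻¹ := by group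
        _ = dt⁻¹ * b * e * dt * e⁻¹ := by rw [hdB _ hb']; group
        _ = dt⁻¹ * (b * dt) * dt⁻¹ * e * dt * e⁻¹ := by group
        _ = b * (dt⁻¹ * e * dt * e⁻¹) := by rw [← hdB b hb]; group)
  rw [hC, ClB.mem_CC] at hc
  obtain ⟨hc1, hc2, hc3⟩ := hc
  refine ⟨dt * c, fun b hb => ?_, ?_, hce⟩
  · rw [mul_assoc, hc1 b hb, ← mul_assoc, hdB b hb, mul_assoc]
  · calc dt * c * h1 f * (dt * c)⁻¹ = dt * (c * h1 f) * c⁻¹ * dt⁻¹ := by group
      _ = dt * h1 f * dt⁻¹ := by rw [hc2]; group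
      _ = e1 := hdh1

end BOne

end Cfsg.Agent.LFourB
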