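import Cfsg.Agent.LFourB.EssSeven
import Cfsg.Agent.LFourB.EFactJ
import Cfsg.Agent.LFourB.ClBFus

/-!
# The beginning of type B1 in one theorem

`start`: in a simple group with Sylow 2-subgroup of type `PSL 4 q`, `q = 1 mod 8`, after replacing `u` by `x4 u` if
necessary: the element `d`, fusion of the involutions, the subgroup of index two of `C(z1)`.
-/

set_option autoImplicit false

namespace Cfsg.Agent.LFourB.EssEight

open Subgroup Cfsg.Agent.LFourB.EssHalf Cfsg.Agent.LFourB.EssOne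
open Cfsg.Agent.LFourB.EssTwo Cfsg.Agent.LFourB.EssThree Cfsg.Agent.LFourB.EssFour Cfsg.Agent.LFourB.EssFive
open Cfsg.Agent.LFourB.EssSix Cfsg.Agent.LFourB.EssSeven

section

variable {G : Type*} [Group G] [Finite G] {S : Sylow 2 G} {m : ℕ} {f : R m → R m → R m → G} {u w : G}

omit [Finite G] in
/-- the frame used for the closing -/
theorem exists_DD (h : BOne (S : Subgroup G) m f u w) (hF : Full (Sx f u) (Ru f u) f) {d : G} (hd : DData f u d) :
    ∃ d', DD f u d' 0 := by
  have hh := half h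
  have hy : Good (M m) (-M m) 0 := ⟨0, by ring⟩
  have hyT : f (M m) (-M m) 0 ∈ Tor f := h.f_mem_Tor hy
  set y := f (M m) (-M m) 0 with hyd
  have hyh : y * h1 f = h1 f * y := h.Tor_comm hyT hh.h1_mem
  have hyB : ∀ b ∈ Bu f, y * b = b * y := fun b hb => h.Tor_comm hyT (h.Bu_le hb)
  -- `y (u x1) y⁻¹`
  have k1 : y * (u * x1 f) * y⁻¹ = f 0 0 (M m) * u := by
    have hg8 : Good (2 * M m) 0 (-M m) := ⟨0, by ring⟩
    rw [EssFive.u_x1 hh, hyd, h.e_conj_u hy BOne.goodx2, ← mul_assoc, h.f_mul _ _ _ _ _ _ hg8 BOne.goodx2]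
    congr 2
    · linear_combination two_mul_M (m := m) + two_mul_N (m := m)
    · ring
    · linear_combination -two_mul_M (m := m)
  refine ⟨y * d * y⁻¹, Or.inl rfl, ?_, ?_, ?_, Or.inl ?_, ?_⟩
  · have e1 : y * d * y⁻¹ = MulAut.conj y d := rfl
    rw [e1, MulEquiv.orderOf_eq]
    exact hd.odd
  · intro b hb
    have c1 : Commute y b := hyB b hb
    have c2 : Commute d b := hd.comm b hb
    exact ((c1.mul_left c2).mul_left c1.inv_left).eq
  · have e1 : y * d * y⁻¹ * h1 f * (y * d * y⁻¹)⁻¹ = y * (d * (y⁻¹ * h1 f * y) * d⁻¹) * y⁻¹ := by group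
    have e2 : y⁻¹ * h1 f * y = h1 f := by rw [mul_assoc, ← hyh, inv_mul_cancel_left]
    rw [e1, e2, hd.one, k1]
  · have e1 : y * d * y⁻¹ * (f 0 0 (M m) * u) * (y * d * y⁻¹)⁻¹ = y * (d * (u * x1 f) * d⁻¹) * y⁻¹ := by
      rw [← k1]; group
    have e2 : y * (h1 f * (u * x1 f)) * y⁻¹ = h1 f * (y * (u * x1 f) * y⁻¹) := by
      rw [← mul_assoc, hyh]; group
    rw [e1, hd.two, e2, k1]
  · intro c hc hch hcu n hn
    refine mem_Bu_of_centralizer hh (EX_Ru hh) hF (c := c) ?_ hn
    intro e he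
    have hle : Ru f u ≤ centralizer {c} := by
      refine sup_le ?_ ?_
      · intro b hb
        rw [mem_centralizer_singleton_iff]
        exact (hc b hb).symm
      · rw [closure_le]
        rintro x (rfl | rfl)
        · exact mem_centralizer_singleton_iff.2 hch.symm
        · exact mem_centralizer_singleton_iff.2 hcu.symm
    exact (mem_centralizer_singleton_iff.1 (hle he)).symm

omit [Finite G] in
/-- simple groups have no homomorphism onto a group of order two -/
theorem hom_eq_one [IsSimpleGroup G] (h : BOne (S : Subgroup G) m f u w) (φ : G →* ℤˣ) (g : G) : φ g = 1 := by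
  rcases φ.normal_ker.eq_bot_or_eq_top with hk | hk
  · exfalso
    apply h.u_not_mem_Tor
    have hc : ∀ a b : G, a * b = b * a := by
      intro a b
      refine (MonoidHom.ker_eq_bot_iff φ).1 hk ?_
      rw [map_mul, map_mul, mul_comm]
    refine h.mem_Tor_of_comm h.u_mem fun i => hc _ _
  · have : g ∈ φ.ker := by rw [hk]; exact mem_top g
    exact this

/-- **The beginning of type B1.** -/
theorem start [IsSimpleGroup G] (h : BOne (S : Subgroup G) m f u w) :
    ∃ u', (u' = u ∨ u' = x4 f * u) ∧ BOne (S : Subgroup G) m f u' w ∧ Full (Sx f u') (Ru f u') f ∧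
      (∃ d, d * x4 f = x4 f * d ∧ DData f u' d) ∧ (∃ d, DD f u' d 0) ∧
      (∃ g : G, g * z1 f * g⁻¹ = z2 f) ∧
      (∀ ρ : Equiv.Perm (Fin 4), ∃ n ∈ normalizer (Tor f : Set G), ∀ i, n * X f i * n⁻¹ = X f (ρ i)) ∧
      (∀ n ∈ normalizer (Tor f : Set G), (∀ i, n * X f i = X f i * n) → ∀ t ∈ Tor f, n * t = t * n) ∧
      (∃ H0 : Subgroup G, H0 ≤ centralizer ({z1 f} : Set G) ∧ H0.relIndex (centralizer ({z1 f} : Set G)) = 2 ∧
        centralizer ({z1 f} : Set G) ≤ normalizer (H0 : Set G) ∧ (S : Subgroup G) ⊓ H0 = TVp f u' w) := by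
  obtain ⟨u', hu', h', hF, d, hdx, hd⟩ := main h (fun φ => hom_eq_one h φ u)
  obtain ⟨k1, k2, k3⟩ := h'.fus_main hd.comm hd.one hd.two
  exact ⟨u', hu', h', hF, ⟨d, hdx, hd⟩, exists_DD h' hF hd, k1, k2, fun n hn hX => h'.fus_cent hn hX, k3⟩

end

end Cfsg.Agent.LFourB.EssEight
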