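import Mathlib
import Cfsg.Agent.LFourB.EssEight
import Cfsg.Agent.LFourB.DihedralQuot
import Cfsg.Agent.LFourB.CentXCmp
import Cfsg.Agent.SylowSp4.Hyps

/-!
# Type B1: the facts on `C(z1)` and `C(x4)` in one theorem
-/

set_option autoImplicit false

namespace Cfsg.Agent.LFourB.BOneFacts

open Subgroup Cfsg.Agent.LFourB Cfsg.Agent.LFourB.FusA Cfsg.Agent.LFourB.ProdCent Cfsg.Agent.SylowSp4
open Cfsg.Agent.LFourB.EssFive (DData)
open Cfsg.Agent.LFourB.EssTwo (Full)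

universe v

/-! ### The dihedral group induced by `S` -/

theorem exists_d8 : ∀ σ : Equiv.Perm (Fin 4), (σ 0).val / 2 = (σ 1).val / 2 → ∃ i j k, σ = d8 i j k := by
  decide +kernel

section sf

variable {G : Type*} [Group G] {S T TT J S0 : Subgroup G} {z z' : G} {X : Fin 4 → G}

/-- The permutations of the `X i` induced by `S`. -/
def permS (S : Subgroup G) (X : Fin 4 → G) : Subgroup (Equiv.Perm (Fin 4)) where
  carrier := {σ | ∃ n ∈ S, ∀ i, n * X i * n⁻¹ = X (σ i)}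
  mul_mem' := by
    rintro σ τ ⟨a, ha, ha'⟩ ⟨b, hb, hb'⟩
    refine ⟨a * b, mul_mem ha hb, fun i => ?_⟩
    rw [Equiv.Perm.mul_apply, ← ha', ← hb']; group
  one_mem' := ⟨1, one_mem _, fun i => by simp⟩
  inv_mem' := by
    rintro σ ⟨a, ha, ha'⟩
    refine ⟨a⁻¹, inv_mem ha, fun i => ?_⟩
    have h1 := ha' (σ⁻¹ i)
    have h2 : σ (σ⁻¹ i) = i := σ.apply_symm_apply i
    rw [h2] at h1
    rw [← h1]; group

theorem permS_tau (h : SF S T TT J S0 z z' X) : Equiv.swap 0 1 ∈ permS S X := by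
  obtain ⟨s, hs, h0, h1, h2, h3⟩ := h.tau
  refine ⟨s, hs, fun i => ?_⟩
  fin_cases i
  · exact h0
  · exact h1
  · exact h2
  · exact h3

theorem permS_sg (h : SF S T TT J S0 z z' X) : Equiv.swap 0 2 * Equiv.swap 1 3 ∈ permS S X := by
  obtain ⟨s, hs, h0, h1, h2, h3⟩ := h.sg'
  refine ⟨s, hs, fun i => ?_⟩
  fin_cases i
  · exact h0
  · exact h1
  · exact h2
  · exact h3

theorem permS_tau' (h : SF S T TT J S0 z z' X) : Equiv.swap 2 3 ∈ permS S X := by
  have e : (Equiv.swap 2 3 : Equiv.Perm (Fin 4)) = (Equiv.swap 0 2 * Equiv.swap 1 3) * Equiv.swap 0 1 *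
      (Equiv.swap 0 2 * Equiv.swap 1 3)⁻¹ := by decide
  rw [e]
  exact mul_mem (mul_mem (permS_sg h) (permS_tau h)) (inv_mem (permS_sg h))

theorem permS_d8 (h : SF S T TT J S0 z z' X) (i j k : Bool) : d8 i j k ∈ permS S X := by
  unfold d8
  refine mul_mem (mul_mem ?_ ?_) ?_
  · cases i
    · exact one_mem _
    · exact permS_tau h
  · cases j
    · exact one_mem _
    · exact permS_tau' h
  · cases k
    · exact one_mem _
    · exact permS_sg h

theorem pair_eq (h : SF S T TT J S0 z z' X) {i j : Fin 4} (hij : X i * X j = z) : i.val / 2 = j.val / 2 := by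
  have key : ∀ {a b : Fin 4}, X a * X b = z → ∀ c, X a * X c = z → c = b := by
    intro a b hab c hac
    exact h.X_inj (mul_left_cancel (hac.trans hab.symm))
  have h01 := h.X01
  have h23 := h.X23
  have h10 : X 1 * X 0 = z := by rw [h.T_comm _ (h.X_mem 1) _ (h.X_mem 0), h01]
  have h32 : X 3 * X 2 = z := by rw [h.T_comm _ (h.X_mem 3) _ (h.X_mem 2), h23]
  fin_cases i
  · rw [key h01 j hij]; rfl
  · rw [key h10 j hij]; rfl
  · rw [key h23 j hij]; rfl
  · rw [key h32 j hij]; rfl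

/-- In `C(z)` the normaliser of `T` acts on `T` as `S`. -/
theorem exists_mem_S [Finite G] {P : Sylow 2 G} (h : SF (P : Subgroup G) T TT J S0 z z' X) {g : G}
    (hg : g ∈ centralizer ({z} : Set G)) (hn : g ∈ normalizer (T : Set G)) :
    ∃ s ∈ (P : Subgroup G), ∀ a ∈ T, g * a * g⁻¹ = s * a * s⁻¹ := by
  obtain ⟨σ, hσ⟩ := exists_perm h hn
  have h1 : X (σ 0) * X (σ 1) = z := by
    rw [← hσ, ← hσ]
    have h2 : g * z = z * g := mem_centralizer_singleton_iff.1 hg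
    calc g * X 0 * g⁻¹ * (g * X 1 * g⁻¹) = g * (X 0 * X 1) * g⁻¹ := by group
      _ = z := by rw [h.X01, h2, mul_inv_cancel_right]
  obtain ⟨i, j, k, hd⟩ := exists_d8 σ (pair_eq h h1)
  obtain ⟨s, hs, hs'⟩ := permS_d8 h i j k
  rw [← hd] at hs'
  refine ⟨s, hs, fun a ha => ?_⟩
  have h3 : s⁻¹ * g ∈ normalizer (T : Set G) := mul_mem (inv_mem (S_le_norm h hs)) hn
  have h4 := cent_of_X h h3 (fun i => by
    have e1 : g * X i = s * X i * s⁻¹ * g := by
      rw [hs' i, ← hσ i]; group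
    rw [mul_assoc, e1]; group) a ha
  calc g * a * g⁻¹ = s * ((s⁻¹ * g) * a) * g⁻¹ := by group
    _ = s * (a * (s⁻¹ * g)) * g⁻¹ := by rw [h4]
    _ = s * a * s⁻¹ := by group

end sf

/-! ### The residual of `C(z1)` -/

section

variable {G : Type v} [Group G] [Finite G] {P : Sylow 2 G} {m : ℕ} {f : R m → R m → R m → G} {u w : G}

theorem residual_inf (h : BOne (P : Subgroup G) m f u w) {d : G} (hd : DData f u d) {H0 : Subgroup G}
    (hidx : H0.relIndex (centralizer ({z1 f} : Set G)) = 2) (hSH0 : (P : Subgroup G) ⊓ H0 = TVp f u w) :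
    (Cfsg.pResidual 2 (centralizer ({z1 f} : Set G))).map (centralizer ({z1 f} : Set G)).subtype ⊓
      (P : Subgroup G) = Qone f u ⊔ Qtwo f u w := by
  have hfact : Fact (Nat.Prime 2) := ⟨Nat.prime_two⟩
  have hsf := h.e_sf
  refine h.pResidual_inf P (centralizer ({z1 f} : Set G)) H0 h.S_le_centralizer hidx hSH0 ?_ ?_
  · refine h.control P (centralizer ({z1 f} : Set G)) h.S_le_centralizer (fun g hg hga => wcl hsf hga) ?_
    intro g hg hga
    exact exists_mem_S hsf hg (mem_normalizer_fintype hga)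
  · -- `u x1 = d h1 d⁻¹`, `h1 = [d, u x1]`
    have hdz : d ∈ centralizer ({z1 f} : Set G) := by
      rw [mem_centralizer_singleton_iff]
      exact hd.comm _ (h.mem_Bu.2 ⟨0, N m, BOne.good1, rfl⟩)
    have hxS : u * x1 f ∈ (P : Subgroup G) := mul_mem h.u_mem (h.f_mem_S BOne.goodx1)
    have hx : u * x1 f ∈ centralizer ({z1 f} : Set G) := h.S_le_centralizer hxS
    have hh : h1 f ∈ centralizer ({z1 f} : Set G) := h.S_le_centralizer (h.f_mem_S BOne.goodh1)
    have hn : (Cfsg.pResidual 2 (centralizer ({z1 f} : Set G))).Normal := Transfer.Residual.pResidual_normal 2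
    have hdO : (⟨d, hdz⟩ : centralizer ({z1 f} : Set G)) ∈ Cfsg.pResidual 2 (centralizer ({z1 f} : Set G)) := by
      apply Transfer.Residual.mem_pResidual_of_coprime
      rw [Subgroup.orderOf_mk]
      exact (Nat.Prime.coprime_iff_not_dvd Nat.prime_two).2 hd.odd |>.symm
    have h1O : (⟨h1 f, hh⟩ : centralizer ({z1 f} : Set G)) ∈ Cfsg.pResidual 2 (centralizer ({z1 f} : Set G)) := by
      have h3 := mul_mem hdO (hn.conj_mem _ (inv_mem hdO) ⟨u * x1 f, hx⟩)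
      have h4 : (⟨d, hdz⟩ : centralizer ({z1 f} : Set G)) * (⟨u * x1 f, hx⟩ * (⟨d, hdz⟩ : centralizer ({z1 f} : Set G))⁻¹ *
          (⟨u * x1 f, hx⟩ : centralizer ({z1 f} : Set G))⁻¹) = ⟨h1 f, hh⟩ := by
        apply Subtype.ext
        change d * (u * x1 f * d⁻¹ * (u * x1 f)⁻¹) = h1 f
        have h5 := hd.two
        calc d * (u * x1 f * d⁻¹ * (u * x1 f)⁻¹) = (d * (u * x1 f) * d⁻¹) * (u * x1 f)⁻¹ := by group
          _ = h1 f := by rw [h5, mul_inv_cancel_right]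
      rwa [h4] at h3
    refine ⟨⟨u * x1 f, hx⟩, ?_, rfl⟩
    have h3 := hn.conj_mem _ h1O ⟨d, hdz⟩
    have h4 : (⟨d, hdz⟩ : centralizer ({z1 f} : Set G)) * ⟨h1 f, hh⟩ * (⟨d, hdz⟩ : centralizer ({z1 f} : Set G))⁻¹ =
        ⟨u * x1 f, hx⟩ := Subtype.ext hd.one
    rwa [h4] at h3

end

/-! ### The facts -/

/-- The facts on `C(z1)` and `C(x4)` in type B1. -/
structure Facts {G : Type v} [Group G] [Finite G] (P : Sylow 2 G) (m : ℕ) (f : R m → R m → R m → G) (u w : G)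
    (F : Type) [Field F] [Fintype F]
    (K₁ K₂ : Subgroup (centralizer ({z1 f} : Set G) ⧸ Cfsg.oddCore (centralizer ({z1 f} : Set G))))
    (Q : Sylow 2 ↥(centralizer ({x4 f} : Set G))) (ρ : ↥(centralizer ({x4 f} : Set G)))
    (L : Subgroup ((centralizer ({x4 f} : Set G) : Subgroup G) ⧸
      Cfsg.pPrimeCore 2 (centralizer ({x4 f} : Set G) : Subgroup G))) : Prop where
  one : BOne (P : Subgroup G) m f u w
  full : Full (Sx f u) (Ru f u) f
  d : ∃ d, d * x4 f = x4 f * d ∧ DData f u d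
  dd : ∃ d, DD f u d 0
  z12 : ∃ g : G, g * z1 f * g⁻¹ = z2 f
  perm : ∀ σ : Equiv.Perm (Fin 4), ∃ n ∈ normalizer (Tor f : Set G), ∀ i, n * X f i * n⁻¹ = X f (σ i)
  fix : ∀ n ∈ normalizer (Tor f : Set G), (∀ i, n * X f i = X f i * n) → ∀ t ∈ Tor f, n * t = t * n
  index : ∃ H0 : Subgroup G, H0 ≤ centralizer ({z1 f} : Set G) ∧ H0.relIndex (centralizer ({z1 f} : Set G)) = 2 ∧
    centralizer ({z1 f} : Set G) ≤ normalizer (H0 : Set G) ∧ (P : Subgroup G) ⊓ H0 = TVp f u w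
  Q_eq : (Q : Subgroup (centralizer ({x4 f} : Set G))) = (Sx f u).subgroupOf (centralizer ({x4 f} : Set G))
  x : XDat Q m (lft (centralizer ({x4 f} : Set G)) f) ⟨u, one.cx_u_mem_cent⟩ ρ
  out : CentXTail.Out Q x.Wr (Dd (lft (centralizer ({x4 f} : Set G)) f) ρ) L
  odd : Odd (Fintype.card F)
  cz : CZPL (z1 f) F (Cfsg.Agent.LFourA.Quot.pr (centralizer ({z1 f} : Set G))) K₁ K₂ (P : Subgroup G) (Qone f u)
    (Qtwo f u w)
  cmp : CentXCmp.Cmp m L (Fintype.card F)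

/-- **The facts in type B1.** -/
theorem exists_facts {G : Type v} [Group G] [Finite G] [IsSimpleGroup G]
    (hFT : ∀ (K : Type v) [Group K] [Finite K], Odd (Nat.card K) → Group.IsSolvable K)
    (h523 : ∀ (K : Type v) [Group K] [Finite K] [IsSimpleGroup K] (S : Sylow 2 K),
      Cfsg.IsWreathed (S : Subgroup K) →
      (∃ (F : Type) (_ : Field F) (_ : Fintype F), Odd (Fintype.card F) ∧
          Nonempty (K ≃* Matrix.ProjectiveSpecialLinearGroup (Fin 3) F)) ∨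
        (∃ (F : Type) (_ : Field F) (_ : Fintype F) (q : ℕ), Fintype.card F = q ^ 2 ∧ Odd q ∧
          Nonempty (K ≃* Cfsg.PSU 3 F q)) ∨
        Cfsg.IsM11 K)
    (hPT : Hyps.ProductThm.{v}) (hGW : Hyps.GW.{v})
    (P : Sylow 2 G) {m : ℕ} {f : R m → R m → R m → G} {u w : G} (h : BOne (P : Subgroup G) m f u w) :
    ∃ (u' : G) (F : Type) (_ : Field F) (_ : Fintype F)
      (K₁ K₂ : Subgroup (centralizer ({z1 f} : Set G) ⧸ Cfsg.oddCore (centralizer ({z1 f} : Set G))))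
      (Q : Sylow 2 ↥(centralizer ({x4 f} : Set G))) (ρ : ↥(centralizer ({x4 f} : Set G)))
      (L : Subgroup ((centralizer ({x4 f} : Set G) : Subgroup G) ⧸
        Cfsg.pPrimeCore 2 (centralizer ({x4 f} : Set G) : Subgroup G))), Facts P m f u' w F K₁ K₂ Q ρ L := by
  obtain ⟨u', -, h', hF, ⟨d, hdx, hd⟩, hdd, hz, hperm, hfix, ⟨H0, hH1, hH2, hH3, hH4⟩⟩ := EssEight.start h
  obtain ⟨Q, hQ, ρ, hx⟩ := CentXFinal.exists_xdat h' (fun φ => EssEight.hom_eq_one h' φ u') hd hdx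
  obtain ⟨L, hL⟩ := hx.exists_out
  obtain ⟨K₁, K₂, hK⟩ := h'.exists_factors P (residual_inf h' hd hH2 hH4) hPT hGW
  obtain ⟨F, i1, i2, hodd, hcz, hcmp⟩ := CentXCmp.main hFT h523 h' hx hL hK
  exact ⟨u', F, i1, i2, K₁, K₂, Q, ρ, L, ⟨h', hF, ⟨d, hdx, hd⟩, hdd, hz, hperm, hfix, ⟨H0, hH1, hH2, hH3, hH4⟩, hQ, hx,
    hL, hodd, hcz, hcmp⟩⟩

end Cfsg.Agent.LFourB.BOneFacts
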