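import Cfsg.Agent.LFourB.Base

/-!
# The permutation representation on `x1, .., x4`, orders, and the weak closure of the torus
-/

set_option autoImplicit false

namespace Cfsg.Agent.LFourB

/-- Conjugation on an injective family. -/
theorem exists_perm_hom {G : Type*} [Group G] {ι : Type*} (X : ι → G) (hX : Function.Injective X) (S : Subgroup G)
    (h : ∀ s ∈ S, ∀ i, ∃ j, s * X i * s⁻¹ = X j) :
    ∃ π : S →* Equiv.Perm ι, ∀ (s : S) (i : ι), (s : G) * X i * (s : G)⁻¹ = X (π s i) := by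
  choose φ hφ using fun s : S => h s s.2
  let Φ : S →* Function.End ι :=
    { toFun := φ
      map_one' := by
        funext i
        apply hX
        rw [← hφ]
        simp [Function.End.one_def]
      map_mul' := fun a b => by
        funext i
        apply hX
        have h1 : X (φ a (φ b i)) = (a : G) * X (φ b i) * (a : G)⁻¹ := (hφ a (φ b i)).symm
        refine Eq.trans ?_ h1.symm
        rw [← hφ b i, ← hφ (a * b) i]
        push_cast
        group }
  exact ⟨Φ.toHomPerm, fun s i => hφ s i⟩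

/-- A finite set hitting all elements bounds the order. -/
theorem card_le_of_surj {G : Type*} [Group G] {K : Subgroup G} {ι : Type*} [Finite ι] (g : ι → G)
    (h : ∀ k ∈ K, ∃ i, g i = k) : Nat.card K ≤ Nat.card ι := by
  choose j hj using fun k : K => h k k.2
  exact Nat.card_le_card_of_injective j (fun a b hab => by
    apply Subtype.ext
    rw [← hj a, ← hj b, hab])

variable {G : Type*} [Group G] {S : Subgroup G} {m : ℕ} {f : R m → R m → R m → G} {u w : G}

/-- The four involutions `x1, .., x4`. -/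
def X (f : R m → R m → R m → G) : Fin 4 → G := ![x1 f, x2 f, x3 f, x4 f]

namespace BOne

theorem X_injective (h : BOne S m f u w) : Function.Injective (X f) := by
  have hN : (N m : R m) ≠ 0 := N_ne_zero
  have e12 : x1 f ≠ x2 f := by
    rw [x1, x2, Ne, h.f_eq_iff goodx1 goodx2]; rintro ⟨-, -, h3⟩; exact hN h3.symm
  have e13 : x1 f ≠ x3 f := by
    rw [x1, x3, Ne, h.f_eq_iff goodx1 goodx3]; rintro ⟨h3, -, -⟩; exact hN h3
  have e14 : x1 f ≠ x4 f := by
    rw [x1, x4, Ne, h.f_eq_iff goodx1 goodx4]; rintro ⟨h3, -, -⟩; exact hN h3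
  have e23 : x2 f ≠ x3 f := by
    rw [x2, x3, Ne, h.f_eq_iff goodx2 goodx3]; rintro ⟨h3, -, -⟩; exact hN h3
  have e24 : x2 f ≠ x4 f := by
    rw [x2, x4, Ne, h.f_eq_iff goodx2 goodx4]; rintro ⟨h3, -, -⟩; exact hN h3
  have e34 : x3 f ≠ x4 f := by
    rw [x3, x4, Ne, h.f_eq_iff goodx3 goodx4]; rintro ⟨-, -, h3⟩; exact hN h3.symm
  intro i j hij
  fin_cases i <;> fin_cases j <;> simp [X] at hij ⊢
  · exact e12 hij
  · exact e13 hij
  · exact e14 hij
  · exact e12 hij.symm
  · exact e23 hij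
  · exact e24 hij
  · exact e13 hij.symm
  · exact e23 hij.symm
  · exact e34 hij
  · exact e14 hij.symm
  · exact e24 hij.symm
  · exact e34 hij.symm

theorem u_x1 (h : BOne S m f u w) : u * x1 f = x2 f * u := by
  rw [x1, x2, h.u_f _ _ _ goodx1, neg_N, zero_add]
theorem u_x2 (h : BOne S m f u w) : u * x2 f = x1 f * u := by
  rw [x1, x2, h.u_f _ _ _ goodx2, neg_N, N_add_N]
theorem u_x3 (h : BOne S m f u w) : u * x3 f = x3 f * u := by
  rw [x3, h.u_f _ _ _ goodx3, neg_zero, zero_add]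
theorem u_x4 (h : BOne S m f u w) : u * x4 f = x4 f * u := by
  rw [x4, h.u_f _ _ _ goodx4, neg_zero, add_zero]
theorem w_x1 (h : BOne S m f u w) : w * x1 f = x3 f * w := by
  rw [x1, x3, h.w_f _ _ _ goodx1, neg_zero]
theorem w_x2 (h : BOne S m f u w) : w * x2 f = x4 f * w := by
  rw [x2, x4, h.w_f _ _ _ goodx2, neg_N]
theorem w_x3 (h : BOne S m f u w) : w * x3 f = x1 f * w := by
  rw [x1, x3, h.w_f _ _ _ goodx3, neg_zero]
theorem w_x4 (h : BOne S m f u w) : w * x4 f = x2 f * w := by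
  rw [x2, x4, h.w_f _ _ _ goodx4, neg_N]

theorem X_mem (h : BOne S m f u w) (i : Fin 4) : X f i ∈ Tor f := by
  fin_cases i
  · exact h.f_mem_Tor goodx1
  · exact h.f_mem_Tor goodx2
  · exact h.f_mem_Tor goodx3
  · exact h.f_mem_Tor goodx4

theorem conj_X_of_Tor (h : BOne S m f u w) {t : G} (ht : t ∈ Tor f) (i : Fin 4) : t * X f i * t⁻¹ = X f i := by
  rw [h.Tor_comm ht (h.X_mem i), mul_inv_cancel_right]

theorem conj_X_u (h : BOne S m f u w) (i : Fin 4) : u * X f i * u⁻¹ = X f (Equiv.swap (0 : Fin 4) 1 i) := by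
  rw [mul_inv_eq_iff_eq_mul]
  fin_cases i
  · exact h.u_x1
  · exact h.u_x2
  · exact h.u_x3
  · exact h.u_x4

theorem conj_X_w (h : BOne S m f u w) (i : Fin 4) :
    w * X f i * w⁻¹ = X f ((Equiv.swap (0 : Fin 4) 2 * Equiv.swap (1 : Fin 4) 3) i) := by
  rw [mul_inv_eq_iff_eq_mul]
  fin_cases i
  · exact h.w_x1
  · exact h.w_x2
  · exact h.w_x3
  · exact h.w_x4

theorem closure_eq (h : BOne S m f u w) : S = Subgroup.closure ((Tor f : Set G) ∪ {u, w}) := by
  apply le_antisymm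
  · intro g hg
    obtain ⟨p, q, r, hgd, d, hd, rfl⟩ := h.mem_S.mp hg
    have hu : u ∈ Subgroup.closure ((Tor f : Set G) ∪ {u, w}) := Subgroup.subset_closure (by simp)
    have hw : w ∈ Subgroup.closure ((Tor f : Set G) ∪ {u, w}) := Subgroup.subset_closure (by simp)
    have hub : ub u w ∈ Subgroup.closure ((Tor f : Set G) ∪ {u, w}) :=
      Subgroup.mul_mem _ (Subgroup.mul_mem _ hw hu) hw
    refine Subgroup.mul_mem _ (Subgroup.subset_closure (Or.inl (h.f_mem_Tor hgd))) ?_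
    rcases hd with rfl | rfl | rfl | rfl | rfl | rfl | rfl | rfl
    · exact Subgroup.one_mem _
    · exact hu
    · exact hub
    · exact Subgroup.mul_mem _ hu hub
    · exact hw
    · exact Subgroup.mul_mem _ hu hw
    · exact Subgroup.mul_mem _ hub hw
    · exact Subgroup.mul_mem _ (Subgroup.mul_mem _ hu hub) hw
  · rw [Subgroup.closure_le]
    rintro g (hg | hg)
    · exact h.Tor_le hg
    · rcases hg with rfl | rfl
      · exact h.u_mem
      · exact h.w_mem

/-- `S` permutes `x1, .., x4`. -/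
theorem exists_pi (h : BOne S m f u w) :
    ∃ π : S →* Equiv.Perm (Fin 4), ∀ (s : S) (i : Fin 4), (s : G) * X f i * (s : G)⁻¹ = X f (π s i) := by
  apply exists_perm_hom (X f) h.X_injective
  intro s hs
  rw [h.closure_eq] at hs
  induction hs using Subgroup.closure_induction with
  | mem x hx =>
    intro i
    rcases hx with hx | hx
    · exact ⟨i, h.conj_X_of_Tor hx i⟩
    · rcases hx with rfl | rfl
      · exact ⟨_, h.conj_X_u i⟩
      · exact ⟨_, h.conj_X_w i⟩
  | one => intro i; exact ⟨i, by simp⟩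
  | mul x y _ _ hx hy =>
    intro i
    obtain ⟨j, hj⟩ := hy i
    obtain ⟨k, hk⟩ := hx j
    exact ⟨k, by rw [← hk, ← hj]; group⟩
  | inv x _ hx =>
    intro i
    choose φ hφ using hx
    have hinj : Function.Injective φ := by
      intro a b hab
      apply h.X_injective
      have h1 := hφ a
      rw [hab, ← hφ b] at h1
      exact mul_left_cancel (mul_right_cancel h1)
    obtain ⟨j, rfl⟩ := (Finite.injective_iff_surjective.mp hinj) i
    exact ⟨j, by rw [← hφ j]; group⟩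

/-- The permutation representation of `S` on `x1, .., x4`. -/
noncomputable def pi (h : BOne S m f u w) : S →* Equiv.Perm (Fin 4) := h.exists_pi.choose

theorem pi_spec (h : BOne S m f u w) (s : S) (i : Fin 4) : (s : G) * X f i * (s : G)⁻¹ = X f (h.pi s i) :=
  h.exists_pi.choose_spec s i

theorem pi_eq (h : BOne S m f u w) {s : S} {σ : Equiv.Perm (Fin 4)}
    (hs : ∀ i, (s : G) * X f i * (s : G)⁻¹ = X f (σ i)) : h.pi s = σ := by
  apply Equiv.ext
  intro i
  apply h.X_injective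
  rw [← h.pi_spec, hs]

theorem pi_u (h : BOne S m f u w) : h.pi ⟨u, h.u_mem⟩ = Equiv.swap 0 1 := h.pi_eq h.conj_X_u

theorem pi_w (h : BOne S m f u w) : h.pi ⟨w, h.w_mem⟩ = Equiv.swap 0 2 * Equiv.swap 1 3 := h.pi_eq h.conj_X_w

theorem pi_Tor (h : BOne S m f u w) {t : G} (ht : t ∈ Tor f) : h.pi ⟨t, h.Tor_le ht⟩ = 1 :=
  h.pi_eq (fun i => h.conj_X_of_Tor ht i)

/-- The representatives, with Boolean exponents. -/
def rep (u w : G) (i j l : Bool) : G :=
  (if i then u else 1) * (if j then ub u w else 1) * (if l then w else 1)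

theorem rep_mem (h : BOne S m f u w) (i j l : Bool) : rep u w i j l ∈ S := by
  refine S.mul_mem (S.mul_mem ?_ ?_) ?_
  · cases i <;> simp [h.u_mem]
  · cases j <;> simp [h.ub_mem]
  · cases l <;> simp [h.w_mem]

theorem pi_ub (h : BOne S m f u w) : h.pi ⟨ub u w, h.ub_mem⟩ = Equiv.swap 2 3 := by
  have h1 : (⟨ub u w, h.ub_mem⟩ : S) = ⟨w, h.w_mem⟩ * ⟨u, h.u_mem⟩ * ⟨w, h.w_mem⟩ := rfl
  rw [h1, map_mul, map_mul, h.pi_u, h.pi_w]
  decide

theorem pi_rep (h : BOne S m f u w) (i j l : Bool) : h.pi ⟨rep u w i j l, h.rep_mem i j l⟩ =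
    (if i then Equiv.swap 0 1 else 1) * (if j then Equiv.swap 2 3 else 1) *
      (if l then Equiv.swap 0 2 * Equiv.swap 1 3 else 1) := by
  have h1 : (⟨rep u w i j l, h.rep_mem i j l⟩ : S) = (if i then ⟨u, h.u_mem⟩ else 1) *
    (if j then ⟨ub u w, h.ub_mem⟩ else 1) * (if l then ⟨w, h.w_mem⟩ else 1) := by
    apply Subtype.ext
    cases i <;> cases j <;> cases l <;> simp [rep]
  rw [h1, map_mul, map_mul]
  cases i <;> cases j <;> cases l <;> simp [h.pi_u, h.pi_ub, h.pi_w]

theorem Rep_iff {d : G} : Rep u w d ↔ ∃ i j l, d = rep u w i j l := by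
  constructor
  · rintro (rfl | rfl | rfl | rfl | rfl | rfl | rfl | rfl)
    · exact ⟨false, false, false, by simp [rep]⟩
    · exact ⟨true, false, false, by simp [rep]⟩
    · exact ⟨false, true, false, by simp [rep]⟩
    · exact ⟨true, true, false, by simp [rep, sg]⟩
    · exact ⟨false, false, true, by simp [rep]⟩
    · exact ⟨true, false, true, by simp [rep]⟩
    · exact ⟨false, true, true, by simp [rep]⟩
    · exact ⟨true, true, true, by simp [rep, sgw]⟩
  · rintro ⟨i, j, l, rfl⟩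
    cases i <;> cases j <;> cases l <;> simp [rep, Rep, sg, sgw]

theorem exists_rep (h : BOne S m f u w) {g : G} (hg : g ∈ S) : ∃ t ∈ Tor f, ∃ i j l, g = t * rep u w i j l := by
  obtain ⟨p, q, r, hgd, d, hd, rfl⟩ := h.mem_S.mp hg
  obtain ⟨i, j, l, rfl⟩ := Rep_iff.mp hd
  exact ⟨_, h.f_mem_Tor hgd, i, j, l, rfl⟩

theorem rep_perm_injective : ∀ i j l i' j' l' : Bool,
    ((if i then Equiv.swap (0 : Fin 4) 1 else 1) * (if j then Equiv.swap 2 3 else 1) *
      (if l then Equiv.swap 0 2 * Equiv.swap 1 3 else 1) : Equiv.Perm (Fin 4)) =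
    (if i' then Equiv.swap (0 : Fin 4) 1 else 1) * (if j' then Equiv.swap 2 3 else 1) *
      (if l' then Equiv.swap 0 2 * Equiv.swap 1 3 else 1) → i = i' ∧ j = j' ∧ l = l' := by
  decide

theorem pi_mul_rep (h : BOne S m f u w) {t : G} (ht : t ∈ Tor f) (i j l : Bool) :
    h.pi ⟨t * rep u w i j l, S.mul_mem (h.Tor_le ht) (h.rep_mem i j l)⟩ =
      h.pi ⟨rep u w i j l, h.rep_mem i j l⟩ := by
  have h1 : (⟨t * rep u w i j l, S.mul_mem (h.Tor_le ht) (h.rep_mem i j l)⟩ : S) =
    ⟨t, h.Tor_le ht⟩ * ⟨rep u w i j l, h.rep_mem i j l⟩ := rfl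
  rw [h1, map_mul, h.pi_Tor ht, one_mul]

/-- The torus is the kernel of the permutation representation. -/
theorem pi_eq_one_iff (h : BOne S m f u w) {s : S} : h.pi s = 1 ↔ (s : G) ∈ Tor f := by
  constructor
  · intro hs
    obtain ⟨t, ht, i, j, l, hst⟩ := h.exists_rep s.2
    have h1 : h.pi s = h.pi ⟨rep u w i j l, h.rep_mem i j l⟩ := by
      rw [← h.pi_mul_rep ht i j l]
      congr 1
      exact Subtype.ext hst
    rw [h1, h.pi_rep] at hs
    have h2 := rep_perm_injective i j l false false false (by rw [hs]; simp)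
    obtain ⟨rfl, rfl, rfl⟩ := h2
    rw [hst]
    simpa [rep] using ht
  · intro hs
    exact h.pi_Tor hs

theorem ker_pi (h : BOne S m f u w) : h.pi.ker = (Tor f).subgroupOf S := by
  ext s
  rw [MonoidHom.mem_ker, h.pi_eq_one_iff, Subgroup.mem_subgroupOf]

theorem mem_Tor_of_comm (h : BOne S m f u w) {s : G} (hs : s ∈ S) (hc : ∀ i, s * X f i = X f i * s) : s ∈ Tor f := by
  have : h.pi ⟨s, hs⟩ = 1 := h.pi_eq (fun i => by rw [Equiv.Perm.one_apply]; exact mul_inv_eq_iff_eq_mul.mpr (hc i))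
  exact h.pi_eq_one_iff.mp this

theorem card_S_eq (h : BOne S m f u w) : Nat.card S = 8 * Nat.card (Tor f) := by
  let F : (Bool × Bool × Bool) × Tor f → S := fun a =>
    ⟨(a.2 : G) * rep u w a.1.1 a.1.2.1 a.1.2.2, S.mul_mem (h.Tor_le a.2.2) (h.rep_mem _ _ _)⟩
  have hF : Function.Bijective F := by
    constructor
    · rintro ⟨⟨i, j, l⟩, t⟩ ⟨⟨i', j', l'⟩, t'⟩ hab
      have h1 : h.pi (F ⟨⟨i, j, l⟩, t⟩) = h.pi (F ⟨⟨i', j', l'⟩, t'⟩) := by rw [hab]
      have h2 : h.pi ⟨rep u w i j l, h.rep_mem i j l⟩ = h.pi ⟨rep u w i' j' l', h.rep_mem i' j' l'⟩ := by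
        rw [← h.pi_mul_rep t.2 i j l, ← h.pi_mul_rep t'.2 i' j' l']
        exact h1
      rw [h.pi_rep, h.pi_rep] at h2
      obtain ⟨rfl, rfl, rfl⟩ := rep_perm_injective _ _ _ _ _ _ h2
      have h3 : (t : G) * rep u w i j l = (t' : G) * rep u w i j l := congrArg Subtype.val hab
      have h4 : t = t' := Subtype.ext (mul_right_cancel h3)
      rw [h4]
    · intro s
      obtain ⟨t, ht, i, j, l, hst⟩ := h.exists_rep s.2
      exact ⟨⟨⟨i, j, l⟩, ⟨t, ht⟩⟩, Subtype.ext hst.symm⟩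
  rw [← Nat.card_eq_of_bijective F hF, Nat.card_prod]
  congr 1
  simp [Nat.card_eq_fintype_card]

end BOne

/-- The linear form defining `Good`. -/
noncomputable def gh (m : ℕ) : R m × R m × R m →+ ZMod 4 where
  toFun v := red m (v.1 + v.2.1 + 2 * v.2.2)
  map_zero' := by simp
  map_add' a b := by
    rw [← map_add]
    congr 1
    simp only [Prod.fst_add, Prod.snd_add]
    ring

theorem gh_surjective (m : ℕ) : Function.Surjective (gh m) := by
  intro a
  obtain ⟨b, rfl⟩ : ∃ b : R m, red m b = a := ZMod.castHom_surjective _ a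
  exact ⟨(b, 0, 0), by simp [gh]⟩

theorem card_R (m : ℕ) : Nat.card (R m) = 2 ^ (m + 3) := Nat.card_zmod _

theorem card_ker_gh (m : ℕ) : Nat.card (gh m).ker = 2 ^ (3 * m + 7) := by
  have h1 := (gh m).ker.card_mul_index
  have h2 : (gh m).ker.index = 4 := by
    have e := Nat.card_congr (QuotientAddGroup.quotientKerEquivOfSurjective (gh m) (gh_surjective m)).toEquiv
    rw [AddSubgroup.index, e, Nat.card_zmod]
  rw [h2, Nat.card_prod, Nat.card_prod, card_R] at h1
  have h3 : 2 ^ (m + 3) * (2 ^ (m + 3) * 2 ^ (m + 3)) = 2 ^ (3 * m + 7) * 4 := by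
    have : (4 : ℕ) = 2 ^ 2 := by norm_num
    rw [this, ← pow_add, ← pow_add, ← pow_add]
    congr 1
    ring
  rw [h3] at h1
  exact Nat.eq_of_mul_eq_mul_right (by norm_num) h1

namespace BOne

theorem card_Tor (h : BOne S m f u w) : Nat.card (Tor f) = 2 ^ (3 * m + 7) := by
  rw [← card_ker_gh m]
  let F : (gh m).ker → Tor f := fun v =>
    ⟨f v.1.1 v.1.2.1 v.1.2.2, h.f_mem_Tor (good_iff_red.mpr ((gh m).mem_ker.mp v.2))⟩
  symm
  apply Nat.card_eq_of_bijective F
  constructor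
  · intro a b hab
    have h1 := (h.f_eq_iff (good_iff_red.mpr ((gh m).mem_ker.mp a.2))
      (good_iff_red.mpr ((gh m).mem_ker.mp b.2))).mp (congrArg Subtype.val hab)
    apply Subtype.ext
    exact Prod.ext h1.1 (Prod.ext h1.2.1 h1.2.2)
  · rintro ⟨t, ht⟩
    obtain ⟨p, q, r, hg, rfl⟩ := h.mem_Tor.mp ht
    exact ⟨⟨(p, q, r), (gh m).mem_ker.mpr (good_iff_red.mp hg)⟩, rfl⟩

theorem card_S (h : BOne S m f u w) : Nat.card S = 2 ^ (3 * m + 10) := by
  rw [h.card_S_eq, h.card_Tor]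
  have : (8 : ℕ) = 2 ^ 3 := by norm_num
  rw [this, ← pow_add]
  congr 1
  ring

theorem finite_S (h : BOne S m f u w) : Finite S :=
  Nat.finite_of_card_ne_zero (by rw [h.card_S]; positivity)

end BOne

end Cfsg.Agent.LFourB
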