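import Cfsg.Agent.LFourB.EFactH

/-!
# Fusion in `PSL 4 q`, `q = 1 mod 8`: Steps 1, 3, 4 for `BOne`, final form
-/

set_option autoImplicit false
set_option linter.unusedSectionVars false

namespace Cfsg.Agent.LFourB

open Subgroup FusA EF

variable {G : Type*} [Group G] {m : ℕ} {f : R m → R m → R m → G} {u w : G}

namespace BOne

section

variable [Finite G] {P : Sylow 2 G}

/-- `N(T)` controls fusion in `T`. -/
theorem fus_control (h : BOne (P : Subgroup G) m f u w) {a b : G} (ha : a ∈ Tor f) (hb : b ∈ Tor f)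
    (hab : ∃ g : G, g * a * g⁻¹ = b) : ∃ n ∈ normalizer (Tor f : Set G), n * a * n⁻¹ = b :=
  exists_norm_conj h.e_sf ha hb hab

theorem fus_z1_X (h : BOne (P : Subgroup G) m f u w) (g : G) (i : Fin 4) : g * z1 f * g⁻¹ ≠ X f i :=
  z_not_conj_X h.e_sf g i

theorem fus_z2_X (h : BOne (P : Subgroup G) m f u w) (g : G) (i : Fin 4) : g * z2 f * g⁻¹ ≠ X f i :=
  z'_not_conj_X h.e_sf g i

/-- **Step 3**: `z1` and `z2` are conjugate. -/
theorem fus_isConj [IsSimpleGroup G] (h : BOne (P : Subgroup G) m f u w)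
    (hU : (∃ i, IsConj u (X f i)) ∨ IsConj u (z2 f))
    (hU' : (∃ i, IsConj (x4 f * u) (X f i)) ∨ IsConj (x4 f * u) (z2 f)) : ∃ g : G, g * z1 f * g⁻¹ = z2 f := by
  refine isConj_z h.e_sf (exists_mem_conj h.e_sf) ?_
  intro e he hee
  by_cases heT : e ∈ Tor f
  · exact Or.inl heT
  right
  rcases h.involution_cases he heT hee with h1 | h1
  · obtain ⟨s, -, hs⟩ := h.exists_conj_overU h1 hee
    have key : ∀ v, e = s * v * s⁻¹ → ((∃ i, IsConj v (X f i)) ∨ IsConj v (z2 f)) →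
        ((∃ i, IsConj e (X f i)) ∨ IsConj e (z2 f)) := by
      intro v hv hv'
      have h2 : IsConj e v := by
        rw [isConj_comm, isConj_iff]
        exact ⟨s, hv.symm⟩
      rcases hv' with ⟨i, hi⟩ | hi
      · exact Or.inl ⟨i, h2.trans hi⟩
      · exact Or.inr (h2.trans hi)
    rcases hs with hs | hs
    · rcases key u hs hU with h2 | h2
      · exact Or.inl h2
      · exact Or.inr (Or.inl h2)
    · rcases key _ hs hU' with h2 | h2
      · exact Or.inl h2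
      · exact Or.inr (Or.inl h2)
  · exact Or.inr (Or.inr (h.e_E16_of_overV (h.e_overV h1) hee))

/-- **Step 3**: every permutation of `x1, .., x4` is induced by `N(T)`. -/
theorem fus_perm (h : BOne (P : Subgroup G) m f u w) (hz : ∃ g : G, g * z1 f * g⁻¹ = z2 f)
    (ρ : Equiv.Perm (Fin 4)) : ∃ n ∈ normalizer (Tor f : Set G), ∀ i, n * X f i * n⁻¹ = X f (ρ i) :=
  exists_norm_perm h.e_sf hz ρ

/-- Elements of `N(T)` fixing `x1, .., x4` centralise `T`. -/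
theorem fus_cent (h : BOne (P : Subgroup G) m f u w) {n : G} (hn : n ∈ normalizer (Tor f : Set G))
    (hX : ∀ i, n * X f i = X f i * n) : ∀ t ∈ Tor f, n * t = t * n :=
  cent_of_X h.e_sf hn hX

/-- The subgroup `T V'` has index 2. -/
theorem e_relIndex (h : BOne (P : Subgroup G) m f u w) : (TVp f u w).relIndex (P : Subgroup G) = 2 := by
  have hle : TVp f u w ≤ (P : Subgroup G) := fun g hg => (h.e_TVp_pi hg).1
  have hwn : w ∉ TVp f u w := by
    intro hw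
    obtain ⟨hS, i, j, hij⟩ := h.e_TVp_pi hw
    rw [h.e_pi_w'] at hij
    have := (d8_inj _ _ _ _ _ _ hij).2.2
    exact absurd this (by decide)
  rw [relIndex, Subgroup.index_eq_two_iff]
  refine ⟨⟨w, h.w_mem⟩, ?_⟩
  rintro ⟨x, hx⟩
  obtain ⟨i, j, k, hijk⟩ := h.e_exists_d8 ⟨x, hx⟩
  rw [mem_subgroupOf, mem_subgroupOf]
  have h1 : ∀ y (hy : y ∈ (P : Subgroup G)) (i j k : Bool), h.pi ⟨y, hy⟩ = d8 i j k → (y ∈ TVp f u w ↔ k = false) := by
    intro y hy i j k hyk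
    constructor
    · intro hh
      obtain ⟨_, i', j', h2⟩ := h.e_TVp_pi hh
      rw [hyk] at h2
      exact (d8_inj _ _ _ _ _ _ h2).2.2
    · rintro rfl
      exact h.e_mem_TVp_of_pi hy hyk
  have h3 : ∃ i' j', h.pi ⟨x * w, mul_mem hx h.w_mem⟩ = d8 i' j' (!k) := by
    have h4 : h.pi ⟨x * w, mul_mem hx h.w_mem⟩ = h.pi ⟨x, hx⟩ * h.pi ⟨w, h.w_mem⟩ := by
      rw [← map_mul]; rfl
    rw [h4, hijk, h.e_pi_w']
    have h5 : ∀ i j k : Bool, ∃ i' j', d8 i j k * d8 false false true = d8 i' j' (!k) := by decide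
    exact h5 i j k
  obtain ⟨i', j', h3⟩ := h3
  have h6 := h1 x hx i j k hijk
  have h7 := h1 (x * w) (mul_mem hx h.w_mem) i' j' (!k) h3
  change Xor (x * w ∈ TVp f u w) (x ∈ TVp f u w)
  rw [h6, h7]
  cases k <;> simp [Xor]

/-- The subgroup `T V'` is generated by `Q1`, `Q2`, and `t0`. -/
theorem e_TVp_le (h : BOne (P : Subgroup G) m f u w) : TVp f u w ≤ closure
    ((({g | ∃ a, g = f (2 * a) 0 (-a)} ∪ {u * x1 f}) ∪ ({g | ∃ a, g = f 0 (2 * a) a} ∪ {ub u w * x3 f})) ∪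
      {f 1 (-1) 0}) := by
  set C := closure ((({g | ∃ a, g = f (2 * a) 0 (-a)} ∪ {u * x1 f}) ∪ ({g | ∃ a, g = f 0 (2 * a) a} ∪
    {ub u w * x3 f})) ∪ {f 1 (-1) 0}) with hC
  have hT : Tor f ≤ C := by
    intro g hg
    obtain ⟨p, q, r, ⟨c, hc⟩, rfl⟩ := h.mem_Tor.1 hg
    have h1 : f (2 * (c - r)) 0 (-(c - r)) ∈ C := subset_closure (Or.inl (Or.inl (Or.inl ⟨_, rfl⟩)))
    have h2 : f 0 (2 * c) c ∈ C := subset_closure (Or.inl (Or.inr (Or.inl ⟨_, rfl⟩)))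
    have h3 : f 1 (-1) 0 ∈ C := subset_closure (Or.inr rfl)
    have hg3 : Good (1 : R m) (-1) 0 := ⟨0, by ring⟩
    have h4 : f 1 (-1) 0 ^ (p - 2 * c + 2 * r).val ∈ C := pow_mem h3 _
    rw [h.f_pow hg3, ZMod.natCast_zmod_val] at h4
    have hg4 : Good ((p - 2 * c + 2 * r) * 1) ((p - 2 * c + 2 * r) * -1) ((p - 2 * c + 2 * r) * 0) := by
      have := hg3.pow (p - 2 * c + 2 * r).val
      rwa [ZMod.natCast_zmod_val] at this
    have h5 := mul_mem (mul_mem h4 h1) h2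
    rw [h.f_mul _ _ _ _ _ _ hg4 (goodq1 _), h.f_mul _ _ _ _ _ _ (hg4.add (goodq1 _)) (goodq2 _)] at h5
    have e1 : (p - 2 * c + 2 * r) * 1 + 2 * (c - r) + 0 = p := by ring
    have e2 : (p - 2 * c + 2 * r) * -1 + 0 + 2 * c = q := by linear_combination -hc
    have e3 : (p - 2 * c + 2 * r) * 0 + -(c - r) + c = r := by ring
    rwa [e1, e2, e3] at h5
  rw [TVp, sup_le_iff]
  refine ⟨hT, ?_⟩
  rw [closure_le]
  rintro x (rfl | hx)
  · have h1 : x * x1 f ∈ C := subset_closure (Or.inl (Or.inl (Or.inr rfl)))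
    exact (C.mul_mem_cancel_right (hT (h.f_mem_Tor goodx1))).1 h1
  · rw [Set.mem_singleton_iff.1 hx]
    have h1 : ub u w * x3 f ∈ C := subset_closure (Or.inl (Or.inr (Or.inr rfl)))
    exact (C.mul_mem_cancel_right (hT (h.f_mem_Tor goodx3))).1 h1

/-- **Step 4**: if no homomorphism of `C(z1)` onto `±1` is nontrivial on `u x1`, then `C(z1)` has a normal
subgroup of index 2 meeting `S` in `T V'`. -/
theorem fus_index_two (h : BOne (P : Subgroup G) m f u w)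
    (hu : ∀ φ : ↥(centralizer ({z1 f} : Set G)) →* ℤˣ, ∀ hx : u * x1 f ∈ centralizer ({z1 f} : Set G),
      φ ⟨u * x1 f, hx⟩ = 1) :
    ∃ H0 : Subgroup G, H0 ≤ centralizer ({z1 f} : Set G) ∧ H0.relIndex (centralizer ({z1 f} : Set G)) = 2 ∧
      centralizer ({z1 f} : Set G) ≤ normalizer (H0 : Set G) ∧ (P : Subgroup G) ⊓ H0 = TVp f u w := by
  have hPL : (P : Subgroup G) ≤ centralizer ({z1 f} : Set G) := P_le_cent h.e_sf
  have hle : TVp f u w ≤ (P : Subgroup G) := fun g hg => (h.e_TVp_pi hg).1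
  have hT : Tor f ≤ TVp f u w := le_sup_left
  have huT : u ∈ TVp f u w := (le_sup_right : _ ≤ TVp f u w) (Subgroup.subset_closure (by simp))
  have hubT : ub u w ∈ TVp f u w := (le_sup_right : _ ≤ TVp f u w) (Subgroup.subset_closure (by simp))
  have hg0 : Good (1 : R m) (-1) 0 := ⟨0, by ring⟩
  refine exists_index_two h.e_sf h.e_relIndex (Q := ({g | ∃ a, g = f (2 * a) 0 (-a)} ∪ {u * x1 f}) ∪
    ({g | ∃ a, g = f 0 (2 * a) a} ∪ {ub u w * x3 f})) (t0 := f 1 (-1) 0) (u0 := w) ?_ h.e_TVp_le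
    (hT (h.f_mem_Tor hg0)) ?_ h.w_mem ?_ h.w_w ?_ h.e_E16_of_not_mem
  · rintro x ((⟨a, rfl⟩ | rfl) | (⟨a, rfl⟩ | rfl))
    · exact hT (h.f_mem_Tor (goodq1 a))
    · exact mul_mem huT (hT (h.f_mem_Tor goodx1))
    · exact hT (h.f_mem_Tor (goodq2 a))
    · exact mul_mem hubT (hT (h.f_mem_Tor goodx3))
  · intro φ q hq hqc
    -- commutators are killed
    have hcomm : ∀ a b x : G, a ∈ (P : Subgroup G) → b ∈ (P : Subgroup G) → a * b * a⁻¹ = x * b →
        ∀ hx : x ∈ centralizer ({z1 f} : Set G), φ ⟨x, hx⟩ = 1 := by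
      intro a b x ha hb hab hx
      have h1 : (⟨a, hPL ha⟩ * ⟨b, hPL hb⟩ * ⟨a, hPL ha⟩⁻¹ : ↥(centralizer ({z1 f} : Set G))) = ⟨x, hx⟩ * ⟨b, hPL hb⟩ :=
        Subtype.ext hab
      have h2 := congrArg φ h1
      rw [map_mul, map_mul, map_mul, map_inv] at h2
      have h3 : φ ⟨a, hPL ha⟩ * φ ⟨b, hPL hb⟩ * (φ ⟨a, hPL ha⟩)⁻¹ = φ ⟨b, hPL hb⟩ := by
        rw [mul_comm (φ ⟨a, hPL ha⟩), mul_inv_cancel_right]
      rw [h3] at h2
      exact (mul_eq_right.1 h2.symm)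
    have hq1 : ∀ a : R m, ∀ hx : f (2 * a) 0 (-a) ∈ centralizer ({z1 f} : Set G), φ ⟨f (2 * a) 0 (-a), hx⟩ = 1 := by
      intro a hx
      have hg : Good a (-a) 0 := ⟨0, by ring⟩
      refine hcomm (f a (-a) 0) u _ (h.f_mem_S hg) h.u_mem ?_ hx
      have := h.e_conj_u hg Good.zero
      rwa [h.f_zero, one_mul] at this
    have hconj : ∀ a b x : G, a ∈ (P : Subgroup G) → a * b * a⁻¹ = x →
        ∀ (hb : b ∈ centralizer ({z1 f} : Set G)) (hx : x ∈ centralizer ({z1 f} : Set G)), φ ⟨b, hb⟩ = 1 →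
        φ ⟨x, hx⟩ = 1 := by
      intro a b x ha hab hb hx hb1
      have h1 : (⟨a, hPL ha⟩ * ⟨b, hb⟩ * ⟨a, hPL ha⟩⁻¹ : ↥(centralizer ({z1 f} : Set G))) = ⟨x, hx⟩ :=
        Subtype.ext hab
      rw [← h1, map_mul, map_mul, map_inv, hb1, mul_one, mul_inv_cancel]
    rcases hq with (⟨a, rfl⟩ | hq) | (⟨a, rfl⟩ | hq)
    · exact hq1 a _
    · have hq' : q = u * x1 f := hq
      subst hq'
      exact hu φ _
    · refine hconj w (f (2 * a) 0 (-a)) _ h.w_mem ?_ (hPL (h.f_mem_S (goodq1 _))) _ (hq1 a _)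
      rw [h.w_f _ _ _ (goodq1 _), mul_inv_cancel_right, neg_neg]
    · have hq' : q = ub u w * x3 f := hq
      subst hq'
      refine hconj w (u * x1 f) _ h.w_mem ?_ (hPL (mul_mem h.u_mem (h.f_mem_S goodx1))) _ (hu φ _)
      have : w * (u * x1 f) * w⁻¹ = (w * u * w⁻¹) * (w * x1 f * w⁻¹) := by group
      rw [this, h.w_mul_u, h.w_x1, mul_inv_cancel_right, mul_inv_cancel_right]
  · intro hw
    obtain ⟨hS, i, j, hij⟩ := h.e_TVp_pi hw
    rw [h.e_pi_w'] at hij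
    have := (d8_inj _ _ _ _ _ _ hij).2.2
    exact absurd this (by decide)
  · exact (h.e_sq_w_iff hg0).2 rfl

end

end BOne

end Cfsg.Agent.LFourB
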