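import Cfsg.Agent.LFourB.CentXMain
import Cfsg.Agent.LFourB.EFactI

/-!
# From `BOne` to the data in `C(x4)`
-/

set_option autoImplicit false
set_option linter.unusedSectionVars false

namespace Cfsg.Agent.LFourB

open Subgroup Cfsg.Agent.Lib.EssentialFusion CentXEss

universe v

variable {G : Type v} [Group G] {m : ℕ} {f : R m → R m → R m → G} {u w : G}

open Classical in
/-- Coordinates in a subgroup. -/
noncomputable def lft (C : Subgroup G) (f : R m → R m → R m → G) (p q r : R m) : C :=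
  if h : f p q r ∈ C then ⟨f p q r, h⟩ else 1

namespace BOne

section Lift

variable {S C : Subgroup G}

theorem cx_lft_coe (h : BOne S m f u w) (hT : Tor f ≤ C) {p q r : R m} (hg : Good p q r) :
    ((lft C f p q r : C) : G) = f p q r := by
  rw [lft, dif_pos (hT (h.f_mem_Tor hg))]

theorem cx_conj_u_mem (h : BOne S m f u w) {t : G} (ht : t ∈ Tor f) : u * t * u ∈ Tor f := by
  obtain ⟨p, q, r, hg, rfl⟩ := h.mem_Tor.mp ht
  rw [h.u_f _ _ _ hg, mul_assoc, h.u_u, mul_one]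
  exact h.f_mem_Tor hg.actu

theorem cx_mem_Sx (h : BOne S m f u w) {g : G} :
    g ∈ Sx f u ↔ ∃ p q r, Good p q r ∧ (g = f p q r ∨ g = f p q r * u) := by
  rw [Sx, mem_sup_zpowers h.u_u (fun b hb => h.cx_conj_u_mem hb)]
  constructor
  · rintro ⟨b, hb, hg⟩
    obtain ⟨p, q, r, hgd, rfl⟩ := h.mem_Tor.mp hb
    exact ⟨p, q, r, hgd, hg⟩
  · rintro ⟨p, q, r, hgd, hg⟩
    exact ⟨_, h.f_mem_Tor hgd, hg⟩

theorem cx_half (h : BOne S m f u w) (hT : Tor f ≤ C) (hu : u ∈ C) :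
    Half ((Sx f u).subgroupOf C) m (lft C f) ⟨u, hu⟩ := by
  refine ⟨?_, ?_, ?_, ?_, ?_⟩
  · intro p q r p' q' r' hg hg'
    apply Subtype.ext
    rw [Subgroup.coe_mul, h.cx_lft_coe hT hg, h.cx_lft_coe hT hg', h.cx_lft_coe hT (hg.add hg')]
    exact h.f_mul _ _ _ _ _ _ hg hg'
  · intro p q r hg h1
    have h2 := congrArg Subtype.val h1
    rw [h.cx_lft_coe hT hg] at h2
    exact h.f_inj _ _ _ hg h2
  · exact Subtype.ext h.u_u
  · intro p q r hg
    apply Subtype.ext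
    rw [Subgroup.coe_mul, Subgroup.coe_mul, h.cx_lft_coe hT hg, h.cx_lft_coe hT hg.actu]
    exact h.u_f _ _ _ hg
  · intro g
    rw [mem_subgroupOf, h.cx_mem_Sx]
    constructor
    · rintro ⟨p, q, r, hg, h1 | h1⟩
      · exact ⟨p, q, r, hg, Or.inl (Subtype.ext (by rw [h1, h.cx_lft_coe hT hg]))⟩
      · exact ⟨p, q, r, hg, Or.inr (Subtype.ext (by rw [h1, Subgroup.coe_mul, h.cx_lft_coe hT hg]))⟩
    · rintro ⟨p, q, r, hg, h1 | h1⟩
      · exact ⟨p, q, r, hg, Or.inl (by rw [h1, h.cx_lft_coe hT hg])⟩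
      · exact ⟨p, q, r, hg, Or.inr (by rw [h1, Subgroup.coe_mul, h.cx_lft_coe hT hg])⟩

theorem cx_Tor_lft (h : BOne S m f u w) (hT : Tor f ≤ C) (hu : u ∈ C) : Tor (lft C f) = (Tor f).subgroupOf C := by
  ext g
  rw [(h.cx_half hT hu).mem_Tor, mem_subgroupOf, h.mem_Tor]
  constructor
  · rintro ⟨p, q, r, hg, rfl⟩
    exact ⟨p, q, r, hg, h.cx_lft_coe hT hg⟩
  · rintro ⟨p, q, r, hg, h1⟩
    exact ⟨p, q, r, hg, Subtype.ext (by rw [h1, h.cx_lft_coe hT hg])⟩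

theorem cx_mem_Tor_lft (h : BOne S m f u w) (hT : Tor f ≤ C) (hu : u ∈ C) {t : C} :
    t ∈ Tor (lft C f) ↔ (t : G) ∈ Tor f := by
  rw [h.cx_Tor_lft hT hu, mem_subgroupOf]

theorem cx_X_lft (h : BOne S m f u w) (hT : Tor f ≤ C) (i : Fin 4) : ((X (lft C f) i : C) : G) = X f i := by
  fin_cases i
  · exact h.cx_lft_coe hT goodx1
  · exact h.cx_lft_coe hT goodx2
  · exact h.cx_lft_coe hT goodx3
  · exact h.cx_lft_coe hT goodx4

theorem cx_card_Tor_lft (h : BOne S m f u w) (hT : Tor f ≤ C) (hu : u ∈ C) :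
    Nat.card (Tor (lft C f)) = 2 ^ (3 * m + 7) := by
  rw [h.cx_Tor_lft hT hu, ← h.card_Tor]
  exact Nat.card_congr (Subgroup.subgroupOfEquivOfLe hT).toEquiv

theorem cx_mem_norm_lft (h : BOne S m f u w) (hT : Tor f ≤ C) (hu : u ∈ C) {n : C} :
    n ∈ normalizer (Tor (lft C f) : Set C) ↔ (n : G) ∈ normalizer (Tor f : Set G) := by
  rw [mem_normalizer_iff, mem_normalizer_iff]
  constructor
  · intro h1 t
    constructor
    · intro ht
      exact (h.cx_mem_Tor_lft hT hu).1 ((h1 ⟨t, hT ht⟩).1 ((h.cx_mem_Tor_lft hT hu).2 ht))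
    · intro ht
      have htC : t ∈ C := by
        have := mul_mem (mul_mem (inv_mem n.2) (hT ht)) n.2
        have e : (n : G)⁻¹ * ((n : G) * t * (n : G)⁻¹) * (n : G) = t := by group
        rwa [e] at this
      exact (h.cx_mem_Tor_lft hT hu (t := ⟨t, htC⟩)).1 ((h1 ⟨t, htC⟩).2 ((h.cx_mem_Tor_lft hT hu).2 ht))
  · intro h1 t
    rw [h.cx_mem_Tor_lft hT hu, h.cx_mem_Tor_lft hT hu]
    exact h1 t

end Lift

section Sylow

variable [Finite G] {P : Sylow 2 G}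

theorem cx_T_le_cent (h : BOne (P : Subgroup G) m f u w) : Tor f ≤ centralizer ({x4 f} : Set G) := fun _ ht =>
  mem_centralizer_singleton_iff.2 (h.Tor_comm ht (h.f_mem_Tor goodx4))

theorem cx_u_mem_cent (h : BOne (P : Subgroup G) m f u w) : u ∈ centralizer ({x4 f} : Set G) :=
  mem_centralizer_singleton_iff.2 h.u_x4

theorem cx_pi_fix : ∀ i j l : Bool,
    ((if i then Equiv.swap (0 : Fin 4) 1 else 1) * (if j then Equiv.swap 2 3 else 1) *
      (if l then Equiv.swap 0 2 * Equiv.swap 1 3 else 1) : Equiv.Perm (Fin 4)) 3 = 3 → j = false ∧ l = false := by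
  decide

/-- the centraliser of `x4` in `S` -/
theorem cx_mem_Sx_of_comm (h : BOne (P : Subgroup G) m f u w) {s : G} (hs : s ∈ (P : Subgroup G))
    (hc : s * x4 f = x4 f * s) : s ∈ Sx f u := by
  obtain ⟨t, ht, i, j, l, rfl⟩ := h.exists_rep hs
  have h1 := h.pi_spec ⟨_, hs⟩ 3
  have h2 : X f 3 = x4 f := rfl
  rw [h2, hc, mul_inv_cancel_right, ← h2] at h1
  have h3 := h.X_injective h1
  have h4 := h.pi_mul_rep ht i j l
  rw [h4, h.pi_rep] at h3
  obtain ⟨rfl, rfl⟩ := cx_pi_fix i j l h3.symm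
  rw [h.cx_mem_Sx]
  obtain ⟨p, q, r, hg, rfl⟩ := h.mem_Tor.mp ht
  refine ⟨p, q, r, hg, ?_⟩
  cases i
  · left; simp [rep]
  · right; simp [rep]

theorem cx_Sx_le (h : BOne (P : Subgroup G) m f u w) : Sx f u ≤ (P : Subgroup G) :=
  sup_le h.Tor_le (zpowers_le.2 h.u_mem)

theorem cx_Sx_le_cent (h : BOne (P : Subgroup G) m f u w) : Sx f u ≤ centralizer ({x4 f} : Set G) :=
  sup_le h.cx_T_le_cent (zpowers_le.2 h.cx_u_mem_cent)

/-- `S` is transitive on `x1, .., x4`. -/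
theorem cx_exists_to_x4 (h : BOne (P : Subgroup G) m f u w) (i : Fin 4) :
    ∃ s ∈ (P : Subgroup G), s * X f i * s⁻¹ = x4 f := by
  have hub := h.pi_ub
  have hw := h.conj_X_w
  have h2 := h.pi_spec ⟨_, h.ub_mem⟩ 2
  rw [hub] at h2
  have hu := h.conj_X_u 0
  fin_cases i
  · refine ⟨w * u, mul_mem h.w_mem h.u_mem, ?_⟩
    have h3 := hw 1
    have e : w * u * X f 0 * (w * u)⁻¹ = w * (u * X f 0 * u⁻¹) * w⁻¹ := by group
    change w * u * X f 0 * (w * u)⁻¹ = _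
    rw [e, hu]
    exact h3
  · exact ⟨w, h.w_mem, hw 1⟩
  · exact ⟨_, h.ub_mem, h2⟩
  · exact ⟨1, one_mem _, by simp [X]⟩

/-- `T` is weakly closed: elementwise form. -/
theorem cx_norm_of_conj (h : BOne (P : Subgroup G) m f u w) {g : G}
    (hg : ∀ t ∈ Tor f, g * t * g⁻¹ ∈ (P : Subgroup G)) : g ∈ normalizer (Tor f : Set G) := by
  have h1 : (Tor f).map (MulAut.conj g).toMonoidHom ≤ (P : Subgroup G) := by
    rintro _ ⟨t, ht, rfl⟩
    exact hg t ht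
  exact Cfsg.Agent.Lib.GoldschmidtFusion.mem_normalizer_iff_map_conj.2 (h.weakly_closed h1)

/-- `C_S(x4)` is a Sylow 2-subgroup of `C(x4)`. -/
theorem cx_exists_sylow (h : BOne (P : Subgroup G) m f u w) :
    ∃ Q : Sylow 2 (centralizer ({x4 f} : Set G)),
      (Q : Subgroup (centralizer ({x4 f} : Set G))) = (Sx f u).subgroupOf (centralizer ({x4 f} : Set G)) := by
  set C := centralizer ({x4 f} : Set G) with hC
  have hp : IsPGroup 2 ((Sx f u).subgroupOf C) := by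
    have h1 : IsPGroup 2 (Sx f u) := P.isPGroup'.to_le h.cx_Sx_le
    exact h1.comap_subtype
  obtain ⟨Q, hQ⟩ := hp.exists_le_sylow
  refine ⟨Q, le_antisymm ?_ hQ⟩
  -- conjugate `Q` into `P`
  have hR : IsPGroup 2 ((Q : Subgroup C).map C.subtype) := Q.isPGroup'.map _
  obtain ⟨P', hP'⟩ := hR.exists_le_sylow
  obtain ⟨g, hg⟩ := MulAction.exists_smul_eq G P' P
  have hgQ : ∀ r : C, r ∈ (Q : Subgroup C) → g * r * g⁻¹ ∈ (P : Subgroup G) := by
    intro r hr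
    have h1 : (r : G) ∈ (P' : Subgroup G) := hP' ⟨r, hr, rfl⟩
    rw [← hg]
    exact ⟨r, h1, by simp [MulAut.conj_apply]⟩
  have hTQ : ∀ t (ht : t ∈ Tor f), (⟨t, h.cx_T_le_cent ht⟩ : C) ∈ (Q : Subgroup C) := by
    intro t ht
    apply hQ
    rw [mem_subgroupOf]
    exact (le_sup_left : Tor f ≤ Sx f u) ht
  have hgN : g ∈ normalizer (Tor f : Set G) := h.cx_norm_of_conj fun t ht => hgQ ⟨t, h.cx_T_le_cent ht⟩ (hTQ t ht)
  obtain ⟨σ, hσ⟩ := FusA.exists_perm h.e_sf hgN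
  obtain ⟨s, hs, hsx⟩ := h.cx_exists_to_x4 (σ 3)
  have hsg : s * g * x4 f * (s * g)⁻¹ = x4 f := by
    have e : s * g * x4 f * (s * g)⁻¹ = s * (g * X f 3 * g⁻¹) * s⁻¹ := by
      change s * g * x4 f * (s * g)⁻¹ = s * (g * x4 f * g⁻¹) * s⁻¹
      group
    rw [e, hσ, hsx]
  have hsg' : s * g ∈ C := mem_centralizer_singleton_iff.2 (mul_inv_eq_iff_eq_mul.1 hsg)
  have hmem : ∀ r : C, r ∈ (Q : Subgroup C) → (⟨s * g, hsg'⟩ : C) * r * (⟨s * g, hsg'⟩ : C)⁻¹ ∈ (Sx f u).subgroupOf C := by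
    intro r hr
    rw [mem_subgroupOf]
    refine h.cx_mem_Sx_of_comm ?_ ?_
    · have e : (((⟨s * g, hsg'⟩ : C) * r * (⟨s * g, hsg'⟩ : C)⁻¹ : C) : G) = s * (g * r * g⁻¹) * s⁻¹ := by
        simp only [Subgroup.coe_mul, Subgroup.coe_inv]
        group
      rw [e]
      exact mul_mem (mul_mem hs (hgQ r hr)) (inv_mem hs)
    · exact mem_centralizer_singleton_iff.1 ((⟨s * g, hsg'⟩ : C) * r * (⟨s * g, hsg'⟩ : C)⁻¹).2
  have hcard : Nat.card (Q : Subgroup C) ≤ Nat.card ((Sx f u).subgroupOf C) := by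
    refine Nat.card_le_card_of_injective
      (fun r : (Q : Subgroup C) => (⟨_, hmem r.1 r.2⟩ : (Sx f u).subgroupOf C)) ?_
    intro a b hab
    have h1 := congrArg Subtype.val hab
    exact Subtype.ext (mul_left_cancel (mul_right_cancel h1))
  exact (Subgroup.eq_of_le_of_card_ge hQ hcard).ge

/-- an odd power congruent to `1` modulo 3 -/
theorem cx_exists_odd_pow {g : G} : ∃ j : ℕ, Nat.Coprime (orderOf (g ^ j)) 2 ∧ j % 3 = 1 := by
  obtain ⟨a, k, hk, hak⟩ := Nat.exists_eq_pow_mul_and_not_dvd (orderOf_pos g).ne' 2 (by norm_num)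
  refine ⟨4 ^ a, ?_, ?_⟩
  · have h1 : (g ^ 4 ^ a) ^ k = 1 := by
      have e : 4 ^ a * k = (2 ^ a * k) * 2 ^ a := by
        have : (4 : ℕ) ^ a = 2 ^ a * 2 ^ a := by rw [← mul_pow]; norm_num
        rw [this]; ring
      rw [← pow_mul, e, ← hak, pow_mul, pow_orderOf_eq_one, one_pow]
    have h2 := orderOf_dvd_of_pow_eq_one h1
    exact Nat.Coprime.coprime_dvd_left h2 (((Nat.Prime.coprime_iff_not_dvd Nat.prime_two).2 hk).symm)
  · rw [Nat.pow_mod]
    simp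

/-- An odd element of `N(T)` permuting `x1, x2, x3`. -/
theorem cx_exists_ρ (h : BOne (P : Subgroup G) m f u w) (hz : ∃ g : G, g * z1 f * g⁻¹ = z2 f) :
    ∃ ρ ∈ centralizer ({x4 f} : Set G), ρ ∈ normalizer (Tor f : Set G) ∧ Nat.Coprime (orderOf ρ) 2 ∧
      ρ * x1 f * ρ⁻¹ = x2 f ∧ ρ * x2 f * ρ⁻¹ = x3 f ∧ ρ * x3 f * ρ⁻¹ = x1 f := by
  obtain ⟨n, hn, hnX⟩ := h.fus_perm hz (Equiv.swap 0 1 * Equiv.swap 1 2)
  obtain ⟨j, hj, hj3⟩ := cx_exists_odd_pow (g := n)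
  obtain ⟨σ, hσ⟩ : ∃ σ : Equiv.Perm (Fin 4), σ = Equiv.swap 0 1 * Equiv.swap 1 2 := ⟨_, rfl⟩
  rw [← hσ] at hnX
  have hpow : ∀ k : ℕ, ∀ i, n ^ k * X f i * (n ^ k)⁻¹ = X f ((σ ^ k) i) := by
    intro k
    induction k with
    | zero => intro i; simp
    | succ k ih =>
      intro i
      have e1 : n ^ (k + 1) * X f i * (n ^ (k + 1))⁻¹ = n ^ k * (n * X f i * n⁻¹) * (n ^ k)⁻¹ := by
        rw [pow_succ]; group
      rw [e1, hnX, ih, pow_succ, Equiv.Perm.mul_apply]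
  have hσj : σ ^ j = σ := by
    have h3 : σ ^ 3 = 1 := by rw [hσ]; decide
    obtain ⟨l, hl⟩ : ∃ l, j = 3 * l + 1 := ⟨j / 3, by omega⟩
    rw [hl, pow_succ, pow_mul, h3, one_pow, one_mul]
  have hj' : ∀ i, n ^ j * X f i * (n ^ j)⁻¹ = X f (σ i) := by
    intro i
    rw [hpow, hσj]
  subst hσ
  refine ⟨n ^ j, ?_, pow_mem hn j, hj, hj' 0, hj' 1, hj' 2⟩
  exact mem_centralizer_singleton_iff.2 (mul_inv_eq_iff_eq_mul.1 (hj' 3))

theorem cx_coe_lft (h : BOne (P : Subgroup G) m f u w) {p q r : R m} (hg : Good p q r) :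
    ((lft (centralizer ({x4 f} : Set G)) f p q r : centralizer ({x4 f} : Set G)) : G) = f p q r :=
  h.cx_lft_coe h.cx_T_le_cent hg

/-- The action of `ρ`. -/
theorem cx_xact (h : BOne (P : Subgroup G) m f u w) {ρ : G} (hρ : ρ ∈ centralizer ({x4 f} : Set G))
    (hn : ρ ∈ normalizer (Tor f : Set G)) (h1 : ρ * x1 f * ρ⁻¹ = x2 f) (h2 : ρ * x2 f * ρ⁻¹ = x3 f)
    (h3 : ρ * x3 f * ρ⁻¹ = x1 f) :
    XAct ((Sx f u).subgroupOf (centralizer ({x4 f} : Set G))) m (lft (centralizer ({x4 f} : Set G)) f)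
      ⟨u, h.cx_u_mem_cent⟩ ⟨ρ, hρ⟩ := by
  have hh := h.cx_half h.cx_T_le_cent h.cx_u_mem_cent
  refine { hh with
    card_Tor := h.cx_card_Tor_lft h.cx_T_le_cent h.cx_u_mem_cent
    ρ_norm := (h.cx_mem_norm_lft h.cx_T_le_cent h.cx_u_mem_cent).2 hn
    ρ_x1 := ?_
    ρ_x2 := ?_
    ρ_x3 := ?_
    x4_cent := ?_
    perm := ?_
    faithful := ?_ }
  · apply Subtype.ext
    change ρ * (lft _ f (N m) 0 0 : centralizer ({x4 f} : Set G)) * ρ⁻¹ = (lft _ f (N m) 0 (N m) : centralizer ({x4 f} : Set G))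
    rw [h.cx_coe_lft goodx1, h.cx_coe_lft goodx2]; exact h1
  · apply Subtype.ext
    change ρ * (lft _ f (N m) 0 (N m) : centralizer ({x4 f} : Set G)) * ρ⁻¹ = (lft _ f 0 (N m) 0 : centralizer ({x4 f} : Set G))
    rw [h.cx_coe_lft goodx2, h.cx_coe_lft goodx3]; exact h2
  · apply Subtype.ext
    change ρ * (lft _ f 0 (N m) 0 : centralizer ({x4 f} : Set G)) * ρ⁻¹ = (lft _ f (N m) 0 0 : centralizer ({x4 f} : Set G))
    rw [h.cx_coe_lft goodx3, h.cx_coe_lft goodx1]; exact h3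
  · intro g
    apply Subtype.ext
    change (g : G) * (lft _ f 0 (N m) (N m) : centralizer ({x4 f} : Set G)) =
      (lft _ f 0 (N m) (N m) : centralizer ({x4 f} : Set G)) * (g : G)
    rw [h.cx_coe_lft goodx4]
    exact mem_centralizer_singleton_iff.1 g.2
  · intro g hg
    obtain ⟨σ, hσ⟩ := FusA.exists_perm h.e_sf ((h.cx_mem_norm_lft h.cx_T_le_cent h.cx_u_mem_cent).1 hg)
    refine ⟨σ, fun i => ?_⟩
    apply Subtype.ext
    rw [Subgroup.coe_mul, Subgroup.coe_mul, Subgroup.coe_inv, h.cx_X_lft h.cx_T_le_cent, h.cx_X_lft h.cx_T_le_cent]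
    exact hσ i
  · intro g hg hX t ht
    apply Subtype.ext
    refine h.fus_cent ((h.cx_mem_norm_lft h.cx_T_le_cent h.cx_u_mem_cent).1 hg) (fun i => ?_) _
      ((h.cx_mem_Tor_lft h.cx_T_le_cent h.cx_u_mem_cent).1 ht)
    have := congrArg Subtype.val (hX i)
    rw [Subgroup.coe_mul, Subgroup.coe_mul, h.cx_X_lft h.cx_T_le_cent] at this
    exact this

/-- The normaliser of `C_S(x4)` normalises `T`. -/
theorem cx_norm_Sx (h : BOne (P : Subgroup G) m f u w) :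
    normalizer (((Sx f u).subgroupOf (centralizer ({x4 f} : Set G)) : Subgroup (centralizer ({x4 f} : Set G))) :
      Set (centralizer ({x4 f} : Set G))) ≤ normalizer (Tor (lft (centralizer ({x4 f} : Set G)) f) : Set _) := by
  intro n hn
  rw [h.cx_mem_norm_lft h.cx_T_le_cent h.cx_u_mem_cent]
  refine h.cx_norm_of_conj fun t ht => ?_
  have h1 := (mem_normalizer_iff.1 hn ⟨t, h.cx_T_le_cent ht⟩).1 (by
    rw [mem_subgroupOf]
    exact (le_sup_left : Tor f ≤ Sx f u) ht)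
  rw [mem_subgroupOf] at h1
  exact h.cx_Sx_le h1

/-- **The data in the centraliser of `x4`.** -/
theorem cx_exists_xdat (h : BOne (P : Subgroup G) m f u w) (hz : ∃ g : G, g * z1 f * g⁻¹ = z2 f)
    {Q : Sylow 2 (centralizer ({x4 f} : Set G))}
    (hQ : (Q : Subgroup (centralizer ({x4 f} : Set G))) = (Sx f u).subgroupOf (centralizer ({x4 f} : Set G)))
    (hval : ∃ (X : Subgroup (centralizer ({x4 f} : Set G))) (g y : centralizer ({x4 f} : Set G)), Ess Q X ∧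
      ¬ Tor (lft (centralizer ({x4 f} : Set G)) f) ≤ X ∧
      OddA (lft (centralizer ({x4 f} : Set G)) f) (⟨u, h.cx_u_mem_cent⟩ : centralizer ({x4 f} : Set G)) X g y 0) :
    ∃ ρ, XDat Q m (lft (centralizer ({x4 f} : Set G)) f) ⟨u, h.cx_u_mem_cent⟩ ρ := by
  obtain ⟨ρ, hρ, hn, ho, h1, h2, h3⟩ := h.cx_exists_ρ hz
  refine ⟨⟨ρ, hρ⟩, ?_⟩
  have hx := h.cx_xact hρ hn h1 h2 h3
  rw [← hQ] at hx
  refine { hx with
    ρ_odd := ?_
    norm_P := ?_
    val := hval }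
  · rw [← Subgroup.orderOf_coe]; exact ho
  · rw [hQ]; exact h.cx_norm_Sx

end Sylow

end BOne

end Cfsg.Agent.LFourB
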