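import Cfsg.Agent.LFourB.Base
import Cfsg.Agent.Lib.EssBridge

/-!
# The 2-group `T ⟨u⟩` (Sylow 2-subgroup of the centraliser of `x4`): calculus
-/

set_option autoImplicit false

namespace Cfsg.Agent.LFourB

open Subgroup

/-- Coordinates on the 2-group `T ⟨u⟩`. -/
structure Half {C : Type*} [Group C] (P : Subgroup C) (m : ℕ) (f : R m → R m → R m → C) (u : C) : Prop where
  f_mul : ∀ p q r p' q' r', Good p q r → Good p' q' r' → f p q r * f p' q' r' = f (p + p') (q + q') (r + r')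
  f_inj : ∀ p q r, Good p q r → f p q r = 1 → p = 0 ∧ q = 0 ∧ r = 0
  u_u : u * u = 1
  u_f : ∀ p q r, Good p q r → u * f p q r = f (-p) q (r + p) * u
  mem_iff : ∀ g, g ∈ P ↔ ∃ p q r, Good p q r ∧ (g = f p q r ∨ g = f p q r * u)

namespace Half

variable {C : Type*} [Group C] {P : Subgroup C} {m : ℕ} {f : R m → R m → R m → C} {u : C}

theorem f_zero (h : Half P m f u) : f 0 0 0 = 1 := by
  have h1 := h.f_mul 0 0 0 0 0 0 Good.zero Good.zero
  rw [add_zero] at h1
  exact left_eq_mul.mp h1.symm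

theorem f_inv (h : Half P m f u) {p q r : R m} (hg : Good p q r) : (f p q r)⁻¹ = f (-p) (-q) (-r) := by
  rw [inv_eq_iff_mul_eq_one, h.f_mul _ _ _ _ _ _ hg hg.neg]
  simp [h.f_zero]

theorem f_comm (h : Half P m f u) {p q r p' q' r' : R m} (hg : Good p q r) (hg' : Good p' q' r') :
    f p q r * f p' q' r' = f p' q' r' * f p q r := by
  rw [h.f_mul _ _ _ _ _ _ hg hg', h.f_mul _ _ _ _ _ _ hg' hg, add_comm p, add_comm q, add_comm r]

theorem f_eq_iff (h : Half P m f u) {p q r p' q' r' : R m} (hg : Good p q r) (hg' : Good p' q' r') :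
    f p q r = f p' q' r' ↔ p = p' ∧ q = q' ∧ r = r' := by
  constructor
  · intro he
    have h1 : f (p - p') (q - q') (r - r') = 1 := by
      have := h.f_mul _ _ _ _ _ _ hg hg'.neg
      rw [← h.f_inv hg', he, mul_inv_cancel] at this
      rw [sub_eq_add_neg, sub_eq_add_neg, sub_eq_add_neg, ← this]
    obtain ⟨h2, h3, h4⟩ := h.f_inj _ _ _ (hg.sub hg') h1
    exact ⟨sub_eq_zero.mp h2, sub_eq_zero.mp h3, sub_eq_zero.mp h4⟩
  · rintro ⟨rfl, rfl, rfl⟩
    rfl

theorem f_eq_one_iff (h : Half P m f u) {p q r : R m} (hg : Good p q r) :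
    f p q r = 1 ↔ p = 0 ∧ q = 0 ∧ r = 0 := by
  constructor
  · exact h.f_inj _ _ _ hg
  · rintro ⟨rfl, rfl, rfl⟩
    exact h.f_zero

theorem f_pow (h : Half P m f u) {p q r : R m} (hg : Good p q r) (n : ℕ) :
    f p q r ^ n = f ((n : R m) * p) ((n : R m) * q) ((n : R m) * r) := by
  induction n with
  | zero => simp [h.f_zero]
  | succ n ih =>
    rw [pow_succ, ih, h.f_mul _ _ _ _ _ _ (hg.pow n) hg]
    push_cast
    congr 1 <;> ring

theorem u_inv (h : Half P m f u) : u⁻¹ = u := inv_eq_of_mul_eq_one_left h.u_u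

theorem u_f_u (h : Half P m f u) {p q r : R m} (hg : Good p q r) : u * f p q r * u = f (-p) q (r + p) := by
  rw [h.u_f _ _ _ hg, mul_assoc, h.u_u, mul_one]

theorem mem_Tor (h : Half P m f u) {g : C} : g ∈ Tor f ↔ ∃ p q r, Good p q r ∧ g = f p q r := by
  constructor
  · intro hg
    induction hg using Subgroup.closure_induction with
    | mem x hx => exact hx
    | one => exact ⟨0, 0, 0, Good.zero, h.f_zero.symm⟩
    | mul x y _ _ hx hy =>
      obtain ⟨p, q, r, hg, rfl⟩ := hx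
      obtain ⟨p', q', r', hg', rfl⟩ := hy
      exact ⟨_, _, _, hg.add hg', h.f_mul _ _ _ _ _ _ hg hg'⟩
    | inv x _ hx =>
      obtain ⟨p, q, r, hg, rfl⟩ := hx
      exact ⟨_, _, _, hg.neg, h.f_inv hg⟩
  · intro hg
    exact Subgroup.subset_closure hg

theorem mem_Bu (h : Half P m f u) {g : C} : g ∈ Bu f ↔ ∃ q r, Good 0 q r ∧ g = f 0 q r := by
  constructor
  · intro hg
    induction hg using Subgroup.closure_induction with
    | mem x hx => exact hx
    | one => exact ⟨0, 0, Good.zero, h.f_zero.symm⟩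
    | mul x y _ _ hx hy =>
      obtain ⟨q, r, hg, rfl⟩ := hx
      obtain ⟨q', r', hg', rfl⟩ := hy
      refine ⟨q + q', r + r', ?_, ?_⟩
      · have := hg.add hg'
        rwa [add_zero] at this
      · rw [h.f_mul _ _ _ _ _ _ hg hg', add_zero]
    | inv x _ hx =>
      obtain ⟨q, r, hg, rfl⟩ := hx
      refine ⟨-q, -r, ?_, ?_⟩
      · have := hg.neg
        rwa [neg_zero] at this
      · rw [h.f_inv hg, neg_zero]
  · intro hg
    exact Subgroup.subset_closure hg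

theorem f_mem_Tor (_h : Half P m f u) {p q r : R m} (hg : Good p q r) : f p q r ∈ Tor f :=
  Subgroup.subset_closure ⟨p, q, r, hg, rfl⟩

theorem f_mem_Bu (_h : Half P m f u) {q r : R m} (hg : Good 0 q r) : f 0 q r ∈ Bu f :=
  Subgroup.subset_closure ⟨q, r, hg, rfl⟩

theorem Bu_le (h : Half P m f u) : Bu f ≤ Tor f := by
  intro g hg
  obtain ⟨q, r, hgd, rfl⟩ := h.mem_Bu.mp hg
  exact h.f_mem_Tor hgd

theorem Tor_comm (h : Half P m f u) {a b : C} (ha : a ∈ Tor f) (hb : b ∈ Tor f) : a * b = b * a := by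
  obtain ⟨p, q, r, hg, rfl⟩ := h.mem_Tor.mp ha
  obtain ⟨p', q', r', hg', rfl⟩ := h.mem_Tor.mp hb
  exact h.f_comm hg hg'

theorem Tor_le (h : Half P m f u) : Tor f ≤ P := by
  intro g hg
  obtain ⟨p, q, r, hgd, rfl⟩ := h.mem_Tor.mp hg
  exact (h.mem_iff _).2 ⟨p, q, r, hgd, Or.inl rfl⟩

theorem u_mem (h : Half P m f u) : u ∈ P :=
  (h.mem_iff _).2 ⟨0, 0, 0, Good.zero, Or.inr (by rw [h.f_zero, one_mul])⟩

theorem u_notMem (h : Half P m f u) : u ∉ Tor f := by
  intro hu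
  have hg : Good (2 : R m) 0 (-1) := ⟨0, by ring⟩
  have h1 := h.Tor_comm hu (h.f_mem_Tor hg)
  rw [h.u_f _ _ _ hg] at h1
  have h2 := mul_right_cancel h1
  have h3 := ((h.f_eq_iff hg.actu hg).1 h2).1
  have h4 : (4 : R m) = 0 := by linear_combination -h3
  have h5 : N m = 0 := by rw [N_eq, h4, zero_mul]
  exact N_ne_zero h5

theorem conj_u_mem (h : Half P m f u) {t : C} (ht : t ∈ Tor f) : u * t * u ∈ Tor f := by
  obtain ⟨p, q, r, hg, rfl⟩ := h.mem_Tor.mp ht
  rw [h.u_f_u hg]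
  exact h.f_mem_Tor hg.actu

theorem mem_or (h : Half P m f u) {e : C} (he : e ∈ P) : e ∈ Tor f ∨ ∃ t ∈ Tor f, e = t * u := by
  obtain ⟨p, q, r, hg, h1 | h1⟩ := (h.mem_iff e).1 he
  · left; rw [h1]; exact h.f_mem_Tor hg
  · right; exact ⟨_, h.f_mem_Tor hg, h1⟩

theorem tu_notMem (h : Half P m f u) {t : C} (ht : t ∈ Tor f) : t * u ∉ Tor f := by
  intro h1
  apply h.u_notMem
  have := mul_mem (inv_mem ht) h1
  rwa [inv_mul_cancel_left] at this

theorem mul_mem_iff (h : Half P m f u) {e e' : C} (he : e ∈ P) (he' : e' ∈ P) :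
    e * e' ∈ Tor f ↔ (e ∈ Tor f ↔ e' ∈ Tor f) := by
  rcases h.mem_or he with h1 | ⟨t, ht, rfl⟩
  · rw [mul_mem_cancel_left h1]
    tauto
  · have h2 := h.tu_notMem ht
    rcases h.mem_or he' with h3 | ⟨t', ht', rfl⟩
    · have : ¬ (t * u * e' ∈ Tor f) := by
        rw [mul_mem_cancel_right h3]
        exact h2
      tauto
    · have h3 := h.tu_notMem ht'
      have : t * u * (t' * u) ∈ Tor f := by
        have e1 : t * u * (t' * u) = t * (u * t' * u) := by group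
        rw [e1]
        exact mul_mem ht (h.conj_u_mem ht')
      tauto

theorem inv_mem_iff' (_h : Half P m f u) {e : C} : e⁻¹ ∈ Tor f ↔ e ∈ Tor f := inv_mem_iff

theorem commutator_mem (h : Half P m f u) {e e' : C} (he : e ∈ P) (he' : e' ∈ P) :
    e * e' * e⁻¹ * e'⁻¹ ∈ Tor f := by
  rw [h.mul_mem_iff (mul_mem (mul_mem he he') (inv_mem he)) (inv_mem he'),
    h.mul_mem_iff (mul_mem he he') (inv_mem he), h.mul_mem_iff he he', inv_mem_iff, inv_mem_iff]
  tauto

theorem conj_mem_Tor (h : Half P m f u) {e t : C} (he : e ∈ P) (ht : t ∈ Tor f) : e * t * e⁻¹ ∈ Tor f := by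
  rw [h.mul_mem_iff (mul_mem he (h.Tor_le ht)) (inv_mem he), h.mul_mem_iff he (h.Tor_le ht), inv_mem_iff]
  tauto

theorem Bu_comm (h : Half P m f u) {b e : C} (hb : b ∈ Bu f) (he : e ∈ P) : b * e = e * b := by
  obtain ⟨q, r, hg, rfl⟩ := h.mem_Bu.1 hb
  rcases h.mem_or he with h1 | ⟨t, ht, rfl⟩
  · exact h.Tor_comm (h.f_mem_Tor hg) h1
  · rw [← mul_assoc, h.Tor_comm (h.f_mem_Tor hg) ht, mul_assoc, mul_assoc, h.u_f _ _ _ hg, neg_zero, add_zero]

theorem u_comm_iff (h : Half P m f u) {p q r : R m} (hg : Good p q r) :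
    u * f p q r = f p q r * u ↔ 2 * p = 0 ∧ p = 0 := by
  rw [h.u_f _ _ _ hg]
  constructor
  · intro h1
    have h2 := (h.f_eq_iff hg.actu hg).1 (mul_right_cancel h1)
    have h3 : p = 0 := by linear_combination h2.2.2
    exact ⟨by rw [h3, mul_zero], h3⟩
  · rintro ⟨-, rfl⟩
    rw [neg_zero, add_zero]

/-- an element outside the torus acts on the torus as `u` -/
theorem conj_f (h : Half P m f u) {t : C} (ht : t ∈ Tor f) {p q r : R m} (hg : Good p q r) :
    (t * u) * f p q r * (t * u)⁻¹ = f (-p) q (r + p) := by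
  have h1 : (t * u) * f p q r * (t * u)⁻¹ = t * (u * f p q r * u) * t⁻¹ := by
    rw [mul_inv_rev, h.u_inv]; group
  rw [h1, h.u_f_u hg, h.Tor_comm ht (h.f_mem_Tor hg.actu), mul_inv_cancel_right]

theorem goodh1 (_h : Half P m f u) : Good (N m) 0 (-M m) := BOne.goodh1

theorem h1_mem (h : Half P m f u) : h1 f ∈ Tor f := h.f_mem_Tor BOne.goodh1

theorem h1_sq (h : Half P m f u) : h1 f * h1 f = z1 f := by
  rw [h1, h.f_mul _ _ _ _ _ _ BOne.goodh1 BOne.goodh1, z1, N_add_N, add_zero, ← neg_add, M_add_M, neg_N]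

theorem u_h1_u (h : Half P m f u) : u * h1 f * u = h1 f * z1 f := by
  rw [h1, z1, h.u_f_u BOne.goodh1, h.f_mul _ _ _ _ _ _ BOne.goodh1 BOne.good1, neg_N, add_zero, add_zero]

theorem z1_mem (h : Half P m f u) : z1 f ∈ Bu f := h.f_mem_Bu BOne.good1

theorem z1_sq (h : Half P m f u) : z1 f * z1 f = 1 := by
  rw [z1, h.f_mul _ _ _ _ _ _ BOne.good1 BOne.good1, N_add_N, add_zero, h.f_zero]

theorem z1_ne (h : Half P m f u) : z1 f ≠ 1 := by
  rw [z1, Ne, h.f_eq_one_iff BOne.good1]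
  rintro ⟨-, -, h1⟩
  exact N_ne_zero h1

theorem x4_mem (h : Half P m f u) : x4 f ∈ Bu f := h.f_mem_Bu BOne.goodx4

/-- the involutions of `B` -/
theorem omega (h : Half P m f u) {b : C} (hb : b ∈ Bu f) (hbb : b * b = 1) :
    b = 1 ∨ b = z1 f ∨ b = x4 f ∨ b = x4 f * z1 f := by
  obtain ⟨q, r, hg, rfl⟩ := h.mem_Bu.1 hb
  have hgg : Good (0 + 0 : R m) (q + q) (r + r) := hg.add hg
  rw [h.f_mul _ _ _ _ _ _ hg hg, h.f_eq_one_iff hgg] at hbb
  obtain ⟨-, hq, hr⟩ := hbb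
  have hN : (0 : R m) + 0 = 0 := add_zero 0
  rcases eq_of_add_self hq with rfl | rfl <;> rcases eq_of_add_self hr with rfl | rfl
  · left; exact h.f_zero
  · right; left; rfl
  · right; right; right
    rw [x4, z1, h.f_mul _ _ _ _ _ _ BOne.goodx4 BOne.good1, N_add_N, add_zero, add_zero]
  · right; right; left; rfl

end Half

end Cfsg.Agent.LFourB
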