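import Mathlib
import Cfsg.Agent.LFourB.CentXHalf
import Cfsg.Agent.LFourB.Card
import Cfsg.Agent.LFourB.Cent

/-!
# The centraliser of `x4`: the action of an element `ρ` permuting `x1, x2, x3`

`C` is (an abstract copy of) the centraliser of `x4`, `P = T⟨u⟩` with the coordinates `Half`.  `ρ` normalises `T`,
permutes `x1, x2, x3` cyclically and the normaliser of `T` acts faithfully on `x1, .., x4`.
`T = T1 × D` with `T1 = [T, ρ]` homocyclic and `D = C_T(ρ)` cyclic of order `2 ^ (m + 1)`, centralised by `u`.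
-/

set_option autoImplicit false

namespace Cfsg.Agent.LFourB

open Subgroup

/-- Conjugation. -/
def cj {C : Type*} [Group C] (g t : C) : C := g * t * g⁻¹

section cj

variable {C : Type*} [Group C]

theorem cj_mul (g a b : C) : cj g (a * b) = cj g a * cj g b := by simp [cj, mul_assoc]
theorem cj_inv (g a : C) : cj g a⁻¹ = (cj g a)⁻¹ := by simp [cj, mul_assoc]
theorem cj_cj (g h a : C) : cj g (cj h a) = cj (g * h) a := by simp [cj, mul_assoc]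
theorem cj_one (g : C) : cj g 1 = 1 := by simp [cj]
theorem one_cj (a : C) : cj 1 a = a := by simp [cj]
theorem cj_pow (g a : C) (n : ℕ) : cj g (a ^ n) = (cj g a) ^ n := by simp [cj, conj_pow]
theorem cj_inj {g a b : C} (h : cj g a = cj g b) : a = b := by simpa [cj] using h
theorem cj_inv_cj (g a : C) : cj g⁻¹ (cj g a) = a := by simp [cj, mul_assoc]
theorem cj_cj_inv (g a : C) : cj g (cj g⁻¹ a) = a := by simp [cj, mul_assoc]
theorem cj_eq_iff {g a : C} : cj g a = a ↔ g * a = a * g := mul_inv_eq_iff_eq_mul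

end cj

/-- The data in the centraliser of `x4`. -/
structure XAct {C : Type*} [Group C] (P : Subgroup C) (m : ℕ) (f : R m → R m → R m → C) (u ρ : C) : Prop
    extends Half P m f u where
  card_Tor : Nat.card (Tor f) = 2 ^ (3 * m + 7)
  ρ_norm : ρ ∈ normalizer (Tor f : Set C)
  ρ_x1 : ρ * x1 f * ρ⁻¹ = x2 f
  ρ_x2 : ρ * x2 f * ρ⁻¹ = x3 f
  ρ_x3 : ρ * x3 f * ρ⁻¹ = x1 f
  x4_cent : ∀ g : C, g * x4 f = x4 f * g
  perm : ∀ g ∈ normalizer (Tor f : Set C), ∃ σ : Equiv.Perm (Fin 4), ∀ i, g * X f i * g⁻¹ = X f (σ i)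
  faithful : ∀ g ∈ normalizer (Tor f : Set C), (∀ i, g * X f i = X f i * g) → ∀ t ∈ Tor f, g * t = t * g

/-- In `ZMod (2 ^ (m + 3))` some multiple of a nonzero pair has order two. -/
theorem exists_pair {m : ℕ} {a b : R m} (h : ¬ (a = 0 ∧ b = 0)) : ∃ k : ℕ,
    ¬ ((k : R m) * a = 0 ∧ (k : R m) * b = 0) ∧ 2 * ((k : R m) * a) = 0 ∧ 2 * ((k : R m) * b) = 0 := by
  classical
  have hex : ∃ j : ℕ, ((2 ^ j : ℕ) : R m) * a = 0 ∧ ((2 ^ j : ℕ) : R m) * b = 0 := by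
    refine ⟨m + 3, ?_⟩
    rw [ZMod.natCast_self, zero_mul, zero_mul]
    exact ⟨rfl, rfl⟩
  obtain ⟨j, hj⟩ : ∃ j, j = Nat.find hex := ⟨_, rfl⟩
  have hs := Nat.find_spec hex
  rw [← hj] at hs
  have hj0 : j ≠ 0 := by
    rintro rfl
    apply h
    simpa using hs
  obtain ⟨i, rfl⟩ := Nat.exists_eq_succ_of_ne_zero hj0
  have e : ((2 ^ i.succ : ℕ) : R m) = 2 * ((2 ^ i : ℕ) : R m) := by
    have : (2 ^ i.succ : ℕ) = 2 * 2 ^ i := by rw [pow_succ, mul_comm]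
    rw [this, Nat.cast_mul]; rfl
  rw [e, mul_assoc, mul_assoc] at hs
  exact ⟨2 ^ i, Nat.find_min hex (by rw [← hj]; exact Nat.lt_succ_self i), hs.1, hs.2⟩

/-- The product of the three conjugates. -/
def nu {C : Type*} [Group C] (ρ t : C) : C := t * cj ρ t * cj ρ (cj ρ t)

/-- `C_T(ρ)`. -/
def Dd {C : Type*} [Group C] {m : ℕ} (f : R m → R m → R m → C) (ρ : C) : Subgroup C :=
  Tor f ⊓ centralizer {ρ}

namespace XAct

variable {C : Type*} [Group C] {P : Subgroup C} {m : ℕ} {f : R m → R m → R m → C} {u ρ : C}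

theorem cj_mem (_h : XAct P m f u ρ) {g t : C} (hg : g ∈ normalizer (Tor f : Set C)) (ht : t ∈ Tor f) :
    cj g t ∈ Tor f := (mem_normalizer_iff.1 hg t).1 ht

theorem u_norm (h : XAct P m f u ρ) : u ∈ normalizer (Tor f : Set C) := by
  rw [mem_normalizer_iff]
  intro t
  constructor
  · intro ht; rw [h.u_inv]; exact h.conj_u_mem ht
  · intro ht
    have h1 := h.conj_u_mem ht
    have e : u * (u * t * u⁻¹) * u = t := by
      rw [h.u_inv]
      calc u * (u * t * u) * u = (u * u) * t * (u * u) := by group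
        _ = t := by rw [h.u_u]; group
    rwa [e] at h1

theorem cj_u (h : XAct P m f u ρ) {p q r : R m} (hg : Good p q r) : cj u (f p q r) = f (-p) q (r + p) := by
  rw [cj, h.u_inv]; exact h.u_f_u hg

theorem x1_mul_x2 (h : XAct P m f u ρ) : x1 f * x2 f = z1 f := by
  rw [x1, x2, z1, h.f_mul _ _ _ _ _ _ BOne.goodx1 BOne.goodx2, N_add_N, add_zero, zero_add]

theorem x2_mul_x3 (h : XAct P m f u ρ) : x2 f * x3 f = z3 f := by
  rw [x2, x3, z3, h.f_mul _ _ _ _ _ _ BOne.goodx2 BOne.goodx3, add_zero, zero_add]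

theorem x3_mul_x1 (h : XAct P m f u ρ) : x3 f * x1 f = z2 f := by
  rw [x3, x1, z2, h.f_mul _ _ _ _ _ _ BOne.goodx3 BOne.goodx1, zero_add, add_zero, add_zero]

theorem ρ_z1 (h : XAct P m f u ρ) : cj ρ (z1 f) = z3 f := by
  rw [← h.x1_mul_x2, cj_mul]
  change (ρ * x1 f * ρ⁻¹) * (ρ * x2 f * ρ⁻¹) = _
  rw [h.ρ_x1, h.ρ_x2, h.x2_mul_x3]

theorem z1_ne_z3 (h : XAct P m f u ρ) : z1 f ≠ z3 f := by
  rw [z1, z3, Ne, h.f_eq_iff BOne.good1 BOne.good3]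
  rintro ⟨h1, -, -⟩
  exact N_ne_zero h1.symm

theorem z3_ne (h : XAct P m f u ρ) : z3 f ≠ 1 := by
  rw [z3, Ne, h.f_eq_one_iff BOne.good3]
  rintro ⟨h1, -, -⟩
  exact N_ne_zero h1

theorem z1_mul_z3 (h : XAct P m f u ρ) : z1 f * z3 f ≠ 1 := by
  intro e
  have h1 : z3 f = z1 f := by
    calc z3 f = z1 f * z1 f * z3 f := by rw [h.z1_sq, one_mul]
      _ = z1 f * (z1 f * z3 f) := mul_assoc _ _ _
      _ = z1 f := by rw [e, mul_one]
  exact h.z1_ne_z3 h1.symm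

/-- Elements of the normaliser acting in the same way on the `x i` act in the same way on `T`. -/
theorem cj_eq (h : XAct P m f u ρ) {g e : C} (hg : g ∈ normalizer (Tor f : Set C))
    (he : e ∈ normalizer (Tor f : Set C)) (hX : ∀ i, cj g (X f i) = cj e (X f i)) {t : C} (ht : t ∈ Tor f) :
    cj g t = cj e t := by
  have h1 : e⁻¹ * g ∈ normalizer (Tor f : Set C) := mul_mem (inv_mem he) hg
  have h2 := h.faithful _ h1 (fun i => by
    rw [← cj_eq_iff, ← cj_cj, hX, cj_inv_cj]) t ht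
  rw [← cj_eq_iff, ← cj_cj] at h2
  calc cj g t = cj e (cj e⁻¹ (cj g t)) := (cj_cj_inv _ _).symm
    _ = cj e t := by rw [h2]

theorem ρ_x4 (h : XAct P m f u ρ) : cj ρ (x4 f) = x4 f := cj_eq_iff.2 (h.x4_cent ρ)

theorem cj_ρ_X (h : XAct P m f u ρ) (i : Fin 4) :
    cj ρ (X f i) = X f ((Equiv.swap (0 : Fin 4) 1 * Equiv.swap (1 : Fin 4) 2) i) := by
  fin_cases i
  · exact h.ρ_x1
  · exact h.ρ_x2
  · exact h.ρ_x3
  · exact h.ρ_x4

theorem cj_u_X (h : XAct P m f u ρ) (i : Fin 4) : cj u (X f i) = X f (Equiv.swap (0 : Fin 4) 1 i) := by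
  fin_cases i
  · change cj u (x1 f) = x2 f
    rw [x1, h.cj_u BOne.goodx1, neg_N, zero_add]; rfl
  · change cj u (x2 f) = x1 f
    rw [x2, h.cj_u BOne.goodx2, neg_N, N_add_N]; rfl
  · change cj u (x3 f) = x3 f
    rw [x3, h.cj_u BOne.goodx3, neg_zero, zero_add]
  · exact cj_eq_iff.2 (h.x4_cent u)

theorem cube (h : XAct P m f u ρ) {t : C} (ht : t ∈ Tor f) : cj ρ (cj ρ (cj ρ t)) = t := by
  have h3 : ρ * ρ * ρ ∈ normalizer (Tor f : Set C) := mul_mem (mul_mem h.ρ_norm h.ρ_norm) h.ρ_norm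
  have := h.cj_eq h3 (one_mem _) (fun i => by
    rw [one_cj, ← cj_cj, ← cj_cj, h.cj_ρ_X, h.cj_ρ_X, h.cj_ρ_X]
    congr 1
    revert i; decide) ht
  rw [one_cj] at this
  rw [cj_cj, cj_cj]
  exact this

theorem u_ρ (h : XAct P m f u ρ) {t : C} (ht : t ∈ Tor f) : cj u (cj ρ t) = cj ρ (cj ρ (cj u t)) := by
  have := h.cj_eq (mul_mem h.u_norm h.ρ_norm) (mul_mem (mul_mem h.ρ_norm h.ρ_norm) h.u_norm) (fun i => by
    rw [← cj_cj, ← cj_cj, ← cj_cj, h.cj_ρ_X, h.cj_u_X, h.cj_u_X, h.cj_ρ_X, h.cj_ρ_X]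
    congr 1
    revert i; decide) ht
  rw [cj_cj, cj_cj, cj_cj]
  exact this

theorem ρ_mem (h : XAct P m f u ρ) {t : C} (ht : t ∈ Tor f) : cj ρ t ∈ Tor f := h.cj_mem h.ρ_norm ht
theorem u_mem' (h : XAct P m f u ρ) {t : C} (ht : t ∈ Tor f) : cj u t ∈ Tor f := h.cj_mem h.u_norm ht

theorem nu_mem (h : XAct P m f u ρ) {t : C} (ht : t ∈ Tor f) : nu ρ t ∈ Tor f :=
  mul_mem (mul_mem ht (h.ρ_mem ht)) (h.ρ_mem (h.ρ_mem ht))

theorem comm4 {a b c d : C} (h : b * c = c * b) : a * b * (c * d) = a * c * (b * d) := by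
  calc a * b * (c * d) = a * (b * c) * d := by group
    _ = a * c * (b * d) := by rw [h]; group

theorem nu_mul (h : XAct P m f u ρ) {s t : C} (hs : s ∈ Tor f) (ht : t ∈ Tor f) :
    nu ρ (s * t) = nu ρ s * nu ρ t := by
  rw [nu, nu, nu, cj_mul, cj_mul]
  rw [comm4 (h.Tor_comm ht (h.ρ_mem hs)), comm4 (h.Tor_comm (mul_mem ht (h.ρ_mem ht)) (h.ρ_mem (h.ρ_mem hs)))]

theorem nu_one (_h : XAct P m f u ρ) : nu ρ 1 = 1 := by simp [nu, cj_one]

theorem nu_inv (h : XAct P m f u ρ) {t : C} (ht : t ∈ Tor f) : nu ρ t⁻¹ = (nu ρ t)⁻¹ := by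
  rw [eq_inv_iff_mul_eq_one, ← h.nu_mul (inv_mem ht) ht, inv_mul_cancel, h.nu_one]

theorem ρ_nu (h : XAct P m f u ρ) {t : C} (ht : t ∈ Tor f) : cj ρ (nu ρ t) = nu ρ t := by
  rw [nu, cj_mul, cj_mul, h.cube ht, h.Tor_comm (mul_mem (h.ρ_mem ht) (h.ρ_mem (h.ρ_mem ht))) ht, mul_assoc]

theorem nu_ρ (h : XAct P m f u ρ) {t : C} (ht : t ∈ Tor f) : nu ρ (cj ρ t) = nu ρ t := by
  rw [← h.ρ_nu ht, nu, nu, cj_mul, cj_mul]

theorem u_nu (h : XAct P m f u ρ) {t : C} (ht : t ∈ Tor f) : cj u (nu ρ t) = nu ρ (cj u t) := by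
  have h1 := h.u_mem' ht
  rw [nu, nu, cj_mul, cj_mul, h.u_ρ (h.ρ_mem ht), h.u_ρ ht, h.cube (h.ρ_mem h1), mul_assoc, mul_assoc,
    h.Tor_comm (h.ρ_mem (h.ρ_mem h1)) (h.ρ_mem h1)]

/-! ### `D` -/

theorem mem_Dd (_h : XAct P m f u ρ) {t : C} : t ∈ Dd f ρ ↔ t ∈ Tor f ∧ cj ρ t = t := by
  rw [Dd, mem_inf, mem_centralizer_singleton_iff, cj_eq_iff]
  exact ⟨fun ⟨a, b⟩ => ⟨a, b.symm⟩, fun ⟨a, b⟩ => ⟨a, b.symm⟩⟩

theorem nu_mem_Dd (h : XAct P m f u ρ) {t : C} (ht : t ∈ Tor f) : nu ρ t ∈ Dd f ρ :=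
  h.mem_Dd.2 ⟨h.nu_mem ht, h.ρ_nu ht⟩

theorem u_mem_Dd (h : XAct P m f u ρ) {t : C} (ht : t ∈ Dd f ρ) : cj u t ∈ Dd f ρ := by
  obtain ⟨h1, h2⟩ := h.mem_Dd.1 ht
  refine h.mem_Dd.2 ⟨h.u_mem' h1, ?_⟩
  have h3 := h.u_ρ h1
  rw [h2] at h3
  rw [h3, h.cube (h.u_mem' h1)]
  exact h3

theorem goodc (a : R m) : Good (2 * a) 0 (-a) := ⟨0, by ring⟩

theorem Dd_le_Bu (h : XAct P m f u ρ) : Dd f ρ ≤ Bu f := by
  intro t ht
  obtain ⟨h1, h2⟩ := h.mem_Dd.1 ht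
  obtain ⟨p, q, r, hg, rfl⟩ := h.mem_Tor.1 h1
  by_cases hp : p = 0
  · subst hp; exact h.f_mem_Bu hg
  exfalso
  have h3 : cj u (f p q r) * (f p q r)⁻¹ ∈ Dd f ρ := mul_mem (h.u_mem_Dd ht) (inv_mem ht)
  rw [h.cj_u hg, h.f_inv hg, h.f_mul _ _ _ _ _ _ hg.actu hg.neg] at h3
  have e1 : -p + -p = 2 * (-p) := by ring
  have e2 : q + -q = 0 := by ring
  have e3 : r + p + -r = -(-p) := by ring
  rw [e1, e2, e3] at h3
  obtain ⟨k, hk, hk2, -⟩ := exists_pair (m := m) (a := p) (b := 0) (fun hh => hp hh.1)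
  have hkp : (k : R m) * p = N m := by
    rcases eq_of_two_mul hk2 with h4 | h4
    · exact absurd ⟨h4, by rw [mul_zero]⟩ hk
    · exact h4
  have h5 := pow_mem h3 k
  rw [h.f_pow (goodc (-p)) k] at h5
  have e4 : (k : R m) * (2 * -p) = 0 := by linear_combination -2 * hkp - two_mul_N (m := m)
  have e5 : (k : R m) * -(-p) = N m := by linear_combination hkp
  rw [e4, mul_zero, e5] at h5
  have h6 := (h.mem_Dd.1 h5).2
  have h7 := h.ρ_z1
  rw [z1] at h7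
  rw [h7] at h6
  exact h.z1_ne_z3 h6.symm

theorem u_comm_Dd (h : XAct P m f u ρ) {t : C} (ht : t ∈ Dd f ρ) : cj u t = t := by
  obtain ⟨q, r, hg, rfl⟩ := h.mem_Bu.1 (h.Dd_le_Bu ht)
  rw [h.cj_u hg, neg_zero, add_zero]

theorem nu_u (h : XAct P m f u ρ) {t : C} (ht : t ∈ Tor f) : nu ρ (cj u t) = nu ρ t := by
  rw [← h.u_nu ht, h.u_comm_Dd (h.nu_mem_Dd ht)]

theorem comm_Dd (h : XAct P m f u ρ) {s t : C} (hs : s ∈ P) (ht : t ∈ Dd f ρ) : s * t = t * s :=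
  (h.Bu_comm (h.Dd_le_Bu ht) hs).symm

/-- The normaliser of `T` is generated by `ρ`, `u` as far as the action on `T` is concerned. -/
theorem exists_word (h : XAct P m f u ρ) {g : C} (hg : g ∈ normalizer (Tor f : Set C)) :
    ∃ i j : ℕ, ∀ t ∈ Tor f, cj g t = cj (ρ ^ i * u ^ j) t := by
  obtain ⟨σ, hσ⟩ := h.perm g hg
  have hX : ∀ i j : Fin 4, X f i = X f j → i = j := by
    have hN : (N m : R m) ≠ 0 := N_ne_zero
    have e12 : x1 f ≠ x2 f := by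
      rw [x1, x2, Ne, h.f_eq_iff BOne.goodx1 BOne.goodx2]; rintro ⟨-, -, h3⟩; exact hN h3.symm
    have e13 : x1 f ≠ x3 f := by
      rw [x1, x3, Ne, h.f_eq_iff BOne.goodx1 BOne.goodx3]; rintro ⟨h3, -, -⟩; exact hN h3
    have e14 : x1 f ≠ x4 f := by
      rw [x1, x4, Ne, h.f_eq_iff BOne.goodx1 BOne.goodx4]; rintro ⟨h3, -, -⟩; exact hN h3
    have e23 : x2 f ≠ x3 f := by
      rw [x2, x3, Ne, h.f_eq_iff BOne.goodx2 BOne.goodx3]; rintro ⟨h3, -, -⟩; exact hN h3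
    have e24 : x2 f ≠ x4 f := by
      rw [x2, x4, Ne, h.f_eq_iff BOne.goodx2 BOne.goodx4]; rintro ⟨h3, -, -⟩; exact hN h3
    have e34 : x3 f ≠ x4 f := by
      rw [x3, x4, Ne, h.f_eq_iff BOne.goodx3 BOne.goodx4]; rintro ⟨-, -, h3⟩; exact hN h3.symm
    intro i j hij
    fin_cases i <;> fin_cases j <;> simp [X] at hij ⊢
    · exact e12 hij
    · exact e13 hij
    · exact e14 hij
    · exact e12 hij.symm
    · exact e23 hij
    · exact e24 hij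
    · exact e13 hij.symm
    · exact e23 hij.symm
    · exact e34 hij
    · exact e14 hij.symm
    · exact e24 hij.symm
    · exact e34 hij.symm
  have h3 : σ 3 = 3 := by
    apply hX
    rw [← hσ 3]
    exact cj_eq_iff.2 (h.x4_cent g)
  have key : ∀ σ : Equiv.Perm (Fin 4), σ 3 = 3 → ∃ i : Fin 3, ∃ j : Fin 2,
      σ = (Equiv.swap (0 : Fin 4) 1 * Equiv.swap (1 : Fin 4) 2) ^ (i : ℕ) * (Equiv.swap (0 : Fin 4) 1) ^ (j : ℕ) := by
    decide
  obtain ⟨i, j, hij⟩ := key σ h3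
  refine ⟨i, j, fun t ht => ?_⟩
  have hpowρ : ∀ (n : ℕ) (k : Fin 4), cj (ρ ^ n) (X f k) =
      X f (((Equiv.swap (0 : Fin 4) 1 * Equiv.swap (1 : Fin 4) 2) ^ n) k) := by
    intro n
    induction n with
    | zero => intro k; simp [one_cj]
    | succ n ih => intro k; rw [pow_succ', ← cj_cj, ih, h.cj_ρ_X, pow_succ']; rfl
  have hpowu : ∀ (n : ℕ) (k : Fin 4), cj (u ^ n) (X f k) = X f (((Equiv.swap (0 : Fin 4) 1) ^ n) k) := by
    intro n
    induction n with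
    | zero => intro k; simp [one_cj]
    | succ n ih => intro k; rw [pow_succ', ← cj_cj, ih, h.cj_u_X, pow_succ']; rfl
  refine h.cj_eq hg (mul_mem (pow_mem h.ρ_norm _) (pow_mem h.u_norm _)) (fun k => ?_) ht
  rw [← cj_cj, hpowu, hpowρ]
  have := hσ k
  rw [hij] at this
  exact this

theorem cj_Dd (h : XAct P m f u ρ) {g : C} (hg : g ∈ normalizer (Tor f : Set C)) {t : C} (ht : t ∈ Dd f ρ) :
    cj g t = t := by
  obtain ⟨i, j, hij⟩ := h.exists_word hg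
  rw [hij t (h.mem_Dd.1 ht).1, ← cj_cj]
  have h1 : ∀ n : ℕ, cj (u ^ n) t = t := by
    intro n
    induction n with
    | zero => simp [one_cj]
    | succ n ih => rw [pow_succ', ← cj_cj, ih, h.u_comm_Dd ht]
  have h2 : ∀ n : ℕ, cj (ρ ^ n) t = t := by
    intro n
    induction n with
    | zero => simp [one_cj]
    | succ n ih => rw [pow_succ', ← cj_cj, ih, (h.mem_Dd.1 ht).2]
  rw [h1, h2]

theorem nu_cj (h : XAct P m f u ρ) {g : C} (hg : g ∈ normalizer (Tor f : Set C)) {t : C} (ht : t ∈ Tor f) :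
    nu ρ (cj g t) = nu ρ t := by
  obtain ⟨i, j, hij⟩ := h.exists_word hg
  rw [hij t ht, ← cj_cj]
  have h1 : ∀ n : ℕ, ∀ s ∈ Tor f, cj (u ^ n) s ∈ Tor f ∧ nu ρ (cj (u ^ n) s) = nu ρ s := by
    intro n
    induction n with
    | zero => intro s hs; simp [one_cj, hs]
    | succ n ih =>
      intro s hs
      rw [pow_succ', ← cj_cj]
      exact ⟨h.u_mem' (ih s hs).1, by rw [h.nu_u (ih s hs).1, (ih s hs).2]⟩
  have h2 : ∀ n : ℕ, ∀ s ∈ Tor f, nu ρ (cj (ρ ^ n) s) = nu ρ s ∧ cj (ρ ^ n) s ∈ Tor f := by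
    intro n
    induction n with
    | zero => intro s hs; simp [one_cj, hs]
    | succ n ih =>
      intro s hs
      rw [pow_succ', ← cj_cj]
      exact ⟨by rw [h.nu_ρ (ih s hs).2, (ih s hs).1], h.ρ_mem (ih s hs).2⟩
  rw [(h2 i _ (h1 j t ht).1).1, (h1 j t ht).2]

end XAct

end Cfsg.Agent.LFourB
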