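import Mathlib
import Cfsg.Prelude.Def_CaseTheorems
import Cfsg.Agent.LFourB.CentXData

/-!
# The centraliser of `x4`: the decomposition `P = W × D`

`T1 = {t ∈ T | t t^ρ t^(ρ^2) = 1}` is homocyclic of order `2 ^ (2 (m + 3))`, `W = T1 ⟨x4 u⟩` is wreathed and `P = W × D`.
-/

set_option autoImplicit false

namespace Cfsg.Agent.LFourB

open Subgroup

namespace XAct

variable {C : Type*} [Group C] {P : Subgroup C} {m : ℕ} {f : R m → R m → R m → C} {u ρ : C}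

/-- `[T, ρ]` -/
def Tone (h : XAct P m f u ρ) : Subgroup C where
  carrier := {t | t ∈ Tor f ∧ nu ρ t = 1}
  one_mem' := ⟨one_mem _, h.nu_one⟩
  mul_mem' := fun ⟨ha, ha'⟩ ⟨hb, hb'⟩ => ⟨mul_mem ha hb, by rw [h.nu_mul ha hb, ha', hb', one_mul]⟩
  inv_mem' := fun ⟨ha, ha'⟩ => ⟨inv_mem ha, by rw [h.nu_inv ha, ha', inv_one]⟩

theorem mem_Tone (h : XAct P m f u ρ) {t : C} : t ∈ h.Tone ↔ t ∈ Tor f ∧ nu ρ t = 1 := Iff.rfl

theorem Tone_le (h : XAct P m f u ρ) : h.Tone ≤ Tor f := fun _ ht => ht.1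

theorem comm_T (h : XAct P m f u ρ) : ∀ {a b : C}, a ∈ Tor f → b ∈ Tor f → a * b = b * a := h.Tor_comm

/-- `diag (a, -a, 0, 0)` -/
def c0 (f : R m → R m → R m → C) (a : R m) : C := f (2 * a) 0 (-a)

/-- its conjugate -/
def c1 (f : R m → R m → R m → C) (ρ : C) (a : R m) : C := cj ρ (c0 f a)

theorem c0_mem_Tor (h : XAct P m f u ρ) (a : R m) : c0 f a ∈ Tor f := h.f_mem_Tor (goodc a)

theorem c0_add (h : XAct P m f u ρ) (a b : R m) : c0 f (a + b) = c0 f a * c0 f b := by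
  rw [c0, c0, c0, h.f_mul _ _ _ _ _ _ (goodc a) (goodc b)]
  congr 1 <;> ring

theorem c0_comm (h : XAct P m f u ρ) (a : R m) {t : C} (ht : t ∈ Tor f) : c0 f a * t = t * c0 f a :=
  h.Tor_comm (h.c0_mem_Tor a) ht

theorem cj_u_mul_inv (h : XAct P m f u ρ) {p q r : R m} (hg : Good p q r) :
    cj u (f p q r) = c0 f (-p) * f p q r := by
  rw [h.cj_u hg, c0, h.f_mul _ _ _ _ _ _ (goodc (-p)) hg]
  congr 1 <;> ring

theorem exists_cj_u (h : XAct P m f u ρ) {t : C} (ht : t ∈ Tor f) : ∃ a, cj u t = c0 f a * t := by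
  obtain ⟨p, q, r, hg, rfl⟩ := h.mem_Tor.1 ht
  exact ⟨_, h.cj_u_mul_inv hg⟩

theorem c0_mem (h : XAct P m f u ρ) (a : R m) : c0 f a ∈ h.Tone := by
  refine ⟨h.c0_mem_Tor a, ?_⟩
  have hg : Good (-a) a (0 : R m) := ⟨0, by ring⟩
  have ht := h.f_mem_Tor hg
  have h1 := h.cj_u_mul_inv hg
  rw [neg_neg] at h1
  have h2 : c0 f a = cj u (f (-a) a 0) * (f (-a) a 0)⁻¹ := by rw [h1, mul_inv_cancel_right]
  rw [h2, h.nu_mul (h.u_mem' ht) (inv_mem ht), h.nu_u ht, h.nu_inv ht, mul_inv_cancel]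

theorem u_c0 (h : XAct P m f u ρ) (a : R m) : cj u (c0 f a) = c0 f (-a) := by
  rw [c0, h.cj_u (goodc a), c0]
  congr 1 <;> ring

theorem ρ_mem_Tone (h : XAct P m f u ρ) {t : C} (ht : t ∈ h.Tone) : cj ρ t ∈ h.Tone :=
  ⟨h.ρ_mem ht.1, by rw [h.nu_ρ ht.1, ht.2]⟩

theorem u_mem_Tone (h : XAct P m f u ρ) {t : C} (ht : t ∈ h.Tone) : cj u t ∈ h.Tone :=
  ⟨h.u_mem' ht.1, by rw [h.nu_u ht.1, ht.2]⟩

theorem cj_mem_Tone (h : XAct P m f u ρ) {g t : C} (hg : g ∈ normalizer (Tor f : Set C)) (ht : t ∈ h.Tone) :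
    cj g t ∈ h.Tone := ⟨h.cj_mem hg ht.1, by rw [h.nu_cj hg ht.1, ht.2]⟩

theorem c1_mem (h : XAct P m f u ρ) (a : R m) : c1 f ρ a ∈ h.Tone := h.ρ_mem_Tone (h.c0_mem a)

theorem c1_add (h : XAct P m f u ρ) (a b : R m) : c1 f ρ (a + b) = c1 f ρ a * c1 f ρ b := by
  rw [c1, h.c0_add, cj_mul]; rfl

theorem c0_zero (h : XAct P m f u ρ) : c0 f (0 : R m) = 1 := by
  rw [c0, mul_zero, neg_zero, h.f_zero]

theorem c1_zero (h : XAct P m f u ρ) : c1 f ρ (0 : R m) = 1 := by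
  rw [c1, h.c0_zero, cj_one]

theorem c0_neg (h : XAct P m f u ρ) (a : R m) : c0 f (-a) = (c0 f a)⁻¹ := by
  rw [eq_inv_iff_mul_eq_one, ← h.c0_add, neg_add_cancel, h.c0_zero]

theorem c1_neg (h : XAct P m f u ρ) (a : R m) : c1 f ρ (-a) = (c1 f ρ a)⁻¹ := by
  rw [eq_inv_iff_mul_eq_one, ← h.c1_add, neg_add_cancel, h.c1_zero]

theorem c2 (h : XAct P m f u ρ) (a : R m) : cj ρ (c1 f ρ a) = c0 f (-a) * c1 f ρ (-a) := by
  have h1 := (h.c0_mem a).2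
  rw [nu] at h1
  have h2 := eq_inv_of_mul_eq_one_right h1
  change cj ρ (cj ρ (c0 f a)) = _
  rw [h2, mul_inv_rev, ← h.c0_neg, h.c0_comm (-a) (h.c1_mem (-a)).1, h.c1_neg]
  rfl

/-- Products `c0 a * c1 b`. -/
def Is (f : R m → R m → R m → C) (ρ t : C) : Prop := ∃ a b, t = c0 f a * c1 f ρ b

theorem Is.mul (h : XAct P m f u ρ) {s t : C} (hs : Is f ρ s) (ht : Is f ρ t) : Is f ρ (s * t) := by
  obtain ⟨a, b, rfl⟩ := hs
  obtain ⟨a', b', rfl⟩ := ht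
  refine ⟨a + a', b + b', ?_⟩
  rw [h.c0_add, h.c1_add, comm4 (h.comm_T (h.c1_mem b).1 (h.c0_mem a').1)]

theorem Is.inv (h : XAct P m f u ρ) {s : C} (hs : Is f ρ s) : Is f ρ s⁻¹ := by
  obtain ⟨a, b, rfl⟩ := hs
  refine ⟨-a, -b, ?_⟩
  rw [mul_inv_rev, h.c0_neg, h.c1_neg, h.comm_T (inv_mem (h.c1_mem b).1) (inv_mem (h.c0_mem a).1)]

theorem Is.one (h : XAct P m f u ρ) : Is f ρ 1 := ⟨0, 0, by rw [h.c0_zero, h.c1_zero, one_mul]⟩

theorem Is.pow (h : XAct P m f u ρ) {s : C} (hs : Is f ρ s) (n : ℕ) : Is f ρ (s ^ n) := by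
  induction n with
  | zero => rw [pow_zero]; exact Is.one h
  | succ n ih => rw [pow_succ]; exact Is.mul h ih hs

theorem Is.mem (h : XAct P m f u ρ) {s : C} (hs : Is f ρ s) : s ∈ h.Tone := by
  obtain ⟨a, b, rfl⟩ := hs
  exact mul_mem (h.c0_mem a) (h.c1_mem b)

theorem is_step (h : XAct P m f u ρ) {t : C} (ht : t ∈ Tor f) : ∃ s, Is f ρ s ∧ cj ρ (cj ρ t) = s * cj ρ t := by
  obtain ⟨x, hx⟩ := h.exists_cj_u ht
  obtain ⟨y, hy⟩ := h.exists_cj_u (h.ρ_mem ht)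
  have h1 : cj ρ (cj ρ t) = cj u (cj ρ (cj u t)) := by
    rw [h.u_ρ (h.u_mem' ht), cj_cj u u, h.u_u, one_cj]
  refine ⟨c0 f x * c1 f ρ x * c0 f y, ?_, ?_⟩
  · exact Is.mul h ⟨x, x, rfl⟩ ⟨y, 0, by rw [h.c1_zero, mul_one]⟩
  · rw [h1, hx, cj_mul, cj_mul, hy]
    have h2 : cj u (cj ρ (c0 f x)) = c0 f x * c1 f ρ x := by
      rw [h.u_ρ (h.c0_mem_Tor x), h.u_c0]
      have := h.c2 (-x)
      rw [neg_neg] at this
      exact this
    rw [h2, mul_assoc (c0 f x * c1 f ρ x)]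

theorem is_ρ (h : XAct P m f u ρ) {t : C} (ht : t ∈ Tor f) : ∃ s, Is f ρ s ∧ cj ρ t = s * t := by
  obtain ⟨s, hs, h1⟩ := h.is_step (h.ρ_mem (h.ρ_mem ht))
  rw [h.cube ht] at h1
  exact ⟨s, hs, h1⟩

theorem is_iff (h : XAct P m f u ρ) {t : C} (ht : t ∈ h.Tone) : Is f ρ t := by
  have htT := ht.1
  obtain ⟨s, hs, h1⟩ := h.is_ρ htT
  obtain ⟨s', hs', h2⟩ := h.is_ρ (h.ρ_mem htT)
  have h3 : nu ρ t = 1 := ht.2
  rw [nu, h2, h1] at h3
  have hsT := (Is.mem h hs).1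
  have hsT' := (Is.mem h hs').1
  have h4 : t ^ 3 = (s * s * s')⁻¹ := by
    rw [eq_inv_iff_mul_eq_one, ← h3]
    have e1 : t * (s * t) * (s' * (s * t)) = t * s * t * s' * s * t := by group
    have e2 : t ^ 3 * (s * s * s') = t * t * t * s * s * s' := by rw [pow_succ, pow_two]; group
    rw [e1, e2]
    have ha := h.comm_T htT hsT
    have hb := h.comm_T htT hsT'
    have hc := h.comm_T hsT hsT'
    calc t * t * t * s * s * s' = t * t * (t * s) * (s * s') := by group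
      _ = t * t * (s * t) * (s' * s) := by rw [ha, hc]
      _ = t * (t * s) * (t * s') * s := by group
      _ = t * (s * t) * (s' * t) * s := by rw [ha, hb]
      _ = t * s * t * s' * (t * s) := by group
      _ = t * s * t * s' * (s * t) := by rw [ha]
      _ = t * s * t * s' * s * t := by group
  have h5 : Is f ρ (t ^ 3) := by rw [h4]; exact Is.inv h (Is.mul h (Is.mul h hs hs) hs')
  have hord : orderOf t ∣ 2 ^ (3 * m + 7) := by
    rw [← h.card_Tor, ← Subgroup.orderOf_mk t htT]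
    exact orderOf_dvd_natCard _
  have hcop : Nat.Coprime 3 (orderOf t) := by
    refine Nat.Coprime.coprime_dvd_right hord ?_
    exact Nat.Coprime.pow_right _ (by norm_num)
  obtain ⟨k, hk⟩ := exists_pow_eq_self_of_coprime hcop
  rw [← hk]
  exact Is.pow h h5 k

theorem orderOf_dvd (h : XAct P m f u ρ) {t : C} (ht : t ∈ Tor f) : orderOf t ∣ 2 ^ (3 * m + 7) := by
  rw [← h.card_Tor, ← Subgroup.orderOf_mk t ht]
  exact orderOf_dvd_natCard _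

theorem exists_cuberoot (h : XAct P m f u ρ) {t : C} (ht : t ∈ Tor f) : ∃ k : ℕ, (t ^ 3) ^ k = t := by
  have hcop : Nat.Coprime 3 (orderOf t) := by
    refine Nat.Coprime.coprime_dvd_right (h.orderOf_dvd ht) ?_
    exact Nat.Coprime.pow_right _ (by norm_num)
  exact exists_pow_eq_self_of_coprime hcop

theorem c0_pow (h : XAct P m f u ρ) (a : R m) (k : ℕ) : c0 f a ^ k = c0 f ((k : R m) * a) := by
  rw [c0, h.f_pow (goodc a), c0]
  congr 1 <;> ring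

theorem c1_pow (h : XAct P m f u ρ) (a : R m) (k : ℕ) : c1 f ρ a ^ k = c1 f ρ ((k : R m) * a) := by
  rw [c1, ← cj_pow, h.c0_pow]; rfl

theorem c0_N (_h : XAct P m f u ρ) : c0 f (N m) = z1 f := by
  rw [c0, two_mul_N, neg_N]; rfl

theorem c1_N (h : XAct P m f u ρ) : c1 f ρ (N m) = z3 f := by
  rw [c1, h.c0_N, h.ρ_z1]

theorem indep (h : XAct P m f u ρ) {a b : R m} (hab : c0 f a * c1 f ρ b = 1) : a = 0 ∧ b = 0 := by
  by_contra hne
  obtain ⟨k, hk, hk1, hk2⟩ := exists_pair hne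
  have h1 : c0 f ((k : R m) * a) * c1 f ρ ((k : R m) * b) = 1 := by
    rw [← h.c0_pow, ← h.c1_pow, ← (show Commute (c0 f a) (c1 f ρ b) from
      h.comm_T (h.c0_mem a).1 (h.c1_mem b).1).mul_pow, hab, one_pow]
  rcases eq_of_two_mul hk1 with h2 | h2 <;> rcases eq_of_two_mul hk2 with h3 | h3
  · exact hk ⟨h2, h3⟩
  · rw [h2, h3, h.c0_zero, h.c1_N, one_mul] at h1
    exact h.z3_ne h1
  · rw [h2, h3, h.c1_zero, h.c0_N, mul_one] at h1
    exact h.z1_ne h1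
  · rw [h2, h3, h.c1_N, h.c0_N] at h1
    exact h.z1_mul_z3 h1

theorem card_Tone (h : XAct P m f u ρ) : Nat.card h.Tone = 2 ^ (2 * (m + 3)) := by
  let F : R m × R m → h.Tone := fun v => ⟨c0 f v.1 * c1 f ρ v.2, mul_mem (h.c0_mem _) (h.c1_mem _)⟩
  have hF : Function.Bijective F := by
    constructor
    · rintro ⟨a, b⟩ ⟨a', b'⟩ he
      have h1 : c0 f a * c1 f ρ b = c0 f a' * c1 f ρ b' := congrArg Subtype.val he
      have h2 : c0 f (a - a') * c1 f ρ (b - b') = 1 := by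
        rw [sub_eq_add_neg, sub_eq_add_neg, h.c0_add, h.c1_add,
          comm4 (h.comm_T (h.c0_mem (-a')).1 (h.c1_mem b).1), h1, h.c0_neg, h.c1_neg,
          ← comm4 (h.comm_T (inv_mem (h.c0_mem a').1) (h.c1_mem b').1), mul_inv_cancel, mul_inv_cancel, one_mul]
      obtain ⟨h3, h4⟩ := h.indep h2
      rw [Prod.mk.injEq]
      exact ⟨sub_eq_zero.1 h3, sub_eq_zero.1 h4⟩
    · rintro ⟨t, ht⟩
      obtain ⟨a, b, rfl⟩ := h.is_iff ht
      exact ⟨(a, b), rfl⟩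
  rw [← Nat.card_congr (Equiv.ofBijective F hF), Nat.card_prod, Nat.card_zmod, ← pow_add]
  congr 1
  ring

/-! ### `D` -/

theorem nu_Dd (h : XAct P m f u ρ) {t : C} (ht : t ∈ Dd f ρ) : nu ρ t = t ^ 3 := by
  have h1 := (h.mem_Dd.1 ht).2
  rw [nu, h1, h1, pow_succ, pow_two]

theorem Dd_le (h : XAct P m f u ρ) : Dd f ρ ≤ Tor f := fun _ ht => (h.mem_Dd.1 ht).1

theorem Tone_inf_Dd (h : XAct P m f u ρ) {t : C} (h1 : t ∈ h.Tone) (h2 : t ∈ Dd f ρ) : t = 1 := by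
  obtain ⟨k, hk⟩ := h.exists_cuberoot h1.1
  rw [← hk, ← h.nu_Dd h2, h1.2, one_pow]

theorem exists_decomp (h : XAct P m f u ρ) {t : C} (ht : t ∈ Tor f) :
    ∃ a ∈ h.Tone, ∃ d ∈ Dd f ρ, t = a * d := by
  have hd := h.nu_mem_Dd ht
  have ha : t ^ 3 * (nu ρ t)⁻¹ ∈ h.Tone := by
    refine ⟨mul_mem (pow_mem ht 3) (inv_mem (h.nu_mem ht)), ?_⟩
    rw [h.nu_mul (pow_mem ht 3) (inv_mem (h.nu_mem ht)), h.nu_inv (h.nu_mem ht), h.nu_Dd hd]
    have : nu ρ (t ^ 3) = (nu ρ t) ^ 3 := by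
      rw [pow_succ, pow_two, h.nu_mul (mul_mem ht ht) ht, h.nu_mul ht ht, pow_succ, pow_two]
    rw [this, mul_inv_cancel]
  obtain ⟨k, hk⟩ := h.exists_cuberoot ht
  refine ⟨(t ^ 3 * (nu ρ t)⁻¹) ^ k, pow_mem ha k, (nu ρ t) ^ k, pow_mem hd k, ?_⟩
  rw [← (show Commute (t ^ 3 * (nu ρ t)⁻¹) (nu ρ t) from h.comm_T (h.Tone_le ha) (h.Dd_le hd)).mul_pow,
    inv_mul_cancel_right, hk]

theorem card_Dd (h : XAct P m f u ρ) : Nat.card (Dd f ρ) = 2 ^ (m + 1) := by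
  let F : h.Tone × Dd f ρ → Tor f := fun v => ⟨v.1 * v.2, mul_mem (h.Tone_le v.1.2) (h.Dd_le v.2.2)⟩
  have hF : Function.Bijective F := by
    constructor
    · rintro ⟨a, b⟩ ⟨a', b'⟩ he
      have h1 : (a : C) * b = a' * b' := congrArg Subtype.val he
      have h2 : (a' : C)⁻¹ * a = b' * (b : C)⁻¹ := by
        rw [inv_mul_eq_iff_eq_mul, ← mul_assoc, ← h1, mul_inv_cancel_right]
      have h3 : (a' : C)⁻¹ * a = 1 := h.Tone_inf_Dd (mul_mem (inv_mem a'.2) a.2)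
        (h2 ▸ mul_mem b'.2 (inv_mem b.2))
      have h4 : (a : C) = a' := by rw [inv_mul_eq_one] at h3; exact h3.symm
      rw [Prod.mk.injEq]
      refine ⟨Subtype.ext h4, Subtype.ext ?_⟩
      rw [h4] at h1
      exact mul_left_cancel h1
    · rintro ⟨t, ht⟩
      obtain ⟨a, ha, d, hd, rfl⟩ := h.exists_decomp ht
      exact ⟨(⟨a, ha⟩, ⟨d, hd⟩), rfl⟩
  have h1 := Nat.card_congr (Equiv.ofBijective F hF)
  rw [Nat.card_prod, h.card_Tor, h.card_Tone] at h1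
  have h2 : 2 ^ (3 * m + 7) = 2 ^ (2 * (m + 3)) * 2 ^ (m + 1) := by rw [← pow_add]; congr 1; ring
  rw [h2] at h1
  exact Nat.eq_of_mul_eq_mul_left (by positivity) h1

/-- The generator of `D`. -/
def y (f : R m → R m → R m → C) (ρ : C) : C := nu ρ (yy f)

theorem yy_mem (h : XAct P m f u ρ) : yy f ∈ Tor f := h.f_mem_Tor BOne.goodyy

theorem y_mem (h : XAct P m f u ρ) : y f ρ ∈ Dd f ρ := h.nu_mem_Dd h.yy_mem

theorem nu_pow (h : XAct P m f u ρ) {t : C} (ht : t ∈ Tor f) (k : ℕ) : nu ρ (t ^ k) = (nu ρ t) ^ k := by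
  induction k with
  | zero => rw [pow_zero, pow_zero, h.nu_one]
  | succ k ih => rw [pow_succ, h.nu_mul (pow_mem ht k) ht, ih, pow_succ]

theorem x4_mem_Dd (h : XAct P m f u ρ) : x4 f ∈ Dd f ρ := h.mem_Dd.2 ⟨h.Bu_le h.x4_mem, h.ρ_x4⟩

theorem x4_sq (h : XAct P m f u ρ) : x4 f * x4 f = 1 := by
  rw [x4, h.f_mul _ _ _ _ _ _ BOne.goodx4 BOne.goodx4, N_add_N, add_zero, h.f_zero]

theorem x4_ne (h : XAct P m f u ρ) : x4 f ≠ 1 := by
  rw [x4, Ne, h.f_eq_one_iff BOne.goodx4]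
  rintro ⟨-, h1, -⟩
  exact N_ne_zero h1

theorem nu_x4 (h : XAct P m f u ρ) : nu ρ (x4 f) = x4 f := by
  rw [h.nu_Dd h.x4_mem_Dd, pow_succ, pow_two, h.x4_sq, one_mul]

theorem y_pow (h : XAct P m f u ρ) : y f ρ ^ 2 ^ m = x4 f := by
  rw [y, ← h.nu_pow h.yy_mem, yy, h.f_pow BOne.goodyy]
  have h1 : ((2 ^ m : ℕ) : R m) * 4 = N m := by rw [N_eq]; ring
  rw [mul_zero, h1]
  exact h.nu_x4

theorem orderOf_y (h : XAct P m f u ρ) : orderOf (y f ρ) = 2 ^ (m + 1) := by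
  have : Fact (Nat.Prime 2) := ⟨Nat.prime_two⟩
  apply orderOf_eq_prime_pow
  · rw [h.y_pow]; exact h.x4_ne
  · rw [pow_succ, pow_mul, h.y_pow, pow_two, h.x4_sq]

theorem Dd_eq (h : XAct P m f u ρ) : Dd f ρ = zpowers (y f ρ) := by
  have : Finite (Dd f ρ) := Nat.finite_of_card_ne_zero (by rw [h.card_Dd]; positivity)
  symm
  apply Subgroup.eq_of_le_of_card_ge (zpowers_le.2 h.y_mem)
  rw [h.card_Dd, Nat.card_zpowers, h.orderOf_y]

/-! ### `W` -/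

theorem x4u_sq (h : XAct P m f u ρ) : x4 f * u * (x4 f * u) = 1 := by
  have h1 := h.x4_cent u
  calc x4 f * u * (x4 f * u) = x4 f * (u * x4 f) * u := by group
    _ = (x4 f * x4 f) * (u * u) := by rw [h1]; group
    _ = 1 := by rw [h.x4_sq, h.u_u, one_mul]

theorem cj_x4u (h : XAct P m f u ρ) (t : C) : cj (x4 f * u) t = cj u t := by
  rw [← cj_cj, cj_eq_iff]
  exact (h.x4_cent _).symm

/-- The wreathed factor. -/
def Wr (h : XAct P m f u ρ) : Subgroup C := h.Tone ⊔ zpowers (x4 f * u)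

theorem mem_Wr (h : XAct P m f u ρ) {g : C} : g ∈ h.Wr ↔ ∃ b ∈ h.Tone, g = b ∨ g = b * (x4 f * u) := by
  refine mem_sup_zpowers h.x4u_sq (fun b hb => ?_)
  have h1 : x4 f * u * b * (x4 f * u) = cj (x4 f * u) b := by
    rw [cj, inv_eq_of_mul_eq_one_left h.x4u_sq]
  rw [h1, h.cj_x4u]
  exact h.u_mem_Tone hb

theorem x4u_mem (h : XAct P m f u ρ) : x4 f * u ∈ h.Wr := mem_sup_right (mem_zpowers _)

theorem Tone_le_Wr (h : XAct P m f u ρ) : h.Tone ≤ h.Wr := le_sup_left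

theorem Wr_le (h : XAct P m f u ρ) : h.Wr ≤ P := by
  intro g hg
  obtain ⟨b, hb, rfl | rfl⟩ := h.mem_Wr.1 hg
  · exact h.Tor_le hb.1
  · exact mul_mem (h.Tor_le hb.1) (mul_mem (h.Tor_le (h.Bu_le h.x4_mem)) h.u_mem)

theorem x4u_notMem (h : XAct P m f u ρ) {t : C} (ht : t ∈ Tor f) : t * (x4 f * u) ∉ Tor f := by
  rw [← mul_assoc]
  exact h.tu_notMem (mul_mem ht (h.Bu_le h.x4_mem))

theorem card_Wr (h : XAct P m f u ρ) : Nat.card h.Wr = 2 ^ (2 * (m + 3) + 1) := by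
  let F : Bool × h.Tone → h.Wr := fun v =>
    ⟨if v.1 then (v.2 : C) * (x4 f * u) else v.2, h.mem_Wr.2 ⟨v.2, v.2.2, by cases v.1 <;> simp⟩⟩
  have hF : Function.Bijective F := by
    constructor
    · rintro ⟨i, a⟩ ⟨j, b⟩ he
      have h1 : (if i then (a : C) * (x4 f * u) else a) = if j then (b : C) * (x4 f * u) else b :=
        congrArg Subtype.val he
      cases i <;> cases j
      · simp only [Bool.false_eq_true, ↓reduceIte] at h1
        rw [Prod.mk.injEq]; exact ⟨rfl, Subtype.ext h1⟩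
      · simp only [Bool.false_eq_true, ↓reduceIte] at h1
        exact absurd (h1 ▸ h.Tone_le a.2) (h.x4u_notMem (h.Tone_le b.2))
      · simp only [Bool.false_eq_true, ↓reduceIte] at h1
        exact absurd (h1.symm ▸ h.Tone_le b.2) (h.x4u_notMem (h.Tone_le a.2))
      · simp only [↓reduceIte] at h1
        rw [Prod.mk.injEq]; exact ⟨rfl, Subtype.ext (mul_right_cancel h1)⟩
    · rintro ⟨g, hg⟩
      obtain ⟨b, hb, hb' | hb'⟩ := h.mem_Wr.1 hg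
      · exact ⟨(false, ⟨b, hb⟩), by simp [F, hb']⟩
      · exact ⟨(true, ⟨b, hb⟩), by simp [F, hb']⟩
  rw [← Nat.card_congr (Equiv.ofBijective F hF), Nat.card_prod, h.card_Tone, Nat.card_eq_fintype_card,
    Fintype.card_bool, pow_succ, mul_comm]

theorem isWreathed (h : XAct P m f u ρ) : Cfsg.IsWreathed h.Wr := by
  have : Fact (Nat.Prime 2) := ⟨Nat.prime_two⟩
  have hx := h.Tone_le_Wr (h.c1_mem 1)
  have hy := h.Tone_le_Wr (mul_mem (h.c0_mem 1) (h.c1_mem 1))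
  refine ⟨m + 3, by omega, h.card_Wr, ⟨c1 f ρ 1, hx⟩, ⟨c0 f 1 * c1 f ρ 1, hy⟩, ⟨x4 f * u, h.x4u_mem⟩,
    ?_, ?_, ?_, ?_, ?_⟩
  · rw [Subgroup.orderOf_mk]
    have h1 : ∀ k : ℕ, c1 f ρ (1 : R m) ^ k = 1 ↔ (k : R m) = 0 := by
      intro k
      rw [h.c1_pow, mul_one]
      constructor
      · intro h2
        exact (h.indep (a := 0) (by rw [h.c0_zero, one_mul]; exact h2)).2
      · intro h2; rw [h2, h.c1_zero]
    apply orderOf_eq_prime_pow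
    · rw [h1]; exact N_ne_zero
    · rw [h1]; exact ZMod.natCast_self _
  · apply Subtype.ext
    exact h.comm_T (h.c1_mem 1).1 (mul_mem (h.c0_mem 1).1 (h.c1_mem 1).1)
  · rw [eq_bot_iff]
    intro g hg
    obtain ⟨i, hi⟩ := mem_zpowers_iff.1 (mem_inf.1 hg).1
    obtain ⟨j, hj⟩ := mem_zpowers_iff.1 (mem_inf.1 hg).2
    have hfin : Finite h.Wr := Nat.finite_of_card_ne_zero (by rw [h.card_Wr]; positivity)
    obtain ⟨i', hi'⟩ : ∃ i' : ℕ, (⟨c1 f ρ 1, hx⟩ : h.Wr) ^ i' = g :=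
      (mem_powers_iff_mem_zpowers.2 (mem_zpowers_iff.2 ⟨i, hi⟩))
    obtain ⟨j', hj'⟩ : ∃ j' : ℕ, (⟨c0 f 1 * c1 f ρ 1, hy⟩ : h.Wr) ^ j' = g :=
      (mem_powers_iff_mem_zpowers.2 (mem_zpowers_iff.2 ⟨j, hj⟩))
    have e1 : c1 f ρ (1 : R m) ^ i' = (c0 f 1 * c1 f ρ 1) ^ j' :=
      congrArg Subtype.val (hi'.trans hj'.symm)
    rw [(show Commute (c0 f 1) (c1 f ρ 1) from h.comm_T (h.c0_mem 1).1 (h.c1_mem 1).1).mul_pow,
      h.c0_pow, h.c1_pow, h.c1_pow, mul_one, mul_one] at e1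
    have e2 : c0 f ((j' : R m)) * c1 f ρ ((j' : R m) - i') = 1 := by
      rw [sub_eq_add_neg, h.c1_add, ← mul_assoc, ← e1, h.c1_neg, mul_inv_cancel]
    have e3 := (h.indep e2).1
    rw [mem_bot, ← hj']
    apply Subtype.ext
    change (c0 f 1 * c1 f ρ 1) ^ j' = 1
    rw [(show Commute (c0 f 1) (c1 f ρ 1) from h.comm_T (h.c0_mem 1).1 (h.c1_mem 1).1).mul_pow,
      h.c0_pow, h.c1_pow, mul_one, e3, h.c0_zero, h.c1_zero, one_mul]
  · rw [Subgroup.orderOf_mk]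
    refine orderOf_eq_prime (by rw [pow_two, h.x4u_sq]) ?_
    intro e
    have h1 := h.x4u_notMem (one_mem (Tor f))
    rw [one_mul, e] at h1
    exact h1 (one_mem _)
  · apply Subtype.ext
    change cj (x4 f * u) (c1 f ρ 1) = c0 f 1 * c1 f ρ 1
    rw [h.cj_x4u, c1, h.u_ρ (h.c0_mem_Tor 1), h.u_c0]
    have := h.c2 (-1)
    rw [neg_neg] at this
    exact this

theorem Wr_inf_Dd (h : XAct P m f u ρ) : h.Wr ⊓ Dd f ρ = ⊥ := by
  rw [eq_bot_iff]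
  rintro g ⟨h1, h2⟩
  rw [mem_bot]
  obtain ⟨b, hb, rfl | rfl⟩ := h.mem_Wr.1 h1
  · exact h.Tone_inf_Dd hb h2
  · exact absurd (h.Dd_le h2) (h.x4u_notMem (h.Tone_le hb))

theorem P_eq (h : XAct P m f u ρ) : P = h.Wr ⊔ Dd f ρ := by
  apply le_antisymm
  · intro g hg
    have hT : Tor f ≤ h.Wr ⊔ Dd f ρ := by
      intro t ht
      obtain ⟨a, ha, d, hd, rfl⟩ := h.exists_decomp ht
      exact mul_mem (mem_sup_left (h.Tone_le_Wr ha)) (mem_sup_right hd)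
    rcases h.mem_or hg with h1 | ⟨t, ht, rfl⟩
    · exact hT h1
    · have h1 : t * u = t * x4 f * (x4 f * u) := by
        calc t * u = t * (x4 f * x4 f) * u := by rw [h.x4_sq, mul_one]
          _ = _ := by group
      rw [h1]
      exact mul_mem (hT (mul_mem ht (h.Bu_le h.x4_mem))) (mem_sup_left h.x4u_mem)
  · exact sup_le h.Wr_le (h.Dd_le.trans h.Tor_le)

end XAct

end Cfsg.Agent.LFourB
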