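import Cfsg.Agent.LFourB.CentXTwo

/-!
# All odd automorphisms of the essential subgroups of `T ⟨u⟩` not containing `T`
-/

set_option autoImplicit false

namespace Cfsg.Agent.LFourB.CentXEss

open Subgroup Cfsg.Agent.Lib.GoldschmidtFusion Cfsg.Agent.Lib.EssentialFusion Cfsg.Agent.LFourB.CentXOne
open Cfsg.Agent.LFourB.CentXTwo

variable {C : Type*} [Group C] [Finite C] {P : Sylow 2 C} {m : ℕ} {f : R m → R m → R m → C} {u : C} {X : Subgroup C}

/-- **The odd automorphisms.** -/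
theorem odd_form (h : Half (P : Subgroup C) m f u) (hx : ∀ g : C, g * x4 f = x4 f * g) (hX : Ess P X)
    (hT : ¬ Tor f ≤ X) {g : C} (hg : g ∈ normalizer (X : Set C)) (ho : ¬ 2 ∣ orderOf g)
    (hgc : g ∉ centralizer (X : Set C)) :
    ∃ (y : C) (q : R m), y ∈ Tor f ∧ (q = 0 ∨ q = N m) ∧ (∀ b ∈ Bu f, g * b = b * g) ∧
      y * (f 0 q (M m) * u) * y⁻¹ ∈ X ∧
      g * h1 f * g⁻¹ = y * (f 0 q (M m) * u) * y⁻¹ ∧
      (g * (y * (f 0 q (M m) * u) * y⁻¹) * g⁻¹ = h1 f * (y * (f 0 q (M m) * u) * y⁻¹) ∨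
        g * (y * (f 0 q (M m) * u) * y⁻¹) * g⁻¹ = h1 f * (y * (f 0 q (M m) * u) * y⁻¹) * z1 f) := by
  have hXP : X ≤ P := hX.lt.le
  have hB := Bu_le h hX
  have hh := h1_mem_of h hX hT
  have hcB : ∀ b ∈ Bu f, g * b = b * g := fun b hb => odd_comm_Bu h hx hX hT hg ho hb
  have hgz : g * z1 f = z1 f * g := hcB _ h.z1_mem
  -- `e1`
  have hnm := conj_h1_notMem h hx hX hT hg ho hgc
  have he1X : g * h1 f * g⁻¹ ∈ X := (mem_normalizer_iff.1 hg _).1 hh
  obtain ⟨t, ht, het⟩ : ∃ t ∈ Tor f, g * h1 f * g⁻¹ = t * u := by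
    rcases h.mem_or (hXP he1X) with k | k
    · exact absurd k hnm
    · exact k
  have htu : t * u ∈ X := by rw [← het]; exact he1X
  have htP : t * u ∈ (P : Subgroup C) := hXP htu
  have hsq : (t * u) * (t * u) = z1 f := by
    have e1 : g * h1 f * g⁻¹ * (g * h1 f * g⁻¹) = g * (h1 f * h1 f) * g⁻¹ := by group
    rw [← het, e1, h.h1_sq, hgz, mul_inv_cancel_right]
  -- conjugation relations
  have hzc : ∀ e ∈ (P : Subgroup C), z1 f * e = e * z1 f := fun e he => z1_comm h he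
  have hht : (t * u) * h1 f = h1 f * (t * u) * z1 f := by
    have k1 := conj_T h ht h.h1_mem
    rw [h.u_h1_u] at k1
    have k2 := mul_inv_eq_iff_eq_mul.1 k1
    rw [k2, mul_assoc, hzc _ htP, ← mul_assoc]
  -- `e2`
  have he2X : g * (t * u) * g⁻¹ ∈ X := (mem_normalizer_iff.1 hg _).1 htu
  obtain ⟨b, hb, hcase⟩ := mem_cases h hX hT he2X ht htu
  have hbP : b ∈ (P : Subgroup C) := h.Tor_le (h.Bu_le hb)
  have hbc : ∀ e ∈ (P : Subgroup C), b * e = e * b := fun e he => h.Bu_comm hb he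
  have he2 : g * (t * u) * g⁻¹ = h1 f * (t * u) * b := by
    rcases hcase with k | k | k | k
    · exfalso
      have k1 := hcB b hb
      rw [← k, inv_mul_cancel_right] at k1
      have k2 := mul_left_cancel k1
      rw [k] at k2
      exact h.tu_notMem ht (k2 ▸ h.Bu_le hb)
    · exfalso
      have k1 : (g ^ 2) * h1 f * (g ^ 2)⁻¹ = h1 f * b := by
        rw [← k, ← het, pow_two]; group
      have k2 : (g ^ 2) * b = b * g ^ 2 := (Commute.pow_left (hcB b hb) 2).eq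
      have k3 : (g ^ 2) ^ orderOf g = 1 := by rw [← pow_mul, mul_comm, pow_mul, pow_orderOf_eq_one, one_pow]
      have k4 := comm_of_odd k3 ho k1 k2 (Bu_pow h hb)
      rw [k4, mul_one, mul_inv_eq_iff_eq_mul] at k1
      apply hnm
      obtain ⟨j, hj⟩ : ∃ j, orderOf g = 2 * j + 1 := by
        rcases Nat.even_or_odd' (orderOf g) with ⟨j, h0 | h0⟩
        · exact absurd ⟨j, h0⟩ ho
        · exact ⟨j, h0⟩
      have k5 : (g ^ 2) ^ (j + 1) = g := by
        rw [← pow_mul]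
        have : 2 * (j + 1) = orderOf g + 1 := by omega
        rw [this, pow_succ, pow_orderOf_eq_one, one_mul]
      have k6 : g * h1 f = h1 f * g := by
        have := (Commute.pow_left (show Commute (g ^ 2) (h1 f) from k1) (j + 1)).eq
        rwa [k5] at this
      rw [k6, mul_inv_cancel_right]
      exact h.h1_mem
    · exfalso
      have k4 := comm_of_odd (pow_orderOf_eq_one g) ho k (hcB b hb) (Bu_pow h hb)
      rw [k4, mul_one, mul_inv_eq_iff_eq_mul, ← het] at k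
      have k5 : g * h1 f * g⁻¹ = h1 f := by
        have e2 : g * (g * h1 f * g⁻¹) = g * h1 f := by rw [k, inv_mul_cancel_right]
        exact mul_left_cancel e2
      apply hnm
      rw [k5]
      exact h.h1_mem
    · exact k
  have hbb : b * b = 1 := by
    have k1 : (g * (t * u) * g⁻¹) * (g * (t * u) * g⁻¹) = z1 f := by
      have e1 : (g * (t * u) * g⁻¹) * (g * (t * u) * g⁻¹) = g * ((t * u) * (t * u)) * g⁻¹ := by group
      rw [e1, hsq, hgz, mul_inv_cancel_right]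
    rw [he2] at k1
    have k2 : h1 f * (t * u) * b * (h1 f * (t * u) * b) = z1 f * (b * b) := by
      calc h1 f * (t * u) * b * (h1 f * (t * u) * b)
          = h1 f * (t * u) * (b * (h1 f * (t * u))) * b := by group
        _ = h1 f * (t * u) * ((h1 f * (t * u)) * b) * b := by
            rw [hbc _ (mul_mem (h.Tor_le h.h1_mem) htP)]
        _ = h1 f * ((t * u) * h1 f) * (t * u) * (b * b) := by group
        _ = h1 f * (h1 f * (t * u) * z1 f) * (t * u) * (b * b) := by rw [hht]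
        _ = (h1 f * h1 f) * (t * u) * (z1 f * (t * u)) * (b * b) := by group
        _ = (h1 f * h1 f) * (t * u) * ((t * u) * z1 f) * (b * b) := by rw [hzc _ htP]
        _ = (h1 f * h1 f) * ((t * u) * (t * u)) * z1 f * (b * b) := by group
        _ = z1 f * (b * b) := by rw [h.h1_sq, hsq, h.z1_sq, one_mul]
    rw [k2] at k1
    exact mul_eq_left.1 k1
  -- the element `t0`
  set t0 := f (M m) 0 (-((2 ^ m : ℕ) : R m)) with ht0d
  have ht0T : t0 ∈ Tor f := h.f_mem_Tor (good_t0 m)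
  have ht0 : t0 * (t * u) * t0⁻¹ = h1 f * (t * u) := conj_t0 h ht
  have ht0' : t0 * (t * u) = h1 f * (t * u) * t0 := mul_inv_eq_iff_eq_mul.1 ht0
  have ht0h : t0 * h1 f = h1 f * t0 := h.Tor_comm ht0T h.h1_mem
  have ht0B : ∀ b ∈ Bu f, t0 * b = b * t0 := fun b hb => h.Tor_comm ht0T (h.Bu_le hb)
  have ht0N : t0 ∈ normalizer (X : Set C) := by
    refine mem_normalizer_of ?_
    intro e he
    obtain ⟨b', hb', k | k | k | k⟩ := mem_cases h hX hT he ht htu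
    · rw [k, ht0B b' hb', mul_inv_cancel_right]; exact hB hb'
    · have e1 : t0 * (h1 f * b') * t0⁻¹ = (t0 * h1 f * t0⁻¹) * (t0 * b' * t0⁻¹) := by group
      rw [k, e1, ht0h, ht0B b' hb', mul_inv_cancel_right, mul_inv_cancel_right]
      exact mul_mem hh (hB hb')
    · have e1 : t0 * (t * u * b') * t0⁻¹ = (t0 * (t * u) * t0⁻¹) * (t0 * b' * t0⁻¹) := by group
      rw [k, e1, ht0, ht0B b' hb', mul_inv_cancel_right]
      exact mul_mem (mul_mem hh htu) (hB hb')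
    · have e1 : t0 * (h1 f * (t * u) * b') * t0⁻¹ = (t0 * h1 f * t0⁻¹) * (t0 * (t * u) * t0⁻¹) * (t0 * b' * t0⁻¹) := by
        group
      rw [k, e1, ht0h, ht0, ht0B b' hb', mul_inv_cancel_right, mul_inv_cancel_right]
      exact mul_mem (mul_mem hh (mul_mem hh htu)) (hB hb')
  -- `k = t0 g t0⁻¹ g`
  have hkB : ∀ b ∈ Bu f, (t0 * g * t0⁻¹ * g) * b = b * (t0 * g * t0⁻¹ * g) := by
    intro b' hb'
    have c1 : Commute t0 b' := ht0B b' hb'
    have c2 : Commute g b' := hcB b' hb'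
    exact (((c1.mul_left c2).mul_left c1.inv_left).mul_left c2).eq
  have hk1 : (t0 * g * t0⁻¹ * g) * h1 f * (t0 * g * t0⁻¹ * g)⁻¹ = h1 f * (z1 f * b) := by
    have e1 : (t0 * g * t0⁻¹ * g) * h1 f * (t0 * g * t0⁻¹ * g)⁻¹ =
        t0 * (g * (t0⁻¹ * (g * h1 f * g⁻¹) * t0) * g⁻¹) * t0⁻¹ := by group
    have e2 : t0⁻¹ * (t * u) * t0 = (h1 f)⁻¹ * (t * u) := by
      have k1 : t0⁻¹ * (t * u) * t0 = t0⁻¹ * ((h1 f)⁻¹ * (h1 f * (t * u) * t0)) := by group
      rw [k1, ← ht0']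
      have k2 : t0⁻¹ * ((h1 f)⁻¹ * (t0 * (t * u))) = (t0⁻¹ * (h1 f)⁻¹ * t0) * (t * u) := by group
      have k3 : t0⁻¹ * (h1 f)⁻¹ * t0 = (h1 f)⁻¹ := by
        have : (h1 f)⁻¹ * t0 = t0 * (h1 f)⁻¹ := h.Tor_comm (inv_mem h.h1_mem) ht0T
        rw [mul_assoc, this, inv_mul_cancel_left]
      rw [k2, k3]
    have e3 : g * ((h1 f)⁻¹ * (t * u)) * g⁻¹ = (t * u)⁻¹ * (h1 f * (t * u) * b) := by
      have k1 : g * ((h1 f)⁻¹ * (t * u)) * g⁻¹ = (g * h1 f * g⁻¹)⁻¹ * (g * (t * u) * g⁻¹) := by group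
      rw [k1, het, he2]
    have e4 : t0 * ((t * u)⁻¹ * (h1 f * (t * u) * b)) * t0⁻¹ =
        (t0 * (t * u) * t0⁻¹)⁻¹ * ((t0 * h1 f * t0⁻¹) * (t0 * (t * u) * t0⁻¹) * (t0 * b * t0⁻¹)) := by group
    rw [e1, het, e2, e3, e4, ht0, ht0h, ht0B b hb, mul_inv_cancel_right, mul_inv_cancel_right]
    have e5 : (h1 f * (t * u))⁻¹ * (h1 f * (h1 f * (t * u)) * b) = (t * u)⁻¹ * (h1 f * (t * u)) * b := by group
    rw [e5]
    have e6 : h1 f * (t * u) = (t * u) * h1 f * z1 f := by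
      rw [hht, mul_assoc, h.z1_sq, mul_one]
    rw [e6]
    group
  have hk2 : (t0 * g * t0⁻¹ * g) * (t * u) * (t0 * g * t0⁻¹ * g)⁻¹ = z1 f * (t * u) := by
    have e1 : (t0 * g * t0⁻¹ * g) * (t * u) * (t0 * g * t0⁻¹ * g)⁻¹ =
        t0 * (g * (t0⁻¹ * (g * (t * u) * g⁻¹) * t0) * g⁻¹) * t0⁻¹ := by group
    have e2 : t0⁻¹ * (h1 f * (t * u) * b) * t0 = (t * u) * b := by
      have k1 : t0⁻¹ * (h1 f * (t * u) * b) * t0 = t0⁻¹ * (h1 f * (t * u) * (b * t0)) := by group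
      rw [k1, ← ht0B b hb]
      have k2 : t0⁻¹ * (h1 f * (t * u) * (t0 * b)) = t0⁻¹ * (h1 f * (t * u) * t0) * b := by group
      rw [k2, ← ht0', inv_mul_cancel_left]
    have e3 : g * ((t * u) * b) * g⁻¹ = h1 f * (t * u) := by
      have k1 : g * ((t * u) * b) * g⁻¹ = (g * (t * u) * g⁻¹) * (g * b * g⁻¹) := by group
      rw [k1, he2, hcB b hb, mul_inv_cancel_right, mul_assoc _ b b, hbb, mul_one]
    have e4 : t0 * (h1 f * (t * u)) * t0⁻¹ = (t0 * h1 f * t0⁻¹) * (t0 * (t * u) * t0⁻¹) := by group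
    rw [e1, he2, e2, e3, e4, ht0, ht0h, mul_inv_cancel_right, ← mul_assoc, h.h1_sq]
  have hkN : t0 * g * t0⁻¹ * g ∈ normalizer (X : Set C) :=
    mul_mem (mul_mem (mul_mem ht0N hg) (inv_mem ht0N)) hg
  have hktriv : t0 * g * t0⁻¹ * g ∈ triv h hX hT := by
    set k := t0 * g * t0⁻¹ * g with hk
    have hkB' : ∀ b ∈ Bu f, k * b * k⁻¹ = b := fun b hb => by rw [hkB b hb, mul_inv_cancel_right]
    refine ⟨hkN, fun e he => ?_⟩
    obtain ⟨b', hb', k1 | k1 | k1 | k1⟩ := mem_cases h hX hT he ht htu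
    · rw [k1, hkB' b' hb', mul_inv_cancel]; exact one_mem _
    · have e1 : k * (h1 f * b') * k⁻¹ * (h1 f * b')⁻¹ = (k * h1 f * k⁻¹) * (k * b' * k⁻¹) * b'⁻¹ * (h1 f)⁻¹ := by
        group
      rw [k1, e1, hk1, hkB' b' hb', mul_inv_cancel_right,
        ← h.Tor_comm (h.Bu_le (mul_mem h.z1_mem hb)) h.h1_mem, mul_inv_cancel_right]
      exact mul_mem h.z1_mem hb
    · have e1 : k * (t * u * b') * k⁻¹ * (t * u * b')⁻¹ = (k * (t * u) * k⁻¹) * (k * b' * k⁻¹) * b'⁻¹ * (t * u)⁻¹ := by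
        group
      rw [k1, e1, hk2, hkB' b' hb', mul_inv_cancel_right, mul_inv_cancel_right]
      exact h.z1_mem
    · have e1 : k * (h1 f * (t * u) * b') * k⁻¹ * (h1 f * (t * u) * b')⁻¹ =
          (k * h1 f * k⁻¹) * (k * (t * u) * k⁻¹) * (k * b' * k⁻¹) * b'⁻¹ * (t * u)⁻¹ * (h1 f)⁻¹ := by
        group
      rw [k1, e1, hk1, hk2, hkB' b' hb', mul_inv_cancel_right]
      have e2 : h1 f * (z1 f * b) * (z1 f * (t * u)) * (t * u)⁻¹ * (h1 f)⁻¹ =
          h1 f * (z1 f * (b * z1 f)) * (h1 f)⁻¹ := by group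
      have e3 : b * z1 f = z1 f * b := hbc _ (h.Tor_le (h.Bu_le h.z1_mem))
      rw [e2, e3, ← mul_assoc (z1 f), h.z1_sq, one_mul, ← h.Tor_comm (h.Bu_le hb) h.h1_mem, mul_inv_cancel_right]
      exact hb
  have hbz : b = 1 ∨ b = z1 f := by
    rcases triv_h1 h hX hT hktriv (mul_mem h.z1_mem hb) (hkB _ (mul_mem h.z1_mem hb)) hk1 with k | k
    · right
      have := eq_inv_of_mul_eq_one_right k
      rw [z1_inv h] at this
      exact this
    · left
      exact mul_eq_left.1 k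
  -- normalising by conjugation in the torus
  obtain ⟨p, q, r, hgd, htf⟩ := h.mem_Tor.1 ht
  have hcoord : 2 * q = 0 ∧ 2 * r + p = N m := by
    have k1 : (t * u) * (t * u) = f 0 (2 * q) (2 * r + p) := by
      have e1 : (t * u) * (t * u) = t * (u * t * u) := by group
      rw [e1, htf, h.u_f_u hgd, h.f_mul _ _ _ _ _ _ hgd hgd.actu]
      congr 1 <;> ring
    have hgg : Good 0 (2 * q) (2 * r + p) := by
      have := hgd.add hgd.actu
      rw [add_neg_cancel] at this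
      have e1 : q + q = 2 * q := by ring
      have e2 : r + (r + p) = 2 * r + p := by ring
      rwa [e1, e2] at this
    rw [hsq, z1, h.f_eq_iff BOne.good1 hgg] at k1
    exact ⟨k1.2.1.symm, k1.2.2.symm⟩
  have k5 : (2 : R m) * M m = N m := two_mul_M
  set c : R m := M m - r with hc
  have hgy : Good c (-c) 0 := ⟨0, by ring⟩
  set y := f c (-c) 0 with hy
  have hyT : y ∈ Tor f := h.f_mem_Tor hgy
  have hyt : y⁻¹ * (t * u) * y = f 0 q (M m) * u := by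
    have e1 : y⁻¹ * (t * u) * y = (t * (y⁻¹ * (u * y * u))) * u := by
      have k1 : y⁻¹ * t = t * y⁻¹ := h.Tor_comm (inv_mem hyT) ht
      have k2 : y⁻¹ * (t * u) * y = (y⁻¹ * t) * u * y := by group
      rw [k2, k1]
      have k4 : t * (y⁻¹ * (u * y * u)) * u = t * y⁻¹ * u * y * (u * u) := by group
      rw [k4, h.u_u, mul_one]
    rw [e1, hy, h.f_inv hgy, h.u_f_u hgy, h.f_mul _ _ _ _ _ _ hgy.neg hgy.actu, htf,
      h.f_mul _ _ _ _ _ _ hgd (hgy.neg.add hgy.actu)]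
    congr 2
    · rw [hc]; linear_combination hcoord.2 - k5
    · ring
    · rw [hc]; ring
  have hty : y * (f 0 q (M m) * u) * y⁻¹ = t * u := by rw [← hyt]; group
  refine ⟨y, q, hyT, eq_of_two_mul hcoord.1, hcB, ?_, ?_, ?_⟩
  · rw [hty]; exact htu
  · rw [hty]; exact het
  · rw [hty, he2]
    rcases hbz with k | k
    · left; rw [k, mul_one]
    · right; rw [k]

/-- `g` is an odd automorphism of `X = (B⟨h1, u⟩)^y` with `h1 → (f 0 q M * u)^y`. -/
structure OddA {C : Type*} [Group C] {m : ℕ} (f : R m → R m → R m → C) (u : C) (X : Subgroup C) (g y : C)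
    (q : R m) : Prop where
  y_mem : y ∈ Tor f
  q_eq : q = 0 ∨ q = N m
  g_norm : g ∈ normalizer (X : Set C)
  g_odd : ¬ 2 ∣ orderOf g
  cent : ∀ b ∈ Bu f, g * b = b * g
  e_mem : y * (f 0 q (M m) * u) * y⁻¹ ∈ X
  g_h1 : g * h1 f * g⁻¹ = y * (f 0 q (M m) * u) * y⁻¹
  g_e : g * (y * (f 0 q (M m) * u) * y⁻¹) * g⁻¹ = h1 f * (y * (f 0 q (M m) * u) * y⁻¹) ∨
    g * (y * (f 0 q (M m) * u) * y⁻¹) * g⁻¹ = h1 f * (y * (f 0 q (M m) * u) * y⁻¹) * z1 f

theorem exists_oddA (h : Half (P : Subgroup C) m f u) (hx : ∀ g : C, g * x4 f = x4 f * g) (hX : Ess P X)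
    (hT : ¬ Tor f ≤ X) {g : C} (hg : g ∈ normalizer (X : Set C)) (ho : ¬ 2 ∣ orderOf g)
    (hgc : g ∉ centralizer (X : Set C)) : ∃ y q, OddA f u X g y q := by
  obtain ⟨y, q, h1, h2, h3, h4, h5, h6⟩ := odd_form h hx hX hT hg ho hgc
  exact ⟨y, q, h1, h2, hg, ho, h3, h4, h5, h6⟩

omit [Finite C] in
theorem good_e {q : R m} (hq : q = 0 ∨ q = N m) : Good (0 : R m) q (M m) :=
  good_of_N (Or.inl rfl) hq four_mul_M

omit [Finite C] in
theorem e_form (h : Half (P : Subgroup C) m f u) {y : C} (hy : y ∈ Tor f) {q : R m} (hq : q = 0 ∨ q = N m) :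
    ∃ t ∈ Tor f, y * (f 0 q (M m) * u) * y⁻¹ = t * u := by
  refine ⟨y * f 0 q (M m) * (u * y⁻¹ * u), mul_mem (mul_mem hy (h.f_mem_Tor (good_e hq)))
    (h.conj_u_mem (inv_mem hy)), ?_⟩
  calc y * (f 0 q (M m) * u) * y⁻¹ = y * f 0 q (M m) * (u * y⁻¹) * 1 := by group
    _ = y * f 0 q (M m) * (u * y⁻¹) * (u * u) := by rw [h.u_u]
    _ = _ := by group

/-- the elements of `X` -/
theorem OddA.cases (h : Half (P : Subgroup C) m f u) (hX : Ess P X) (hT : ¬ Tor f ≤ X) {g y : C} {q : R m}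
    (ha : OddA f u X g y q) {e : C} (he : e ∈ X) : ∃ b ∈ Bu f, e = b ∨ e = h1 f * b ∨
      e = (y * (f 0 q (M m) * u) * y⁻¹) * b ∨ e = h1 f * (y * (f 0 q (M m) * u) * y⁻¹) * b := by
  obtain ⟨t, ht, hte⟩ := e_form h ha.y_mem ha.q_eq
  have htu := ha.e_mem
  rw [hte] at htu ⊢
  exact mem_cases h hX hT he ht htu

omit [Finite C] in
theorem f_comm_y (h : Half (P : Subgroup C) m f u) {y a : C} (hy : y ∈ Tor f) (ha : a ∈ Tor f) :
    y * a * y⁻¹ = a := by rw [h.Tor_comm hy ha, mul_inv_cancel_right]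

/-- conjugation by `y` -/
theorem OddA.mem_iff (h : Half (P : Subgroup C) m f u) (hX : Ess P X) (hT : ¬ Tor f ≤ X) {g y : C} {q : R m}
    (ha : OddA f u X g y q) (r : C) : y * r * y⁻¹ ∈ X ↔ r ∈ Ru f u := by
  have hB := CentXOne.Bu_le h hX
  have hh := h1_mem_of h hX hT
  have hBy : ∀ b ∈ Bu f, y * b * y⁻¹ = b := fun b hb => f_comm_y h ha.y_mem (h.Bu_le hb)
  have hfe : f 0 q (M m) ∈ Bu f := h.f_mem_Bu (good_e ha.q_eq)
  have hRB : Bu f ≤ Ru f u := le_sup_left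
  have hRh : h1 f ∈ Ru f u := (le_sup_right : _ ≤ Ru f u) (subset_closure (by simp))
  have hRu : u ∈ Ru f u := (le_sup_right : _ ≤ Ru f u) (subset_closure (by simp))
  constructor
  · intro hr
    obtain ⟨b, hb, k | k | k | k⟩ := ha.cases h hX hT hr
    · have : r = b := by rw [← hBy b hb, mul_left_inj, mul_right_inj] at k; exact k
      rw [this]; exact hRB hb
    · have : r = h1 f * b := by
        rw [← f_comm_y h ha.y_mem (mul_mem h.h1_mem (h.Bu_le hb)), mul_left_inj, mul_right_inj] at k; exact k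
      rw [this]; exact mul_mem hRh (hRB hb)
    · have : r = f 0 q (M m) * u * b := by
        have e1 : y * (f 0 q (M m) * u) * y⁻¹ * b = y * (f 0 q (M m) * u * b) * y⁻¹ := by
          conv_lhs => rw [← hBy b hb]
          group
        rw [e1, mul_left_inj, mul_right_inj] at k; exact k
      rw [this]; exact mul_mem (mul_mem (hRB hfe) hRu) (hRB hb)
    · have : r = h1 f * (f 0 q (M m) * u) * b := by
        have e1 : h1 f * (y * (f 0 q (M m) * u) * y⁻¹) * b = y * (h1 f * (f 0 q (M m) * u) * b) * y⁻¹ := by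
          conv_lhs => rw [← hBy b hb, ← f_comm_y h ha.y_mem h.h1_mem]
          group
        rw [e1, mul_left_inj, mul_right_inj] at k; exact k
      rw [this]; exact mul_mem (mul_mem hRh (mul_mem (hRB hfe) hRu)) (hRB hb)
  · intro hr
    have hle : Ru f u ≤ X.comap (MulAut.conj y).toMonoidHom := by
      refine sup_le ?_ ?_
      · intro b hb
        change y * b * y⁻¹ ∈ X
        rw [hBy b hb]; exact hB hb
      · rw [closure_le]
        rintro a (k | k)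
        · change y * a * y⁻¹ ∈ X
          rw [k, f_comm_y h ha.y_mem h.h1_mem]; exact hh
        · change y * a * y⁻¹ ∈ X
          have k : a = u := k
          rw [k]
          have e1 : y * u * y⁻¹ = (y * f 0 q (M m) * y⁻¹)⁻¹ * (y * (f 0 q (M m) * u) * y⁻¹) := by group
          rw [e1, hBy _ hfe]
          exact mul_mem (inv_mem (hB hfe)) ha.e_mem
    exact hle hr

omit [Finite C] in
theorem eq_of_gooda (h : Half (P : Subgroup C) m f u) {q q' : R m} (hq : q = 0 ∨ q = N m) (hq' : q' = 0 ∨ q' = N m)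
    (hne : q ≠ q') : f 0 q' (M m) * u = x3 f * (f 0 q (M m) * u) ∧ x3 f * x3 f = 1 ∧ x3 f ∈ Bu f ∧
      f 0 q (M m) * u = x3 f * (f 0 q' (M m) * u) := by
  have g3 : Good (0 : R m) (N m) 0 := BOne.goodx3
  have hqq : q' = N m + q ∧ q = N m + q' := by
    rcases hq with rfl | rfl <;> rcases hq' with rfl | rfl
    · exact absurd rfl hne
    · exact ⟨by rw [add_zero], N_add_N.symm⟩
    · exact ⟨N_add_N.symm, by rw [add_zero]⟩
    · exact absurd rfl hne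
  refine ⟨?_, ?_, h.f_mem_Bu g3, ?_⟩
  · rw [x3, ← mul_assoc, h.f_mul _ _ _ _ _ _ g3 (good_e hq), zero_add, zero_add, ← hqq.1]
  · rw [x3, h.f_mul _ _ _ _ _ _ g3 g3, N_add_N, add_zero, h.f_zero]
  · rw [x3, ← mul_assoc, h.f_mul _ _ _ _ _ _ g3 (good_e hq'), zero_add, zero_add, ← hqq.2]

/-- the element `y⁻¹ g y` -/
theorem OddA.down (h : Half (P : Subgroup C) m f u) {g y : C} {q : R m} (ha : OddA f u X g y q) :
    (∀ b ∈ Bu f, (y⁻¹ * g * y) * b = b * (y⁻¹ * g * y)) ∧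
      (y⁻¹ * g * y) * h1 f * (y⁻¹ * g * y)⁻¹ = f 0 q (M m) * u ∧
      ∃ z, (z = 1 ∨ z = z1 f) ∧
        (y⁻¹ * g * y) * (f 0 q (M m) * u) * (y⁻¹ * g * y)⁻¹ = h1 f * (f 0 q (M m) * u) * z := by
  have hyh := f_comm_y h ha.y_mem h.h1_mem
  have hyz := f_comm_y h ha.y_mem (h.Bu_le h.z1_mem)
  refine ⟨?_, ?_, ?_⟩
  · intro b hb
    have c1 : Commute y b := h.Tor_comm ha.y_mem (h.Bu_le hb)
    have c2 : Commute g b := ha.cent b hb
    exact ((c1.inv_left.mul_left c2).mul_left c1).eq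
  · have e1 : (y⁻¹ * g * y) * h1 f * (y⁻¹ * g * y)⁻¹ = y⁻¹ * (g * (y * h1 f * y⁻¹) * g⁻¹) * y := by group
    rw [e1, hyh, ha.g_h1]; group
  · have e1 : (y⁻¹ * g * y) * (f 0 q (M m) * u) * (y⁻¹ * g * y)⁻¹ =
        y⁻¹ * (g * (y * (f 0 q (M m) * u) * y⁻¹) * g⁻¹) * y := by group
    rcases ha.g_e with k | k
    · refine ⟨1, Or.inl rfl, ?_⟩
      rw [e1, k]
      have e2 : y⁻¹ * (h1 f * (y * (f 0 q (M m) * u) * y⁻¹)) * y =
          y⁻¹ * (h1 f) * y * (f 0 q (M m) * u) := by group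
      have e4 : y⁻¹ * h1 f * y = h1 f := by
        conv_lhs => rw [← hyh]
        group
      rw [e2, mul_one, e4]
    · refine ⟨z1 f, Or.inr rfl, ?_⟩
      rw [e1, k]
      have e2 : y⁻¹ * (h1 f * (y * (f 0 q (M m) * u) * y⁻¹) * z1 f) * y =
          y⁻¹ * (h1 f) * y * (f 0 q (M m) * u) * (y⁻¹ * z1 f * y) := by group
      have e3 : y⁻¹ * z1 f * y = z1 f := by
        conv_lhs => rw [← hyz]
        group
      have e4 : y⁻¹ * h1 f * y = h1 f := by
        conv_lhs => rw [← hyh]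
        group
      rw [e2, e3, e4]

theorem OddA.norm_Ru (h : Half (P : Subgroup C) m f u) (hX : Ess P X) (hT : ¬ Tor f ≤ X) {g y : C} {q : R m}
    (ha : OddA f u X g y q) : y⁻¹ * g * y ∈ normalizer (Ru f u : Set C) := by
  rw [mem_normalizer_iff]
  intro r
  rw [← ha.mem_iff h hX hT r, ← ha.mem_iff h hX hT (y⁻¹ * g * y * r * (y⁻¹ * g * y)⁻¹)]
  have e1 : y * (y⁻¹ * g * y * r * (y⁻¹ * g * y)⁻¹) * y⁻¹ = g * (y * r * y⁻¹) * g⁻¹ := by group
  rw [e1]
  exact mem_normalizer_iff.1 ha.g_norm _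

/-- The value `q` is the same for all odd automorphisms. -/
theorem unique (h : Half (P : Subgroup C) m f u) {X' : Subgroup C} {g g' y y' : C} {q q' : R m}
    (ha : OddA f u X g y q) (hX' : Ess P X') (hT' : ¬ Tor f ≤ X')
    (ha' : OddA f u X' g' y' q') (hXg : y⁻¹ * g * y ∈ normalizer (Ru f u : Set C)) : q = q' := by
  by_contra hne
  obtain ⟨ee, hxx, hxB, ee'⟩ := eq_of_gooda h ha.q_eq ha'.q_eq hne
  obtain ⟨dB, d1, z, hz, d2⟩ := ha.down h
  obtain ⟨dB', d1', z', hz', d2'⟩ := ha'.down h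
  have hzB : z ∈ Bu f := by rcases hz with rfl | rfl; exacts [one_mem _, h.z1_mem]
  have hzB' : z' ∈ Bu f := by rcases hz' with rfl | rfl; exacts [one_mem _, h.z1_mem]
  have hBP : ∀ b ∈ Bu f, ∀ a ∈ (P : Subgroup C), Commute b a := fun b hb a hab => h.Bu_comm hb hab
  set d := y⁻¹ * g * y with hd
  set d' := y'⁻¹ * g' * y' with hd'
  set e := f 0 q (M m) * u with he
  set e' := f 0 q' (M m) * u with he'
  set x := x3 f with hx
  have heP : e ∈ (P : Subgroup C) := mul_mem (h.Tor_le (h.f_mem_Tor (good_e ha.q_eq))) h.u_mem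
  have heP' : e' ∈ (P : Subgroup C) := mul_mem (h.Tor_le (h.f_mem_Tor (good_e ha'.q_eq))) h.u_mem
  have hhP : h1 f ∈ (P : Subgroup C) := h.Tor_le h.h1_mem
  have cdx : Commute d' x := dB' x hxB
  have cdz : Commute d' z := dB' z hzB
  have cdz' : Commute d' z' := dB' z' hzB'
  have cx : Commute x (h1 f) := hBP x hxB _ hhP
  have cxe' : Commute x e' := hBP x hxB _ heP'
  have cz : Commute z (h1 f) := hBP z hzB _ hhP
  have cz' : Commute z' (h1 f) := hBP z' hzB' _ hhP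
  have czx : Commute z' x := h.Tor_comm (h.Bu_le hzB') (h.Bu_le hxB)
  have kB : ∀ b ∈ Bu f, Commute (d'⁻¹ * d) b := by
    intro b hb
    have c1 : Commute d b := dB b hb
    have c2 : Commute d' b := dB' b hb
    exact c2.inv_left.mul_left c1
  have a1 : d'⁻¹ * e' * d' = h1 f := by rw [← d1']; group
  have K1 : (d'⁻¹ * d) * h1 f * (d'⁻¹ * d)⁻¹ = h1 f * x := by
    have e1 : (d'⁻¹ * d) * h1 f * (d'⁻¹ * d)⁻¹ = d'⁻¹ * (d * h1 f * d⁻¹) * d' := by group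
    rw [e1, d1, ee']
    have e2 : d'⁻¹ * (x * e') * d' = (d'⁻¹ * x * d') * (d'⁻¹ * e' * d') := by group
    have e3 : d'⁻¹ * x * d' = x := by rw [mul_assoc, ← cdx.eq, inv_mul_cancel_left]
    rw [e2, e3, a1, cx.eq]
  have a2 : d'⁻¹ * h1 f * d' = e' * z'⁻¹ * (h1 f)⁻¹ := by
    have e1 : d'⁻¹ * (d' * e' * d'⁻¹) * d' = d'⁻¹ * (h1 f * e' * z') * d' := by rw [d2']
    have e2 : d'⁻¹ * (h1 f * e' * z') * d' = (d'⁻¹ * h1 f * d') * (d'⁻¹ * e' * d') * (d'⁻¹ * z' * d') := by group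
    have e3 : d'⁻¹ * z' * d' = z' := by rw [mul_assoc, ← cdz'.eq, inv_mul_cancel_left]
    have e4 : d'⁻¹ * (d' * e' * d'⁻¹) * d' = e' := by group
    rw [e4, e2, e3, a1] at e1
    rw [e1]
    have e5 : d'⁻¹ * h1 f * d' * h1 f * z' * z'⁻¹ * (h1 f)⁻¹ = d'⁻¹ * h1 f * d' := by group
    exact e5.symm
  have hzz : z'⁻¹ * z = 1 ∨ z'⁻¹ * z = z1 f := by
    rcases hz with rfl | rfl <;> rcases hz' with rfl | rfl
    · left; simp
    · right; rw [z1_inv h, mul_one]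
    · right; rw [inv_one, one_mul]
    · left; rw [inv_mul_cancel]
  have K2 : (d'⁻¹ * d) * e' * (d'⁻¹ * d)⁻¹ = e' * (z'⁻¹ * z) := by
    have e1 : (d'⁻¹ * d) * e' * (d'⁻¹ * d)⁻¹ = d'⁻¹ * (d * (x * e) * d⁻¹) * d' := by rw [ee]; group
    have e2 : d * (x * e) * d⁻¹ = x * (h1 f * e * z) := by
      have c : Commute d x := dB x hxB
      calc d * (x * e) * d⁻¹ = (d * x) * e * d⁻¹ := by group
        _ = x * (d * e * d⁻¹) := by rw [c.eq]; group
        _ = _ := by rw [d2]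
    have e3 : d'⁻¹ * (x * (h1 f * e * z)) * d' =
        (d'⁻¹ * x * d') * (d'⁻¹ * h1 f * d') * (d'⁻¹ * e * d') * (d'⁻¹ * z * d') := by group
    have e4 : d'⁻¹ * x * d' = x := by rw [mul_assoc, ← cdx.eq, inv_mul_cancel_left]
    have e5 : d'⁻¹ * z * d' = z := by rw [mul_assoc, ← cdz.eq, inv_mul_cancel_left]
    have e6 : d'⁻¹ * e * d' = x * h1 f := by
      rw [ee']
      have : d'⁻¹ * (x * e') * d' = (d'⁻¹ * x * d') * (d'⁻¹ * e' * d') := by group
      rw [this, e4, a1]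
    rw [e1, e2, e3, e4, e5, e6, a2]
    calc x * (e' * z'⁻¹ * (h1 f)⁻¹) * (x * h1 f) * z
        = x * (e' * z'⁻¹ * (h1 f)⁻¹) * (h1 f * x) * z := by rw [cx.eq]
      _ = (x * e') * (z'⁻¹ * x) * z := by group
      _ = (e' * x) * (x * z'⁻¹) * z := by rw [cxe'.eq, czx.inv_left.eq]
      _ = e' * (x * x) * (z'⁻¹ * z) := by group
      _ = _ := by rw [hxx, mul_one]
  -- transport to `X'`
  have hyB : ∀ b ∈ Bu f, Commute y' b := fun b hb => h.Tor_comm ha'.y_mem (h.Bu_le hb)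
  have hyh : Commute y' (h1 f) := h.Tor_comm ha'.y_mem h.h1_mem
  set k := y' * (d'⁻¹ * d) * y'⁻¹ with hk
  have kB' : ∀ b ∈ Bu f, Commute k b := fun b hb => ((hyB b hb).mul_left (kB b hb)).mul_left (hyB b hb).inv_left
  have k1 : k * h1 f * k⁻¹ = h1 f * x := by
    have e1 : k * h1 f * k⁻¹ = y' * ((d'⁻¹ * d) * (y'⁻¹ * h1 f * y') * (d'⁻¹ * d)⁻¹) * y'⁻¹ := by
      rw [hk]; group
    have e2 : y'⁻¹ * h1 f * y' = h1 f := by rw [mul_assoc, ← hyh.eq, inv_mul_cancel_left]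
    rw [e1, e2, K1]
    have e3 : y' * (h1 f * x) * y'⁻¹ = h1 f * x := by
      rw [(hyh.mul_right (hyB x hxB)).eq, mul_inv_cancel_right]
    exact e3
  have k2 : k * (y' * e' * y'⁻¹) * k⁻¹ = (y' * e' * y'⁻¹) * (z'⁻¹ * z) := by
    have e1 : k * (y' * e' * y'⁻¹) * k⁻¹ = y' * ((d'⁻¹ * d) * e' * (d'⁻¹ * d)⁻¹) * y'⁻¹ := by rw [hk]; group
    rw [e1, K2]
    have hzzB : z'⁻¹ * z ∈ Bu f := mul_mem (inv_mem hzB') hzB
    have e3 : y' * (e' * (z'⁻¹ * z)) * y'⁻¹ = (y' * e' * y'⁻¹) * (y' * (z'⁻¹ * z) * y'⁻¹) := by group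
    rw [e3, (hyB _ hzzB).eq, mul_inv_cancel_right]
  have hkN : k ∈ normalizer (X' : Set C) := by
    have h1 : d'⁻¹ * d ∈ normalizer (Ru f u : Set C) := mul_mem (inv_mem (ha'.norm_Ru h hX' hT')) hXg
    rw [mem_normalizer_iff]
    intro r
    have e1 : r = y' * (y'⁻¹ * r * y') * y'⁻¹ := by group
    have e2 : k * r * k⁻¹ = y' * ((d'⁻¹ * d) * (y'⁻¹ * r * y') * (d'⁻¹ * d)⁻¹) * y'⁻¹ := by rw [hk]; group
    rw [e2, ha'.mem_iff h hX' hT']
    conv_lhs => rw [e1, ha'.mem_iff h hX' hT']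
    exact mem_normalizer_iff.1 h1 _
  have hktriv : k ∈ triv h hX' hT' := by
    refine ⟨hkN, fun a haX => ?_⟩
    have hzzB : z'⁻¹ * z ∈ Bu f := mul_mem (inv_mem hzB') hzB
    have hyeP : y' * e' * y'⁻¹ ∈ (P : Subgroup C) := hX'.lt.le ha'.e_mem
    obtain ⟨b, hb, q1 | q1 | q1 | q1⟩ := ha'.cases h hX' hT' haX
    · rw [q1, (kB' b hb).eq, mul_inv_cancel_right, mul_inv_cancel]; exact one_mem _
    · have e1 : k * (h1 f * b) * k⁻¹ * (h1 f * b)⁻¹ = (k * h1 f * k⁻¹) * (k * b * k⁻¹) * b⁻¹ * (h1 f)⁻¹ := by group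
      rw [q1, e1, k1, (kB' b hb).eq, mul_inv_cancel_right, mul_inv_cancel_right, ← cx.eq, mul_inv_cancel_right]
      exact hxB
    · have e1 : k * (y' * e' * y'⁻¹ * b) * k⁻¹ * (y' * e' * y'⁻¹ * b)⁻¹ =
          (k * (y' * e' * y'⁻¹) * k⁻¹) * (k * b * k⁻¹) * b⁻¹ * (y' * e' * y'⁻¹)⁻¹ := by group
      rw [q1, e1, k2, (kB' b hb).eq, mul_inv_cancel_right, mul_inv_cancel_right,
        ← (hBP _ hzzB _ hyeP).eq, mul_inv_cancel_right]
      exact hzzB
    · have e1 : k * (h1 f * (y' * e' * y'⁻¹) * b) * k⁻¹ * (h1 f * (y' * e' * y'⁻¹) * b)⁻¹ =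
          (k * h1 f * k⁻¹) * (k * (y' * e' * y'⁻¹) * k⁻¹) * (k * b * k⁻¹) * b⁻¹ * (y' * e' * y'⁻¹)⁻¹ * (h1 f)⁻¹ := by
        group
      rw [q1, e1, k1, k2, (kB' b hb).eq, mul_inv_cancel_right, mul_inv_cancel_right,
        ← (hBP _ hzzB _ hyeP).eq]
      have e2 : h1 f * x * (z'⁻¹ * z * (y' * e' * y'⁻¹)) * (y' * e' * y'⁻¹)⁻¹ * (h1 f)⁻¹ =
          h1 f * (x * (z'⁻¹ * z)) * (h1 f)⁻¹ := by group
      have hm : x * (z'⁻¹ * z) ∈ Bu f := mul_mem hxB hzzB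
      rw [e2, ← (hBP _ hm _ hhP).eq, mul_inv_cancel_right]
      exact hm
  rcases triv_h1 h hX' hT' hktriv hxB (kB' x hxB).eq k1 with c | c
  · rw [hx, x3, h.f_eq_one_iff BOne.goodx3] at c
    exact N_ne_zero c.2.1
  · rw [hx, x3, z1, h.f_eq_iff BOne.goodx3 BOne.good1] at c
    exact N_ne_zero c.2.1

end Cfsg.Agent.LFourB.CentXEss
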