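import Mathlib
import Cfsg.Agent.Lib.Cores
import Cfsg.Agent.Lib.SylowNormalInf
import Cfsg.Agent.Transfer.Tate
import Cfsg.Agent.Transfer.Residual
import Cfsg.Agent.Transfer.ResidualComplement
import Cfsg.Agent.TwoFusion.SimpleOddIndex
import Cfsg.Agent.TwoFusion.SylowTypeTransfer
import Cfsg.Agent.TwoFusion.IsolatedCenter
import Cfsg.Agent.S0215

/-!
# Groups whose residual `O^2(Y)` has quasi-dihedral or wreathed Sylow 2-subgroup

`P` is a Sylow 2-subgroup of `Y`, `W ≤ P` is quasi-dihedral or wreathed and `O^2(Y) ∩ P = W`. Then `Y / O(Y)` has a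
simple normal subgroup `L` with Sylow 2-subgroup the image of `W`; if moreover `P = W<y>` with `<y>` isolated in `P`,
the centralizer of `L` is the image of `<y>`.
-/

set_option autoImplicit false

namespace Cfsg.Agent.LFourB.CentXTail

open Subgroup

universe u

variable {Y : Type u} [Group Y] [Finite Y]

/-- The residual meets the Sylow subgroup in the kernel of a fusion invariant homomorphism. -/
theorem residual_inf {P : Sylow 2 Y} {A : Type*} [CommGroup A] (hA : IsPGroup 2 A)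
    (χ : (P : Subgroup Y) →* A)
    (hfus : ∀ (x y : (P : Subgroup Y)) (g : Y), g * (x : Y) * g⁻¹ = y → χ x = χ y)
    {W : Subgroup Y} (hWP : W ≤ (P : Subgroup Y)) (hker : ∀ x : (P : Subgroup Y), χ x = 1 → (x : Y) ∈ W)
    (hWK : W ≤ Cfsg.pResidual 2 Y) : Cfsg.pResidual 2 Y ⊓ (P : Subgroup Y) = W := by
  have : Fact (Nat.Prime 2) := ⟨Nat.prime_two⟩
  obtain ⟨F, hF⟩ := Transfer.Tate.hom_extends_of_fusion (P : Subgroup Y) P.not_dvd_index hA χ hfus
  refine le_antisymm ?_ (le_inf hWK hWP)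
  rintro g ⟨hg, hgP⟩
  have h1 : F g = 1 := Transfer.Residual.pResidual_le_ker hA F hg
  exact hker ⟨g, hgP⟩ (by rw [← hF, h1])

/-- The residual has no subgroup of index two. -/
theorem residual_index_ne_two (H : Subgroup (Cfsg.pResidual 2 Y)) : H.index ≠ 2 := by
  have : Fact (Nat.Prime 2) := ⟨Nat.prime_two⟩
  intro h
  have hn : H.Normal := Subgroup.normal_of_index_eq_two h
  have hp : IsPGroup 2 (Cfsg.pResidual 2 Y ⧸ H) := IsPGroup.of_card (n := 1) (by
    rw [← Subgroup.index_eq_card, h, pow_one])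
  have h1 : ∀ x : Cfsg.pResidual 2 Y, x ∈ H := by
    intro x
    rw [← QuotientGroup.eq_one_iff]
    exact Transfer.ResidualComplement.hom_pResidual_eq_one hp (QuotientGroup.mk' H) x
  rw [show H = ⊤ from by rw [eq_top_iff]; intro x _; exact h1 x, Subgroup.index_top] at h
  omega

/-- Data: `W ≤ P` quasi-dihedral or wreathed with `O^2(Y) ∩ P = W`. -/
structure Dat (P : Sylow 2 Y) (W : Subgroup Y) : Prop where
  le : W ≤ (P : Subgroup Y)
  typ : Cfsg.IsQuasiDihedral W ∨ Cfsg.IsWreathed W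
  inf : Cfsg.pResidual 2 Y ⊓ (P : Subgroup Y) = W

namespace Dat

variable {P : Sylow 2 Y} {W : Subgroup Y}

theorem le_residual (h : Dat P W) : W ≤ Cfsg.pResidual 2 Y := by
  rw [← h.inf]; exact inf_le_left

/-- `W` as a Sylow 2-subgroup of the residual. -/
theorem exists_sylow (h : Dat P W) : ∃ Q : Sylow 2 (Cfsg.pResidual 2 Y),
    (Q : Subgroup (Cfsg.pResidual 2 Y)) = W.subgroupOf (Cfsg.pResidual 2 Y) := by
  have : Fact (Nat.Prime 2) := ⟨Nat.prime_two⟩
  have hn : (Cfsg.pResidual 2 Y).Normal := Transfer.Residual.pResidual_normal 2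
  refine ⟨(Lib.SylowNormalInf.isPGroup_subgroupOf P (Cfsg.pResidual 2 Y)).toSylow
    (Lib.SylowNormalInf.not_dvd_relIndex P (Cfsg.pResidual 2 Y)), ?_⟩
  change (P : Subgroup Y).subgroupOf (Cfsg.pResidual 2 Y) = _
  rw [← h.inf]
  ext x
  simp only [Subgroup.mem_subgroupOf, Subgroup.mem_inf, SetLike.coe_mem, true_and]

theorem typ_sylow (h : Dat P W) (Q : Sylow 2 (Cfsg.pResidual 2 Y))
    (hQ : (Q : Subgroup (Cfsg.pResidual 2 Y)) = W.subgroupOf (Cfsg.pResidual 2 Y)) :
    Cfsg.IsQuasiDihedral (Q : Subgroup (Cfsg.pResidual 2 Y)) ∨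
      Cfsg.IsWreathed (Q : Subgroup (Cfsg.pResidual 2 Y)) := by
  have e : W ≃* (Q : Subgroup (Cfsg.pResidual 2 Y)) := by
    rw [hQ]; exact (Subgroup.subgroupOfEquivOfLe h.le_residual).symm
  rcases h.typ with h1 | h1
  · exact Or.inl (TwoFusion.SylowTypeTransfer.isQuasiDihedral_of_mulEquiv e h1)
  · exact Or.inr (TwoFusion.SylowTypeTransfer.isWreathed_of_mulEquiv e h1)

/-- All involutions of the residual are conjugate in it. -/
theorem conj (h : Dat P W) {a b : Y} (ha : a ∈ Cfsg.pResidual 2 Y) (hb : b ∈ Cfsg.pResidual 2 Y)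
    (ha2 : orderOf a = 2) (hb2 : orderOf b = 2) : ∃ g ∈ Cfsg.pResidual 2 Y, g * a * g⁻¹ = b := by
  obtain ⟨Q, hQ⟩ := h.exists_sylow
  obtain ⟨c, hc⟩ := isConj_iff.1 (TwoFusion.OneClass.isConj_of_orderOf_two Q (h.typ_sylow Q hQ)
    residual_index_ne_two ⟨a, ha⟩ ⟨b, hb⟩ (by rw [Subgroup.orderOf_mk]; exact ha2)
    (by rw [Subgroup.orderOf_mk]; exact hb2))
  exact ⟨c, c.2, congrArg Subtype.val hc⟩

/-- The simple normal subgroup when `O(Y) = 1`. -/
theorem exists_simple (h : Dat P W) (hO : Cfsg.pPrimeCore 2 Y = ⊥) :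
    ∃ L : Subgroup Y, L.Normal ∧ IsSimpleGroup L ∧ ¬ IsMulCommutative L ∧ L ≤ Cfsg.pResidual 2 Y ∧
      Odd (L.relIndex (Cfsg.pResidual 2 Y)) ∧ W ≤ L ∧ L ⊓ (P : Subgroup Y) = W := by
  have : Fact (Nat.Prime 2) := ⟨Nat.prime_two⟩
  have hn : (Cfsg.pResidual 2 Y).Normal := Transfer.Residual.pResidual_normal 2
  obtain ⟨Q, hQ⟩ := h.exists_sylow
  have hO' : Cfsg.pPrimeCore 2 (Cfsg.pResidual 2 Y) = ⊥ := by
    have h1 := Lib.Cores.map_subtype_pPrimeCore (G := Y) 2 hn
    rw [hO, inf_bot_eq, Subgroup.map_eq_bot_iff_of_injective _ (Subgroup.subtype_injective _)] at h1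
    exact h1
  obtain ⟨L₀, hL₀n, hL₀o, hL₀s, hL₀c⟩ := TwoFusion.SimpleOddIndex.exists_simple_of_core_free Q
    (h.typ_sylow Q hQ) residual_index_ne_two hO'
  -- elements of 2-power order of `K` lie in `L₀`
  have h2 : ∀ s : Cfsg.pResidual 2 Y, ∀ k : ℕ, s ^ 2 ^ k = 1 → s ∈ L₀ := by
    intro s k hs
    rw [← QuotientGroup.eq_one_iff, ← orderOf_eq_one_iff]
    have h3 : orderOf (s : Cfsg.pResidual 2 Y ⧸ L₀) ∣ 2 ^ k := by
      apply orderOf_dvd_of_pow_eq_one
      rw [← QuotientGroup.mk_pow, hs, QuotientGroup.mk_one]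
    have h4 : orderOf (s : Cfsg.pResidual 2 Y ⧸ L₀) ∣ L₀.index := by
      rw [Subgroup.index_eq_card]; exact orderOf_dvd_natCard _
    have h5 : Nat.Coprime (2 ^ k) L₀.index :=
      Nat.Coprime.pow_left k (Nat.coprime_two_left.2 hL₀o)
    exact Nat.eq_one_of_dvd_coprimes h5 h3 h4
  have hWK : W ≤ Cfsg.pResidual 2 Y := h.le_residual
  -- the normal closure of `W`
  have hmapn : ∀ g : Y, ∀ s ∈ W, g * s * g⁻¹ ∈ L₀.map (Cfsg.pResidual 2 Y).subtype := by
    intro g s hs
    have h3 : g * s * g⁻¹ ∈ Cfsg.pResidual 2 Y := hn.conj_mem _ (hWK hs) g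
    obtain ⟨k, hk⟩ := P.isPGroup' ⟨s, h.le hs⟩
    have hk' : s ^ 2 ^ k = 1 := congrArg Subtype.val hk
    refine ⟨⟨_, h3⟩, h2 _ k ?_, rfl⟩
    apply Subtype.ext
    change (g * s * g⁻¹) ^ 2 ^ k = 1
    rw [conj_pow, hk', mul_one, mul_inv_cancel]
  have hcl : normalClosure (W : Set Y) ≤ L₀.map (Cfsg.pResidual 2 Y).subtype := by
    rw [normalClosure, closure_le]
    intro x hx
    obtain ⟨s, hs, hc⟩ := Group.mem_conjugatesOfSet_iff.1 hx
    obtain ⟨g, hg⟩ := isConj_iff.1 hc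
    rw [← hg]
    exact hmapn g s hs
  have hW1 : W ≠ ⊥ := by
    intro e
    have hc : Nat.card W = 1 := by rw [e, Subgroup.card_bot]
    rcases h.typ with ⟨n, hn3, hcard, -⟩ | ⟨n, hn2, hcard, -⟩ <;> rw [hc] at hcard
    · exact absurd hcard.symm (Nat.one_lt_two_pow (by omega)).ne'
    · exact absurd hcard.symm (Nat.one_lt_two_pow (by omega)).ne'
  have heq : normalClosure (W : Set Y) = L₀.map (Cfsg.pResidual 2 Y).subtype := by
    refine le_antisymm hcl ?_
    -- its preimage in `L₀` is normal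
    let M : Subgroup L₀ := (normalClosure (W : Set Y)).comap ((Cfsg.pResidual 2 Y).subtype.comp L₀.subtype)
    have hM : M.Normal := (normalClosure_normal).comap _
    rcases hL₀s.eq_bot_or_eq_top_of_normal M hM with hM1 | hM1
    · exfalso
      apply hW1
      rw [eq_bot_iff]
      intro s hs
      have h3 : (⟨s, hWK hs⟩ : Cfsg.pResidual 2 Y) ∈ L₀ := by
        obtain ⟨x, hx, hx2⟩ := hmapn 1 s hs
        have : x = ⟨s, hWK hs⟩ := Subtype.ext (by simpa using hx2)
        rw [← this]; exact hx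
      have h4 : (⟨⟨s, hWK hs⟩, h3⟩ : L₀) ∈ M := subset_normalClosure hs
      rw [hM1, Subgroup.mem_bot] at h4
      rw [Subgroup.mem_bot]
      exact congrArg (fun t : L₀ => ((t : Cfsg.pResidual 2 Y) : Y)) h4
    · rintro _ ⟨x, hx, rfl⟩
      have h3 : (⟨x, hx⟩ : L₀) ∈ M := by rw [hM1]; exact Subgroup.mem_top _
      exact h3
  have e : L₀ ≃* (L₀.map (Cfsg.pResidual 2 Y).subtype) := L₀.equivMapOfInjective (Cfsg.pResidual 2 Y).subtype (Cfsg.pResidual 2 Y).subtype_injective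
  have hWL : W ≤ L₀.map (Cfsg.pResidual 2 Y).subtype := heq ▸ subset_normalClosure
  refine ⟨L₀.map (Cfsg.pResidual 2 Y).subtype, heq ▸ normalClosure_normal, ?_, ?_, map_subtype_le _, ?_, hWL, ?_⟩
  · exact e.symm.isSimpleGroup
  · intro hc
    apply hL₀c
    refine ⟨⟨fun a b => ?_⟩⟩
    apply e.injective
    rw [map_mul, map_mul]
    exact hc.is_comm.comm _ _
  · have h5 : (L₀.map (Cfsg.pResidual 2 Y).subtype).relIndex (Cfsg.pResidual 2 Y) = L₀.index := by
      rw [Subgroup.relIndex, Subgroup.subgroupOf, Subgroup.comap_map_eq_self_of_injective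
        (Cfsg.pResidual 2 Y).subtype_injective]
    rw [h5]
    exact hL₀o
  · refine le_antisymm ?_ (le_inf hWL h.le)
    rw [← h.inf]
    exact inf_le_inf_right _ (map_subtype_le _)

end Dat

/-- A subgroup of `P` consisting of isolated elements is central when `O(Y) = 1`. -/
theorem le_center_of_isolated (hO : Cfsg.pPrimeCore 2 Y = ⊥) (P : Sylow 2 Y) (D : Subgroup Y)
    (hD : D ≤ (P : Subgroup Y))
    (hiso : ∀ x ∈ D, ∀ g : Y, g * x * g⁻¹ ∈ (P : Subgroup Y) → g * x * g⁻¹ = x) :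
    D ≤ Subgroup.center Y := by
  intro x hx
  rw [Subgroup.mem_center_iff]
  intro g
  have h1 := TwoFusion.IsolatedCenter.commutator_mem_oddCore (fun G _ _ P u hu huP hiso =>
    S0215.result P u hu huP hiso) (Nat.card Y) Y le_rfl P D hD hiso x hx g
  have h2 : x * g * x⁻¹ * g⁻¹ ∈ Cfsg.pPrimeCore 2 Y := h1
  rw [hO, Subgroup.mem_bot] at h2
  calc g * x = (x * g * x⁻¹ * g⁻¹)⁻¹ * (x * g) := by group
    _ = x * g := by rw [h2, inv_one, one_mul]

/-- The centralizer of the simple normal subgroup. -/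
theorem centralizer_eq (hO : Cfsg.pPrimeCore 2 Y = ⊥) (P : Sylow 2 Y) (W D L : Subgroup Y)
    (hLn : L.Normal) (hLs : IsSimpleGroup L) (hLc : ¬ IsMulCommutative L)
    (hLP : L ⊓ (P : Subgroup Y) = W) (hD : D ≤ Subgroup.center Y) (hP : (P : Subgroup Y) = W ⊔ D) :
    Subgroup.centralizer (L : Set Y) = D := by
  have : Fact (Nat.Prime 2) := ⟨Nat.prime_two⟩
  have hCn : (Subgroup.centralizer (L : Set Y)).Normal := by
    have := hLn
    infer_instance
  have hDC : D ≤ Subgroup.centralizer (L : Set Y) := fun x hx => by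
    rw [Subgroup.mem_centralizer_iff]
    intro g _
    exact Subgroup.mem_center_iff.1 (hD hx) g
  have hint : ∀ x ∈ L, x ∈ Subgroup.centralizer (L : Set Y) → x = 1 := by
    intro x hx hxC
    have h1 : (⟨x, hx⟩ : L) ∈ Subgroup.center L := by
      rw [Subgroup.mem_center_iff]
      intro g
      exact Subtype.ext (Subgroup.mem_centralizer_iff.1 hxC g g.2)
    rcases hLs.eq_bot_or_eq_top_of_normal (Subgroup.center L) inferInstance with h2 | h2
    · rw [h2, Subgroup.mem_bot] at h1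
      exact congrArg Subtype.val h1
    · exfalso
      apply hLc
      refine ⟨⟨fun a b => ?_⟩⟩
      have h3 : b ∈ Subgroup.center L := by rw [h2]; exact Subgroup.mem_top _
      exact Subgroup.mem_center_iff.1 h3 a
  have hPC : (P : Subgroup Y) ⊓ Subgroup.centralizer (L : Set Y) = D := by
    refine le_antisymm ?_ (le_inf (hP ▸ le_sup_right) hDC)
    rintro p ⟨hp, hpC⟩
    have hDn : D.Normal := TwoFusion.IsolatedCenter.normal_of_le_center hD
    have hp' : p ∈ W ⊔ D := hP ▸ hp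
    rw [Subgroup.mem_sup_of_normal_right] at hp'
    obtain ⟨w, hw, e, he, rfl⟩ := hp'
    have hwC : w ∈ Subgroup.centralizer (L : Set Y) := by
      have h5 : w * e ∈ Subgroup.centralizer (L : Set Y) := hpC
      have := mul_mem h5 (inv_mem (hDC he))
      rwa [mul_inv_cancel_right] at this
    rw [hint w (by rw [← hLP] at hw; exact hw.1) hwC, one_mul]
    exact he
  set C := Subgroup.centralizer (L : Set Y) with hC
  have htop : D.subgroupOf C = ⊤ := by
    apply TwoFusion.IsolatedCenter.eq_top_of_central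
    · intro x hx
      rw [Subgroup.mem_center_iff]
      intro g
      exact Subtype.ext (Subgroup.mem_center_iff.1 (hD (Subgroup.mem_subgroupOf.1 hx)) g)
    · have h1 : D ≤ (P : Subgroup Y) := hP ▸ le_sup_right
      exact (P.isPGroup'.to_le h1).comap_of_injective C.subtype C.subtype_injective
    · have h1 := Lib.SylowNormalInf.not_dvd_relIndex P C
      rw [Subgroup.relIndex, ← Subgroup.inf_subgroupOf_right, hPC] at h1
      rwa [← Nat.not_even_iff_odd, even_iff_two_dvd]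
    · have h1 := Lib.Cores.map_subtype_pPrimeCore (G := Y) 2 hCn
      rw [hO, inf_bot_eq, Subgroup.map_eq_bot_iff_of_injective _ (Subgroup.subtype_injective _)] at h1
      exact h1
  refine le_antisymm ?_ hDC
  rwa [Subgroup.subgroupOf_eq_top] at htop

/-- Elements of odd order normal subgroups lie in the residual. -/
theorem le_residual_of_odd (N : Subgroup Y) (hN : (Nat.card N).Coprime 2) : N ≤ Cfsg.pResidual 2 Y := by
  intro x hx
  apply Transfer.Residual.mem_pResidual_of_coprime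
  have h1 : orderOf x ∣ Nat.card N := by
    rw [← Subgroup.orderOf_mk x hx]; exact orderOf_dvd_natCard _
  exact Nat.Coprime.coprime_dvd_left h1 hN

theorem inf_eq_bot_of_odd (P : Sylow 2 Y) (N : Subgroup Y) (hN : (Nat.card N).Coprime 2) :
    (P : Subgroup Y) ⊓ N = ⊥ := by
  obtain ⟨k, hk⟩ := P.isPGroup'.exists_card_eq
  refine (Subgroup.disjoint_of_coprime_natCard ?_).eq_bot
  rw [hk]
  exact (Nat.Coprime.pow_right k hN).symm

/-- The data pass to a quotient by a normal subgroup of odd order. -/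
theorem Dat.quotient {P : Sylow 2 Y} {W : Subgroup Y} (h : Dat P W) (N : Subgroup Y) [N.Normal]
    (hN : (Nat.card N).Coprime 2) :
    Dat (P.mapSurjective (QuotientGroup.mk'_surjective N)) (W.map (QuotientGroup.mk' N)) := by
  have : Fact (Nat.Prime 2) := ⟨Nat.prime_two⟩
  refine ⟨?_, ?_, ?_⟩
  · rw [Sylow.coe_mapSurjective]
    exact Subgroup.map_mono h.le
  · let e : W →* W.map (QuotientGroup.mk' N) := (QuotientGroup.mk' N).subgroupMap W
    have he : Function.Bijective e := by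
      constructor
      · rw [injective_iff_map_eq_one]
        rintro ⟨x, hx⟩ h1
        have h2 : (QuotientGroup.mk' N) x = 1 := congrArg Subtype.val h1
        have h3 : x ∈ N := (QuotientGroup.eq_one_iff x).1 h2
        have h4 : x ∈ (P : Subgroup Y) ⊓ N := ⟨h.le hx, h3⟩
        rw [inf_eq_bot_of_odd P N hN, Subgroup.mem_bot] at h4
        exact Subtype.ext h4
      · exact (QuotientGroup.mk' N).subgroupMap_surjective W
    rcases h.typ with h1 | h1
    · exact Or.inl (TwoFusion.SylowTypeTransfer.isQuasiDihedral_of_mulEquiv (MulEquiv.ofBijective e he) h1)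
    · exact Or.inr (TwoFusion.SylowTypeTransfer.isWreathed_of_mulEquiv (MulEquiv.ofBijective e he) h1)
  · rw [← Transfer.Residual.map_pResidual_of_surjective (p := 2) (QuotientGroup.mk' N) (QuotientGroup.mk'_surjective N),
      Sylow.coe_mapSurjective]
    apply le_antisymm
    · intro q hq
      obtain ⟨⟨k, hk, hkq⟩, ⟨p, hp, hpq⟩⟩ := Subgroup.mem_inf.1 hq
      refine ⟨p, ?_, hpq⟩
      have h1 : (QuotientGroup.mk' N) (k⁻¹ * p) = 1 := by
        rw [map_mul, map_inv, hkq, hpq, inv_mul_cancel]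
      have h2 : k⁻¹ * p ∈ N := (QuotientGroup.eq_one_iff _).1 h1
      have h3 : p ∈ Cfsg.pResidual 2 Y := by
        have := mul_mem (show k ∈ Cfsg.pResidual 2 Y from hk) (le_residual_of_odd N hN h2)
        rwa [mul_inv_cancel_left] at this
      have h4 : p ∈ Cfsg.pResidual 2 Y ⊓ (P : Subgroup Y) := ⟨h3, hp⟩
      rw [h.inf] at h4
      exact h4
    · exact le_inf (Subgroup.map_mono h.le_residual) (Subgroup.map_mono h.le)

/-- Isolated subgroups pass to a quotient by a normal subgroup of odd order. -/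
theorem isolated_quotient (P : Sylow 2 Y) (D : Subgroup Y) (hD : D ≤ (P : Subgroup Y))
    (hiso : ∀ x ∈ D, ∀ g : Y, g * x * g⁻¹ ∈ (P : Subgroup Y) → g * x * g⁻¹ = x)
    (N : Subgroup Y) [N.Normal] :
    ∀ x ∈ D.map (QuotientGroup.mk' N), ∀ g : Y ⧸ N,
      g * x * g⁻¹ ∈ (P : Subgroup Y).map (QuotientGroup.mk' N) → g * x * g⁻¹ = x := by
  have : Fact (Nat.Prime 2) := ⟨Nat.prime_two⟩
  rintro _ ⟨x, hx, rfl⟩ g hg
  obtain ⟨g, rfl⟩ := QuotientGroup.mk'_surjective N g
  obtain ⟨p, hp, hpq⟩ := hg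
  have h1 : g * x * g⁻¹ ∈ (P : Subgroup Y) ⊔ N := by
    have h2 : (QuotientGroup.mk' N) (p⁻¹ * (g * x * g⁻¹)) = 1 := by
      rw [map_mul, map_inv, hpq, map_mul, map_mul, map_inv, inv_mul_cancel]
    have h3 : p⁻¹ * (g * x * g⁻¹) ∈ N := (QuotientGroup.eq_one_iff _).1 h2
    have := mul_mem (Subgroup.mem_sup_left (T := N) hp) (Subgroup.mem_sup_right (S := (P : Subgroup Y)) h3)
    rwa [mul_inv_cancel_left] at this
  have h0 : ∃ k : ℕ, (g * x * g⁻¹) ^ 2 ^ k = 1 := by
    obtain ⟨k, hk⟩ := P.isPGroup' ⟨x, hD hx⟩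
    have hk' : x ^ 2 ^ k = 1 := congrArg Subtype.val hk
    exact ⟨k, by rw [conj_pow, hk', mul_one, mul_inv_cancel]⟩
  obtain ⟨n, hn, hn2⟩ := TwoFusion.IsolatedCenter.exists_conj_mem P N (g * x * g⁻¹) h0 h1
  have h2 : n * (g * x * g⁻¹) * n⁻¹ = (n * g) * x * (n * g)⁻¹ := by group
  rw [h2] at hn2
  have h3 := hiso x hx (n * g) hn2
  rw [← h2] at h3
  have h4 : (QuotientGroup.mk' N) n = 1 := (QuotientGroup.eq_one_iff n).2 hn
  have h5 := congrArg (QuotientGroup.mk' N) h3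
  rw [map_mul, map_mul, map_inv, h4, one_mul, inv_one, mul_one, map_mul, map_mul, map_inv] at h5
  exact h5

/-- The structure of `Y / O(Y)`. -/
structure Out (P : Sylow 2 Y) (W D : Subgroup Y) (L : Subgroup (Y ⧸ Cfsg.pPrimeCore 2 Y)) : Prop where
  normal : L.Normal
  simple : IsSimpleGroup L
  noncomm : ¬ IsMulCommutative L
  le_residual : L ≤ Cfsg.pResidual 2 (Y ⧸ Cfsg.pPrimeCore 2 Y)
  odd : Odd (L.relIndex (Cfsg.pResidual 2 (Y ⧸ Cfsg.pPrimeCore 2 Y)))
  W_le : W.map (QuotientGroup.mk' (Cfsg.pPrimeCore 2 Y)) ≤ L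
  inf : L ⊓ (P : Subgroup Y).map (QuotientGroup.mk' (Cfsg.pPrimeCore 2 Y)) =
      W.map (QuotientGroup.mk' (Cfsg.pPrimeCore 2 Y))
  center : D.map (QuotientGroup.mk' (Cfsg.pPrimeCore 2 Y)) ≤ Subgroup.center (Y ⧸ Cfsg.pPrimeCore 2 Y)
  cent : Subgroup.centralizer (L : Set (Y ⧸ Cfsg.pPrimeCore 2 Y)) = D.map (QuotientGroup.mk' (Cfsg.pPrimeCore 2 Y))

theorem exists_out (P : Sylow 2 Y) (W D : Subgroup Y) (h : Dat P W) (hP : (P : Subgroup Y) = W ⊔ D)
    (hiso : ∀ x ∈ D, ∀ g : Y, g * x * g⁻¹ ∈ (P : Subgroup Y) → g * x * g⁻¹ = x) :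
    ∃ L, Out P W D L := by
  have hcop : (Nat.card (Cfsg.pPrimeCore 2 Y)).Coprime 2 := Lib.Cores.pPrimeCore_coprime 2
  have hO : Cfsg.pPrimeCore 2 (Y ⧸ Cfsg.pPrimeCore 2 Y) = ⊥ := Lib.Cores.pPrimeCore_quotient_pPrimeCore 2
  have hD : D ≤ (P : Subgroup Y) := hP ▸ le_sup_right
  obtain ⟨L, h1, h2, h3, h4, h5, h6, h7⟩ := (h.quotient (Cfsg.pPrimeCore 2 Y) hcop).exists_simple hO
  rw [Sylow.coe_mapSurjective] at h7
  have hDc : D.map (QuotientGroup.mk' (Cfsg.pPrimeCore 2 Y)) ≤ Subgroup.center (Y ⧸ Cfsg.pPrimeCore 2 Y) := by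
    refine le_center_of_isolated hO (P.mapSurjective (QuotientGroup.mk'_surjective _)) _ ?_ ?_
    · rw [Sylow.coe_mapSurjective]; exact Subgroup.map_mono hD
    · rw [Sylow.coe_mapSurjective]
      exact isolated_quotient P D hD hiso _
  refine ⟨L, h1, h2, h3, h4, h5, h6, h7, hDc, ?_⟩
  refine centralizer_eq hO (P.mapSurjective (QuotientGroup.mk'_surjective _))
    (W.map (QuotientGroup.mk' (Cfsg.pPrimeCore 2 Y))) _ L h1 h2 h3 ?_ hDc ?_
  · rw [Sylow.coe_mapSurjective]; exact h7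
  · rw [Sylow.coe_mapSurjective, hP, Subgroup.map_sup]

end Cfsg.Agent.LFourB.CentXTail
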