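import Mathlib
import Cfsg.Agent.Lib.GoldschmidtFusion
import Cfsg.Agent.Lib.EssentialFusion
import Cfsg.Agent.Transfer.Residual

/-!
# Fusion invariance from elements of order prime to `p`

A function on a Sylow `p`-subgroup `P`, invariant under `P` and under the `p'`-elements of the normalizers of the
centric subgroups of `P`, is invariant under fusion.
-/

set_option autoImplicit false

namespace Cfsg.Agent.LFourB.OddInv

open Subgroup Cfsg.Agent.Lib.GoldschmidtFusion Cfsg.Agent.Lib.EssentialFusion

theorem invariant {G : Type*} [Group G] [Finite G] {p : ℕ} [hp : Fact p.Prime] (P : Sylow p G) {α : Sort*}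
    (φ : G → α) (hP : ∀ s ∈ (P : Subgroup G), ∀ x ∈ (P : Subgroup G), φ (s * x * s⁻¹) = φ x)
    (hodd : ∀ X : Subgroup G, X ≤ (P : Subgroup G) → centralizer (X : Set G) ⊓ (P : Subgroup G) ≤ X →
      ∀ g ∈ normalizer (X : Set G), Nat.Coprime (orderOf g) p → g ∉ centralizer (X : Set G) →
      ∀ x ∈ X, φ (g * x * g⁻¹) = φ x)
    {x g : G} (hx : x ∈ (P : Subgroup G)) (hg : g * x * g⁻¹ ∈ (P : Subgroup G)) :
    φ (g * x * g⁻¹) = φ x := by
  let F : Subgroup G → Prop := fun X =>
    ¬ p ∣ ((P : Subgroup G) ⊓ normalizer (X : Set G)).relIndex (normalizer (X : Set G)) ∧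
      centralizer (X : Set G) ⊓ (P : Subgroup G) ≤ X
  have hFP : F (P : Subgroup G) := by
    refine ⟨?_, inf_le_right⟩
    rw [inf_eq_left.2 le_normalizer]
    intro hd
    exact P.not_dvd_index (hd.trans (relIndex_dvd_index_of_le le_normalizer))
  have hgen := gen_of_conj P F hFP (fun X _ h1 h2 _ => ⟨h1, h2⟩) (A := zpowers x)
    ((zpowers_le).2 hx) (g := g) (zpowers_map_conj_le hg)
  refine hgen.invariant φ ?_ x (mem_zpowers x)
  intro X hX hFX
  -- the elements of the normalizer preserving `φ`
  let M : Subgroup (normalizer (X : Set G)) :=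
    { carrier := {n | ∀ y ∈ X, φ ((n : G) * y * (n : G)⁻¹) = φ y}
      one_mem' := by
        intro y _
        simp
      mul_mem' := by
        intro a b ha hb y hy
        have hy' : (b : G) * y * (b : G)⁻¹ ∈ X := (mem_normalizer_iff.1 b.2 y).1 hy
        have e : ((a * b : normalizer (X : Set G)) : G) * y * ((a * b : normalizer (X : Set G)) : G)⁻¹ =
            (a : G) * ((b : G) * y * (b : G)⁻¹) * (a : G)⁻¹ := by
          rw [Subgroup.coe_mul]; group
        rw [e, ha _ hy', hb y hy]
      inv_mem' := by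
        intro a ha y hy
        have hy' : (a : G)⁻¹ * y * (a : G) ∈ X := by
          have := (mem_normalizer_iff.1 (inv_mem a.2) y).1 hy
          rwa [inv_inv] at this
        have h1 := ha _ hy'
        have e : (a : G) * ((a : G)⁻¹ * y * (a : G)) * (a : G)⁻¹ = y := by group
        rw [e] at h1
        rw [h1]
        simp }
  have hM1 : Cfsg.pResidual p (normalizer (X : Set G)) ≤ M := by
    rw [Cfsg.pResidual, closure_le]
    intro n hn y hy
    by_cases hc : (n : G) ∈ centralizer (X : Set G)
    · rw [conj_eq_of_mem_centralizer hc hy]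
    · refine hodd X hX hFX.2 n n.2 ?_ hc y hy
      have : Nat.Coprime (orderOf n) p := hn
      rwa [← Subgroup.orderOf_coe] at this
  have hM2 : ¬ p ∣ M.index := by
    intro hd
    apply hFX.1
    have h1 : ((P : Subgroup G) ⊓ normalizer (X : Set G)).subgroupOf (normalizer (X : Set G)) ≤ M := by
      intro n hn y hy
      exact hP n (mem_subgroupOf.1 hn).1 y (hX hy)
    exact hd.trans (index_dvd_of_le h1)
  have hM3 := Transfer.Residual.pResidual_sup_of_not_dvd_index (p := p) hM2
  have hM4 : M = ⊤ := by
    rw [eq_top_iff, ← hM3]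
    exact sup_le hM1 le_rfl
  intro n hn y hy
  have : (⟨n, hn⟩ : normalizer (X : Set G)) ∈ M := by rw [hM4]; exact mem_top _
  exact this y hy

/-- The same with the essential subgroups and `P` only. -/
theorem invariant_ess {G : Type*} [Group G] [Finite G] {p : ℕ} [hp : Fact p.Prime] (P : Sylow p G) {α : Sort*}
    (φ : G → α) (hP : ∀ s ∈ (P : Subgroup G), ∀ x ∈ (P : Subgroup G), φ (s * x * s⁻¹) = φ x)
    (hodd : ∀ X : Subgroup G, X = (P : Subgroup G) ∨ Ess P X →
      ∀ g ∈ normalizer (X : Set G), Nat.Coprime (orderOf g) p → g ∉ centralizer (X : Set G) →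
      ∀ x ∈ X, φ (g * x * g⁻¹) = φ x)
    {x g : G} (hx : x ∈ (P : Subgroup G)) (hg : g * x * g⁻¹ ∈ (P : Subgroup G)) :
    φ (g * x * g⁻¹) = φ x := by
  let F : Subgroup G → Prop := fun X => X = (P : Subgroup G) ∨ Ess P X
  have hgen := gen_of_conj_ess P F (Or.inl rfl) (fun X h => Or.inr h) (A := zpowers x)
    ((zpowers_le).2 hx) (g := g) (zpowers_map_conj_le hg)
  refine hgen.invariant φ ?_ x (mem_zpowers x)
  intro X hX hFX
  have hfull : ¬ p ∣ ((P : Subgroup G) ⊓ normalizer (X : Set G)).relIndex (normalizer (X : Set G)) := by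
    rcases hFX with rfl | h
    · rw [inf_eq_left.2 le_normalizer]
      intro hd
      exact P.not_dvd_index (hd.trans (relIndex_dvd_index_of_le le_normalizer))
    · exact h.full
  -- the elements of the normalizer preserving `φ`
  let M : Subgroup (normalizer (X : Set G)) :=
    { carrier := {n | ∀ y ∈ X, φ ((n : G) * y * (n : G)⁻¹) = φ y}
      one_mem' := by
        intro y _
        simp
      mul_mem' := by
        intro a b ha hb y hy
        have hy' : (b : G) * y * (b : G)⁻¹ ∈ X := (mem_normalizer_iff.1 b.2 y).1 hy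
        have e : ((a * b : normalizer (X : Set G)) : G) * y * ((a * b : normalizer (X : Set G)) : G)⁻¹ =
            (a : G) * ((b : G) * y * (b : G)⁻¹) * (a : G)⁻¹ := by
          rw [Subgroup.coe_mul]; group
        rw [e, ha _ hy', hb y hy]
      inv_mem' := by
        intro a ha y hy
        have hy' : (a : G)⁻¹ * y * (a : G) ∈ X := by
          have := (mem_normalizer_iff.1 (inv_mem a.2) y).1 hy
          rwa [inv_inv] at this
        have h1 := ha _ hy'
        have e : (a : G) * ((a : G)⁻¹ * y * (a : G)) * (a : G)⁻¹ = y := by group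
        rw [e] at h1
        rw [h1]
        simp }
  have hM1 : Cfsg.pResidual p (normalizer (X : Set G)) ≤ M := by
    rw [Cfsg.pResidual, closure_le]
    intro n hn y hy
    by_cases hc : (n : G) ∈ centralizer (X : Set G)
    · rw [conj_eq_of_mem_centralizer hc hy]
    · refine hodd X hFX n n.2 ?_ hc y hy
      have : Nat.Coprime (orderOf n) p := hn
      rwa [← Subgroup.orderOf_coe] at this
  have hM2 : ¬ p ∣ M.index := by
    intro hd
    apply hfull
    have h1 : ((P : Subgroup G) ⊓ normalizer (X : Set G)).subgroupOf (normalizer (X : Set G)) ≤ M := by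
      intro n hn y hy
      exact hP n (mem_subgroupOf.1 hn).1 y (hX hy)
    exact hd.trans (index_dvd_of_le h1)
  have hM3 := Transfer.Residual.pResidual_sup_of_not_dvd_index (p := p) hM2
  have hM4 : M = ⊤ := by
    rw [eq_top_iff, ← hM3]
    exact sup_le hM1 le_rfl
  intro n hn y hy
  have : (⟨n, hn⟩ : normalizer (X : Set G)) ∈ M := by rw [hM4]; exact mem_top _
  exact this y hy

end Cfsg.Agent.LFourB.OddInv
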