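import Mathlib
import Cfsg.Agent.LFourB.CentXDecomp
import Cfsg.Agent.LFourB.CentXTail
import Cfsg.Agent.LFourB.CentXEss
import Cfsg.Agent.LFourB.OddInv

/-!
# The centraliser of `x4`

From the essential subgroups of `P = T⟨u⟩` in `C = C(x4)`: the projection `P → D` is invariant under fusion, `D` is
isolated, `O^2(C) ∩ P = W` is wreathed; the structure of `C / O(C)`.
-/

set_option autoImplicit false

namespace Cfsg.Agent.LFourB

open Subgroup Cfsg.Agent.Lib.EssentialFusion CentXEss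

universe v

/-- The data in the centraliser of `x4`, with the essential subgroups. -/
structure XDat {C : Type v} [Group C] [Finite C] (P : Sylow 2 C) (m : ℕ) (f : R m → R m → R m → C) (u ρ : C) : Prop
    extends XAct (P : Subgroup C) m f u ρ where
  ρ_odd : Nat.Coprime (orderOf ρ) 2
  norm_P : normalizer ((P : Subgroup C) : Set C) ≤ normalizer (Tor f : Set C)
  val : ∃ (X : Subgroup C) (g y : C), Ess P X ∧ ¬ Tor f ≤ X ∧ OddA f u X g y 0

namespace Half

open BOne (goodx1 goodx2 goodx3 goodx4)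

variable {C : Type v} [Group C] {P : Subgroup C} {m : ℕ} {f : R m → R m → R m → C} {u : C}

theorem X_injective (h : Half P m f u) : Function.Injective (X f) := by
  have hN : (N m : R m) ≠ 0 := N_ne_zero
  have e12 : x1 f ≠ x2 f := by
    rw [x1, x2, Ne, h.f_eq_iff goodx1 goodx2]; rintro ⟨-, -, h3⟩; exact hN h3.symm
  have e13 : x1 f ≠ x3 f := by
    rw [x1, x3, Ne, h.f_eq_iff goodx1 goodx3]; rintro ⟨h3, -, -⟩; exact hN h3
  have e14 : x1 f ≠ x4 f := by
    rw [x1, x4, Ne, h.f_eq_iff goodx1 goodx4]; rintro ⟨h3, -, -⟩; exact hN h3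
  have e23 : x2 f ≠ x3 f := by
    rw [x2, x3, Ne, h.f_eq_iff goodx2 goodx3]; rintro ⟨h3, -, -⟩; exact hN h3
  have e24 : x2 f ≠ x4 f := by
    rw [x2, x4, Ne, h.f_eq_iff goodx2 goodx4]; rintro ⟨h3, -, -⟩; exact hN h3
  have e34 : x3 f ≠ x4 f := by
    rw [x3, x4, Ne, h.f_eq_iff goodx3 goodx4]; rintro ⟨-, -, h3⟩; exact hN h3.symm
  intro i j hij
  fin_cases i <;> fin_cases j <;> simp [X] at hij ⊢
  · exact e12 hij
  · exact e13 hij
  · exact e14 hij
  · exact e12 hij.symm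
  · exact e23 hij
  · exact e24 hij
  · exact e13 hij.symm
  · exact e23 hij.symm
  · exact e34 hij
  · exact e14 hij.symm
  · exact e24 hij.symm
  · exact e34 hij.symm

theorem X_mem (h : Half P m f u) (i : Fin 4) : X f i ∈ Tor f := by
  fin_cases i
  · exact h.f_mem_Tor goodx1
  · exact h.f_mem_Tor goodx2
  · exact h.f_mem_Tor goodx3
  · exact h.f_mem_Tor goodx4

end Half

open Classical in
/-- The projection `P → D` (composed with cubing). -/
noncomputable def phi {C : Type v} [Group C] {m : ℕ} (f : R m → R m → R m → C) (u ρ s : C) : C :=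
  if s ∈ Tor f then nu ρ s else nu ρ (s * u) * x4 f

namespace XAct

variable {C : Type v} [Group C] {P : Subgroup C} {m : ℕ} {f : R m → R m → R m → C} {u ρ : C}

theorem phi_T (_h : XAct P m f u ρ) {t : C} (ht : t ∈ Tor f) : phi f u ρ t = nu ρ t := by
  rw [phi, if_pos ht]

theorem phi_Tu (h : XAct P m f u ρ) {t : C} (ht : t ∈ Tor f) : phi f u ρ (t * u) = nu ρ t * x4 f := by
  rw [phi, if_neg (h.tu_notMem ht), mul_assoc, h.u_u, mul_one]

theorem x4_comm (h : XAct P m f u ρ) (g : C) : x4 f * g = g * x4 f := (h.x4_cent g).symm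

theorem tu_mul (_h : XAct P m f u ρ) (t s : C) : t * u * s = t * cj u s * u := by
  rw [cj]; group

theorem phi_mul (h : XAct P m f u ρ) {a b : C} (ha : a ∈ P) (hb : b ∈ P) :
    phi f u ρ (a * b) = phi f u ρ a * phi f u ρ b := by
  rcases h.mem_or ha with ha | ⟨s, hs, rfl⟩ <;> rcases h.mem_or hb with hb | ⟨t, ht, rfl⟩
  · rw [h.phi_T ha, h.phi_T hb, h.phi_T (mul_mem ha hb), h.nu_mul ha hb]
  · rw [← mul_assoc, h.phi_Tu (mul_mem ha ht), h.phi_T ha, h.phi_Tu ht, h.nu_mul ha ht, mul_assoc]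
  · rw [h.tu_mul, h.phi_Tu (mul_mem hs (h.u_mem' hb)), h.phi_Tu hs, h.phi_T hb, h.nu_mul hs (h.u_mem' hb),
      h.nu_u hb, mul_assoc, mul_assoc, h.x4_comm]
  · have e : s * u * (t * u) = s * cj u t := by
      rw [← mul_assoc, h.tu_mul, mul_assoc _ u u, h.u_u, mul_one]
    rw [e, h.phi_T (mul_mem hs (h.u_mem' ht)), h.phi_Tu hs, h.phi_Tu ht, h.nu_mul hs (h.u_mem' ht), h.nu_u ht,
      mul_assoc (nu ρ s), ← mul_assoc (x4 f), h.x4_comm (nu ρ t), mul_assoc (nu ρ t), h.x4_sq, mul_one]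

theorem phi_mem (h : XAct P m f u ρ) {a : C} (ha : a ∈ P) : phi f u ρ a ∈ Dd f ρ := by
  rcases h.mem_or ha with ha | ⟨s, hs, rfl⟩
  · rw [h.phi_T ha]; exact h.nu_mem_Dd ha
  · rw [h.phi_Tu hs]; exact mul_mem (h.nu_mem_Dd hs) h.x4_mem_Dd

theorem phi_conj (h : XAct P m f u ρ) {s x : C} (hs : s ∈ P) (hx : x ∈ P) :
    phi f u ρ (s * x * s⁻¹) = phi f u ρ x := by
  have h1 : phi f u ρ (s * x * s⁻¹) * phi f u ρ s = phi f u ρ x * phi f u ρ s := by
    rw [← h.phi_mul (mul_mem (mul_mem hs hx) (inv_mem hs)) hs, inv_mul_cancel_right, h.phi_mul hs hx]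
    exact h.comm_T (h.Dd_le (h.phi_mem hs)) (h.Dd_le (h.phi_mem hx))
  exact mul_right_cancel h1

theorem nu_x2x4 (h : XAct P m f u ρ) : nu ρ (x2 f * x4 f) = 1 := by
  have h2 : x2 f ∈ Tor f := h.f_mem_Tor BOne.goodx2
  have h1 : x1 f ∈ Tor f := h.f_mem_Tor BOne.goodx1
  rw [h.nu_mul h2 (h.Dd_le h.x4_mem_Dd), h.nu_x4]
  have e : nu ρ (x2 f) = x4 f := by
    have a2 : cj ρ (x2 f) = x3 f := h.ρ_x2
    have a3 : cj ρ (x3 f) = x1 f := h.ρ_x3
    rw [nu, a2, a3, h.x2_mul_x3, z3, x1, h.f_mul _ _ _ _ _ _ BOne.good3 BOne.goodx1, N_add_N, add_zero]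
    rfl
  rw [e, h.x4_sq]

theorem h1_eq (_h : XAct P m f u ρ) : h1 f = c0 f (M m) := by
  rw [h1, c0, two_mul_M]

theorem h1_mem_Tone (h : XAct P m f u ρ) : h1 f ∈ h.Tone := h.h1_eq ▸ h.c0_mem (M m)

theorem ux1_eq (h : XAct P m f u ρ) : u * x1 f = x2 f * u := by
  have h1 : cj u (x1 f) = x2 f := h.cj_u_X 0
  rw [← h1, cj, inv_mul_cancel_right]

theorem Ru_le (h : XAct P m f u ρ) : Ru f u ≤ P := by
  refine sup_le (h.Bu_le.trans h.Tor_le) ?_
  rw [closure_le]
  rintro _ (rfl | rfl)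
  · exact h.Tor_le h.h1_mem_Tone.1
  · exact h.u_mem

theorem closure_le_ker (h : XAct P m f u ρ) {q : C} (hq : q ∈ closure {h1 f, u * x1 f}) :
    q ∈ P ∧ phi f u ρ q = 1 := by
  have hone : phi f u ρ 1 = 1 := by rw [h.phi_T (one_mem _), h.nu_one]
  induction hq using closure_induction with
  | mem x hx =>
    rcases hx with rfl | rfl
    · exact ⟨h.Tor_le h.h1_mem_Tone.1, by rw [h.phi_T h.h1_mem_Tone.1]; exact h.h1_mem_Tone.2⟩
    · have h2 : x2 f ∈ Tor f := h.f_mem_Tor BOne.goodx2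
      rw [h.ux1_eq]
      refine ⟨mul_mem (h.Tor_le h2) h.u_mem, ?_⟩
      have := h.nu_x2x4
      rw [h.nu_mul h2 (h.Dd_le h.x4_mem_Dd), h.nu_x4] at this
      rw [h.phi_Tu h2, this]
  | one => exact ⟨one_mem _, hone⟩
  | mul a b _ _ ha hb => exact ⟨mul_mem ha.1 hb.1, by rw [h.phi_mul ha.1 hb.1, ha.2, hb.2, one_mul]⟩
  | inv a _ ha =>
    refine ⟨inv_mem ha.1, ?_⟩
    have h1 := h.phi_mul ha.1 (inv_mem ha.1)
    rw [mul_inv_cancel, hone, ha.2, one_mul] at h1
    exact h1.symm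

theorem mem_Wr_of_phi (h : XAct P m f u ρ) {s : C} (hs : s ∈ P) (h1 : phi f u ρ s = 1) : s ∈ h.Wr := by
  rcases h.mem_or hs with hs | ⟨t, ht, rfl⟩
  · rw [h.phi_T hs] at h1
    exact h.Tone_le_Wr ⟨hs, h1⟩
  · rw [h.phi_Tu ht] at h1
    have h2 : t * x4 f ∈ h.Tone := ⟨mul_mem ht (h.Dd_le h.x4_mem_Dd), by
      rw [h.nu_mul ht (h.Dd_le h.x4_mem_Dd), h.nu_x4, h1]⟩
    have e : t * u = t * x4 f * (x4 f * u) := by
      calc t * u = t * (x4 f * x4 f) * u := by rw [h.x4_sq, mul_one]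
        _ = _ := by group
    rw [e]
    exact mul_mem (h.Tone_le_Wr h2) h.x4u_mem

end XAct

namespace XDat

variable {C : Type v} [Group C] [Finite C] {P : Sylow 2 C} {m : ℕ} {f : R m → R m → R m → C} {u ρ : C}

omit [Finite C] in
theorem odd_orderOf {g : C} (ho : Nat.Coprime (orderOf g) 2) : ¬ 2 ∣ orderOf g := CentXOne.pow_orderOf_odd ho

/-- Odd elements normalising `P` centralise `P`. -/
theorem odd_norm_P (h : XDat P m f u ρ) {g : C} (hg : g ∈ normalizer ((P : Subgroup C) : Set C))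
    (ho : Nat.Coprime (orderOf g) 2) : g ∈ centralizer ((P : Subgroup C) : Set C) := by
  have hgT := h.norm_P hg
  obtain ⟨σ, hσ⟩ := h.perm g hgT
  have hinj := h.X_injective
  have hu1 : g * u * g⁻¹ ∈ (P : Subgroup C) := (mem_normalizer_iff.1 hg u).1 h.u_mem
  obtain ⟨s, hs, hsu⟩ : ∃ s ∈ Tor f, g * u * g⁻¹ = s * u := by
    rcases h.mem_or hu1 with k | k
    · exfalso
      exact h.u_notMem ((mem_normalizer_iff.1 hgT u).2 k)
    · exact k
  have hX : ∀ i, X f i ∈ Tor f := h.X_mem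
  -- the permutation
  have h3 : σ 3 = 3 := by
    apply hinj
    rw [← hσ 3]
    have e : X f 3 = x4 f := rfl
    rw [e, h.x4_cent, mul_inv_cancel_right]
  have hcomm : ∀ i, σ (Equiv.swap (0 : Fin 4) 1 i) = Equiv.swap (0 : Fin 4) 1 (σ i) := by
    intro i
    apply hinj
    rw [← hσ, ← h.cj_u_X i, ← h.cj_u_X (σ i), ← hσ i]
    have e1 : g * cj u (X f i) * g⁻¹ = cj (g * u * g⁻¹) (g * X f i * g⁻¹) := by simp only [cj]; group
    rw [e1, hsu, ← cj_cj]
    have hm : cj u (g * X f i * g⁻¹) ∈ Tor f := h.u_mem' ((mem_normalizer_iff.1 hgT _).1 (hX i))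
    exact cj_eq_iff.2 (h.Tor_comm hs hm)
  have hσ1 : σ = 1 ∨ σ = Equiv.swap 0 1 := by
    revert h3 hcomm
    clear hσ
    revert σ
    decide
  have hpow : ∀ n : ℕ, ∀ i, g ^ n * X f i * (g ^ n)⁻¹ = X f ((σ ^ n) i) := by
    intro n
    induction n with
    | zero => intro i; simp
    | succ n ih =>
      intro i
      have e1 : g ^ (n + 1) * X f i * (g ^ (n + 1))⁻¹ = g ^ n * (g * X f i * g⁻¹) * (g ^ n)⁻¹ := by
        rw [pow_succ]; group
      rw [e1, hσ, ih, pow_succ, Equiv.Perm.mul_apply]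
  have hσ2 : σ = 1 := by
    rcases hσ1 with k | k
    · exact k
    · exfalso
      have h1 : σ ^ orderOf g = 1 := by
        ext i
        have h2 := hpow (orderOf g) i
        rw [pow_orderOf_eq_one, one_mul, inv_one, mul_one] at h2
        rw [← hinj h2]; rfl
      have h2 : orderOf σ ∣ orderOf g := orderOf_dvd_of_pow_eq_one h1
      have h3 : orderOf σ = 2 := by
        rw [k]
        exact orderOf_eq_prime (by decide) (by decide)
      rw [h3] at h2
      exact odd_orderOf ho h2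
  have hcT : ∀ t ∈ Tor f, g * t = t * g := by
    refine h.faithful g hgT fun i => ?_
    have := hσ i
    rw [hσ2, Equiv.Perm.one_apply] at this
    exact mul_inv_eq_iff_eq_mul.1 this
  have hu : g * u = u * g := by
    have e1 : g * u * g⁻¹ = u * (u * s * u) := by
      rw [hsu]
      calc s * u = (u * u) * s * u := by rw [h.u_u, one_mul]
        _ = _ := by group
    have hm : u * s * u ∈ Tor f := h.conj_u_mem hs
    have e2 : (u * s * u) ^ 2 ^ (m + 3) = 1 := by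
      obtain ⟨p, q, r, hgd, k3⟩ := h.mem_Tor.1 hm
      have k : ((2 ^ (m + 3) : ℕ) : R m) = 0 := ZMod.natCast_self _
      rw [k3, h.f_pow hgd, k, zero_mul, zero_mul, zero_mul, h.f_zero]
    have e3 := CentXOne.comm_of_odd (pow_orderOf_eq_one g) (odd_orderOf ho) e1 (hcT _ hm) e2
    rw [e3, mul_one] at e1
    exact mul_inv_eq_iff_eq_mul.1 e1
  rw [mem_centralizer_iff]
  intro x hx
  rcases h.mem_or hx with k | ⟨t, ht, rfl⟩
  · exact (hcT x k).symm
  · exact ((show Commute g t from hcT t ht).mul_right hu).eq.symm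

/-- Reduction to the two kinds of essential subgroups. -/
theorem odd_cases (h : XDat P m f u ρ) {X : Subgroup C} (hX : X = (P : Subgroup C) ∨ Ess P X) {g : C}
    (hg : g ∈ normalizer (X : Set C)) (hodd : Nat.Coprime (orderOf g) 2) (hgc : g ∉ centralizer (X : Set C)) :
    X = Tor f ∨ Ess P X ∧ ¬ Tor f ≤ X ∧ ∃ y, OddA f u X g y 0 := by
  rcases hX with rfl | hX
  · exact absurd (h.odd_norm_P hg hodd) hgc
  by_cases hT : Tor f ≤ X
  · left
    refine le_antisymm ?_ hT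
    intro x hx
    rcases h.mem_or (hX.lt.le hx) with k | ⟨t, ht, rfl⟩
    · exact k
    · exfalso
      apply hX.lt.not_ge
      have hu : u ∈ X := by
        have := mul_mem (inv_mem (hT ht)) hx
        rwa [inv_mul_cancel_left] at this
      intro s hs
      rcases h.mem_or hs with k | ⟨t', ht', rfl⟩
      · exact hT k
      · exact mul_mem (hT ht') hu
  · right
    refine ⟨hX, hT, ?_⟩
    obtain ⟨y, q, ha⟩ := exists_oddA h.toHalf h.x4_cent hX hT hg (odd_orderOf hodd) hgc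
    obtain ⟨X', g', y', hX', hT', ha'⟩ := h.val
    have hq := unique h.toHalf ha' hX hT ha (ha'.norm_Ru h.toHalf hX' hT')
    rw [← hq] at ha
    exact ⟨y, ha⟩

theorem phi_z1 (h : XDat P m f u ρ) : phi f u ρ (z1 f) = 1 := by
  have h1 := (h.closure_le_ker (mul_mem (subset_closure (by simp)) (subset_closure (by simp)) :
    h1 f * h1 f ∈ closure {h1 f, u * x1 f})).2
  rwa [h.h1_sq] at h1

theorem phi_h1 (h : XDat P m f u ρ) : phi f u ρ (h1 f) = 1 :=
  (h.closure_le_ker (subset_closure (by simp) : h1 f ∈ closure {h1 f, u * x1 f})).2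

theorem ux1_e (h : XDat P m f u ρ) : f 0 0 (M m) * u = h1 f * (u * x1 f) := by
  have g2 : Good (N m : R m) 0 (N m) := BOne.goodx2
  rw [h.ux1_eq, ← mul_assoc, h1, x2, h.f_mul _ _ _ _ _ _ BOne.goodh1 g2, N_add_N, add_zero]
  congr 2
  rw [← two_mul_M]; ring

theorem phi_e (h : XDat P m f u ρ) {y : C} (hy : y ∈ Tor f) :
    phi f u ρ (y * (f 0 0 (M m) * u) * y⁻¹) = 1 := by
  have h1 : h1 f * (u * x1 f) ∈ closure {h1 f, u * x1 f} :=
    mul_mem (subset_closure (by simp)) (subset_closure (by simp))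
  obtain ⟨h2, h3⟩ := h.closure_le_ker h1
  rw [h.ux1_e, h.phi_conj (h.Tor_le hy) h2, h3]

/-- The projection is invariant under fusion. -/
theorem phi_inv (h : XDat P m f u ρ) {x g : C} (hx : x ∈ (P : Subgroup C))
    (hg : g * x * g⁻¹ ∈ (P : Subgroup C)) : phi f u ρ (g * x * g⁻¹) = phi f u ρ x := by
  have : Fact (Nat.Prime 2) := ⟨Nat.prime_two⟩
  refine OddInv.invariant_ess P (phi f u ρ) (fun s hs x hx => h.phi_conj hs hx) ?_ hx hg
  intro X hX g hg hodd hgc x hx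
  rcases h.odd_cases hX hg hodd hgc with rfl | ⟨hX, hT, y, ha⟩
  · rw [h.phi_T hx, h.phi_T ((mem_normalizer_iff.1 hg x).1 hx)]
    exact h.nu_cj hg hx
  · set e := y * (f 0 0 (M m) * u) * y⁻¹ with he
    have hXP : X ≤ (P : Subgroup C) := hX.lt.le
    have heX : e ∈ X := ha.e_mem
    have hhX : h1 f ∈ X := CentXOne.h1_mem_of h.toHalf hX hT
    have hgX : ∀ a ∈ X, g * a * g⁻¹ ∈ (P : Subgroup C) := fun a haX => hXP ((mem_normalizer_iff.1 hg a).1 haX)
    have pm : ∀ a ∈ X, ∀ b ∈ X, phi f u ρ (g * (a * b) * g⁻¹) = phi f u ρ (g * a * g⁻¹) * phi f u ρ (g * b * g⁻¹) := by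
      intro a haX b hbX
      have : g * (a * b) * g⁻¹ = (g * a * g⁻¹) * (g * b * g⁻¹) := by group
      rw [this, h.phi_mul (hgX a haX) (hgX b hbX)]
    have pb : ∀ b ∈ Bu f, phi f u ρ (g * b * g⁻¹) = phi f u ρ b := fun b hb => by
      rw [ha.cent b hb, mul_inv_cancel_right]
    have ph : phi f u ρ (g * h1 f * g⁻¹) = phi f u ρ (h1 f) := by
      rw [ha.g_h1, h.phi_e ha.y_mem, h.phi_h1]
    have pe : phi f u ρ (g * e * g⁻¹) = phi f u ρ e := by
      have h2 : phi f u ρ e = 1 := h.phi_e ha.y_mem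
      rcases ha.g_e with k | k
      · rw [k, h.phi_mul (hXP hhX) (hXP heX), h.phi_h1, one_mul]
      · rw [k, h.phi_mul (mul_mem (hXP hhX) (hXP heX)) (h.Tor_le (h.Bu_le h.z1_mem)),
          h.phi_mul (hXP hhX) (hXP heX), h.phi_h1, h.phi_z1, one_mul, mul_one]
    have hB : Bu f ≤ X := CentXOne.Bu_le h.toHalf hX
    obtain ⟨b, hb, rfl | rfl | rfl | rfl⟩ := ha.cases h.toHalf hX hT hx
    · exact pb _ hb
    · rw [pm _ hhX _ (hB hb), ph, pb b hb, h.phi_mul (hXP hhX) (hXP (hB hb))]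
    · rw [pm _ heX _ (hB hb), pe, pb b hb, h.phi_mul (hXP heX) (hXP (hB hb))]
    · rw [pm _ (mul_mem hhX heX) _ (hB hb), pm _ hhX _ heX, ph, pe, pb b hb,
        h.phi_mul (hXP (mul_mem hhX heX)) (hXP (hB hb)), h.phi_mul (hXP hhX) (hXP heX)]

/-- `D` is isolated. -/
theorem isolated (h : XDat P m f u ρ) {x : C} (hx : x ∈ Dd f ρ) (g : C)
    (hg : g * x * g⁻¹ ∈ (P : Subgroup C)) : g * x * g⁻¹ = x := by
  classical
  have : Fact (Nat.Prime 2) := ⟨Nat.prime_two⟩
  let ψ : C → C := fun s => if s ∈ Dd f ρ then s else 1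
  have hψ : ∀ g : C, (∀ d ∈ Dd f ρ, g * d * g⁻¹ = d) → ∀ x : C, ψ (g * x * g⁻¹) = ψ x := by
    intro g hg x
    by_cases hx : x ∈ Dd f ρ
    · rw [hg x hx]
    · have h1 : g * x * g⁻¹ ∉ Dd f ρ := by
        intro h1
        apply hx
        have h2 := hg _ h1
        rw [mul_left_inj, mul_right_inj] at h2
        rwa [h2] at h1
      change (if g * x * g⁻¹ ∈ Dd f ρ then _ else _) = (if x ∈ Dd f ρ then _ else _)
      rw [if_neg hx, if_neg h1]
  have hP : ∀ s ∈ (P : Subgroup C), ∀ d ∈ Dd f ρ, s * d * s⁻¹ = d := by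
    intro s hs d hd
    rw [h.comm_Dd hs hd, mul_inv_cancel_right]
  have h1 : ψ (g * x * g⁻¹) = ψ x := by
    refine OddInv.invariant_ess P ψ (fun s hs x _ => hψ s (hP s hs) x) ?_ (h.Tor_le (h.Dd_le hx)) hg
    intro X hX g hg hodd hgc x hx
    refine hψ g ?_ x
    intro d hd
    rcases h.odd_cases hX hg hodd hgc with rfl | ⟨hX, hT, y, ha⟩
    · exact h.cj_Dd hg hd
    · rw [ha.cent d (h.Dd_le_Bu hd), mul_inv_cancel_right]
  by_cases hx1 : x = 1
  · rw [hx1, mul_one, mul_inv_cancel]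
  · change (if g * x * g⁻¹ ∈ Dd f ρ then _ else _) = (if x ∈ Dd f ρ then _ else _) at h1
    rw [if_pos hx] at h1
    by_cases h2 : g * x * g⁻¹ ∈ Dd f ρ
    · rwa [if_pos h2] at h1
    · rw [if_neg h2] at h1
      exact absurd h1.symm hx1

theorem Tone_le_residual (h : XDat P m f u ρ) : h.Tone ≤ Cfsg.pResidual 2 C := by
  intro t ht
  have hn : (Cfsg.pResidual 2 C).Normal := Transfer.Residual.pResidual_normal 2
  have hρ : (QuotientGroup.mk' (Cfsg.pResidual 2 C)) ρ = 1 :=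
    (QuotientGroup.eq_one_iff _).2 (Transfer.Residual.mem_pResidual_of_coprime h.ρ_odd)
  have hcj : ∀ s, (QuotientGroup.mk' (Cfsg.pResidual 2 C)) (cj ρ s) = (QuotientGroup.mk' (Cfsg.pResidual 2 C)) s := by
    intro s
    rw [cj, map_mul, map_mul, map_inv, hρ, one_mul, inv_one, mul_one]
  have h1 : (QuotientGroup.mk' (Cfsg.pResidual 2 C)) (t ^ 3) = 1 := by
    have h2 : nu ρ t = 1 := ht.2
    have h3 := congrArg (QuotientGroup.mk' (Cfsg.pResidual 2 C)) h2
    rw [nu, map_mul, map_mul, hcj, hcj, hcj, map_one] at h3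
    rw [pow_succ, pow_two, map_mul, map_mul, h3]
  have h2 : t ^ 3 ∈ Cfsg.pResidual 2 C := (QuotientGroup.eq_one_iff _).1 h1
  obtain ⟨k, hk⟩ := h.exists_cuberoot ht.1
  rw [← hk]
  exact pow_mem h2 k

/-- `⟨h1, u x1⟩ ≤ O^2(C)`. -/
theorem u_x1 (h : XDat P m f u ρ) : u * x1 f ∈ Cfsg.pResidual 2 C ∧ h1 f ∈ Cfsg.pResidual 2 C := by
  have hn : (Cfsg.pResidual 2 C).Normal := Transfer.Residual.pResidual_normal 2
  obtain ⟨X, g, y, hX, hT, ha⟩ := h.val
  obtain ⟨dB, d1, z, hz, d2⟩ := ha.down h.toHalf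
  set d := y⁻¹ * g * y with hd
  have ho : ¬ 2 ∣ orderOf d := by
    have h2 : d = MulAut.conj y⁻¹ g := by simp [hd]
    rw [h2, (MulAut.conj y⁻¹).orderOf_eq g]
    exact ha.g_odd
  have hdm : d ∈ Cfsg.pResidual 2 C := Transfer.Residual.mem_pResidual_of_coprime
    (((Nat.Prime.coprime_iff_not_dvd Nat.prime_two).2 ho).symm)
  have hcm : ∀ a, a⁻¹ * (d * a * d⁻¹) ∈ Cfsg.pResidual 2 C := by
    intro a
    have e1 : a⁻¹ * (d * a * d⁻¹) = (a⁻¹ * d * a⁻¹⁻¹) * d⁻¹ := by group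
    rw [e1]
    exact mul_mem (hn.conj_mem _ hdm _) (inv_mem hdm)
  have hcm' : ∀ a, (d * a * d⁻¹) * a⁻¹ ∈ Cfsg.pResidual 2 C := by
    intro a
    have e1 : (d * a * d⁻¹) * a⁻¹ = d * (a * d⁻¹ * a⁻¹) := by group
    rw [e1]
    exact mul_mem hdm (hn.conj_mem _ (inv_mem hdm) _)
  set e := f 0 0 (M m) * u with he
  have heP : e ∈ (P : Subgroup C) := mul_mem (h.Tor_le (h.f_mem_Tor (good_e (Or.inl rfl)))) h.u_mem
  have hzB : z ∈ Bu f := by rcases hz with rfl | rfl; exacts [one_mem _, h.z1_mem]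
  have k1 : h1 f * z ∈ Cfsg.pResidual 2 C := by
    have := hcm' e
    rw [d2] at this
    have e1 : h1 f * e * z * e⁻¹ = h1 f * z := by
      rw [mul_assoc (h1 f), ← h.Bu_comm hzB heP, mul_assoc, mul_inv_cancel_right]
    rwa [e1] at this
  have k2 : z1 f ∈ Cfsg.pResidual 2 C := by
    have := mul_mem k1 k1
    have e1 : h1 f * z * (h1 f * z) = z1 f := by
      have c := h.Bu_comm hzB (h.Tor_le h.h1_mem)
      have hzz : z * z = 1 := by rcases hz with rfl | rfl; exacts [one_mul _, h.z1_sq]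
      calc h1 f * z * (h1 f * z) = h1 f * (z * h1 f) * z := by group
        _ = (h1 f * h1 f) * (z * z) := by rw [c]; group
        _ = _ := by rw [hzz, h.h1_sq, mul_one]
    rwa [e1] at this
  have k3 : h1 f ∈ Cfsg.pResidual 2 C := by
    rcases hz with rfl | rfl
    · rwa [mul_one] at k1
    · have := mul_mem k1 (inv_mem k2)
      rwa [mul_inv_cancel_right] at this
  have k4 : e ∈ Cfsg.pResidual 2 C := by
    have := mul_mem k3 (hcm (h1 f))
    rwa [mul_inv_cancel_left, d1] at this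
  refine ⟨?_, k3⟩
  have := mul_mem (inv_mem k3) k4
  rwa [he, h.ux1_e, inv_mul_cancel_left] at this

theorem Wr_le_residual (h : XDat P m f u ρ) : h.Wr ≤ Cfsg.pResidual 2 C := by
  refine sup_le h.Tone_le_residual ?_
  rw [zpowers_le]
  have h2 : x2 f ∈ Tor f := h.f_mem_Tor BOne.goodx2
  have h3 : x2 f * x4 f ∈ Cfsg.pResidual 2 C :=
    h.Tone_le_residual ⟨mul_mem h2 (h.Dd_le h.x4_mem_Dd), h.nu_x2x4⟩
  have h4 := h.u_x1.1
  rw [h.ux1_eq] at h4
  have h5 : x2 f * x2 f = 1 := by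
    rw [x2, h.f_mul _ _ _ _ _ _ BOne.goodx2 BOne.goodx2, N_add_N, add_zero, h.f_zero]
  have e : x4 f * u = (x2 f * x4 f) * (x2 f * u) := by
    calc x4 f * u = x4 f * (x2 f * x2 f) * u := by rw [h5, mul_one]
      _ = (x4 f * x2 f) * (x2 f * u) := by group
      _ = (x2 f * x4 f) * (x2 f * u) := by rw [h.x4_comm]
  rw [e]
  exact mul_mem h3 h4

theorem dat (h : XDat P m f u ρ) : CentXTail.Dat P h.Wr := by
  have : Fact (Nat.Prime 2) := ⟨Nat.prime_two⟩
  refine ⟨h.Wr_le, Or.inr h.isWreathed, ?_⟩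
  letI : CommGroup (Dd f ρ) :=
    { (inferInstance : Group (Dd f ρ)) with
      mul_comm := fun a b => Subtype.ext (h.comm_T (h.Dd_le a.2) (h.Dd_le b.2)) }
  let χ : (P : Subgroup C) →* Dd f ρ :=
    { toFun := fun s => ⟨phi f u ρ s, h.phi_mem s.2⟩
      map_one' := Subtype.ext (h.closure_le_ker (one_mem _)).2
      map_mul' := fun a b => Subtype.ext (h.phi_mul a.2 b.2) }
  have hp : IsPGroup 2 (Dd f ρ) := IsPGroup.of_card h.card_Dd
  refine CentXTail.residual_inf (A := Dd f ρ) hp χ ?_ h.Wr_le ?_ h.Wr_le_residual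
  · intro x y g hxy
    apply Subtype.ext
    change phi f u ρ x = phi f u ρ y
    rw [← hxy]
    exact (h.phi_inv x.2 (by rw [hxy]; exact y.2)).symm
  · intro x hx
    exact h.mem_Wr_of_phi x.2 (congrArg Subtype.val hx)

/-- The structure of `C / O(C)`. -/
theorem exists_out (h : XDat P m f u ρ) :
    ∃ L, CentXTail.Out P h.Wr (Dd f ρ) L :=
  CentXTail.exists_out P h.Wr (Dd f ρ) h.dat h.P_eq (fun _ hx g hg => h.isolated hx g hg)

end XDat

end Cfsg.Agent.LFourB
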