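import Cfsg.Agent.LFourB.CentXHalf

/-!
# Essential subgroups of `T ⟨u⟩` not containing the torus

They are conjugate to `B ⟨h1, u⟩`, and an odd automorphism permutes `h1`, `u ..`, `h1 u ..` cyclically.
-/

set_option autoImplicit false

namespace Cfsg.Agent.LFourB.CentXOne

open Subgroup Cfsg.Agent.Lib.GoldschmidtFusion Cfsg.Agent.Lib.EssentialFusion
open Cfsg.Agent.Lib.EssBridge (exists_isEss mem_of_stab Stab)

/-! ### Generalities -/

section General

variable {C : Type*} [Group C]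

/-- two-step chain -/
theorem mem_of_two [Finite C] {P : Sylow 2 C} {X Y : Subgroup C} (hX : Ess P X) (hYX : Y ≤ X)
    (hN : normalizer (X : Set C) ≤ normalizer (Y : Set C)) {y : C} (hy : y ∈ (P : Subgroup C))
    (hyN : y ∈ normalizer (X : Set C)) (h1 : ∀ e ∈ X, y * e * y⁻¹ * e⁻¹ ∈ Y)
    (h2 : ∀ e ∈ Y, y * e = e * y) : y ∈ X := by
  refine mem_of_stab (exists_isEss hX) (Stab.step hYX le_rfl h1 (Stab.step bot_le hN ?_ Stab.bot)) hy hyN
  intro e he
  rw [mem_bot, h2 e he]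
  group

/-- an odd automorphism moving an element by a fixed 2-element is trivial on it -/
theorem comm_of_odd {g a c : C} {k n : ℕ} (hg : g ^ n = 1) (hn : ¬ 2 ∣ n) (hc : g * a * g⁻¹ = a * c)
    (hgc : g * c = c * g) (h2 : c ^ 2 ^ k = 1) : c = 1 := by
  have h1 : ∀ j : ℕ, g ^ j * a * (g ^ j)⁻¹ = a * c ^ j := by
    intro j
    induction j with
    | zero => simp
    | succ j ih =>
      have e1 : g ^ (j + 1) * a * (g ^ (j + 1))⁻¹ = g * (g ^ j * a * (g ^ j)⁻¹) * g⁻¹ := by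
        rw [pow_succ', mul_inv_rev]; group
      have h3 : g * c ^ j * g⁻¹ = c ^ j := by
        have h4 : Commute g (c ^ j) := Commute.pow_right hgc j
        rw [h4.eq, mul_inv_cancel_right]
      have e2 : g * (a * c ^ j) * g⁻¹ = (g * a * g⁻¹) * (g * c ^ j * g⁻¹) := by group
      rw [e1, ih, e2, hc, h3, mul_assoc, ← pow_succ']
  have h3 := h1 n
  rw [hg, one_mul, inv_one, mul_one, left_eq_mul] at h3
  have h4 : orderOf c ∣ n := orderOf_dvd_of_pow_eq_one h3
  have h5 : orderOf c ∣ 2 ^ k := orderOf_dvd_of_pow_eq_one h2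
  have h6 : Nat.Coprime n (2 ^ k) := Nat.Coprime.pow_right _ ((Nat.Prime.coprime_iff_not_dvd Nat.prime_two).2 hn).symm
  exact orderOf_eq_one_iff.1 (Nat.dvd_one.1 (h6 ▸ Nat.dvd_gcd h4 h5))

/-- an odd automorphism of an abelian 2-group `B` fixing the involutions is trivial -/
theorem comm_of_omega {B : Subgroup C} (hB : ∀ a ∈ B, ∀ b ∈ B, a * b = b * a) {g : C} {n : ℕ} (hg : g ^ n = 1)
    (hn : ¬ 2 ∣ n) (hgB : ∀ b ∈ B, g * b * g⁻¹ ∈ B) (hom : ∀ b ∈ B, b * b = 1 → g * b = b * g) :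
    ∀ (k : ℕ), ∀ b ∈ B, b ^ 2 ^ k = 1 → g * b = b * g := by
  intro k
  induction k with
  | zero =>
    intro b _ hb
    rw [pow_zero, pow_one] at hb
    rw [hb, mul_one, one_mul]
  | succ k ih =>
    intro b hb hbk
    have h1 : g * (b * b) = b * b * g := by
      refine ih (b * b) (mul_mem hb hb) ?_
      rw [← pow_two, ← pow_mul, ← pow_succ']
      exact hbk
    set c := b⁻¹ * (g * b * g⁻¹) with hcd
    have hcB : c ∈ B := mul_mem (inv_mem hb) (hgB b hb)
    have h2 : g * b * g⁻¹ = b * c := by rw [hcd, mul_inv_cancel_left]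
    have h3 : (g * b * g⁻¹) * (g * b * g⁻¹) = b * b := by
      have e1 : (g * b * g⁻¹) * (g * b * g⁻¹) = g * (b * b) * g⁻¹ := by group
      rw [e1, h1, mul_inv_cancel_right]
    have h4 : c * c = 1 := by
      rw [h2] at h3
      have e1 : b * c * (b * c) = b * b * (c * c) := by
        rw [mul_assoc, ← mul_assoc c, hB c hcB b hb]
        group
      rw [e1] at h3
      exact mul_eq_left.1 h3
    have h5 : c = 1 := comm_of_odd (k := 1) hg hn h2 (hom c hcB h4) (by rw [pow_one, pow_two]; exact h4)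
    rw [h5, mul_one] at h2
    exact mul_inv_eq_iff_eq_mul.1 h2

theorem pow_orderOf_odd {g : C} (hg : Nat.Coprime (orderOf g) 2) : ¬ 2 ∣ orderOf g := by
  intro h
  have := Nat.dvd_gcd h dvd_rfl
  rw [hg] at this
  omega

/-- an essential subgroup has an odd automorphism -/
theorem exists_odd [Finite C] {P : Sylow 2 C} {X : Subgroup C} (hX : Ess P X) :
    ∃ g ∈ normalizer (X : Set C), ¬ 2 ∣ orderOf g ∧ g ∉ centralizer (X : Set C) := by
  by_contra hcon
  push Not at hcon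
  have h1 := hX.inf_le (A := normalizer (X : Set C)) le_rfl le_normalizer
    (fun g hg hc => hcon g hg (pow_orderOf_odd hc))
  have h2 := lt_inf_normalizer P.isPGroup' hX.lt
  exact absurd (h2.trans_le (by rw [inf_comm]; exact h1)) (lt_irrefl _)

end General

/-! ### The essential subgroups -/

section Half

variable {C : Type*} [Group C] [Finite C] {P : Sylow 2 C} {m : ℕ} {f : R m → R m → R m → C} {u : C} {X : Subgroup C}

omit [Finite C] in
theorem Bu_le_centralizer (h : Half (P : Subgroup C) m f u) (hX : X ≤ P) : Bu f ≤ centralizer (X : Set C) ⊓ P := by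
  intro b hb
  refine mem_inf.2 ⟨mem_centralizer_iff.2 ?_, h.Tor_le (h.Bu_le hb)⟩
  intro e he
  exact (h.Bu_comm hb (hX he)).symm

omit [Finite C] in
theorem Bu_le (h : Half (P : Subgroup C) m f u) (hX : Ess P X) : Bu f ≤ X :=
  (Bu_le_centralizer h hX.lt.le).trans hX.centric

omit [Finite C] in
theorem exists_notMem (h : Half (P : Subgroup C) m f u) (hX : Ess P X) (hT : ¬ Tor f ≤ X) :
    ∃ t ∈ Tor f, t * u ∈ X := by
  by_contra hcon
  push Not at hcon
  apply hT
  have h1 : ∀ e ∈ X, e ∈ Tor f := by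
    intro e he
    rcases h.mem_or (hX.lt.le he) with h2 | ⟨t, ht, rfl⟩
    · exact h2
    · exact absurd he (hcon t ht)
  refine le_trans ?_ hX.centric
  intro t ht
  refine mem_inf.2 ⟨mem_centralizer_iff.2 ?_, h.Tor_le ht⟩
  intro e he
  exact h.Tor_comm (h1 e he) ht

theorem exists_norm (h : Half (P : Subgroup C) m f u) (hX : Ess P X) {t : C} (ht : t ∈ Tor f) (htu : t * u ∈ X) :
    ∃ y ∈ Tor f, y ∈ normalizer (X : Set C) ∧ y ∉ X := by
  obtain ⟨y, ⟨hyP, hyN⟩, hyX⟩ := SetLike.exists_of_lt (lt_inf_normalizer P.isPGroup' hX.lt)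
  rcases h.mem_or hyP with h1 | ⟨t', ht', rfl⟩
  · exact ⟨y, h1, hyN, hyX⟩
  · have e1 : t' * u * (t * u)⁻¹ = t' * t⁻¹ := by group
    refine ⟨t' * t⁻¹, mul_mem ht' (inv_mem ht), ?_, ?_⟩
    · rw [← e1]
      exact mul_mem hyN (inv_mem (le_normalizer htu))
    · rw [← e1]
      intro h2
      have e2 : t' * u * (t * u)⁻¹ * (t * u) = t' * u := by group
      exact hyX (e2 ▸ mul_mem h2 htu)

/-- Elements of `X ∩ T` have `2 p = 0`. -/
theorem two_mul_eq_zero (h : Half (P : Subgroup C) m f u) (hX : Ess P X) (hT : ¬ Tor f ≤ X) {p q r : R m}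
    (hg : Good p q r) (ha : f p q r ∈ X) : 2 * p = 0 := by
  by_contra hp
  obtain ⟨t, ht, htu⟩ := exists_notMem h hX hT
  obtain ⟨y, hyT, hyN, hyX⟩ := exists_norm h hX ht htu
  apply hyX
  have hXP : X ≤ P := hX.lt.le
  -- a commutator not centralised by elements outside the torus
  have hgc : Good (2 * p) 0 (-p) := BOne.goodq1 p
  have hc : f (2 * p) 0 (-p) = f p q r * ((t * u) * (f p q r)⁻¹ * (t * u)⁻¹) := by
    rw [h.f_inv hg, h.conj_f ht hg.neg, h.f_mul _ _ _ _ _ _ hg hg.neg.actu]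
    congr 1 <;> ring
  have hNinf : ∀ g ∈ normalizer (X : Set C), ∀ a ∈ X ⊓ Tor f, g * a * g⁻¹ ∈ X ⊓ Tor f := by
    rintro g hgN a ⟨haX, haT⟩
    have hgaX : g * a * g⁻¹ ∈ X := (mem_normalizer_iff.1 hgN a).1 haX
    refine ⟨hgaX, ?_⟩
    by_contra hn
    rcases h.mem_or (hXP hgaX) with h1 | ⟨t', ht', h1⟩
    · exact hn h1
    -- `g a g⁻¹` centralises all commutators
    have h2 : ∀ e ∈ X, ∀ e' ∈ X, (g * a * g⁻¹) * (e * e' * e⁻¹ * e'⁻¹) = (e * e' * e⁻¹ * e'⁻¹) * (g * a * g⁻¹) := by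
      intro e he e' he'
      have h3 : g⁻¹ * e * g ∈ X := by
        have := (mem_normalizer_iff.1 (inv_mem hgN) e).1 he
        rwa [inv_inv] at this
      have h4 : g⁻¹ * e' * g ∈ X := by
        have := (mem_normalizer_iff.1 (inv_mem hgN) e').1 he'
        rwa [inv_inv] at this
      have h5 := h.Tor_comm haT (h.commutator_mem (hXP h3) (hXP h4))
      have h6 : (g⁻¹ * e * g) * (g⁻¹ * e' * g) * (g⁻¹ * e * g)⁻¹ * (g⁻¹ * e' * g)⁻¹ =
          g⁻¹ * (e * e' * e⁻¹ * e'⁻¹) * g := by group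
      rw [h6] at h5
      have h7 : g * (a * (g⁻¹ * (e * e' * e⁻¹ * e'⁻¹) * g)) * g⁻¹ =
          g * ((g⁻¹ * (e * e' * e⁻¹ * e'⁻¹) * g) * a) * g⁻¹ := by rw [h5]
      calc (g * a * g⁻¹) * (e * e' * e⁻¹ * e'⁻¹) = g * (a * (g⁻¹ * (e * e' * e⁻¹ * e'⁻¹) * g)) * g⁻¹ := by group
        _ = g * ((g⁻¹ * (e * e' * e⁻¹ * e'⁻¹) * g) * a) * g⁻¹ := h7
        _ = _ := by group
    have h8 := h2 _ ha _ htu
    have h9 : f p q r * (t * u) * (f p q r)⁻¹ * (t * u)⁻¹ = f (2 * p) 0 (-p) := by rw [hc]; group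
    rw [h9, h1] at h8
    have h10 := h.conj_f ht' hgc
    rw [h8, mul_inv_cancel_right, h.f_eq_iff hgc hgc.actu] at h10
    apply hp
    linear_combination -h10.2.2
  have hN : normalizer (X : Set C) ≤ normalizer ((X ⊓ Tor f : Subgroup C) : Set C) := by
    intro g hg
    rw [mem_normalizer_iff]
    intro a
    constructor
    · exact hNinf g hg a
    · intro h1
      have h2 := hNinf g⁻¹ (inv_mem hg) _ h1
      have e1 : g⁻¹ * (g * a * g⁻¹) * g⁻¹⁻¹ = a := by group
      rwa [e1] at h2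
  refine mem_of_two hX inf_le_left hN (h.Tor_le hyT) hyN ?_ ?_
  · intro e he
    refine ⟨?_, h.commutator_mem (h.Tor_le hyT) (hXP he)⟩
    exact X.mul_mem ((mem_normalizer_iff.1 hyN e).1 he) (X.inv_mem he)
  · intro e he
    exact h.Tor_comm hyT he.2

omit [Finite C] in
/-- powers `e ^ (2 ^ (m + 2))` of elements of `B` and `T u` -/
theorem pow_eq (h : Half (P : Subgroup C) m f u) {e : C} (he : e ∈ Bu f ∨ ∃ t ∈ Tor f, e = t * u) :
    ∃ p q r, Good p q r ∧ e ^ 2 ^ (m + 2) = f 0 (N m * q) (N m * r + M m * p) := by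
  have k1 : ((2 ^ (m + 1) : ℕ) : R m) * 2 = N m := by rw [N]; push_cast; ring
  rcases he with he | ⟨t, ht, rfl⟩
  · obtain ⟨q, r, hg, rfl⟩ := h.mem_Bu.1 he
    refine ⟨0, q, r, hg, ?_⟩
    rw [h.f_pow hg, N, mul_zero, mul_zero, add_zero]
  · obtain ⟨p, q, r, hg, rfl⟩ := h.mem_Tor.1 ht
    refine ⟨p, q, r, hg, ?_⟩
    have k2 : (f p q r * u) ^ 2 = f 0 (2 * q) (2 * r + p) := by
      have e1 : (f p q r * u) ^ 2 = f p q r * (u * f p q r * u) := by rw [pow_two]; group
      rw [e1, h.u_f_u hg, h.f_mul _ _ _ _ _ _ hg hg.actu]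
      congr 1 <;> ring
    have hgg : Good 0 (2 * q) (2 * r + p) := by
      have := hg.add hg.actu
      rw [add_neg_cancel] at this
      have e1 : q + q = 2 * q := by ring
      have e2 : r + (r + p) = 2 * r + p := by ring
      rwa [e1, e2] at this
    rw [pow_succ' 2 (m + 1), pow_mul, k2, h.f_pow hgg, mul_zero]
    congr 1
    · rw [← mul_assoc, k1]
    · rw [mul_add, ← mul_assoc, k1]; rfl

theorem exists_two_mul {m : ℕ} {p : R m} (hp : N m * p = 0) : ∃ c, p = 2 * c := by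
  by_contra hcon
  have k1 : par m p ≠ 0 := fun k => hcon (par_eq_zero_iff.1 k)
  have k2 : par m (p - 1) = 0 := by
    rw [map_sub, map_one]
    revert k1
    generalize par m p = x
    revert x
    decide
  obtain ⟨c, hc⟩ := par_eq_zero_iff.1 k2
  have k3 : p = 2 * c + 1 := by linear_combination hc
  rw [k3] at hp
  apply N_ne_zero (m := m)
  have k4 : (2 : R m) * N m = 0 := two_mul_N
  linear_combination hp - c * k4

omit [Finite C] in
theorem pow_eq_z1 (h : Half (P : Subgroup C) m f u) {e : C} (he : e ∈ Bu f ∨ ∃ t ∈ Tor f, e = t * u)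
    (h2 : e ^ 2 ^ (m + 2) * e ^ 2 ^ (m + 2) = 1) : e ^ 2 ^ (m + 2) = 1 ∨ e ^ 2 ^ (m + 2) = z1 f := by
  obtain ⟨p, q, r, ⟨c, hc⟩, hpow⟩ := pow_eq h he
  have k4 : (2 : R m) * N m = 0 := two_mul_N
  have k5 : (2 : R m) * M m = N m := two_mul_M
  have hg : Good 0 (N m * q) (N m * r + M m * p) :=
    ⟨0, by linear_combination N m * hc + k5 * p + (2 * c) * k4⟩
  rw [hpow] at h2 ⊢
  rw [h.f_mul _ _ _ _ _ _ hg hg, h.f_eq_one_iff (hg.add hg)] at h2
  obtain ⟨-, -, h3⟩ := h2
  have k6 : N m * p = 0 := by linear_combination h3 - k5 * p - r * k4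
  obtain ⟨p', rfl⟩ := exists_two_mul k6
  have k7 : N m * q = 0 := by linear_combination N m * hc - k4 * p' - k4 * r + 2 * c * k4
  have k8 : N m * r + M m * (2 * p') = N m * (r + p') := by linear_combination p' * k5
  rw [k7, k8]
  have k9 : 2 * (N m * (r + p')) = 0 := by linear_combination (r + p') * k4
  rcases eq_of_two_mul k9 with k | k
  · left; rw [k, h.f_zero]
  · right; rw [k]; rfl

omit [Finite C] in
theorem w0_pow (h : Half (P : Subgroup C) m f u) : Good (0 : R m) 2 3 ∧ f 0 2 3 ^ 2 ^ (m + 2) = z1 f := by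
  have hg : Good (0 : R m) 2 3 := ⟨2, by ring⟩
  refine ⟨hg, ?_⟩
  rw [h.f_pow hg, z1]
  have k4 : (2 : R m) * N m = 0 := two_mul_N
  have e1 : ((2 ^ (m + 2) : ℕ) : R m) = N m := rfl
  rw [e1, mul_zero]
  congr 1
  · linear_combination k4
  · linear_combination k4

/-- `X` contains `h1`. -/
theorem h1_mem_of (h : Half (P : Subgroup C) m f u) (hX : Ess P X) (hT : ¬ Tor f ≤ X) : h1 f ∈ X := by
  obtain ⟨t, ht, htu⟩ := exists_notMem h hX hT
  have hXP : X ≤ P := hX.lt.le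
  have hB := Bu_le h hX
  by_cases hcase : ∃ p q r, Good p q r ∧ f p q r ∈ X ∧ p ≠ 0
  · obtain ⟨p, q, r, hg, hfX, hp⟩ := hcase
    have k1 := two_mul_eq_zero h hX hT hg hfX
    rcases eq_of_two_mul k1 with k2 | k2
    · exact absurd k2 hp
    subst k2
    have hg' : Good (0 : R m) (-q) (-M m - r) := by
      have := BOne.goodh1.sub hg
      rwa [sub_self, zero_sub] at this
    have k3 : h1 f = f (N m) q r * f 0 (-q) (-M m - r) := by
      rw [h.f_mul _ _ _ _ _ _ hg hg', h1]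
      congr 1 <;> ring
    rw [k3]
    exact mul_mem hfX (hB (h.f_mem_Bu hg'))
  exfalso
  push Not at hcase
  have hXT : ∀ e ∈ X, e ∈ Bu f ∨ ∃ t ∈ Tor f, e = t * u := by
    intro e he
    rcases h.mem_or (hXP he) with k1 | k1
    · obtain ⟨p, q, r, hg, rfl⟩ := h.mem_Tor.1 k1
      have := hcase p q r hg he
      subst this
      exact Or.inl (h.f_mem_Bu hg)
    · exact Or.inr k1
  -- `z1` is invariant
  have hz : ∀ g ∈ normalizer (X : Set C), g * z1 f * g⁻¹ = z1 f := by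
    intro g hg
    obtain ⟨hg0, hw0⟩ := w0_pow h
    have k1 : g * z1 f * g⁻¹ = (g * f 0 2 3 * g⁻¹) ^ 2 ^ (m + 2) := by
      rw [← hw0, conj_pow]
    have k2 : g * f 0 2 3 * g⁻¹ ∈ X := (mem_normalizer_iff.1 hg _).1 (hB (h.f_mem_Bu hg0))
    have k3 := pow_eq_z1 h (hXT _ k2) (by
      rw [← k1]
      have e1 : g * z1 f * g⁻¹ * (g * z1 f * g⁻¹) = g * (z1 f * z1 f) * g⁻¹ := by group
      rw [e1, h.z1_sq, mul_one, mul_inv_cancel])
    rw [← k1] at k3
    rcases k3 with k | k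
    · exfalso
      apply h.z1_ne
      have := congrArg (fun x => g⁻¹ * x * g) k
      simpa [mul_assoc] using this
    · exact k
  have hh : h1 f ∈ X := by
    have hz1X : z1 f ∈ X := hB h.z1_mem
    have hcomm : ∀ e ∈ X, h1 f * e * (h1 f)⁻¹ * e⁻¹ ∈ zpowers (z1 f) := by
      intro e he
      rcases hXT e he with k | ⟨t', ht', rfl⟩
      · rw [h.Tor_comm h.h1_mem (h.Bu_le k), mul_inv_cancel_right, mul_inv_cancel]
        exact one_mem _
      · have e1 : h1 f * (t' * u) * (h1 f)⁻¹ * (t' * u)⁻¹ = h1 f * (t' * (u * h1 f * u)⁻¹ * t'⁻¹) := by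
          have := h.u_inv
          rw [mul_inv_rev, mul_inv_rev, mul_inv_rev, this]; group
        have e2 : t' * (u * h1 f * u)⁻¹ = (u * h1 f * u)⁻¹ * t' :=
          h.Tor_comm ht' (inv_mem (h.conj_u_mem h.h1_mem))
        rw [e1, e2, mul_inv_cancel_right, h.u_h1_u, mul_inv_rev,
          h.Tor_comm (inv_mem (h.Bu_le h.z1_mem)) (inv_mem h.h1_mem), mul_inv_cancel_left]
        exact inv_mem (mem_zpowers _)
    refine mem_of_two hX (Y := zpowers (z1 f)) (by rwa [zpowers_le]) ?_ (h.Tor_le h.h1_mem) ?_ hcomm ?_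
    · intro g hg
      have k1 := hz g hg
      rw [mem_normalizer_iff_map_conj, MonoidHom.map_zpowers]
      simp only [MulEquiv.coe_toMonoidHom, MulAut.conj_apply]
      rw [k1]
    · have hin : ∀ e ∈ X, h1 f * e * (h1 f)⁻¹ ∈ X := by
        intro e he
        have k1 := hcomm e he
        have k2 : h1 f * e * (h1 f)⁻¹ * e⁻¹ ∈ X := (zpowers_le.2 hz1X) k1
        have := mul_mem k2 he
        rwa [inv_mul_cancel_right] at this
      rw [mem_normalizer_iff_map_conj]
      refine Subgroup.eq_of_le_of_card_ge ?_ (by rw [card_map_conj])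
      rintro _ ⟨e, he, rfl⟩
      exact hin e he
    · intro e he
      exact h.Tor_comm h.h1_mem ((zpowers_le.2 (h.Bu_le h.z1_mem)) he)
  have := hcase (N m) 0 (-M m) BOne.goodh1 hh
  exact N_ne_zero this

end Half

end Cfsg.Agent.LFourB.CentXOne
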