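import Cfsg.Agent.LFourB.CentXBridge

/-!
# Replacing `u` by `x4 u`
-/

set_option autoImplicit false
set_option linter.unusedSectionVars false

namespace Cfsg.Agent.LFourB

open Subgroup Cfsg.Agent.Lib.EssentialFusion CentXEss

universe v

variable {G : Type v} [Group G] {m : ℕ} {f : R m → R m → R m → G} {u w : G}

section Odd

variable {C : Type v} [Group C] {P : Subgroup C} {f : R m → R m → R m → C} {u : C}

theorem swap_e (h : Half P m f u) (y : C) : (y * x1 f) * (f 0 0 (M m) * (x4 f * u)) * (y * x1 f)⁻¹ =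
    y * (f 0 (N m) (M m) * u) * y⁻¹ := by
  have g0 : Good (0 : R m) 0 (M m) := good_e (Or.inl rfl)
  have g4 : Good (0 : R m) (N m) (N m) := BOne.goodx4
  have g1 : Good (N m : R m) 0 0 := BOne.goodx1
  have hx1 : (x1 f)⁻¹ = x1 f := by
    rw [x1, h.f_inv g1, neg_N, neg_zero]
  have hu : u * x1 f = x2 f * u := by
    rw [x1, x2, h.u_f _ _ _ g1, neg_N, zero_add]
  have e1 : (y * x1 f) * (f 0 0 (M m) * (x4 f * u)) * (y * x1 f)⁻¹ =
      y * (x1 f * (f 0 0 (M m) * x4 f) * (u * (x1 f)⁻¹)) * y⁻¹ := by group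
  have e2 : f 0 0 (M m) * x4 f = f 0 (N m) (M m + N m) := by
    rw [x4, h.f_mul _ _ _ _ _ _ g0 g4, zero_add, zero_add]
  have g5 : Good (0 : R m) (N m) (M m + N m) := by
    have := g0.add g4
    rwa [zero_add, zero_add] at this
  have e3 : x1 f * f 0 (N m) (M m + N m) = f (N m) (N m) (M m + N m) := by
    rw [x1, h.f_mul _ _ _ _ _ _ g1 g5, add_zero, zero_add, zero_add]
  have g6 : Good (N m : R m) (N m) (M m + N m) := by
    have := g1.add g5
    rwa [add_zero, zero_add, zero_add] at this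
  have g2 : Good (N m : R m) 0 (N m) := BOne.goodx2
  have e4 : f (N m) (N m) (M m + N m) * x2 f = f 0 (N m) (M m) := by
    rw [x2, h.f_mul _ _ _ _ _ _ g6 g2, N_add_N, add_zero, add_assoc, N_add_N, add_zero]
  rw [e1, hx1, hu, e2, e3, ← mul_assoc (f (N m) (N m) (M m + N m)), e4]

theorem oddA_swap (h : Half P m f u) {X : Subgroup C} {g y : C} (ha : OddA f u X g y (N m)) :
    OddA f (x4 f * u) X g (y * x1 f) 0 := by
  have g1 : Good (N m : R m) 0 0 := BOne.goodx1
  have e := swap_e h y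
  refine ⟨mul_mem ha.y_mem (h.f_mem_Tor g1), Or.inl rfl, ha.g_norm, ha.g_odd, ha.cent, ?_, ?_, ?_⟩
  · rw [e]; exact ha.e_mem
  · rw [e]; exact ha.g_h1
  · rw [e]; exact ha.g_e

end Odd

namespace BOne

variable {S : Subgroup G}

theorem cx_x4_sq (h : BOne S m f u w) : x4 f * x4 f = 1 := by
  rw [x4, h.f_mul _ _ _ _ _ _ goodx4 goodx4, N_add_N, add_zero, h.f_zero]

theorem cx_x2_sq (h : BOne S m f u w) : x2 f * x2 f = 1 := by
  rw [x2, h.f_mul _ _ _ _ _ _ goodx2 goodx2, N_add_N, add_zero, h.f_zero]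

theorem cx_swap_ub (h : BOne S m f u w) : w * (x4 f * u) * w = x2 f * ub u w := by
  calc w * (x4 f * u) * w = (w * x4 f) * u * w := by group
    _ = _ := by rw [h.w_x4, ub]; group

theorem cx_swap_sg (h : BOne S m f u w) : x4 f * u * (x2 f * ub u w) = (x4 f * x1 f) * (u * ub u w) := by
  calc x4 f * u * (x2 f * ub u w) = x4 f * (u * x2 f) * ub u w := by group
    _ = _ := by rw [h.u_x2]; group

theorem cx_swap_gs (h : BOne S m f u w) : (x2 f * ub u w) * (x4 f * u) = (x2 f * x3 f) * (u * ub u w) := by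
  have h1 : ub u w * x4 f = x3 f * ub u w := by
    rw [x4, h.ub_f goodx4, x3, neg_N, sub_self]
  calc (x2 f * ub u w) * (x4 f * u) = x2 f * (ub u w * x4 f) * u := by group
    _ = (x2 f * x3 f) * (ub u w * u) := by rw [h1]; group
    _ = _ := by rw [h.ub_mul_u]

theorem cx_x4x1 (h : BOne S m f u w) : x4 f * x1 f = x2 f * x3 f := by
  rw [x4, x1, x2, x3, h.f_mul _ _ _ _ _ _ goodx4 goodx1, h.f_mul _ _ _ _ _ _ goodx2 goodx3]
  congr 1 <;> ring

/-- `u` may be replaced by `x4 u`. -/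
theorem cx_swap (h : BOne S m f u w) : BOne S m f (x4 f * u) w := by
  have hT4 : x4 f ∈ Tor f := h.f_mem_Tor goodx4
  have hT2 : x2 f ∈ Tor f := h.f_mem_Tor goodx2
  have hT1 : x1 f ∈ Tor f := h.f_mem_Tor goodx1
  have hsg : x4 f * u * (x2 f * ub u w) = (x4 f * x1 f) * (u * ub u w) := h.cx_swap_sg
  -- membership
  have hform : ∀ g, (∃ p q r, Good p q r ∧ ∃ d, (d = 1 ∨ d = (x4 f * u) ∨ d = w * (x4 f * u) * w ∨
      d = (x4 f * u) * (w * (x4 f * u) * w) ∨ d = w ∨ d = (x4 f * u) * w ∨ d = w * (x4 f * u) * w * w ∨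
      d = (x4 f * u) * (w * (x4 f * u) * w) * w) ∧ g = f p q r * d) ↔
      ∃ t ∈ Tor f, ∃ i j l, g = t * ((if i then x4 f else 1) * (if j then x2 f else 1)) * rep u w i j l := by
    intro g
    constructor
    · rintro ⟨p, q, r, hg, d, hd, rfl⟩
      have hx21 : x4 f * x1 f ∈ Tor f := mul_mem hT4 hT1
      rw [h.cx_swap_ub, hsg] at hd
      rcases hd with rfl | rfl | rfl | rfl | rfl | rfl | rfl | rfl
      · exact ⟨_, h.f_mem_Tor hg, false, false, false, by simp [rep]⟩
      · exact ⟨_, h.f_mem_Tor hg, true, false, false, by simp [rep, mul_assoc]⟩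
      · exact ⟨_, h.f_mem_Tor hg, false, true, false, by simp [rep, mul_assoc]⟩
      · refine ⟨f p q r * (x1 f * x2 f), mul_mem (h.f_mem_Tor hg) (mul_mem hT1 hT2), true, true, false, ?_⟩
        have e1 : x1 f * x2 f * (x4 f * x2 f) = x4 f * x1 f := by
          rw [h.Tor_comm hT4 hT2]
          calc x1 f * x2 f * (x2 f * x4 f) = x1 f * (x2 f * x2 f) * x4 f := by group
            _ = _ := by rw [h.cx_x2_sq, mul_one, h.Tor_comm hT1 hT4]
        simp only [rep, if_true, Bool.false_eq_true, if_false, mul_one]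
        rw [← e1]; group
      · exact ⟨_, h.f_mem_Tor hg, false, false, true, by simp [rep]⟩
      · exact ⟨_, h.f_mem_Tor hg, true, false, true, by simp [rep, mul_assoc]⟩
      · exact ⟨_, h.f_mem_Tor hg, false, true, true, by simp [rep, mul_assoc]⟩
      · refine ⟨f p q r * (x1 f * x2 f), mul_mem (h.f_mem_Tor hg) (mul_mem hT1 hT2), true, true, true, ?_⟩
        have e1 : x1 f * x2 f * (x4 f * x2 f) = x4 f * x1 f := by
          rw [h.Tor_comm hT4 hT2]
          calc x1 f * x2 f * (x2 f * x4 f) = x1 f * (x2 f * x2 f) * x4 f := by group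
            _ = _ := by rw [h.cx_x2_sq, mul_one, h.Tor_comm hT1 hT4]
        simp only [rep, if_true]
        rw [← e1]; group
    · rintro ⟨t, ht, i, j, l, rfl⟩
      have key : ∀ s ∈ Tor f, ∃ p q r, Good p q r ∧ s = f p q r := fun s hs => h.mem_Tor.mp hs
      obtain ⟨p, q, r, hg, rfl⟩ := key t ht
      have hmm : ∀ i j l : Bool, ∃ s ∈ Tor f, ∃ d, (d = 1 ∨ d = (x4 f * u) ∨ d = w * (x4 f * u) * w ∨
          d = (x4 f * u) * (w * (x4 f * u) * w) ∨ d = w ∨ d = (x4 f * u) * w ∨ d = w * (x4 f * u) * w * w ∨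
          d = (x4 f * u) * (w * (x4 f * u) * w) * w) ∧
          ((if i then x4 f else 1) * (if j then x2 f else 1)) * rep u w i j l = s * d := by
        rw [h.cx_swap_ub, hsg]
        intro i j l
        have e1 : (x2 f * x1 f) * (x4 f * x1 f * (u * ub u w)) = x4 f * x2 f * (u * ub u w) := by
          have hx1 : x1 f * x1 f = 1 := by
            rw [x1, h.f_mul _ _ _ _ _ _ goodx1 goodx1, N_add_N, add_zero, h.f_zero]
          calc (x2 f * x1 f) * (x4 f * x1 f * (u * ub u w)) = x2 f * (x1 f * x4 f) * x1 f * (u * ub u w) := by group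
            _ = x2 f * (x4 f * x1 f) * x1 f * (u * ub u w) := by rw [h.Tor_comm hT1 hT4]
            _ = (x2 f * x4 f) * (x1 f * x1 f) * (u * ub u w) := by group
            _ = _ := by rw [hx1, mul_one, h.Tor_comm hT2 hT4]
        cases i <;> cases j <;> cases l
        · exact ⟨1, one_mem _, 1, by simp, by simp [rep]⟩
        · exact ⟨1, one_mem _, w, by simp, by simp [rep]⟩
        · exact ⟨1, one_mem _, x2 f * ub u w, by simp, by simp [rep]⟩
        · exact ⟨1, one_mem _, x2 f * ub u w * w, by simp, by simp [rep, mul_assoc]⟩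
        · exact ⟨1, one_mem _, x4 f * u, by simp, by simp [rep]⟩
        · exact ⟨1, one_mem _, x4 f * u * w, by simp, by simp [rep, mul_assoc]⟩
        · refine ⟨x2 f * x1 f, mul_mem hT2 hT1, x4 f * x1 f * (u * ub u w), by simp, ?_⟩
          rw [e1]; simp [rep]
        · refine ⟨x2 f * x1 f, mul_mem hT2 hT1, x4 f * x1 f * (u * ub u w) * w, by simp, ?_⟩
          rw [← mul_assoc, e1]; simp [rep, mul_assoc]
      obtain ⟨s, hs, d, hd, he⟩ := hmm i j l
      obtain ⟨p', q', r', hg', rfl⟩ := key s hs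
      refine ⟨p + p', q + q', r + r', hg.add hg', d, hd, ?_⟩
      rw [mul_assoc (f p q r), he, ← mul_assoc, h.f_mul _ _ _ _ _ _ hg hg']
  refine ⟨h.f_mul, h.f_inj, ?_, h.w_w, ?_, h.w_f, ?_, ?_⟩
  · calc x4 f * u * (x4 f * u) = x4 f * (u * x4 f) * u := by group
      _ = (x4 f * x4 f) * (u * u) := by rw [h.u_x4]; group
      _ = 1 := by rw [h.cx_x4_sq, h.u_u, mul_one]
  · intro p q r hg
    rw [mul_assoc, h.u_f _ _ _ hg, ← mul_assoc, ← mul_assoc, h.Tor_comm hT4 (h.f_mem_Tor hg.actu)]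
  · rw [h.cx_swap_ub, h.cx_swap_sg, h.cx_swap_gs, h.cx_x4x1]
  · intro g
    rw [hform]
    constructor
    · intro hg
      obtain ⟨t, ht, i, j, l, rfl⟩ := h.exists_rep hg
      have hc : ((if i then x4 f else 1) * (if j then x2 f else 1)) ∈ Tor f := by
        refine mul_mem ?_ ?_
        · cases i <;> simp [hT4, one_mem]
        · cases j <;> simp [hT2, one_mem]
      exact ⟨t * ((if i then x4 f else 1) * (if j then x2 f else 1))⁻¹, mul_mem ht (inv_mem hc), i, j, l,
        by rw [inv_mul_cancel_right]⟩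
    · rintro ⟨t, ht, i, j, l, rfl⟩
      refine S.mul_mem (S.mul_mem (h.Tor_le ht) ?_) (h.rep_mem i j l)
      refine mul_mem ?_ ?_
      · cases i <;> simp [h.Tor_le hT4, one_mem]
      · cases j <;> simp [h.Tor_le hT2, one_mem]

theorem cx_Sx_swap (h : BOne S m f u w) : Sx f (x4 f * u) = Sx f u := by
  have hT4 : x4 f ∈ Tor f := h.f_mem_Tor goodx4
  refine le_antisymm (sup_le le_sup_left ?_) (sup_le le_sup_left ?_)
  · rw [zpowers_le]
    exact mul_mem ((le_sup_left : Tor f ≤ Sx f u) hT4) ((le_sup_right : _ ≤ Sx f u) (mem_zpowers u))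
  · rw [zpowers_le]
    have h1 : x4 f * u ∈ Sx f (x4 f * u) := (le_sup_right : _ ≤ Sx f (x4 f * u)) (mem_zpowers _)
    have h2 : x4 f ∈ Sx f (x4 f * u) := (le_sup_left : Tor f ≤ Sx f (x4 f * u)) hT4
    have := mul_mem h2 h1
    rwa [← mul_assoc, h.cx_x4_sq, one_mul] at this

/-- **Normalisation of `u`.** -/
theorem cx_exists_norm [Finite G] {P : Sylow 2 G} (h : BOne (P : Subgroup G) m f u w)
    {Q : Sylow 2 (centralizer ({x4 f} : Set G))}
    (hQ : (Q : Subgroup (centralizer ({x4 f} : Set G))) = (Sx f u).subgroupOf (centralizer ({x4 f} : Set G)))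
    (hess : ∃ X : Subgroup (centralizer ({x4 f} : Set G)), Ess Q X ∧
      ¬ (Tor f).subgroupOf (centralizer ({x4 f} : Set G)) ≤ X) :
    ∃ u', (u' = u ∨ u' = x4 f * u) ∧ ∃ h' : BOne (P : Subgroup G) m f u' w,
      (Q : Subgroup (centralizer ({x4 f} : Set G))) = (Sx f u').subgroupOf (centralizer ({x4 f} : Set G)) ∧
      ∃ (X : Subgroup (centralizer ({x4 f} : Set G))) (g y : centralizer ({x4 f} : Set G)), Ess Q X ∧
        ¬ Tor (lft (centralizer ({x4 f} : Set G)) f) ≤ X ∧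
        OddA (lft (centralizer ({x4 f} : Set G)) f) (⟨u', h'.cx_u_mem_cent⟩ : centralizer ({x4 f} : Set G)) X g y 0 := by
  obtain ⟨X, hX, hT⟩ := hess
  have hhalf := h.cx_half h.cx_T_le_cent h.cx_u_mem_cent
  rw [← hQ] at hhalf
  rw [← h.cx_Tor_lft h.cx_T_le_cent h.cx_u_mem_cent] at hT
  have hx4 : ∀ g : centralizer ({x4 f} : Set G), g * x4 (lft (centralizer ({x4 f} : Set G)) f) =
      x4 (lft (centralizer ({x4 f} : Set G)) f) * g := by
    intro g
    apply Subtype.ext
    change (g : G) * (lft _ f 0 (N m) (N m) : centralizer ({x4 f} : Set G)) =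
      (lft _ f 0 (N m) (N m) : centralizer ({x4 f} : Set G)) * (g : G)
    rw [h.cx_coe_lft goodx4]
    exact mem_centralizer_singleton_iff.1 g.2
  obtain ⟨g, hg, ho, hgc⟩ := CentXOne.exists_odd hX
  obtain ⟨y, q, ha⟩ := exists_oddA hhalf hx4 hX hT hg ho hgc
  rcases ha.q_eq with rfl | rfl
  · exact ⟨u, Or.inl rfl, h, hQ, X, g, y, hX, hT, ha⟩
  · refine ⟨x4 f * u, Or.inr rfl, h.cx_swap, by rw [h.cx_Sx_swap]; exact hQ, X, g,
      y * x1 (lft (centralizer ({x4 f} : Set G)) f), hX, hT, ?_⟩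
    have h1 := oddA_swap hhalf ha
    have e : x4 (lft (centralizer ({x4 f} : Set G)) f) * ⟨u, h.cx_u_mem_cent⟩ =
        (⟨x4 f * u, h.cx_swap.cx_u_mem_cent⟩ : centralizer ({x4 f} : Set G)) := by
      apply Subtype.ext
      rw [Subgroup.coe_mul]
      change (lft _ f 0 (N m) (N m) : centralizer ({x4 f} : Set G)) * u = x4 f * u
      rw [h.cx_coe_lft goodx4]
      rfl
    rwa [e] at h1

end BOne

end Cfsg.Agent.LFourB
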