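import Cfsg.Agent.LFourB.CentXOne

/-!
# The odd automorphism of the essential subgroup `B ⟨h1, u⟩`
-/

set_option autoImplicit false

namespace Cfsg.Agent.LFourB.CentXTwo

open Subgroup Cfsg.Agent.Lib.GoldschmidtFusion Cfsg.Agent.Lib.EssentialFusion Cfsg.Agent.LFourB.CentXOne

section Half

variable {C : Type*} [Group C] [Finite C] {P : Sylow 2 C} {m : ℕ} {f : R m → R m → R m → C} {u : C} {X : Subgroup C}

/-- the elements of `X ∩ T` -/
theorem mem_T (h : Half (P : Subgroup C) m f u) (hX : Ess P X) (hT : ¬ Tor f ≤ X) {e : C} (he : e ∈ X)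
    (heT : e ∈ Tor f) : e ∈ Bu f ∨ ∃ b ∈ Bu f, e = h1 f * b := by
  obtain ⟨p, q, r, hg, rfl⟩ := h.mem_Tor.1 heT
  rcases eq_of_two_mul (two_mul_eq_zero h hX hT hg he) with k | k
  · subst k; exact Or.inl (h.f_mem_Bu hg)
  · subst k
    have hg' : Good (0 : R m) q (r + M m) := by
      have := hg.sub BOne.goodh1
      rwa [sub_self, sub_zero, sub_neg_eq_add] at this
    refine Or.inr ⟨_, h.f_mem_Bu hg', ?_⟩
    rw [h1, h.f_mul _ _ _ _ _ _ BOne.goodh1 hg']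
    congr 1 <;> ring

omit [Finite C] in
theorem conj_T (h : Half (P : Subgroup C) m f u) {t : C} (ht : t ∈ Tor f) {a : C}
    (ha : a ∈ Tor f) : (t * u) * a * (t * u)⁻¹ = u * a * u := by
  obtain ⟨p, q, r, hg, rfl⟩ := h.mem_Tor.1 ha
  rw [h.conj_f ht hg, h.u_f_u hg]

theorem conj_X (h : Half (P : Subgroup C) m f u) (hX : Ess P X) (hT : ¬ Tor f ≤ X) {t : C} (ht : t ∈ Tor f)
    {a : C} (ha : a ∈ X) (haT : a ∈ Tor f) :
    (t * u) * a * (t * u)⁻¹ = a ∨ (t * u) * a * (t * u)⁻¹ = a * z1 f := by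
  rw [conj_T h ht haT]
  rcases mem_T h hX hT ha haT with k | ⟨b, hb, rfl⟩
  · left
    rw [← h.Bu_comm k h.u_mem, mul_assoc, h.u_u, mul_one]
  · right
    have e1 : u * (h1 f * b) * u = (u * h1 f * u) * (u⁻¹ * b * u) := by group
    have e2 : u⁻¹ * b * u = b := by
      rw [mul_assoc, h.Bu_comm hb h.u_mem, inv_mul_cancel_left]
    rw [e1, e2, h.u_h1_u, mul_assoc, mul_assoc, h.Tor_comm (h.Bu_le h.z1_mem) (h.Bu_le hb)]

omit [Finite C] in
theorem z1_inv (h : Half (P : Subgroup C) m f u) : (z1 f)⁻¹ = z1 f := inv_eq_of_mul_eq_one_left h.z1_sq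

omit [Finite C] in
theorem z1_comm (h : Half (P : Subgroup C) m f u) {e : C} (he : e ∈ (P : Subgroup C)) : z1 f * e = e * z1 f :=
  h.Bu_comm h.z1_mem he

/-- commutators of `X` -/
theorem commutator_X (h : Half (P : Subgroup C) m f u) (hX : Ess P X) (hT : ¬ Tor f ≤ X) {e e' : C} (he : e ∈ X)
    (he' : e' ∈ X) : e * e' * e⁻¹ * e'⁻¹ = 1 ∨ e * e' * e⁻¹ * e'⁻¹ = z1 f := by
  have hXP : X ≤ P := hX.lt.le
  -- `a` in `T`, `e` outside
  have key : ∀ t ∈ Tor f, ∀ a ∈ X, a ∈ Tor f →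
      (t * u) * a * (t * u)⁻¹ * a⁻¹ = 1 ∨ (t * u) * a * (t * u)⁻¹ * a⁻¹ = z1 f := by
    intro t ht a ha haT
    rcases conj_X h hX hT ht ha haT with k | k
    · left; rw [k, mul_inv_cancel]
    · right
      rw [k, ← z1_comm h (hXP ha), mul_inv_cancel_right]
  rcases h.mem_or (hXP he) with k | ⟨t, ht, rfl⟩
  · rcases h.mem_or (hXP he') with k' | ⟨t', ht', rfl⟩
    · left
      rw [h.Tor_comm k k', mul_inv_cancel_right, mul_inv_cancel]
    · have e1 : e * (t' * u) * e⁻¹ * (t' * u)⁻¹ = ((t' * u) * e * (t' * u)⁻¹ * e⁻¹)⁻¹ := by group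
      rw [e1]
      rcases key t' ht' e he k with k1 | k1
      · left; rw [k1, inv_one]
      · right; rw [k1, z1_inv h]
  · rcases h.mem_or (hXP he') with k' | ⟨t', ht', rfl⟩
    · exact key t ht e' he' k'
    · have ha : t' * t⁻¹ ∈ X := by
        have := mul_mem he' (inv_mem he)
        have e1 : t' * u * (t * u)⁻¹ = t' * t⁻¹ := by group
        rwa [e1] at this
      have e1 : (t * u) * (t' * u) * (t * u)⁻¹ * (t' * u)⁻¹ =
          (t * u) * (t' * t⁻¹) * (t * u)⁻¹ * (t' * t⁻¹)⁻¹ := by group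
      rw [e1]
      exact key t ht _ ha (mul_mem ht' (inv_mem ht))

theorem conj_z1 (h : Half (P : Subgroup C) m f u) (hX : Ess P X) (hT : ¬ Tor f ≤ X) {g : C}
    (hg : g ∈ normalizer (X : Set C)) : g * z1 f = z1 f * g := by
  obtain ⟨t, ht, htu⟩ := exists_notMem h hX hT
  have hh := h1_mem_of h hX hT
  have k1 : (t * u) * h1 f * (t * u)⁻¹ * (h1 f)⁻¹ = z1 f := by
    rw [conj_T h ht h.h1_mem, h.u_h1_u, ← z1_comm h (h.Tor_le h.h1_mem), mul_inv_cancel_right]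
  have k2 : g * z1 f * g⁻¹ = (g * (t * u) * g⁻¹) * (g * h1 f * g⁻¹) * (g * (t * u) * g⁻¹)⁻¹ * (g * h1 f * g⁻¹)⁻¹ := by
    rw [← k1]; group
  rcases commutator_X h hX hT ((mem_normalizer_iff.1 hg _).1 htu) ((mem_normalizer_iff.1 hg _).1 hh) with k | k
  · rw [k] at k2
    exfalso
    apply h.z1_ne
    have := congrArg (fun x => g⁻¹ * x * g) k2
    simpa [mul_assoc] using this
  · rw [k] at k2
    exact mul_inv_eq_iff_eq_mul.1 k2

/-- the centre of `X` -/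
theorem mem_Bu_of_comm (h : Half (P : Subgroup C) m f u) (hX : Ess P X) (hT : ¬ Tor f ≤ X) {e : C} (he : e ∈ X)
    (hc : ∀ x ∈ X, x * e = e * x) : e ∈ Bu f := by
  obtain ⟨t, ht, htu⟩ := exists_notMem h hX hT
  have hh := h1_mem_of h hX hT
  rcases h.mem_or (hX.lt.le he) with k | ⟨t', ht', rfl⟩
  · obtain ⟨p, q, r, hg, rfl⟩ := h.mem_Tor.1 k
    have k1 := h.conj_f ht hg
    rw [hc _ htu, mul_inv_cancel_right, h.f_eq_iff hg hg.actu] at k1
    have : p = 0 := by linear_combination -k1.2.2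
    subst this
    exact h.f_mem_Bu hg
  · exfalso
    have k1 := conj_T h ht' h.h1_mem
    rw [← hc _ hh, mul_inv_cancel_right, h.u_h1_u] at k1
    exact h.z1_ne (left_eq_mul.1 k1)

theorem conj_Bu (h : Half (P : Subgroup C) m f u) (hX : Ess P X) (hT : ¬ Tor f ≤ X) {g : C}
    (hg : g ∈ normalizer (X : Set C)) {b : C} (hb : b ∈ Bu f) : g * b * g⁻¹ ∈ Bu f := by
  have hbX := Bu_le h hX hb
  refine mem_Bu_of_comm h hX hT ((mem_normalizer_iff.1 hg _).1 hbX) ?_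
  intro x hx
  have k1 : g⁻¹ * x * g ∈ X := by
    have := (mem_normalizer_iff.1 (inv_mem hg) x).1 hx
    rwa [inv_inv] at this
  have k2 := h.Bu_comm hb (hX.lt.le k1)
  have k3 : g * (b * (g⁻¹ * x * g)) * g⁻¹ = g * (g⁻¹ * x * g * b) * g⁻¹ := by rw [k2]
  calc x * (g * b * g⁻¹) = g * (g⁻¹ * x * g * b) * g⁻¹ := by group
    _ = g * (b * (g⁻¹ * x * g)) * g⁻¹ := k3.symm
    _ = _ := by group

omit [Finite C] in
theorem Bu_pow (h : Half (P : Subgroup C) m f u) {b : C} (hb : b ∈ Bu f) : b ^ 2 ^ (m + 3) = 1 := by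
  obtain ⟨q, r, hg, rfl⟩ := h.mem_Bu.1 hb
  have k : ((2 ^ (m + 3) : ℕ) : R m) = 0 := ZMod.natCast_self _
  rw [h.f_pow hg, k, zero_mul, zero_mul, zero_mul, h.f_zero]

/-- an odd element of `N(X)` centralises `B` -/
theorem odd_comm_Bu (h : Half (P : Subgroup C) m f u) (hx : ∀ g : C, g * x4 f = x4 f * g) (hX : Ess P X)
    (hT : ¬ Tor f ≤ X) {g : C} (hg : g ∈ normalizer (X : Set C)) (ho : ¬ 2 ∣ orderOf g) {b : C} (hb : b ∈ Bu f) :
    g * b = b * g := by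
  refine comm_of_omega (B := Bu f) (fun a ha b hb => h.Tor_comm (h.Bu_le ha) (h.Bu_le hb)) (pow_orderOf_eq_one g) ho
    (fun b hb => conj_Bu h hX hT hg hb) ?_ (m + 3) b hb (Bu_pow h hb)
  intro b hb hbb
  have kz := conj_z1 h hX hT hg
  rcases h.omega hb hbb with rfl | rfl | rfl | rfl
  · rw [mul_one, one_mul]
  · exact kz
  · exact hx g
  · rw [← mul_assoc, hx g, mul_assoc, kz, mul_assoc]

/-- the elements of `X` -/
theorem mem_cases (h : Half (P : Subgroup C) m f u) (hX : Ess P X) (hT : ¬ Tor f ≤ X) {e : C} (he : e ∈ X)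
    {t : C} (ht : t ∈ Tor f) (htu : t * u ∈ X) :
    ∃ b ∈ Bu f, e = b ∨ e = h1 f * b ∨ e = (t * u) * b ∨ e = h1 f * (t * u) * b := by
  rcases h.mem_or (hX.lt.le he) with k | ⟨t', ht', rfl⟩
  · rcases mem_T h hX hT he k with k1 | ⟨b, hb, k1⟩
    · exact ⟨e, k1, Or.inl rfl⟩
    · exact ⟨b, hb, Or.inr (Or.inl k1)⟩
  · have e1 : t' * u * (t * u)⁻¹ = t' * t⁻¹ := by group
    have ha : t' * t⁻¹ ∈ X := by
      have := mul_mem he (inv_mem htu)
      rwa [e1] at this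
    have e2 : t' * u = (t' * t⁻¹) * (t * u) := by group
    rcases mem_T h hX hT ha (mul_mem ht' (inv_mem ht)) with k1 | ⟨b, hb, k1⟩
    · refine ⟨t' * t⁻¹, k1, Or.inr (Or.inr (Or.inl ?_))⟩
      rw [← h.Bu_comm k1 (mul_mem (h.Tor_le ht) h.u_mem)]
      exact e2
    · refine ⟨b, hb, Or.inr (Or.inr (Or.inr ?_))⟩
      rw [e2, k1, mul_assoc, mul_assoc, h.Bu_comm hb (mul_mem (h.Tor_le ht) h.u_mem)]

/-- The odd automorphism moves `h1` outside the torus. -/
theorem conj_h1_notMem (h : Half (P : Subgroup C) m f u) (hx : ∀ g : C, g * x4 f = x4 f * g) (hX : Ess P X)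
    (hT : ¬ Tor f ≤ X) {g : C} (hg : g ∈ normalizer (X : Set C)) (ho : ¬ 2 ∣ orderOf g)
    (hgc : g ∉ centralizer (X : Set C)) : g * h1 f * g⁻¹ ∉ Tor f := by
  intro hmem
  obtain ⟨t, ht, htu⟩ := exists_notMem h hX hT
  have hh := h1_mem_of h hX hT
  have hcB := fun {b : C} (hb : b ∈ Bu f) => odd_comm_Bu h hx hX hT hg ho hb
  have hgh : g * h1 f = h1 f * g := by
    rcases mem_T h hX hT ((mem_normalizer_iff.1 hg _).1 hh) hmem with k | ⟨b, hb, k⟩
    · have k1 := hcB k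
      have k2 : g * h1 f * g⁻¹ = h1 f := by
        have e1 : g * (g * h1 f * g⁻¹) = g * h1 f * g⁻¹ * g := k1
        rw [inv_mul_cancel_right] at e1
        exact mul_left_cancel e1
      exact mul_inv_eq_iff_eq_mul.1 k2
    · have k1 := comm_of_odd (pow_orderOf_eq_one g) ho k (hcB hb) (Bu_pow h hb)
      rw [k1, mul_one] at k
      exact mul_inv_eq_iff_eq_mul.1 k
  have hcT : ∀ a ∈ X, a ∈ Tor f → g * a = a * g := by
    intro a ha haT
    rcases mem_T h hX hT ha haT with k | ⟨b, hb, rfl⟩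
    · exact hcB k
    · rw [← mul_assoc, hgh, mul_assoc, hcB hb, mul_assoc]
  have hgt : g * (t * u) = (t * u) * g := by
    have hmX : g * (t * u) * g⁻¹ ∈ X := (mem_normalizer_iff.1 hg _).1 htu
    have hnT : g * (t * u) * g⁻¹ ∉ Tor f := by
      intro k
      have k1 := hcT _ hmX k
      have k2 : g * (t * u) * g⁻¹ = t * u := by
        have e1 : g * (g * (t * u) * g⁻¹) = g * (t * u) * g⁻¹ * g := k1
        rw [inv_mul_cancel_right] at e1
        exact mul_left_cancel e1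
      rw [k2] at k
      exact h.tu_notMem ht k
    set c := (t * u)⁻¹ * (g * (t * u) * g⁻¹) with hc
    have hcX : c ∈ X := mul_mem (inv_mem htu) hmX
    have hcT' : c ∈ Tor f := by
      rw [hc, h.mul_mem_iff (hX.lt.le (inv_mem htu)) (hX.lt.le hmX), inv_mem_iff]
      have := h.tu_notMem ht
      tauto
    have k1 : g * (t * u) * g⁻¹ = (t * u) * c := by rw [hc, mul_inv_cancel_left]
    have k2 : c ^ 2 ^ (m + 3) = 1 := by
      obtain ⟨p, q, r, hgd, k3⟩ := h.mem_Tor.1 hcT'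
      have k : ((2 ^ (m + 3) : ℕ) : R m) = 0 := ZMod.natCast_self _
      rw [k3, h.f_pow hgd, k, zero_mul, zero_mul, zero_mul, h.f_zero]
    have k3 := comm_of_odd (pow_orderOf_eq_one g) ho k1 (hcT _ hcX hcT') k2
    rw [k3, mul_one] at k1
    exact mul_inv_eq_iff_eq_mul.1 k1
  apply hgc
  rw [mem_centralizer_iff]
  intro e he
  obtain ⟨b, hb, k | k | k | k⟩ := mem_cases h hX hT he ht htu
  · rw [k]; exact (hcB hb).symm
  · rw [k]; exact (Commute.mul_right (show Commute g _ from hgh) (hcB hb)).eq.symm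
  · rw [k]; exact (Commute.mul_right (show Commute g _ from hgt) (hcB hb)).eq.symm
  · rw [k]
    exact (Commute.mul_right (Commute.mul_right (show Commute g _ from hgh) hgt) (hcB hb)).eq.symm

/-! ### 2-elements of `N(X)` acting trivially on `X / B` -/

/-- the subgroup of the elements of `N(X)` acting trivially on `X / B` -/
def triv (h : Half (P : Subgroup C) m f u) (hX : Ess P X) (hT : ¬ Tor f ≤ X) : Subgroup C where
  carrier := {k | k ∈ normalizer (X : Set C) ∧ ∀ e ∈ X, k * e * k⁻¹ * e⁻¹ ∈ Bu f}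
  one_mem' := ⟨one_mem _, fun e _ => by simp⟩
  mul_mem' := by
    rintro a b ⟨ha, ha'⟩ ⟨hb, hb'⟩
    refine ⟨mul_mem ha hb, fun e he => ?_⟩
    have e1 : a * b * e * (a * b)⁻¹ * e⁻¹ = a * (b * e * b⁻¹ * e⁻¹) * a⁻¹ * (a * e * a⁻¹ * e⁻¹) := by group
    rw [e1]
    exact mul_mem (conj_Bu h hX hT ha (hb' e he)) (ha' e he)
  inv_mem' := by
    rintro a ⟨ha, ha'⟩
    refine ⟨inv_mem ha, fun e he => ?_⟩
    have k1 : a⁻¹ * e * a ∈ X := by
      have := (mem_normalizer_iff.1 (inv_mem ha) e).1 he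
      rwa [inv_inv] at this
    have k2 := inv_mem (ha' _ k1)
    have e1 : (a * (a⁻¹ * e * a) * a⁻¹ * (a⁻¹ * e * a)⁻¹)⁻¹ = a⁻¹ * e * a⁻¹⁻¹ * e⁻¹ := by group
    rwa [e1] at k2

theorem mem_triv (h : Half (P : Subgroup C) m f u) (hX : Ess P X) (hT : ¬ Tor f ≤ X) {k : C} :
    k ∈ triv h hX hT ↔ k ∈ normalizer (X : Set C) ∧ ∀ e ∈ X, k * e * k⁻¹ * e⁻¹ ∈ Bu f := Iff.rfl

theorem conj_mem_triv (h : Half (P : Subgroup C) m f u) (hX : Ess P X) (hT : ¬ Tor f ≤ X) {k g : C}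
    (hg : g ∈ normalizer (X : Set C)) (hk : k ∈ triv h hX hT) : g * k * g⁻¹ ∈ triv h hX hT := by
  refine ⟨mul_mem (mul_mem hg hk.1) (inv_mem hg), fun e he => ?_⟩
  have k1 : g⁻¹ * e * g ∈ X := by
    have := (mem_normalizer_iff.1 (inv_mem hg) e).1 he
    rwa [inv_inv] at this
  have k2 := conj_Bu h hX hT hg (hk.2 _ k1)
  have e1 : g * (k * (g⁻¹ * e * g) * k⁻¹ * (g⁻¹ * e * g)⁻¹) * g⁻¹ = g * k * g⁻¹ * e * (g * k * g⁻¹)⁻¹ * e⁻¹ := by
    group
  rwa [e1] at k2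

/-- a 2-element of `N(X)` is conjugate into `P` -/
theorem exists_conj_mem (hX : Ess P X) {k : C} (hk : k ∈ normalizer (X : Set C)) {n : ℕ} (h2 : k ^ 2 ^ n = 1) :
    ∃ g ∈ normalizer (X : Set C), g * k * g⁻¹ ∈ (P : Subgroup C) := by
  have hp : IsPGroup 2 (zpowers k) := by
    intro x
    obtain ⟨j, hj⟩ := mem_zpowers_iff.1 x.2
    refine ⟨n, Subtype.ext ?_⟩
    change (x : C) ^ 2 ^ n = 1
    rw [← hj, ← zpow_natCast, ← zpow_mul, mul_comm, zpow_mul, zpow_natCast, h2, one_zpow]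
  obtain ⟨g, hg, hgP⟩ := exists_conj_le_in (p := 2) (R := (P : Subgroup C) ⊓ normalizer (X : Set C))
    (N := normalizer (X : Set C)) (P.isPGroup'.to_le inf_le_left) hX.full (zpowers_le.2 hk) hp
  refine ⟨g, hg, ?_⟩
  exact (hgP ⟨k, mem_zpowers k, rfl⟩).1

theorem mem_X_of_triv (h : Half (P : Subgroup C) m f u) (hX : Ess P X) (hT : ¬ Tor f ≤ X) {k : C}
    (hk : k ∈ triv h hX hT) {n : ℕ} (h2 : k ^ 2 ^ n = 1) : k ∈ X := by
  obtain ⟨t, ht, htu⟩ := exists_notMem h hX hT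
  have hXT : ∀ k' ∈ triv h hX hT, k' ∈ Tor f → k' ∈ X := by
    intro k' hk' hkT
    obtain ⟨p, q, r, hg, rfl⟩ := h.mem_Tor.1 hkT
    have k1 := hk'.2 _ htu
    have k2 : f p q r * (t * u) * (f p q r)⁻¹ * (t * u)⁻¹ = f (2 * p) 0 (-p) := by
      have e1 : f p q r * (t * u) * (f p q r)⁻¹ * (t * u)⁻¹ = f p q r * ((t * u) * (f p q r)⁻¹ * (t * u)⁻¹) := by
        group
      rw [e1, h.f_inv hg, h.conj_f ht hg.neg, h.f_mul _ _ _ _ _ _ hg hg.neg.actu]
      congr 1 <;> ring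
    rw [k2] at k1
    obtain ⟨q', r', hg', k3⟩ := h.mem_Bu.1 k1
    have k4 := ((h.f_eq_iff (BOne.goodq1 p) hg').1 k3).1
    rcases eq_of_two_mul k4 with rfl | rfl
    · exact Bu_le h hX (h.f_mem_Bu hg)
    · have hg' : Good (0 : R m) q (r + M m) := by
        have := hg.sub BOne.goodh1
        rwa [sub_self, sub_zero, sub_neg_eq_add] at this
      have e1 : f (N m) q r = h1 f * f 0 q (r + M m) := by
        rw [h1, h.f_mul _ _ _ _ _ _ BOne.goodh1 hg']
        congr 1 <;> ring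
      rw [e1]
      exact mul_mem (h1_mem_of h hX hT) (Bu_le h hX (h.f_mem_Bu hg'))
  obtain ⟨g, hg, hgP⟩ := exists_conj_mem hX hk.1 h2
  have k1 := conj_mem_triv h hX hT hg hk
  have k2 : g * k * g⁻¹ ∈ X := by
    rcases h.mem_or hgP with k3 | ⟨t', ht', k3⟩
    · exact hXT _ k1 k3
    · have htu' : t * u ∈ triv h hX hT := by
        refine ⟨le_normalizer htu, fun e he => ?_⟩
        rcases commutator_X h hX hT htu he with k4 | k4
        · rw [k4]; exact one_mem _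
        · rw [k4]; exact h.z1_mem
      have k4 := mul_mem k1 (inv_mem htu')
      have e1 : g * k * g⁻¹ * (t * u)⁻¹ = t' * t⁻¹ := by rw [k3]; group
      rw [e1] at k4
      have k5 := hXT _ k4 (mul_mem ht' (inv_mem ht))
      rw [← e1] at k5
      have := mul_mem k5 htu
      rwa [inv_mul_cancel_right] at this
  exact (mem_normalizer_iff.1 hg k).2 k2

theorem conj_pow_eq {k a b : C} (hk : k * a * k⁻¹ = a * b) (hkb : k * b = b * k) (j : ℕ) :
    k ^ j * a * (k ^ j)⁻¹ = a * b ^ j := by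
  induction j with
  | zero => simp
  | succ j ih =>
    have e1 : k ^ (j + 1) * a * (k ^ (j + 1))⁻¹ = k * (k ^ j * a * (k ^ j)⁻¹) * k⁻¹ := by
      rw [pow_succ', mul_inv_rev]; group
    have h3 : k * b ^ j * k⁻¹ = b ^ j := by
      have h4 : Commute k (b ^ j) := Commute.pow_right hkb j
      rw [h4.eq, mul_inv_cancel_right]
    have e2 : k * (a * b ^ j) * k⁻¹ = (k * a * k⁻¹) * (k * b ^ j * k⁻¹) := by group
    rw [e1, ih, e2, hk, h3, mul_assoc, ← pow_succ']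

/-- The main point: an element acting trivially on `X / B` and on `B` moves `h1` by `z1` at most. -/
theorem triv_h1 (h : Half (P : Subgroup C) m f u) (hX : Ess P X) (hT : ¬ Tor f ≤ X) {k : C}
    (hk : k ∈ triv h hX hT) {b : C} (hb : b ∈ Bu f) (hkb : k * b = b * k) (hk1 : k * h1 f * k⁻¹ = h1 f * b) :
    b = 1 ∨ b = z1 f := by
  have hbb : b * b = 1 := by
    have k1 : k * z1 f * k⁻¹ = z1 f := by
      rw [conj_z1 h hX hT hk.1, mul_inv_cancel_right]
    have k2 : k * z1 f * k⁻¹ = (k * h1 f * k⁻¹) * (k * h1 f * k⁻¹) := by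
      rw [← h.h1_sq]; group
    rw [k1, hk1] at k2
    have e1 : h1 f * b * (h1 f * b) = h1 f * h1 f * (b * b) := by
      have := h.Tor_comm (h.Bu_le hb) h.h1_mem
      calc h1 f * b * (h1 f * b) = h1 f * (b * h1 f) * b := by group
        _ = h1 f * (h1 f * b) * b := by rw [this]
        _ = _ := by group
    rw [e1, h.h1_sq] at k2
    exact left_eq_mul.1 k2
  obtain ⟨n, o, ho, hno⟩ := Nat.exists_eq_pow_mul_and_not_dvd (orderOf_pos k).ne' 2 (by norm_num)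
  have hk' : k ^ o ∈ triv h hX hT := pow_mem hk o
  have h2 : (k ^ o) ^ 2 ^ n = 1 := by
    rw [← pow_mul, mul_comm, ← hno, pow_orderOf_eq_one]
  have k1 := mem_X_of_triv h hX hT hk' h2
  have k2 := conj_pow_eq hk1 hkb o
  have k3 : b ^ o = b := by
    obtain ⟨j, rfl⟩ : ∃ j, o = 2 * j + 1 := by
      rcases Nat.even_or_odd' o with ⟨j, rfl | rfl⟩
      · exact absurd (dvd_mul_right 2 j) ho
      · exact ⟨j, rfl⟩
    rw [pow_succ, pow_mul, pow_two, hbb, one_pow, one_mul]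
  rw [k3] at k2
  have k4 := commutator_X h hX hT k1 (h1_mem_of h hX hT)
  have k5 : k ^ o * h1 f * (k ^ o)⁻¹ * (h1 f)⁻¹ = b := by
    rw [k2, ← h.Tor_comm (h.Bu_le hb) h.h1_mem, mul_inv_cancel_right]
  rwa [k5] at k4

theorem good_t0 (m : ℕ) : Good (M m) 0 (-((2 ^ m : ℕ) : R m)) :=
  ⟨0, by
    have : (M m : R m) = 2 * ((2 ^ m : ℕ) : R m) := by rw [M]; push_cast; ring
    rw [this]; ring⟩

omit [Finite C] in
/-- the element `t0 = diag (ζ, ζ⁻¹, 1, 1)` moves `t u` to `h1 t u` -/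
theorem conj_t0 (h : Half (P : Subgroup C) m f u) {t : C} (ht : t ∈ Tor f) :
    f (M m) 0 (-((2 ^ m : ℕ) : R m)) * (t * u) * (f (M m) 0 (-((2 ^ m : ℕ) : R m)))⁻¹ = h1 f * (t * u) := by
  set t0 := f (M m) 0 (-((2 ^ m : ℕ) : R m)) with ht0
  have hg := good_t0 m
  have ht0T : t0 ∈ Tor f := h.f_mem_Tor hg
  have e1 : t0 * (t * u) * t0⁻¹ = (t0 * (u * t0⁻¹ * u)) * (t * u) := by
    have k1 : t * (u * t0⁻¹ * u) = (u * t0⁻¹ * u) * t := h.Tor_comm ht (h.conj_u_mem (inv_mem ht0T))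
    have k2 : t0 * (t * u) * t0⁻¹ = t0 * (t * (u * t0⁻¹ * u)) * u⁻¹ := by group
    rw [k2, k1, h.u_inv]
    group
  have e2 : t0 * (u * t0⁻¹ * u) = h1 f := by
    rw [ht0, h.f_inv hg, h.u_f_u hg.neg, h.f_mul _ _ _ _ _ _ hg hg.neg.actu, h1]
    have k1 : (M m : R m) + M m = N m := M_add_M
    congr 1
    · rw [neg_neg]; exact k1
    · rw [neg_zero, add_zero]
    · ring
  rw [e1, e2]

theorem mem_normalizer_of {g : C} (hg : ∀ e ∈ X, g * e * g⁻¹ ∈ X) : g ∈ normalizer (X : Set C) := by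
  rw [mem_normalizer_iff_map_conj]
  refine Subgroup.eq_of_le_of_card_ge ?_ (by rw [card_map_conj])
  rintro _ ⟨e, he, rfl⟩
  exact hg e he

end Half

end Cfsg.Agent.LFourB.CentXTwo
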