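import Cfsg.Agent.LThreeModel.SL3
import Cfsg.Agent.LThreeModel.SU3

/-!
# `PSL₃(q)` and `PSU₃(q)` are generated by the centralisers of the involutions of a four-group
-/

set_option autoImplicit false

namespace Cfsg.Agent.LFourB

open Subgroup

/-- Every four-group generates with its centralisers. -/
def Gen4 (P : Type*) [Group P] : Prop :=
  ∀ u v : P, u * u = 1 → v * v = 1 → u ≠ 1 → v ≠ 1 → u ≠ v → u * v = v * u →
    ∀ H : Subgroup P, centralizer {u} ≤ H → centralizer {v} ≤ H → H = ⊤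

theorem Gen4.of_equiv {P Q : Type*} [Group P] [Group Q] (e : P ≃* Q) (h : Gen4 P) : Gen4 Q := by
  intro u v hu hv hu1 hv1 huv hc H h1 h2
  have key : ∀ x : Q, centralizer {x} ≤ H → centralizer {e.symm x} ≤ H.comap e.toMonoidHom := by
    intro x hx y hy
    rw [mem_centralizer_singleton_iff] at hy
    apply hx
    rw [mem_centralizer_singleton_iff]
    change e y * x = x * e y
    rw [← e.apply_symm_apply x, ← map_mul, hy, map_mul]
  have h3 := h (e.symm u) (e.symm v) (by rw [← map_mul, hu, map_one]) (by rw [← map_mul, hv, map_one])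
    (fun k => hu1 (by rwa [map_eq_one_iff _ e.symm.injective] at k))
    (fun k => hv1 (by rwa [map_eq_one_iff _ e.symm.injective] at k)) (fun k => huv (e.symm.injective k))
    (by rw [← map_mul, ← map_mul, hc]) _ (key u h1) (key v h2)
  rw [eq_top_iff]
  intro y _
  have h4 : e.symm y ∈ H.comap e.toMonoidHom := by rw [h3]; exact mem_top _
  have h5 : e (e.symm y) ∈ H := h4
  rwa [e.apply_symm_apply] at h5

/-- the common argument -/
theorem gen4_aux {S P : Type*} [Group S] [Group P] (ρ : S →* P) (hρ : Function.Surjective ρ) {A B : Subgroup S}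
    {a b : S} (hA : ∀ x ∈ A, x * a = a * x) (hB : ∀ x ∈ B, x * b = b * x) (hAB : A ⊔ B = ⊤)
    (hc : ∀ u v : P, u * u = 1 → v * v = 1 → u ≠ 1 → v ≠ 1 → u ≠ v → u * v = v * u →
      ∃ g : P, g * u * g⁻¹ = ρ a ∧ g * v * g⁻¹ = ρ b) : Gen4 P := by
  intro u v hu hv hu1 hv1 huv huc H h1 h2
  obtain ⟨g, hga, hgb⟩ := hc u v hu hv hu1 hv1 huv huc
  have key : ∀ (x : P) (a : S) (A : Subgroup S), (∀ x ∈ A, x * a = a * x) → centralizer {x} ≤ H →
      g * x * g⁻¹ = ρ a → A ≤ H.comap ((MulAut.conj g⁻¹).toMonoidHom.comp ρ) := by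
    intro x a A hA hx hg y hy
    apply hx
    rw [mem_centralizer_singleton_iff]
    change g⁻¹ * ρ y * g⁻¹⁻¹ * x = x * (g⁻¹ * ρ y * g⁻¹⁻¹)
    have h3 : x = g⁻¹ * ρ a * g := by rw [← hg]; group
    rw [h3]
    calc g⁻¹ * ρ y * g⁻¹⁻¹ * (g⁻¹ * ρ a * g) = g⁻¹ * ρ (y * a) * g := by rw [map_mul]; group
      _ = g⁻¹ * ρ (a * y) * g := by rw [hA y hy]
      _ = _ := by rw [map_mul]; group
  have h3 : (⊤ : Subgroup S) ≤ H.comap ((MulAut.conj g⁻¹).toMonoidHom.comp ρ) := by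
    rw [← hAB]
    exact sup_le (key u a A hA h1 hga) (key v b B hB h2 hgb)
  rw [eq_top_iff]
  intro y _
  obtain ⟨s, hs⟩ := hρ (g * y * g⁻¹)
  have h4 : g⁻¹ * ρ s * g⁻¹⁻¹ ∈ H := h3 (mem_top s)
  have h5 : g⁻¹ * ρ s * g⁻¹⁻¹ = y := by rw [hs]; group
  rwa [h5] at h4

theorem gen4_psl {F : Type*} [Field F] (h2 : (2 : F) ≠ 0) :
    Gen4 (CTFrame.SL3.S3 F ⧸ Subgroup.center (CTFrame.SL3.S3 F)) := by
  have hcomm : ∀ {a b c : Fin 3} (_ : a ≠ b) (_ : b ≠ c) (_ : a ≠ c),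
      ∀ x ∈ (CTFrame.SL3.std a b : Subgroup (CTFrame.SL3.S3 F)), x * CTFrame.SL3.dg c = CTFrame.SL3.dg c * x := by
    intro a b c hab hbc hac x hx
    have hB := CTFrame.SL3.std_le_Blk hab hbc hac hx
    have h1 : CTFrame.SL3.dg c * x * (CTFrame.SL3.dg c)⁻¹ = x := by
      have hdg := CTFrame.SL3.std_le_Blk (F := F) hab hbc hac (CTFrame.SL3.dg_mem_std hab hbc hac)
      refine CTFrame.SL3.blk_ext hab hbc hac (mul_mem (mul_mem hdg hB) (inv_mem hdg)) hB ?_ ?_ ?_ ?_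
      · rw [CTFrame.SL3.dg_conj, if_neg hac]; ring
      · rw [CTFrame.SL3.dg_conj, if_neg hac, if_neg hbc]; ring
      · rw [CTFrame.SL3.dg_conj, if_neg hbc, if_neg hac]; ring
      · rw [CTFrame.SL3.dg_conj, if_neg hbc]; ring
    exact (mul_inv_eq_iff_eq_mul.mp h1).symm
  refine gen4_aux (LThreeModel.SL3.pr F) (QuotientGroup.mk'_surjective _)
    (A := CTFrame.SL3.std 1 2) (B := CTFrame.SL3.std 2 0) (a := CTFrame.SL3.dg 0) (b := CTFrame.SL3.dg 1)
    (hcomm (by decide) (by decide) (by decide)) (hcomm (by decide) (by decide) (by decide))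
    (LThreeModel.SL3.std_sup (by decide) (by decide) (by decide)) ?_
  intro u v hu hv hu1 hv1 huv huc
  exact LThreeModel.SL3.exists_conj h2 hu hv hu1 hv1 huv huc (show (0 : Fin 3) ≠ 1 by decide)

theorem gen4_psu {F : Type*} [Field F] [Fintype F] {q : ℕ} (hF : Fintype.card F = q ^ 2) (h2 : (2 : F) ≠ 0)
    (hq : 3 ≤ q) : Gen4 (Cfsg.PSU 3 F q) := by
  have hcomm : ∀ c : Fin 3, ∀ x ∈ LThreeExt.SU3.std hF c,
      x * LThreeModel.SU3.dg hF c = LThreeModel.SU3.dg hF c * x := by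
    intro c x hx
    apply Phan.mat_inj
    rw [Phan.mat_mul, Phan.mat_mul, LThreeModel.SU3.mat_dg]
    ext i j
    rw [Matrix.mul_diagonal, Matrix.diagonal_mul]
    by_cases hi : i = c
    · by_cases hj : j = c
      · rw [hi, hj]; ring
      · have h1 := (LThreeModel.SU3.blk_of_mem_std hF hx j).2
        rw [if_neg hj] at h1
        rw [hi, h1]; ring
    · by_cases hj : j = c
      · have h1 := (LThreeModel.SU3.blk_of_mem_std hF hx i).1
        rw [if_neg hi] at h1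
        rw [hj, h1]; ring
      · rw [if_neg hi, if_neg hj]; ring
  refine gen4_aux (LThreeModel.SU3.pr F q) (QuotientGroup.mk'_surjective _)
    (A := LThreeExt.SU3.std hF 0) (B := LThreeExt.SU3.std hF 1) (a := LThreeModel.SU3.dg hF 0)
    (b := LThreeModel.SU3.dg hF 1) ?_ ?_ (LThreeModel.SU3.std_sup hF hq (by decide)) ?_
  · exact hcomm 0
  · exact hcomm 1
  · intro u v hu hv hu1 hv1 huv huc
    exact LThreeModel.SU3.exists_conj hF h2 hu hv hu1 hv1 huv huc (by decide)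

end Cfsg.Agent.LFourB
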