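import Cfsg.Agent.LFourB.EssFour

/-!
# The standard odd automorphism `d : h1 → u x1 → h1 u x1`
-/

set_option autoImplicit false

namespace Cfsg.Agent.LFourB.EssFive

open Subgroup Cfsg.Agent.LFourB.EssHalf Cfsg.Agent.LFourB.EssOne
open Cfsg.Agent.LFourB.EssTwo Cfsg.Agent.LFourB.EssThree Cfsg.Agent.LFourB.EssFour

section Aux

variable {C : Type*} [Group C]

theorem aux {h e z D c : C} (ε i j : ℕ) (zz : z * z = 1) (zh : z * h = h * z) (ze : z * e = e * z)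
    (zD : z * D = D * z) (zc : z * c = c * z) (Dh : D * h * D⁻¹ = h * e * z ^ ε) (De : D * e * D⁻¹ = h)
    (ch : c * h * c⁻¹ = h * z ^ i) (ce : c * e * c⁻¹ = e * z ^ j) :
    (c * D * c⁻¹) * h * (c * D * c⁻¹)⁻¹ = h * e * z ^ (ε + j) ∧
      (c * D * c⁻¹) * e * (c * D * c⁻¹)⁻¹ = h * z ^ (i + j) := by
  have z2 : ∀ n : ℕ, z ^ n * z ^ n = 1 := by
    intro n
    rw [← pow_add, ← two_mul, pow_mul, pow_two, zz, one_pow]
  have pc : ∀ n : ℕ, c⁻¹ * z ^ n * c = z ^ n := by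
    intro n
    have k : Commute (z ^ n) c := Commute.pow_left (show Commute z c from zc) n
    rw [mul_assoc, k.eq, inv_mul_cancel_left]
  have pc' : ∀ n : ℕ, c * z ^ n * c⁻¹ = z ^ n := by
    intro n
    have k : Commute (z ^ n) c := Commute.pow_left (show Commute z c from zc) n
    rw [← k.eq, mul_inv_cancel_right]
  have pD : ∀ n : ℕ, D * z ^ n * D⁻¹ = z ^ n := by
    intro n
    have k : Commute (z ^ n) D := Commute.pow_left (show Commute z D from zD) n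
    rw [← k.eq, mul_inv_cancel_right]
  have ph : ∀ n : ℕ, z ^ n * h = h * z ^ n := fun n => (Commute.pow_left (show Commute z h from zh) n).eq
  have pe : ∀ n : ℕ, z ^ n * e = e * z ^ n := fun n => (Commute.pow_left (show Commute z e from ze) n).eq
  have ch' : c⁻¹ * h * c = h * z ^ i := by
    have k1 : c⁻¹ * (c * h * c⁻¹) * c = (c⁻¹ * h * c) * (c⁻¹ * z ^ i * c) := by rw [ch]; group
    have k2 : c⁻¹ * (c * h * c⁻¹) * c = h := by group
    rw [k2, pc] at k1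
    calc c⁻¹ * h * c = c⁻¹ * h * c * (z ^ i * z ^ i) := by rw [z2, mul_one]
      _ = c⁻¹ * h * c * z ^ i * z ^ i := by group
      _ = h * z ^ i := by rw [← k1]
  have ce' : c⁻¹ * e * c = e * z ^ j := by
    have k1 : c⁻¹ * (c * e * c⁻¹) * c = (c⁻¹ * e * c) * (c⁻¹ * z ^ j * c) := by rw [ce]; group
    have k2 : c⁻¹ * (c * e * c⁻¹) * c = e := by group
    rw [k2, pc] at k1
    calc c⁻¹ * e * c = c⁻¹ * e * c * (z ^ j * z ^ j) := by rw [z2, mul_one]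
      _ = c⁻¹ * e * c * z ^ j * z ^ j := by group
      _ = e * z ^ j := by rw [← k1]
  constructor
  · have k1 : (c * D * c⁻¹) * h * (c * D * c⁻¹)⁻¹ = c * (D * (c⁻¹ * h * c) * D⁻¹) * c⁻¹ := by group
    have k2 : D * (h * z ^ i) * D⁻¹ = (D * h * D⁻¹) * (D * z ^ i * D⁻¹) := by group
    have k3 : c * (h * e * z ^ ε * z ^ i) * c⁻¹ = (c * h * c⁻¹) * (c * e * c⁻¹) * (c * z ^ ε * c⁻¹) * (c * z ^ i * c⁻¹) := by
      group
    rw [k1, ch', k2, Dh, pD, k3, ch, ce, pc', pc']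
    have k4 : h * z ^ i * (e * z ^ j) * z ^ ε * z ^ i = h * (z ^ i * e) * (z ^ j * z ^ ε * z ^ i) := by group
    have k5 : z ^ j * z ^ ε * z ^ i = z ^ i * z ^ (ε + j) := by
      rw [← pow_add, ← pow_add, ← pow_add]; congr 1; ring
    rw [k4, pe, k5]
    have k6 : h * (e * z ^ i) * (z ^ i * z ^ (ε + j)) = h * e * (z ^ i * z ^ i) * z ^ (ε + j) := by group
    rw [k6, z2, mul_one]
  · have k1 : (c * D * c⁻¹) * e * (c * D * c⁻¹)⁻¹ = c * (D * (c⁻¹ * e * c) * D⁻¹) * c⁻¹ := by group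
    have k2 : D * (e * z ^ j) * D⁻¹ = (D * e * D⁻¹) * (D * z ^ j * D⁻¹) := by group
    have k3 : c * (h * z ^ j) * c⁻¹ = (c * h * c⁻¹) * (c * z ^ j * c⁻¹) := by group
    rw [k1, ce', k2, De, pD, k3, ch, pc', mul_assoc, ← pow_add]

theorem aux2 {h e z D c U : C} (ε i j η : ℕ) (hε : ε ≤ 1) (hi : i = 1 - ε) (hj : j = (ε + η) % 2)
    (zz : z * z = 1) (zh : z * h = h * z) (ze : z * e = e * z)
    (zD : z * D = D * z) (zc : z * c = c * z) (eh : e * h = h * e * z)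
    (Dh : D * h * D⁻¹ = h * e * z ^ ε) (De : D * e * D⁻¹ = h)
    (ch : c * h * c⁻¹ = h * z ^ i) (ce : c * e * c⁻¹ = e * z ^ j) (hU : U = h * e * z ^ η) :
    (c * D * c⁻¹) * h * (c * D * c⁻¹)⁻¹ = U ∧ (c * D * c⁻¹) * U * (c * D * c⁻¹)⁻¹ = h * U := by
  obtain ⟨k1, k2⟩ := aux ε i j zz zh ze zD zc Dh De ch ce
  set d := c * D * c⁻¹ with hd
  have zd : z * d = d * z := by
    have c1 : Commute z c := zc
    have c2 : Commute z D := zD
    exact ((c1.mul_right c2).mul_right c1.inv_right).eq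
  have pd : d * z ^ η * d⁻¹ = z ^ η := by
    have k : Commute (z ^ η) d := Commute.pow_left (show Commute z d from zd) η
    rw [← k.eq, mul_inv_cancel_right]
  have k3 : d * U * d⁻¹ = (d * h * d⁻¹) * (d * e * d⁻¹) * (d * z ^ η * d⁻¹) := by rw [hU]; group
  rw [k3, k1, k2, pd, hU]
  have zp2 : z ^ 2 = 1 := by rw [pow_two, zz]
  have key : ∀ a b : ℕ, a % 2 = b % 2 → z ^ a = z ^ b := by
    intro a b hab
    rw [← Nat.div_add_mod a 2, ← Nat.div_add_mod b 2, hab, pow_add, pow_add, pow_mul, pow_mul, zp2, one_pow, one_pow]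
  have ph : ∀ n : ℕ, z ^ n * h = h * z ^ n := fun n => (Commute.pow_left (show Commute z h from zh) n).eq
  constructor
  · rw [key (ε + j) η (by omega)]
  · have k4 : h * e * z ^ (ε + j) * (h * z ^ (i + j)) * z ^ η = h * e * (z ^ (ε + j) * h) * z ^ (i + j) * z ^ η := by
      group
    have k5 : h * e * (h * z ^ (ε + j)) * z ^ (i + j) * z ^ η = h * (e * h) * z ^ (ε + j + (i + j) + η) := by
      rw [pow_add, pow_add]; group
    rw [k4, ph, k5, eh]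
    have k6 : h * (h * e * z) * z ^ (ε + j + (i + j) + η) = h * (h * e * z ^ (1 + (ε + j + (i + j) + η))) := by
      rw [pow_add z 1, pow_one]; group
    rw [k6, key (1 + (ε + j + (i + j) + η)) η (by omega)]

end Aux

/-- The standard odd automorphism of `Ru`. -/
structure DData {C : Type*} [Group C] {m : ℕ} (f : R m → R m → R m → C) (u d : C) : Prop where
  norm : d ∈ normalizer (Ru f u : Set C)
  odd : ¬ 2 ∣ orderOf d
  comm : ∀ b ∈ Bu f, d * b = b * d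
  one : d * h1 f * d⁻¹ = u * x1 f
  two : d * (u * x1 f) * d⁻¹ = h1 f * (u * x1 f)

section Half

variable {C : Type*} [Group C] [Finite C] {P : Subgroup C} {m : ℕ} {f : R m → R m → R m → C} {u : C} {X : Subgroup C}

omit [Finite C] in
theorem u_x1 (h : Half P m f u) : u * x1 f = f (N m) 0 (N m) * u := by
  rw [x1, h.u_f _ _ _ BOne.goodx1, neg_N, zero_add]

omit [Finite C] in
theorem h1_conj (h : Half P m f u) {t : C} (ht : t ∈ Tor f) : (t * u) * h1 f = h1 f * (t * u) * z1 f := by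
  have k1 := h.conj_T ht h.h1_mem
  rw [h.u_h1_u] at k1
  have k2 := mul_inv_eq_iff_eq_mul.1 k1
  rw [k2, mul_assoc, h.z1_comm (mul_mem (h.Tor_le ht) h.u_mem), ← mul_assoc]

/-- **The standard odd automorphism.** -/
theorem exists_std (h : Half P m f u) (hF : Full P (Ru f u) f) {g : C} (hx : g * x4 f = x4 f * g)
    (hg : g ∈ normalizer (Ru f u : Set C)) (ho : ¬ 2 ∣ orderOf g) (hgc : g ∉ centralizer (Ru f u : Set C)) :
    ∃ u', (u' = u ∨ u' = x4 f * u) ∧ ∃ d, DData f u' d := by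
  have hX := EX_Ru h
  obtain ⟨t, ht, htX, hgt, hsq, hcase⟩ := core h hX hF hx hg ho hgc
  have hcB : ∀ b ∈ Bu f, g * b = b * g := fun b hb => odd_comm_Bu h hX hx hg ho hb
  obtain ⟨y, hyT, q, hq, hgq, hyt⟩ := exists_conj_u h ht hsq
  have hRu := map_conj_eq h hX ht htX hyT hgq hyt
  have hyN : y ∈ normalizer (Ru f u : Set C) :=
    Cfsg.Agent.Lib.GoldschmidtFusion.mem_normalizer_iff_map_conj.2 hRu.symm
  have hyh : y * h1 f = h1 f * y := h.Tor_comm hyT h.h1_mem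
  have hyB : ∀ b ∈ Bu f, y * b = b * y := fun b hb => h.Tor_comm hyT (h.Bu_le hb)
  -- `D` is the inverse of `y⁻¹ g y`
  set d0 := y⁻¹ * g * y with hd0
  have hd0N : d0 ∈ normalizer (Ru f u : Set C) := mul_mem (mul_mem (inv_mem hyN) hg) hyN
  have hd0o : ¬ 2 ∣ orderOf d0 := by
    have e1 : y⁻¹ * g * y = MulAut.conj y⁻¹ g := by simp
    rw [hd0, e1, MulEquiv.orderOf_eq]
    exact ho
  have hd0B : ∀ b ∈ Bu f, d0 * b = b * d0 := by
    intro b' hb'
    have c1 : Commute y b' := hyB b' hb'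
    have c2 : Commute g b' := hcB b' hb'
    exact ((c1.inv_left.mul_left c2).mul_left c1).eq
  set e := f 0 q (M m) * u with he
  have hde1 : d0 * h1 f * d0⁻¹ = e := by
    have e1 : y⁻¹ * g * y * h1 f * (y⁻¹ * g * y)⁻¹ = y⁻¹ * (g * (y * h1 f * y⁻¹) * g⁻¹) * y := by group
    rw [hd0, e1, hyh, mul_inv_cancel_right, hgt, hyt]
  have hyz : y⁻¹ * z1 f * y = z1 f := by rw [mul_assoc, ← hyB _ h.z1_mem, inv_mul_cancel_left]
  have hde2 : ∃ ε : ℕ, ε ≤ 1 ∧ d0 * e * d0⁻¹ = h1 f * e * z1 f ^ ε := by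
    have e1 : d0 * e * d0⁻¹ = y⁻¹ * (g * (t * u) * g⁻¹) * y := by
      rw [← hyt, hd0]; group
    have e3 : y⁻¹ * h1 f * y = h1 f := by rw [mul_assoc, ← hyh, inv_mul_cancel_left]
    rcases hcase with k | k
    · refine ⟨0, by omega, ?_⟩
      have e2 : y⁻¹ * (h1 f * (t * u)) * y = (y⁻¹ * h1 f * y) * (y⁻¹ * (t * u) * y) := by group
      rw [e1, k, e2, e3, hyt, pow_zero, mul_one]
    · refine ⟨1, le_rfl, ?_⟩
      have e2 : y⁻¹ * (h1 f * (t * u) * z1 f) * y = (y⁻¹ * h1 f * y) * (y⁻¹ * (t * u) * y) * (y⁻¹ * z1 f * y) := by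
        group
      rw [e1, k, e2, e3, hyt, hyz, pow_one]
  obtain ⟨ε, hε, hde2⟩ := hde2
  have heT : f 0 q (M m) ∈ Tor f := h.f_mem_Tor hgq
  have heP : e ∈ P := mul_mem (h.Tor_le heT) h.u_mem
  have zh : z1 f * h1 f = h1 f * z1 f := h.z1_comm (h.Tor_le h.h1_mem)
  have ze : z1 f * e = e * z1 f := h.z1_comm heP
  have eh : e * h1 f = h1 f * e * z1 f := h1_conj h heT
  have hz0 : z1 f * d0 = d0 * z1 f := (hd0B _ h.z1_mem).symm
  have zpe : ∀ n : ℕ, z1 f ^ n * e = e * z1 f ^ n := fun n => (Commute.pow_left (show Commute _ e from ze) n).eq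
  have z2 : ∀ n : ℕ, z1 f ^ n * z1 f ^ n = 1 := by
    intro n
    rw [← pow_add, ← two_mul, pow_mul, pow_two, h.z1_sq, one_pow]
  have hDe : d0⁻¹ * e * d0⁻¹⁻¹ = h1 f := by rw [← hde1]; group
  have pD : ∀ n : ℕ, d0⁻¹ * z1 f ^ n * d0⁻¹⁻¹ = z1 f ^ n := by
    intro n
    have k : Commute (z1 f ^ n) d0 := Commute.pow_left (show Commute _ d0 from hz0) n
    rw [inv_inv, mul_assoc, k.eq, inv_mul_cancel_left]
  have hDh : d0⁻¹ * h1 f * d0⁻¹⁻¹ = h1 f * e * z1 f ^ ε := by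
    have k1 : e = d0⁻¹ * (h1 f * e * z1 f ^ ε) * d0⁻¹⁻¹ := by rw [← hde2]; group
    have k2 : d0⁻¹ * (h1 f * e * z1 f ^ ε) * d0⁻¹⁻¹ = (d0⁻¹ * h1 f * d0⁻¹⁻¹) * (d0⁻¹ * e * d0⁻¹⁻¹) *
      (d0⁻¹ * z1 f ^ ε * d0⁻¹⁻¹) := by group
    rw [k2, hDe, pD] at k1
    have k3 : d0⁻¹ * h1 f * d0⁻¹⁻¹ = e * z1 f ^ ε * (h1 f)⁻¹ := by
      have k4 : (d0⁻¹ * h1 f * d0⁻¹⁻¹) * h1 f = e * z1 f ^ ε := by
        calc (d0⁻¹ * h1 f * d0⁻¹⁻¹) * h1 f = (d0⁻¹ * h1 f * d0⁻¹⁻¹ * h1 f * z1 f ^ ε) * z1 f ^ ε := by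
              rw [mul_assoc _ (z1 f ^ ε), z2, mul_one]
          _ = e * z1 f ^ ε := by rw [← k1]
      rw [← k4, mul_inv_cancel_right]
    have k5 : (h1 f)⁻¹ = h1 f * z1 f := by
      rw [inv_eq_iff_mul_eq_one, ← mul_assoc, h.h1_sq, h.z1_sq]
    have k6 : z1 f ^ ε * (h1 f * z1 f) = h1 f * z1 f * z1 f ^ ε := by
      have c1 : Commute (z1 f ^ ε) (h1 f * z1 f) :=
        Commute.pow_left (Commute.mul_right (show Commute _ _ from zh) (Commute.refl _)) ε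
      exact c1.eq
    rw [k3, k5, mul_assoc, k6, ← mul_assoc, ← mul_assoc, eh]
    have k7 : h1 f * e * z1 f * z1 f * z1 f ^ ε = h1 f * e * (z1 f * z1 f) * z1 f ^ ε := by group
    rw [k7, h.z1_sq, mul_one]
  -- the new `u`
  have hg0M : Good 0 0 (M m) := good_of_N (Or.inl rfl) (Or.inl rfl) four_mul_M
  obtain ⟨u', hu', h', η, hη, hU⟩ : ∃ u', (u' = u ∨ u' = x4 f * u) ∧ ∃ _ : Half P m f u', ∃ η : ℕ, η ≤ 1 ∧
      u' * x1 f = h1 f * e * z1 f ^ η := by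
    rcases hq with rfl | rfl
    · refine ⟨u, Or.inl rfl, h, 1, le_rfl, ?_⟩
      have k1 : h1 f * e * z1 f ^ 1 = h1 f * f 0 0 (M m) * z1 f * u := by
        rw [pow_one, he, mul_assoc, mul_assoc, mul_assoc, mul_assoc, ← h.z1_comm h.u_mem]
      rw [k1, u_x1 h, h1, z1, h.f_mul _ _ _ _ _ _ BOne.goodh1 hg0M,
        h.f_mul _ _ _ _ _ _ (BOne.goodh1.add hg0M) BOne.good1]
      congr 2
      · rw [add_zero, add_zero]
      · rw [add_zero, add_zero]
      · rw [neg_add_cancel, zero_add]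
    · refine ⟨x4 f * u, Or.inr rfl, twist h, 0, by omega, ?_⟩
      rw [u_x1 (twist h), pow_zero, mul_one, he, ← mul_assoc, ← mul_assoc, x4, h1,
        h.f_mul _ _ _ _ _ _ BOne.goodx2 BOne.goodx4, h.f_mul _ _ _ _ _ _ BOne.goodh1 hgq]
      congr 2
      rw [N_add_N, neg_add_cancel]
  -- the conjugating element
  set i := 1 - ε with hi
  set j := (ε + η) % 2 with hj
  obtain ⟨c, hcR, hch, hce⟩ : ∃ c ∈ Ru f u, c * h1 f * c⁻¹ = h1 f * z1 f ^ i ∧ c * e * c⁻¹ = e * z1 f ^ j := by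
    have heR : e ∈ Ru f u := mul_mem (Bu_le_Ru (h.f_mem_Bu hgq)) u_mem_Ru
    have r1 : h1 f * e * (h1 f)⁻¹ = e * z1 f := by
      rw [mul_inv_eq_iff_eq_mul]
      calc h1 f * e = h1 f * e * (z1 f * z1 f) := by rw [h.z1_sq, mul_one]
        _ = (h1 f * e * z1 f) * z1 f := by group
        _ = e * h1 f * z1 f := by rw [eh]
        _ = e * z1 f * h1 f := by rw [mul_assoc e, ← zh, ← mul_assoc]
    have r2 : e * h1 f * e⁻¹ = h1 f * z1 f := by
      rw [eh, mul_assoc, mul_assoc, ← mul_assoc e, ← ze, mul_inv_cancel_right]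
    have hi' : i = 0 ∨ i = 1 := by omega
    have hj' : j = 0 ∨ j = 1 := by omega
    rcases hi' with hi' | hi' <;> rcases hj' with hj' | hj' <;> rw [hi', hj']
    · exact ⟨1, one_mem _, by simp, by simp⟩
    · exact ⟨h1 f, h1_mem_Ru, by rw [mul_inv_cancel_right, pow_zero, mul_one], by rw [r1, pow_one]⟩
    · exact ⟨e, heR, by rw [r2, pow_one], by rw [mul_inv_cancel_right, pow_zero, mul_one]⟩
    · refine ⟨h1 f * e, mul_mem h1_mem_Ru heR, ?_, ?_⟩
      · have k1 : h1 f * e * h1 f * (h1 f * e)⁻¹ = h1 f * (e * h1 f * e⁻¹) * (h1 f)⁻¹ := by group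
        rw [k1, r2, pow_one, ← zh, ← mul_assoc, mul_inv_cancel_right, zh]
      · have k1 : h1 f * e * e * (h1 f * e)⁻¹ = h1 f * e * (h1 f)⁻¹ := by group
        rw [k1, r1, pow_one]
  have hcP : c ∈ P := Ru_le h hcR
  have zc : z1 f * c = c * z1 f := h.z1_comm hcP
  have zD : z1 f * d0⁻¹ = d0⁻¹ * z1 f := (Commute.inv_right (show Commute (z1 f) d0 from hz0)).eq
  obtain ⟨k1, k2⟩ := aux2 ε i j η hε hi hj h.z1_sq zh ze zD zc eh hDh hDe hch hce hU
  have hRu' : Ru f u' = Ru f u := by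
    rcases hu' with rfl | rfl
    · rfl
    · exact Ru_twist h
  refine ⟨u', hu', c * d0⁻¹ * c⁻¹, ?_, ?_, ?_, k1, k2⟩
  · rw [hRu']
    exact mul_mem (mul_mem (le_normalizer hcR) (inv_mem hd0N)) (inv_mem (le_normalizer hcR))
  · have e1 : c * d0⁻¹ * c⁻¹ = MulAut.conj c d0⁻¹ := by simp
    rw [e1, MulEquiv.orderOf_eq, orderOf_inv]
    exact hd0o
  · intro b hb
    have c1 : Commute c b := (h.Bu_comm hb hcP).symm
    have c2 : Commute d0 b := hd0B b hb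
    exact ((c1.mul_left c2.inv_left).mul_left c1.inv_left).eq

/-! ### All odd automorphisms of `Ru` -/

omit [Finite C] in
theorem triv_of (h : Half P m f u) (hX : EX P X f u) {k : C} (hk : k ∈ normalizer (X : Set C))
    (hkB : ∀ b ∈ Bu f, k * b = b * k) (k1 : ∃ b ∈ Bu f, k * h1 f * k⁻¹ = h1 f * b) {t : C} (ht : t ∈ Tor f)
    (htu : t * u ∈ X) (k2 : ∃ b ∈ Bu f, k * (t * u) * k⁻¹ = (t * u) * b) : k ∈ triv h hX := by
  obtain ⟨b1, hb1, k1⟩ := k1
  obtain ⟨b2, hb2, k2⟩ := k2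
  have hkB' : ∀ b ∈ Bu f, k * b * k⁻¹ = b := fun b hb => by rw [hkB b hb, mul_inv_cancel_right]
  have htP : t * u ∈ P := hX.le htu
  have hhP : h1 f ∈ P := h.Tor_le h.h1_mem
  refine ⟨hk, fun e he => ?_⟩
  obtain ⟨b', hb', k3 | k3 | k3 | k3⟩ := mem_cases h hX he ht htu
  · rw [k3, hkB' b' hb', mul_inv_cancel]; exact one_mem _
  · have e1 : k * (h1 f * b') * k⁻¹ * (h1 f * b')⁻¹ = (k * h1 f * k⁻¹) * (k * b' * k⁻¹) * b'⁻¹ * (h1 f)⁻¹ := by
      group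
    rw [k3, e1, k1, hkB' b' hb', mul_inv_cancel_right, ← h.Bu_comm hb1 hhP, mul_inv_cancel_right]
    exact hb1
  · have e1 : k * (t * u * b') * k⁻¹ * (t * u * b')⁻¹ = (k * (t * u) * k⁻¹) * (k * b' * k⁻¹) * b'⁻¹ * (t * u)⁻¹ := by
      group
    rw [k3, e1, k2, hkB' b' hb', mul_inv_cancel_right, ← h.Bu_comm hb2 htP, mul_inv_cancel_right]
    exact hb2
  · have e1 : k * (h1 f * (t * u) * b') * k⁻¹ * (h1 f * (t * u) * b')⁻¹ =
        (k * h1 f * k⁻¹) * (k * (t * u) * k⁻¹) * (k * b' * k⁻¹) * b'⁻¹ * (t * u)⁻¹ * (h1 f)⁻¹ := by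
      group
    rw [k3, e1, k1, k2, hkB' b' hb', mul_inv_cancel_right, ← h.Bu_comm hb1 hhP, ← h.Bu_comm hb2 htP,
      mul_assoc (b1 * h1 f), mul_inv_cancel_right, mul_assoc b1, h.Bu_comm hb2 hhP |>.symm, ← mul_assoc,
      mul_inv_cancel_right]
    exact mul_mem hb1 hb2

/-- the quaternion group `⟨h1, u x1⟩` -/
def Qe (f : R m → R m → R m → C) (u : C) : Subgroup C := closure {h1 f, u * x1 f}

omit [Finite C] in
theorem h1_mem_Qe : h1 f ∈ Qe f u := subset_closure (Or.inl rfl)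

omit [Finite C] in
theorem ux1_mem_Qe : u * x1 f ∈ Qe f u := subset_closure (Or.inr rfl)

omit [Finite C] in
theorem z1_mem_Qe (h : Half P m f u) : z1 f ∈ Qe f u := by
  rw [← h.h1_sq]; exact mul_mem h1_mem_Qe h1_mem_Qe

omit [Finite C] in
theorem DData.three (h : Half P m f u) {d : C} (hd : DData f u d) :
    d * (h1 f * (u * x1 f)) * d⁻¹ = h1 f := by
  have e1 : d * (h1 f * (u * x1 f)) * d⁻¹ = (d * h1 f * d⁻¹) * (d * (u * x1 f) * d⁻¹) := by group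
  have hx2 : f (N m) 0 (N m) ∈ Tor f := h.f_mem_Tor BOne.goodx2
  have k1 : (u * x1 f) * h1 f = h1 f * (u * x1 f) * z1 f := by
    rw [u_x1 h]; exact h1_conj h hx2
  have k2 : (u * x1 f) * (u * x1 f) = z1 f := by
    have e2 : (u * x1 f) * (u * x1 f) = (u * x1 f * u) * x1 f := by group
    rw [e2, x1, h.u_f_u BOne.goodx1, h.f_mul _ _ _ _ _ _ BOne.goodx1.actu BOne.goodx1, z1, neg_N, N_add_N]
    simp only [add_zero, zero_add]
  have hUP : u * x1 f ∈ P := mul_mem h.u_mem (h.Tor_le (h.f_mem_Tor BOne.goodx1))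
  rw [e1, hd.one, hd.two, ← mul_assoc, k1]
  have e3 : h1 f * (u * x1 f) * z1 f * (u * x1 f) = h1 f * (u * x1 f) * (z1 f * (u * x1 f)) := by group
  have e4 : h1 f * (u * x1 f) * (u * x1 f * z1 f) = h1 f * ((u * x1 f) * (u * x1 f)) * z1 f := by group
  rw [e3, h.z1_comm hUP, e4, k2, mul_assoc, h.z1_sq, mul_one]

omit [Finite C] in
theorem x2_mem (h : Half P m f u) : f (N m) 0 (N m) ∈ Tor f := h.f_mem_Tor BOne.goodx2

omit [Finite C] in
theorem ux1_mem_Ru (h : Half P m f u) : u * x1 f ∈ Ru f u :=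
  mul_mem u_mem_Ru (f_mem_Ru h two_mul_N BOne.goodx1)

omit [Finite C] in
/-- the elements of `Ru` -/
theorem mem_Ru_cases (h : Half P m f u) {r : C} (hr : r ∈ Ru f u) :
    ∃ q ∈ Qe f u, ∃ b ∈ Bu f, r = q * b ∧ (q = 1 ∨ q = h1 f ∨ q = u * x1 f ∨ q = h1 f * (u * x1 f)) := by
  have htu : f (N m) 0 (N m) * u ∈ Ru f u := by rw [← u_x1 h]; exact ux1_mem_Ru h
  obtain ⟨b, hb, k⟩ := mem_cases h (EX_Ru h) hr (x2_mem h) htu
  rw [← u_x1 h] at k
  rcases k with k | k | k | k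
  · exact ⟨1, one_mem _, b, hb, by rw [one_mul]; exact k, Or.inl rfl⟩
  · exact ⟨_, h1_mem_Qe, b, hb, k, Or.inr (Or.inl rfl)⟩
  · exact ⟨_, ux1_mem_Qe, b, hb, k, Or.inr (Or.inr (Or.inl rfl))⟩
  · exact ⟨_, mul_mem h1_mem_Qe ux1_mem_Qe, b, hb, k, Or.inr (Or.inr (Or.inr rfl))⟩

omit [Finite C] in
theorem DData.map_Qe (h : Half P m f u) {d : C} (hd : DData f u d) :
    (Qe f u).map (MulAut.conj d).toMonoidHom = Qe f u := by
  apply le_antisymm
  · rw [Qe, MonoidHom.map_closure, closure_le]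
    rintro _ ⟨x, hx | hx, rfl⟩
    · rw [hx]
      change d * h1 f * d⁻¹ ∈ Qe f u
      rw [hd.one]; exact ux1_mem_Qe
    · have hx' : x = u * x1 f := hx
      rw [hx']
      change d * (u * x1 f) * d⁻¹ ∈ Qe f u
      rw [hd.two]; exact mul_mem h1_mem_Qe ux1_mem_Qe
  · conv_lhs => rw [Qe]
    rw [closure_le]
    rintro x (hx | hx)
    · rw [hx]
      exact ⟨_, mul_mem h1_mem_Qe ux1_mem_Qe, hd.three h⟩
    · have hx' : x = u * x1 f := hx
      rw [hx']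
      exact ⟨_, h1_mem_Qe, hd.one⟩

omit [Finite C] in
theorem DData.conj_mem_Qe (h : Half P m f u) {d : C} (hd : DData f u d) {q : C} (hq : q ∈ Qe f u) :
    d * q * d⁻¹ ∈ Qe f u := by
  rw [← hd.map_Qe h]; exact ⟨q, hq, rfl⟩

omit [Finite C] in
theorem DData.conj_mem_Qe' (h : Half P m f u) {d : C} (hd : DData f u d) {q : C} (hq : q ∈ Qe f u) :
    d⁻¹ * q * d ∈ Qe f u := by
  rw [← hd.map_Qe h] at hq
  obtain ⟨q', hq', rfl⟩ := hq
  change d⁻¹ * (d * q' * d⁻¹) * d ∈ Qe f u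
  have e1 : d⁻¹ * (d * q' * d⁻¹) * d = q' := by group
  rw [e1]; exact hq'

omit [Finite C] in
theorem DData.comm_mem (h : Half P m f u) {d : C} (hd : DData f u d) {r : C} (hr : r ∈ Ru f u) :
    r⁻¹ * (d * r * d⁻¹) ∈ Qe f u ∧ r⁻¹ * (d⁻¹ * r * d) ∈ Qe f u := by
  obtain ⟨q, hq, b, hb, rfl, -⟩ := mem_Ru_cases h hr
  have k1 : d * b * d⁻¹ = b := by rw [hd.comm b hb, mul_inv_cancel_right]
  have k2 : d⁻¹ * b * d = b := by rw [mul_assoc, ← hd.comm b hb, inv_mul_cancel_left]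
  have key : ∀ c ∈ Qe f u, (q * b)⁻¹ * (c * b) ∈ Qe f u := by
    intro c hc
    have hcP : c ∈ P := by
      refine (closure_le _).2 ?_ hc
      rintro x (hx | hx)
      · rw [hx]; exact h.Tor_le h.h1_mem
      · have hx' : x = u * x1 f := hx
        rw [hx']; exact Ru_le h (ux1_mem_Ru h)
    have hqP : q ∈ P := by
      refine (closure_le _).2 ?_ hq
      rintro x (hx | hx)
      · rw [hx]; exact h.Tor_le h.h1_mem
      · have hx' : x = u * x1 f := hx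
        rw [hx']; exact Ru_le h (ux1_mem_Ru h)
    have e1 : (q * b)⁻¹ * (c * b) = b⁻¹ * ((q⁻¹ * c) * b) := by group
    rw [e1, ← h.Bu_comm hb (mul_mem (inv_mem hqP) hcP), inv_mul_cancel_left]
    exact mul_mem (inv_mem hq) hc
  constructor
  · have e1 : d * (q * b) * d⁻¹ = (d * q * d⁻¹) * (d * b * d⁻¹) := by group
    rw [e1, k1]
    exact key _ (hd.conj_mem_Qe h hq)
  · have e1 : d⁻¹ * (q * b) * d = (d⁻¹ * q * d) * (d⁻¹ * b * d) := by group
    rw [e1, k2]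
    exact key _ (hd.conj_mem_Qe' h hq)

/-- **(E2)**: every odd element of `N(Ru) ⊓ C(x4)` satisfies `[Ru, g] ≤ ⟨h1, u x1⟩`. -/
theorem commutator_mem_Qe (h : Half P m f u) (hF : Full P (Ru f u) f) {d : C} (hd : DData f u d) {g : C}
    (hx : g * x4 f = x4 f * g) (hg : g ∈ normalizer (Ru f u : Set C)) (ho : ¬ 2 ∣ orderOf g) {r : C}
    (hr : r ∈ Ru f u) : r⁻¹ * (g * r * g⁻¹) ∈ Qe f u := by
  by_cases hgc : g ∈ centralizer (Ru f u : Set C)
  · have k := mem_centralizer_iff.1 hgc r hr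
    rw [← k, mul_inv_cancel_right, inv_mul_cancel]
    exact one_mem _
  have hX := EX_Ru h
  obtain ⟨t, ht, htX, hgt, hsq, hcase⟩ := core h hX hF hx hg ho hgc
  have hcB : ∀ b ∈ Bu f, g * b = b * g := fun b hb => odd_comm_Bu h hX hx hg ho hb
  have hcB' : ∀ b ∈ Bu f, g * b * g⁻¹ = b := fun b hb => by rw [hcB b hb, mul_inv_cancel_right]
  have hdB' : ∀ b ∈ Bu f, d * b * d⁻¹ = b := fun b hb => by rw [hd.comm b hb, mul_inv_cancel_right]
  have hdB'' : ∀ b ∈ Bu f, d⁻¹ * b * d = b := fun b hb => by rw [mul_assoc, ← hd.comm b hb, inv_mul_cancel_left]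
  have hUP : u * x1 f ∈ P := Ru_le h (ux1_mem_Ru h)
  have hhP : h1 f ∈ P := h.Tor_le h.h1_mem
  have hx2u : f (N m) 0 (N m) * u ∈ Ru f u := by rw [← u_x1 h]; exact ux1_mem_Ru h
  have hUh : (u * x1 f) * h1 f = h1 f * (u * x1 f) * z1 f := by
    rw [u_x1 h]; exact h1_conj h (x2_mem h)
  -- `g (t u) g⁻¹ = h1 (t u) w`
  obtain ⟨w, hw, hgw⟩ : ∃ w ∈ Bu f, g * (t * u) * g⁻¹ = h1 f * (t * u) * w := by
    rcases hcase with k | k
    · exact ⟨1, one_mem _, by rw [k, mul_one]⟩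
    · exact ⟨z1 f, h.z1_mem, k⟩
  -- a suitable `k`
  have final : ∀ e : C, (e = d ∨ e = d⁻¹) → e⁻¹ * g ∈ triv h hX → r⁻¹ * (g * r * g⁻¹) ∈ Qe f u := by
    intro e he hk
    have heB : ∀ b ∈ Bu f, e * b = b * e := by
      intro b hb
      rcases he with rfl | rfl
      · exact hd.comm b hb
      · exact (Commute.inv_left (show Commute d b from hd.comm b hb)).eq
    have heQ : r⁻¹ * (e * r * e⁻¹) ∈ Qe f u := by
      rcases he with rfl | rfl
      · exact (hd.comm_mem h hr).1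
      · rw [inv_inv]; exact (hd.comm_mem h hr).2
    have hkB : ∀ b ∈ Bu f, e⁻¹ * g * b = b * (e⁻¹ * g) := by
      intro b hb
      have c1 : Commute e b := heB b hb
      have c2 : Commute g b := hcB b hb
      exact (c1.inv_left.mul_left c2).eq
    have k1 : ∃ w ∈ Qe f u, w ∈ Bu f ∧ e⁻¹ * g * r * (e⁻¹ * g)⁻¹ = w * r := by
      rcases triv_mem h hX hF hk hkB hr with k | k
      · exact ⟨1, one_mem _, one_mem _, mul_inv_eq_iff_eq_mul.1 k⟩
      · exact ⟨z1 f, z1_mem_Qe h, h.z1_mem, mul_inv_eq_iff_eq_mul.1 k⟩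
    obtain ⟨w, hwQ, hwB, k1⟩ := k1
    have e1 : g * r * g⁻¹ = e * (e⁻¹ * g * r * (e⁻¹ * g)⁻¹) * e⁻¹ := by group
    have e2 : e * (w * r) * e⁻¹ = (e * w * e⁻¹) * (e * r * e⁻¹) := by group
    have e3 : e * w * e⁻¹ = w := by rw [heB w hwB, mul_inv_cancel_right]
    have e4 : r⁻¹ * (w * (e * r * e⁻¹)) = w * (r⁻¹ * (e * r * e⁻¹)) := by
      have : r⁻¹ * w = w * r⁻¹ := (h.Bu_comm hwB (inv_mem (Ru_le h hr))).symm
      rw [← mul_assoc, this, mul_assoc]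
    rw [e1, k1, e2, e3, e4]
    exact mul_mem hwQ heQ
  -- the two cases
  obtain ⟨b, hb, hcase2⟩ := mem_cases h hX htX (x2_mem h) hx2u
  rw [← u_x1 h] at hcase2
  have htT := h.tu_notMem ht
  rcases hcase2 with k | k | k | k
  · exact absurd (k ▸ h.Bu_le hb) htT
  · exact absurd (k ▸ mul_mem h.h1_mem (h.Bu_le hb)) htT
  · -- `g h1 g⁻¹ = U b`
    apply final d (Or.inl rfl)
    have hkN : d⁻¹ * g ∈ normalizer (Ru f u : Set C) := mul_mem (inv_mem hd.norm) hg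
    have hkB : ∀ b ∈ Bu f, d⁻¹ * g * b = b * (d⁻¹ * g) := by
      intro b hb
      have c1 : Commute d b := hd.comm b hb
      have c2 : Commute g b := hcB b hb
      exact (c1.inv_left.mul_left c2).eq
    refine triv_of h hX hkN hkB ⟨b, hb, ?_⟩ (x2_mem h) hx2u ⟨w, hw, ?_⟩
    · have e1 : d⁻¹ * g * h1 f * (d⁻¹ * g)⁻¹ = d⁻¹ * (g * h1 f * g⁻¹) * d := by group
      have e2 : d⁻¹ * ((u * x1 f) * b) * d = d⁻¹ * (u * x1 f) * d * (d⁻¹ * b * d) := by group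
      rw [e1, hgt, k, e2, hdB'' b hb, ← hd.one]
      group
    · have k1 : g * (u * x1 f) * g⁻¹ = h1 f * (u * x1 f) * w := by
        have e1 : g * ((u * x1 f) * b) * g⁻¹ = (g * (u * x1 f) * g⁻¹) * (g * b * g⁻¹) := by group
        rw [k, e1, hcB' b hb] at hgw
        have e2 : h1 f * (u * x1 f * b) * w = (h1 f * (u * x1 f) * w) * b := by
          have : b * w = w * b := h.Tor_comm (h.Bu_le hb) (h.Bu_le hw)
          rw [← mul_assoc, mul_assoc _ b w, this, ← mul_assoc]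
        rw [e2] at hgw
        exact mul_right_cancel hgw
      rw [← u_x1 h]
      have e1 : d⁻¹ * g * (u * x1 f) * (d⁻¹ * g)⁻¹ = d⁻¹ * (g * (u * x1 f) * g⁻¹) * d := by group
      have e2 : d⁻¹ * (h1 f * (u * x1 f) * w) * d = d⁻¹ * (h1 f * (u * x1 f)) * d * (d⁻¹ * w * d) := by group
      rw [e1, k1, e2, hdB'' w hw, ← hd.two]
      group
  · -- `g h1 g⁻¹ = h1 U b`
    apply final d⁻¹ (Or.inr rfl)
    rw [inv_inv]
    have hkN : d * g ∈ normalizer (Ru f u : Set C) := mul_mem hd.norm hg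
    have hkB : ∀ b ∈ Bu f, d * g * b = b * (d * g) := by
      intro b hb
      have c1 : Commute d b := hd.comm b hb
      have c2 : Commute g b := hcB b hb
      exact (c1.mul_left c2).eq
    have k1 : ∃ w' ∈ Bu f, g * (u * x1 f) * g⁻¹ = h1 f * w' := by
      have hbP : b ∈ P := h.Tor_le (h.Bu_le hb)
      have e1 : g * (h1 f * (u * x1 f) * b) * g⁻¹ = (g * h1 f * g⁻¹) * (g * (u * x1 f) * g⁻¹) * (g * b * g⁻¹) := by
        group
      rw [k, e1, hcB' b hb, hgt, k] at hgw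
      refine ⟨z1 f * w * b⁻¹, mul_mem (mul_mem h.z1_mem hw) (inv_mem hb), ?_⟩
      have k2 : g * (u * x1 f) * g⁻¹ =
          (h1 f * (u * x1 f) * b)⁻¹ * (h1 f * (h1 f * (u * x1 f) * b) * w) * b⁻¹ := by
        rw [← hgw]; group
      have k3 : (h1 f * (u * x1 f) * b)⁻¹ * (h1 f * (h1 f * (u * x1 f) * b) * w) =
          b⁻¹ * ((u * x1 f)⁻¹ * (h1 f * (u * x1 f)) * b) * w := by group
      have k4 : (u * x1 f)⁻¹ * (h1 f * (u * x1 f)) = h1 f * z1 f := by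
        rw [inv_mul_eq_iff_eq_mul]
        calc h1 f * (u * x1 f) = h1 f * (u * x1 f) * (z1 f * z1 f) := by rw [h.z1_sq, mul_one]
          _ = (h1 f * (u * x1 f) * z1 f) * z1 f := by group
          _ = (u * x1 f) * h1 f * z1 f := by rw [hUh]
          _ = _ := by group
      have k5 : b⁻¹ * (h1 f * z1 f * b) = h1 f * z1 f := by
        rw [← h.Bu_comm hb (mul_mem hhP (h.Tor_le (h.Bu_le h.z1_mem))), inv_mul_cancel_left]
      rw [k2, k3, k4, k5]
      group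
    obtain ⟨w', hw', k1⟩ := k1
    refine triv_of h hX hkN hkB ⟨b, hb, ?_⟩ (x2_mem h) hx2u ⟨w', hw', ?_⟩
    · have e1 : d * g * h1 f * (d * g)⁻¹ = d * (g * h1 f * g⁻¹) * d⁻¹ := by group
      have e2 : d * (h1 f * (u * x1 f) * b) * d⁻¹ = d * (h1 f * (u * x1 f)) * d⁻¹ * (d * b * d⁻¹) := by group
      rw [e1, hgt, k, e2, hdB' b hb, hd.three h]
    · rw [← u_x1 h]
      have e1 : d * g * (u * x1 f) * (d * g)⁻¹ = d * (g * (u * x1 f) * g⁻¹) * d⁻¹ := by group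
      have e2 : d * (h1 f * w') * d⁻¹ = d * h1 f * d⁻¹ * (d * w' * d⁻¹) := by group
      rw [e1, k1, e2, hdB' w' hw', hd.one]

end Half

end Cfsg.Agent.LFourB.EssFive
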