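import Cfsg.Agent.LFourB.ClBEnd
import Cfsg.Agent.LFourB.ClBGen
import Cfsg.Agent.LFourB.CentXTail
import Cfsg.Agent.LFourB.EssFive

/-!
# Closing of type `B1`: `C(x4) ≤ M`
-/

set_option autoImplicit false

namespace Cfsg.Agent.LFourB

open Subgroup

namespace ClB

/-- Two involutions whose product lies in a subgroup of odd order are conjugate by an element of that subgroup. -/
theorem exists_conj_of_odd {G : Type*} [Group G] (O : Subgroup G) (hO : Odd (Nat.card O)) {a b : G}
    (ha : a * a = 1) (hb : b * b = 1) (hab : a * b ∈ O) : ∃ c ∈ O, c * b * c⁻¹ = a := by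
  obtain ⟨n, hn⟩ := Lib.KleinGen.exists_sqrt_exponent O hO
  obtain ⟨h1, -⟩ := hn _ hab
  have hb' : b⁻¹ = b := inv_eq_of_mul_eq_one_left hb
  have ha' : a⁻¹ = a := inv_eq_of_mul_eq_one_left ha
  refine ⟨(a * b) ^ n, O.pow_mem hab n, ?_⟩
  have h3 : b * (a * b)⁻¹ * b⁻¹ = a * b := by
    calc b * (a * b)⁻¹ * b⁻¹ = a⁻¹ * b⁻¹ := by group
      _ = a * b := by rw [ha', hb']
  have h2 : b * ((a * b) ^ n)⁻¹ * b⁻¹ = (a * b) ^ n := by
    rw [← inv_pow, ← conj_pow, h3]
  calc (a * b) ^ n * b * ((a * b) ^ n)⁻¹ = (a * b) ^ n * (b * ((a * b) ^ n)⁻¹ * b⁻¹) * b := by group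
    _ = (a * b) ^ n * (a * b) ^ n * b := by rw [h2]
    _ = a := by rw [h1, mul_assoc, hb, mul_one]

/-- Lifting of centralisers of involutions through an odd kernel. -/
theorem exists_cent_lift {Y X : Type*} [Group Y] [Group X] (p : Y →* X) (hO : Odd (Nat.card p.ker)) {v y : Y}
    (hv : v * v = 1) (hy : p y * p v = p v * p y) : ∃ c ∈ p.ker, (c * y) * v = v * (c * y) := by
  obtain ⟨c, hc, h1⟩ := exists_conj_of_odd p.ker hO (a := v) (b := y * v * y⁻¹) hv
    (by
      calc y * v * y⁻¹ * (y * v * y⁻¹) = y * (v * v) * y⁻¹ := by group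
        _ = 1 := by rw [hv, mul_one, mul_inv_cancel])
    (by
      rw [MonoidHom.mem_ker, map_mul, map_mul, map_mul, hy, map_inv, mul_inv_cancel_right, ← map_mul, hv, map_one])
  refine ⟨c, hc, ?_⟩
  have h3 : c * y * v * (c * y)⁻¹ = c * (y * v * y⁻¹) * c⁻¹ := by group
  exact mul_inv_eq_iff_eq_mul.mp (h3.trans h1)

/-- **Closing in a group with a normal simple section of type `PSL₃`.** -/
theorem eq_top_of_gen4 {Y X : Type*} [Group Y] [Finite Y] [Group X] (p : Y →* X) (hp : Function.Surjective p)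
    (hO : Odd (Nat.card p.ker)) (P : Sylow 2 Y) (L D : Subgroup X) (hL : L.Normal) (hD : D ≤ center X)
    (hPL : (P : Subgroup Y).map p ≤ L ⊔ D) (hG : Gen4 L) {u v : Y} (hu : u * u = 1) (hv : v * v = 1)
    (hu1 : u ≠ 1) (hv1 : v ≠ 1) (huv : u ≠ v) (huc : u * v = v * u) (huL : p u ∈ L) (hvL : p v ∈ L)
    {N : Subgroup Y} (hDN : D ≤ N.map p) (h1 : centralizer {u} ≤ N) (h2 : centralizer {v} ≤ N)
    (h3 : centralizer {u * v} ≤ N) (hPN : normalizer ((P : Subgroup Y) : Set Y) ≤ N) : N = ⊤ := by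
  have : Fact (Nat.Prime 2) := ⟨Nat.prime_two⟩
  have hker : p.ker ≤ N := by
    refine Lib.KleinGen.le_of_klein p.ker N hO u v hu hv huc
      (fun h hh => (inferInstance : p.ker.Normal).conj_mem h hh u)
      (fun h hh => (inferInstance : p.ker.Normal).conj_mem h hh v)
      (inf_le_right.trans h1) (inf_le_right.trans h2) (inf_le_right.trans h3)
  -- no involution is in the kernel
  have hnk : ∀ x : Y, x * x = 1 → x ≠ 1 → p x ≠ 1 := by
    intro x hx hx1 hpx
    have h5 : orderOf (⟨x, hpx⟩ : p.ker) = 2 := by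
      refine orderOf_eq_prime ?_ ?_
      · rw [pow_two]; exact Subtype.ext hx
      · exact fun k => hx1 (congrArg Subtype.val k)
    have h6 := orderOf_dvd_natCard (⟨x, hpx⟩ : p.ker)
    rw [h5] at h6
    exact (Nat.not_even_iff_odd.mpr hO) (even_iff_two_dvd.mpr h6)
  have hcent : ∀ x : Y, x * x = 1 → centralizer {x} ≤ N → centralizer {p x} ≤ N.map p := by
    intro x hx hxN y hy
    obtain ⟨z, rfl⟩ := hp y
    rw [mem_centralizer_singleton_iff] at hy
    obtain ⟨c, hc, h5⟩ := exists_cent_lift p hO hx hy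
    refine ⟨c * z, hxN (mem_centralizer_singleton_iff.mpr h5), ?_⟩
    rw [map_mul, MonoidHom.mem_ker.mp hc, one_mul]
  have hLN : L ≤ N.map p := by
    have h5 := hG ⟨p u, huL⟩ ⟨p v, hvL⟩ (Subtype.ext (by
        change p u * p u = 1
        rw [← map_mul, hu, map_one])) (Subtype.ext (by
        change p v * p v = 1
        rw [← map_mul, hv, map_one]))
      (fun k => hnk u hu hu1 (congrArg Subtype.val k)) (fun k => hnk v hv hv1 (congrArg Subtype.val k))
      (fun k => by
        have h6 : p u = p v := congrArg Subtype.val k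
        refine hnk (u * v) ?_ ?_ ?_
        · calc u * v * (u * v) = u * (v * u) * v := by group
            _ = u * u * (v * v) := by rw [← huc]; group
            _ = 1 := by rw [hu, hv, mul_one]
        · intro h7
          apply huv
          calc u = u * v * v := by rw [mul_assoc, hv, mul_one]
            _ = v := by rw [h7, one_mul]
        · rw [map_mul, h6, ← map_mul, hv, map_one])
      (Subtype.ext (by
        change p u * p v = p v * p u
        rw [← map_mul, huc, map_mul])) ((N.map p).subgroupOf L)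
      (fun x hx => by
        rw [mem_centralizer_singleton_iff] at hx
        exact hcent u hu h1 (mem_centralizer_singleton_iff.mpr (congrArg Subtype.val hx)))
      (fun x hx => by
        rw [mem_centralizer_singleton_iff] at hx
        exact hcent v hv h2 (mem_centralizer_singleton_iff.mpr (congrArg Subtype.val hx)))
    exact subgroupOf_eq_top.mp h5
  -- the normal subgroup `R`
  have hDn : D.Normal := ⟨fun d hd g => by
    rw [(mem_center_iff.mp (hD hd)) g, mul_inv_cancel_right]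
    exact hd⟩
  set R : Subgroup Y := (L ⊔ D).comap p with hR
  have hRn : R.Normal := (sup_normal L D).comap p
  have hPR : (P : Subgroup Y) ≤ R := map_le_iff_le_comap.mp hPL
  have hRN : R ≤ N := by
    intro y hy
    have h5 : p y ∈ N.map p := (sup_le hLN hDN) hy
    obtain ⟨n, hn, h6⟩ := h5
    have h7 : y * n⁻¹ ∈ p.ker := by rw [MonoidHom.mem_ker, map_mul, map_inv, h6, mul_inv_cancel]
    have h8 := N.mul_mem (hker h7) hn
    rwa [inv_mul_cancel_right] at h8
  have h9 := Sylow.normalizer_sup_eq_top' P hPR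
  rw [eq_top_iff, ← h9]
  exact sup_le hPN hRN

end ClB

namespace ClDat

variable {G : Type*} [Group G] {m : ℕ} {f : R m → R m → R m → G} {u w : G} {M : Subgroup G} {P : Sylow 2 G}

theorem cent_z2_le (h : ClDat (P : Subgroup G) f u w M) : centralizer {z2 f} ≤ M := by
  obtain ⟨n, hn, h1⟩ := h.hperm (Equiv.swap 1 2)
  have e0 := h1 0
  have e1 := h1 1
  rw [show (Equiv.swap (1 : Fin 4) 2) 0 = 0 by decide] at e0
  rw [show (Equiv.swap (1 : Fin 4) 2) 1 = 2 by decide] at e1
  have h2 : n * z1 f * n⁻¹ = z2 f := by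
    rw [← X01 h.toBOne, ← X02 h.toBOne]
    calc n * (X f 0 * X f 1) * n⁻¹ = (n * X f 0 * n⁻¹) * (n * X f 1 * n⁻¹) := by group
      _ = _ := by rw [e0, e1]
  rw [← h2]
  exact Lib.TwoClassEnd.centralizer_conj_le (h.hT hn) h.hz

theorem cent_z3_le (h : ClDat (P : Subgroup G) f u w M) : centralizer {z3 f} ≤ M := by
  obtain ⟨n, hn, h1⟩ := h.hperm (Equiv.swap 1 3)
  have e0 := h1 0
  have e1 := h1 1
  rw [show (Equiv.swap (1 : Fin 4) 3) 0 = 0 by decide] at e0
  rw [show (Equiv.swap (1 : Fin 4) 3) 1 = 3 by decide] at e1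
  have h2 : n * z1 f * n⁻¹ = z3 f := by
    rw [← X01 h.toBOne, ← X03 h.toBOne]
    calc n * (X f 0 * X f 1) * n⁻¹ = (n * X f 0 * n⁻¹) * (n * X f 1 * n⁻¹) := by group
      _ = _ := by rw [e0, e1]
  rw [← h2]
  exact Lib.TwoClassEnd.centralizer_conj_le (h.hT hn) h.hz

theorem z1_mul_z3 (h : BOne (P : Subgroup G) m f u w) : z1 f * z3 f = z2 f := by
  rw [z1, z3, h.f_mul _ _ _ _ _ _ BOne.good1 BOne.good3, zero_add, N_add_N]
  rfl

/-- **(C2)** `C(x4) ≤ M`. -/
theorem cent_x4_le [Finite G] (h : ClDat (P : Subgroup G) f u w M)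
    {PY : Sylow 2 (centralizer {x4 f} : Subgroup G)} {W D : Subgroup (centralizer {x4 f} : Subgroup G)}
    {L : Subgroup ((centralizer {x4 f} : Subgroup G) ⧸ Cfsg.pPrimeCore 2 (centralizer {x4 f} : Subgroup G))}
    (hO : CentXTail.Out PY W D L) (hPY : (PY : Subgroup (centralizer {x4 f} : Subgroup G)) = W ⊔ D)
    (hPS : (PY : Subgroup (centralizer {x4 f} : Subgroup G)).map (centralizer {x4 f} : Subgroup G).subtype ≤ P)
    (hTP : Tor f ≤ (PY : Subgroup (centralizer {x4 f} : Subgroup G)).map (centralizer {x4 f} : Subgroup G).subtype)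
    (hDT : D.map (centralizer {x4 f} : Subgroup G).subtype ≤ Tor f)
    {a b : (centralizer {x4 f} : Subgroup G)} (ha : (a : G) = z1 f) (hb : (b : G) = z3 f) (haW : a ∈ W) (hbW : b ∈ W)
    (hG : Gen4 L) : centralizer {x4 f} ≤ M := by
  have hz1 : z1 f * z1 f = 1 := by rw [← pow_two, ← z1_ord h.toBOne]; exact pow_orderOf_eq_one _
  have hz3 : z3 f * z3 f = 1 := by
    rw [z3, h.f_mul _ _ _ _ _ _ BOne.good3 BOne.good3, N_add_N, h.f_zero]
  have hz1n : z1 f ≠ 1 := fun k => by
    rw [z1, h.f_eq_one_iff BOne.good1] at k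
    exact N_ne_zero k.2.2
  have hz3n : z3 f ≠ 1 := fun k => by
    rw [z3, h.f_eq_one_iff BOne.good3] at k
    exact N_ne_zero k.2.2
  have hz13 : z1 f ≠ z3 f := fun k => by
    rw [z1, z3, h.f_eq_iff BOne.good1 BOne.good3] at k
    exact N_ne_zero k.1.symm
  have hcomm : z1 f * z3 f = z3 f * z1 f := h.f_comm BOne.good1 BOne.good3
  have hWL : ∀ x ∈ W, QuotientGroup.mk' (Cfsg.pPrimeCore 2 (centralizer {x4 f} : Subgroup G)) x ∈ L :=
    fun x hx => hO.W_le ⟨x, hx, rfl⟩
  have key := ClB.eq_top_of_gen4 (QuotientGroup.mk' (Cfsg.pPrimeCore 2 (centralizer {x4 f} : Subgroup G)))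
    (QuotientGroup.mk'_surjective _) (by
      rw [QuotientGroup.ker_mk']
      have h1 : (Nat.card (Cfsg.pPrimeCore 2 (centralizer {x4 f} : Subgroup G))).Coprime 2 :=
        Lib.Cores.pPrimeCore_coprime 2
      exact Nat.coprime_two_right.mp h1)
    PY L (D.map (QuotientGroup.mk' _)) hO.normal hO.center (by
      rw [hPY, Subgroup.map_sup]
      exact sup_le_sup_right hO.W_le _) hG
    (u := a) (v := b) (Subtype.ext (by rw [coe_mul, ha, hz1]; rfl)) (Subtype.ext (by rw [coe_mul, hb, hz3]; rfl))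
    (fun k => hz1n (by rw [← ha, k]; rfl)) (fun k => hz3n (by rw [← hb, k]; rfl))
    (fun k => hz13 (by rw [← ha, ← hb, k])) (Subtype.ext (by rw [coe_mul, coe_mul, ha, hb, hcomm]))
    (hWL a haW) (hWL b hbW) (N := M.subgroupOf (centralizer {x4 f})) (by
      apply Subgroup.map_mono
      intro d hd
      exact h.Tor_le_M (hDT ⟨d, hd, rfl⟩))
    (by
      intro x hx
      rw [mem_centralizer_singleton_iff] at hx
      apply h.hz
      rw [mem_centralizer_singleton_iff, ← ha]
      exact congrArg Subtype.val hx)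
    (by
      intro x hx
      rw [mem_centralizer_singleton_iff] at hx
      apply h.cent_z3_le
      rw [mem_centralizer_singleton_iff, ← hb]
      exact congrArg Subtype.val hx)
    (by
      intro x hx
      rw [mem_centralizer_singleton_iff] at hx
      apply h.cent_z2_le
      rw [mem_centralizer_singleton_iff, ← z1_mul_z3 h.toBOne, ← ha, ← hb]
      exact congrArg Subtype.val hx)
    (by
      intro g hg
      apply h.hT
      rw [Lib.GoldschmidtFusion.mem_normalizer_iff_map_conj]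
      apply h.weakly_closed
      rintro _ ⟨t, ht, rfl⟩
      obtain ⟨t', ht', rfl⟩ := hTP ht
      exact hPS ⟨g * t' * g⁻¹, (mem_normalizer_iff.mp hg t').mp ht', rfl⟩)
  exact subgroupOf_eq_top.mp key

end ClDat

end Cfsg.Agent.LFourB
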