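import Cfsg.Agent.LFourB.ClBFus

/-!
# Closing of type `B1`: a subgroup containing `C(z1)`, `C(x4)` and `N(T)` is the whole group
-/

set_option autoImplicit false

namespace Cfsg.Agent.LFourB

open Subgroup

variable {G : Type*} [Group G] {S : Subgroup G} {m : ℕ} {f : R m → R m → R m → G} {u w : G}

/-- `v` is `M`-conjugate to `z1` or to `x4`. -/
def Fu {G : Type*} [Group G] (M : Subgroup G) {m : ℕ} (f : R m → R m → R m → G) (v : G) : Prop :=
  ∃ g ∈ M, g * z1 f * g⁻¹ = v ∨ g * x4 f * g⁻¹ = v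

namespace Fu

theorem conj {M : Subgroup G} {v g : G} (hg : g ∈ M) (h : Fu M f v) : Fu M f (g * v * g⁻¹) := by
  obtain ⟨k, hk, h1 | h1⟩ := h
  · exact ⟨g * k, M.mul_mem hg hk, Or.inl (by rw [← h1]; group)⟩
  · exact ⟨g * k, M.mul_mem hg hk, Or.inr (by rw [← h1]; group)⟩

theorem of_conj {M : Subgroup G} {v g : G} (hg : g ∈ M) (h : Fu M f (g * v * g⁻¹)) : Fu M f v := by
  have h1 := conj (M.inv_mem hg) h
  have h2 : g⁻¹ * (g * v * g⁻¹) * g⁻¹⁻¹ = v := by group
  rwa [h2] at h1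

theorem of_eq {M : Subgroup G} {v v' g : G} (hg : g ∈ M) (h : Fu M f v) (he : g * v * g⁻¹ = v') : Fu M f v' :=
  he ▸ conj hg h

end Fu

/-- The data for the closing of type `B1`. -/
structure ClDat {G : Type*} [Group G] (S : Subgroup G) {m : ℕ} (f : R m → R m → R m → G) (u w : G) (M : Subgroup G) :
    Prop extends BOne S m f u w where
  hz : centralizer {z1 f} ≤ M
  hT : normalizer (Tor f : Set G) ≤ M
  hperm : ∀ ρ : Equiv.Perm (Fin 4), ∃ n ∈ normalizer (Tor f : Set G), ∀ i, n * X f i * n⁻¹ = X f (ρ i)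
  hcent : ∀ n ∈ normalizer (Tor f : Set G), (∀ i, n * X f i = X f i * n) → ∀ t ∈ Tor f, n * t = t * n
  hd : ∃ (d : G) (q : R m), DD f u d q

namespace ClDat

variable {M : Subgroup G}

theorem Tor_le_M (h : ClDat S f u w M) : Tor f ≤ M := le_normalizer.trans h.hT

theorem S_le_M (h : ClDat S f u w M) : S ≤ M := h.S_le_normalizer.trans h.hT

theorem fu_z1 : Fu M f (z1 f) := ⟨1, M.one_mem, Or.inl (by group)⟩

theorem fu_x4 : Fu M f (x4 f) := ⟨1, M.one_mem, Or.inr (by group)⟩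

theorem fu_X (h : ClDat S f u w M) (i : Fin 4) : Fu M f (X f i) := by
  obtain ⟨n, hn, h1⟩ := h.hperm (Equiv.swap 3 i)
  have h2 := h1 3
  rw [Equiv.swap_apply_left] at h2
  exact Fu.of_eq (h.hT hn) fu_x4 h2

theorem X01 (h : BOne S m f u w) : X f 0 * X f 1 = z1 f := by
  change x1 f * x2 f = z1 f
  rw [x1, x2, h.f_mul _ _ _ _ _ _ BOne.goodx1 BOne.goodx2, N_add_N, add_zero, zero_add]
  rfl

theorem X02 (h : BOne S m f u w) : X f 0 * X f 2 = z2 f := by
  change x1 f * x3 f = z2 f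
  rw [x1, x3, h.f_mul _ _ _ _ _ _ BOne.goodx1 BOne.goodx3, add_zero, zero_add, add_zero]
  rfl

theorem X03 (h : BOne S m f u w) : X f 0 * X f 3 = z3 f := by
  change x1 f * x4 f = z3 f
  rw [x1, x4, h.f_mul _ _ _ _ _ _ BOne.goodx1 BOne.goodx4, add_zero, zero_add]
  rfl

theorem fu_z2 (h : ClDat S f u w M) : Fu M f (z2 f) := by
  obtain ⟨n, hn, h1⟩ := h.hperm (Equiv.swap 1 2)
  refine Fu.of_eq (h.hT hn) fu_z1 ?_
  have e0 := h1 0
  have e1 := h1 1
  rw [show (Equiv.swap (1 : Fin 4) 2) 0 = 0 by decide] at e0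
  rw [show (Equiv.swap (1 : Fin 4) 2) 1 = 2 by decide] at e1
  rw [← X01 h.toBOne, ← X02 h.toBOne]
  calc n * (X f 0 * X f 1) * n⁻¹ = (n * X f 0 * n⁻¹) * (n * X f 1 * n⁻¹) := by group
    _ = _ := by rw [e0, e1]

theorem fu_z3 (h : ClDat S f u w M) : Fu M f (z3 f) := by
  obtain ⟨n, hn, h1⟩ := h.hperm (Equiv.swap 1 3)
  refine Fu.of_eq (h.hT hn) fu_z1 ?_
  have e0 := h1 0
  have e1 := h1 1
  rw [show (Equiv.swap (1 : Fin 4) 3) 0 = 0 by decide] at e0
  rw [show (Equiv.swap (1 : Fin 4) 3) 1 = 3 by decide] at e1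
  rw [← X01 h.toBOne, ← X03 h.toBOne]
  calc n * (X f 0 * X f 1) * n⁻¹ = (n * X f 0 * n⁻¹) * (n * X f 1 * n⁻¹) := by group
    _ = _ := by rw [e0, e1]

theorem fu_Tor (h : ClDat S f u w M) {t : G} (ht : t ∈ Tor f) (hi : t * t = 1) (h1 : t ≠ 1) : Fu M f t := by
  rcases h.involution_Tor ht hi with rfl | rfl | rfl | rfl | rfl | rfl | rfl | rfl
  · exact absurd rfl h1
  · exact fu_z1
  · exact h.fu_z2
  · exact h.fu_z3
  · exact h.fu_X 0
  · exact h.fu_X 1
  · exact h.fu_X 2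
  · exact h.fu_X 3

theorem d_mem {d : G} (h : ClDat S f u w M) (hd : ∀ b ∈ Bu f, d * b = b * d) : d ∈ M := by
  apply h.hz
  rw [mem_centralizer_singleton_iff]
  exact hd _ (h.mem_Bu.mpr ⟨0, N m, BOne.good1, rfl⟩)

theorem good_M (m : ℕ) : Good (0 : R m) 0 (LFourB.M m) := BOne.good_qM (Or.inl rfl)

/-- the involutions over `u` -/
theorem fu_u (h : ClDat S f u w M) : Fu M f u ∧ Fu M f (x4 f * u) := by
  obtain ⟨d, q, D⟩ := h.hd
  have hdM : d ∈ M := h.d_mem D.comm
  have hg := BOne.good_qM D.q_eq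
  have hb : f 0 0 (LFourB.M m) ∈ Bu f := h.mem_Bu.mpr ⟨0, LFourB.M m, good_M m, rfl⟩
  have hx : x4 f ∈ Bu f := h.mem_Bu.mpr ⟨N m, N m, BOne.goodx4, rfl⟩
  have e1 : h1 f * f 0 0 (LFourB.M m) = x1 f := by
    rw [h1, h.f_mul _ _ _ _ _ _ BOne.goodh1 (good_M m), add_zero, add_zero, neg_add_cancel]
    rfl
  have hq0 : Good (0 : R m) q (N m) := by
    rcases D.q_eq with rfl | rfl
    · exact BOne.good1
    · exact BOne.goodx4
  have e2 : f 0 q (LFourB.M m) * u * f 0 0 (LFourB.M m) = f 0 q (N m) * u := by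
    rw [mul_assoc, ← (h.mem_Bu_iff.mp hb).2, ← mul_assoc, h.f_mul _ _ _ _ _ _ hg (good_M m), add_zero, add_zero,
      M_add_M]
  have a1 : Fu M f (f 0 q (N m) * u) := by
    refine Fu.of_eq hdM (h.fu_X 0) ?_
    change d * x1 f * d⁻¹ = _
    rw [← e1, ← e2]
    calc d * (h1 f * f 0 0 (LFourB.M m)) * d⁻¹ = (d * h1 f * d⁻¹) * (d * f 0 0 (LFourB.M m) * d⁻¹) := by group
      _ = _ := by rw [D.h1, D.comm _ hb, mul_inv_cancel_right]
  have a2 : Fu M f (x4 f * (f 0 q (N m) * u)) := by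
    refine Fu.of_eq hdM h.fu_z3 ?_
    have e3 : z3 f = x4 f * (h1 f * f 0 0 (LFourB.M m)) := by
      rw [e1]
      exact (X03 h.toBOne).symm.trans (h.Tor_comm (h.X_mem 0) (h.X_mem 3))
    rw [e3, ← e2]
    calc d * (x4 f * (h1 f * f 0 0 (LFourB.M m))) * d⁻¹ =
        (d * x4 f * d⁻¹) * ((d * h1 f * d⁻¹) * (d * f 0 0 (LFourB.M m) * d⁻¹)) := by group
      _ = _ := by rw [D.h1, D.comm _ hb, mul_inv_cancel_right, D.comm _ hx, mul_inv_cancel_right]
  -- conjugation by `h1` removes `z1`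
  have e4 : ∀ q' : R m, (q' = 0 ∨ q' = N m) → h1 f * (f 0 q' (N m) * u) * (h1 f)⁻¹ = f 0 q' 0 * u := by
    intro q' hq'
    have hq1 : Good (0 : R m) q' (N m) := by
      rcases hq' with rfl | rfl
      · exact BOne.good1
      · exact BOne.goodx4
    rw [h1, h.conj_u hq1 BOne.goodh1]
    rw [zero_add, two_mul_N, sub_self]
  have e5 : ∀ q' : R m, (q' = 0 ∨ q' = N m) → h1 f * (f 0 q' 0 * u) * (h1 f)⁻¹ = f 0 q' (N m) * u := by
    intro q' hq'
    have hq1 : Good (0 : R m) q' 0 := by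
      rcases hq' with rfl | rfl
      · exact Good.zero
      · exact BOne.goodx3
    rw [h1, h.conj_u hq1 BOne.goodh1, zero_add, two_mul_N, zero_sub, neg_N]
  have hh1M : h1 f ∈ M := h.Tor_le_M h.h1_mem_Tor
  rcases D.q_eq with rfl | rfl
  · constructor
    · refine Fu.of_eq hh1M a1 ?_
      rw [e4 0 (Or.inl rfl), h.f_zero, one_mul]
    · have e6 : x4 f * (f 0 0 (N m) * u) = f 0 (N m) 0 * u := by
        rw [← mul_assoc, x4, h.f_mul _ _ _ _ _ _ BOne.goodx4 BOne.good1, add_zero, add_zero, N_add_N]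
      rw [e6] at a2
      exact Fu.of_eq hh1M a2 (e5 (N m) (Or.inr rfl))
  · constructor
    · have e6 : x4 f * (f 0 (N m) (N m) * u) = u := by
        rw [← mul_assoc, x4, h.f_mul _ _ _ _ _ _ BOne.goodx4 BOne.goodx4, add_zero, N_add_N, h.f_zero, one_mul]
      rwa [e6] at a2
    · exact a1

theorem fu_overU (h : ClDat S f u w M) {v : G} (hv : OverU f u w v) (hi : v * v = 1) : Fu M f v := by
  obtain ⟨s, hs, rfl | rfl⟩ := h.exists_conj_overU hv hi
  · exact Fu.conj (h.S_le_M hs) h.fu_u.1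
  · exact Fu.conj (h.S_le_M hs) h.fu_u.2

theorem good_f1 (m : ℕ) : Good (1 : R m) (-1) 0 := ⟨0, by ring⟩

/-- the involutions over `sg` -/
theorem fu_sg [Finite G] (h : ClDat S f u w M) : Fu M f (sg u w) ∧ Fu M f (f 2 0 (-1) * sg u w) := by
  obtain ⟨d, q, D⟩ := h.hd
  have hg := BOne.good_qM D.q_eq
  -- `e2`
  obtain ⟨r', t0, hg2, ht0, hge⟩ : ∃ (r' : R m) (t0 : G), Good q q r' ∧ t0 ∈ Tor f ∧
      f q 0 (LFourB.M m + r' + q) * sg u w = t0 * sg u w * t0⁻¹ := by
    rcases D.q_eq with rfl | rfl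
    · refine ⟨-LFourB.M m, 1, ?_, (Tor f).one_mem, ?_⟩
      · exact good_of_N (Or.inl rfl) (Or.inl rfl) (by linear_combination - four_mul_M (m := m))
      · rw [add_neg_cancel, zero_add, h.f_zero]
        group
    · refine ⟨0, f (LFourB.M m) 0 (-((2 ^ m : ℕ) : R m)), BOne.good2, h.f_mem_Tor (EssThree.good_t0 m), ?_⟩
      have h1 := h.conj_sg Good.zero (EssThree.good_t0 m)
      rw [h.f_zero, one_mul] at h1
      rw [h1]
      congr 2
      · rw [zero_add, two_mul_M]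
      · rw [zero_add, mul_zero]
      · linear_combination two_mul_M (m := m) + two_mul_N (m := m)
  set e1 := f 0 q (LFourB.M m) * u with he1
  set e2 := f q q r' * ub u w with he2
  have hneg : -q = q := by
    rcases D.q_eq with rfl | rfl
    · exact neg_zero
    · exact neg_N
  have hqq : q + q = 0 := by
    rcases D.q_eq with rfl | rfl
    · exact add_zero 0
    · exact N_add_N
  -- commutation
  have k12 : e1 * e2 = f q 0 (LFourB.M m + r' + q) * sg u w := by
    calc e1 * e2 = f 0 q (LFourB.M m) * (u * f q q r') * ub u w := by rw [he1, he2]; group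
      _ = f 0 q (LFourB.M m) * f (-q) q (r' + q) * (u * ub u w) := by rw [h.u_f _ _ _ hg2]; group
      _ = _ := by
        rw [h.f_mul _ _ _ _ _ _ hg hg2.actu, hneg, hqq, zero_add, add_assoc]
        rfl
  have k21 : e2 * e1 = f q 0 (LFourB.M m + r' + q) * sg u w := by
    calc e2 * e1 = f q q r' * (ub u w * f 0 q (LFourB.M m)) * u := by rw [he1, he2]; group
      _ = f q q r' * f 0 (-q) (LFourB.M m - q) * (ub u w * u) := by rw [h.ub_f hg]; group
      _ = _ := by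
        rw [h.f_mul _ _ _ _ _ _ hg2 hg.actub, hneg, hqq, add_zero, h.ub_mul_u]
        congr 2
        linear_combination hneg
  have k2h : e2 * h1 f = h1 f * e2 := by
    rw [he2, mul_assoc, h1, ← ((h.f_ub_comm_iff BOne.goodh1).mpr rfl), ← mul_assoc,
      h.f_comm hg2 BOne.goodh1, mul_assoc]
  have k2c : e2 * f 2 0 (-1) = f 2 0 (-1) * e2 := by
    rw [he2, mul_assoc, ← ((h.f_ub_comm_iff BOne.goodsg1).mpr rfl), ← mul_assoc,
      h.f_comm hg2 BOne.goodsg1, mul_assoc]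
  have k2B : ∀ b ∈ Bu f, e2 * b * e2⁻¹ ∈ Bu f := by
    intro b hb
    obtain ⟨q', r'', hgd, rfl⟩ := h.mem_Bu.mp hb
    have k1 : e2 * f 0 q' r'' * e2⁻¹ = f 0 (-q') (r'' - q') := by
      rw [mul_inv_eq_iff_eq_mul, he2, mul_assoc, h.ub_f hgd, ← mul_assoc, ← mul_assoc, h.f_comm hg2 hgd.actub]
    rw [k1]
    exact h.mem_Bu.mpr ⟨_, _, hgd.actub, rfl⟩
  have k22 : e2 * e2 ∈ Bu f := by
    have k1 : e2 * e2 = f (q + q) (q + -q) (r' + (r' - q)) := by
      calc e2 * e2 = f q q r' * (ub u w * f q q r') * ub u w := by rw [he2]; group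
        _ = f q q r' * f q (-q) (r' - q) * (ub u w * ub u w) := by rw [h.ub_f hg2]; group
        _ = _ := by rw [h.ub_mul_ub, mul_one, h.f_mul _ _ _ _ _ _ hg2 hg2.actub]
    have hg3 : Good (q + q) (q + -q) (r' + (r' - q)) := hg2.add hg2.actub
    rw [k1]
    rw [hqq] at hg3 ⊢
    exact h.mem_Bu.mpr ⟨_, _, hg3, rfl⟩
  have htM : t0 ∈ M := h.Tor_le_M ht0
  -- the fusion
  have main : ∀ t ∈ Tor f, e2 * (t * e1 * t⁻¹) = t * e1 * t⁻¹ * e2 → Fu M f (t * e1 * t⁻¹ * e2) := by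
    intro t ht hc
    obtain ⟨d', hd1, hd2, hd3⟩ := h.exists_comm_e D ht k2B k22 k2h hc
    have hd'M : d' ∈ M := h.d_mem hd1
    have k3 : d' * (h1 f * e2) * d'⁻¹ = t * e1 * t⁻¹ * e2 := by
      calc d' * (h1 f * e2) * d'⁻¹ = (d' * h1 f * d'⁻¹) * (d' * e2) * d'⁻¹ := by group
        _ = _ := by rw [← hd3, hd2, ← he1]; group
    have k4 : OverU f u w (h1 f * e2) := by
      refine ⟨h1 f * f q q r', (Tor f).mul_mem h.h1_mem_Tor (h.f_mem_Tor hg2), Or.inr ?_⟩
      rw [he2, mul_assoc]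
    have k5 : h1 f * e2 * (h1 f * e2) = 1 := by
      have k6 : h1 f * e2 * (h1 f * e2) = h1 f * h1 f * (e2 * e2) := by
        calc h1 f * e2 * (h1 f * e2) = h1 f * (e2 * h1 f) * e2 := by group
          _ = _ := by rw [k2h]; group
      have k7 : e2 * e2 = f 0 0 (r' + r' - q) := by
        have k1 : e2 * e2 = f (q + q) (q + -q) (r' + (r' - q)) := by
          calc e2 * e2 = f q q r' * (ub u w * f q q r') * ub u w := by rw [he2]; group
            _ = f q q r' * f q (-q) (r' - q) * (ub u w * ub u w) := by rw [h.ub_f hg2]; group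
            _ = _ := by rw [h.ub_mul_ub, mul_one, h.f_mul _ _ _ _ _ _ hg2 hg2.actub]
        rw [k1, hqq, add_neg_cancel, add_sub_assoc]
      rw [k6, h.h1_mul_h1, k7]
      have k8 : r' + r' - q = N m := by
        have k9 : e1 * e2 * (e1 * e2) = 1 := by
          rw [k12, hge]
          calc t0 * sg u w * t0⁻¹ * (t0 * sg u w * t0⁻¹) = t0 * (sg u w * sg u w) * t0⁻¹ := by group
            _ = 1 := by rw [h.sg_mul_sg, mul_one, mul_inv_cancel]
        have k10 : e1 * e1 = f 0 0 (N m) := by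
          have := h.sq_u hg
          rw [he1, this]
          congr 1
          · rw [two_mul, hqq]
          · rw [add_zero, two_mul_M]
        have k11 : e1 * e2 * (e1 * e2) = f 0 0 (N m + (r' + r' - q)) := by
          calc e1 * e2 * (e1 * e2) = e1 * (e2 * e1) * e2 := by group
            _ = e1 * e1 * (e2 * e2) := by rw [k21, ← k12]; group
            _ = _ := by
              rw [k10, k7, h.f_mul _ _ _ _ _ _ BOne.good1, add_zero]
              have hg3 := hg2.add hg2.actub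
              rw [hqq, add_neg_cancel, ← add_sub_assoc] at hg3
              exact hg3
        rw [k11, h.f_eq_one_iff] at k9
        · linear_combination k9.2.2 - two_mul_N (m := m)
        · have hg3 := hg2.add hg2.actub
          rw [hqq, add_neg_cancel, ← add_sub_assoc] at hg3
          have hg4 := (BOne.good1 (m := m)).add hg3
          rw [add_zero] at hg4
          exact hg4
      rw [k8, z1, h.f_mul _ _ _ _ _ _ BOne.good1 BOne.good1, add_zero, N_add_N, h.f_zero]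
    exact Fu.of_eq hd'M (h.fu_overU k4 k5) k3
  constructor
  · have a1 := main 1 (Tor f).one_mem (by rw [inv_one, mul_one, one_mul, k12, k21])
    rw [inv_one, mul_one, one_mul, k12, hge] at a1
    exact Fu.of_conj htM a1
  · have ht1 := h.f_mem_Tor (good_f1 m)
    have k3 : f 1 (-1) 0 * e1 * (f 1 (-1) 0)⁻¹ = f 2 0 (-1) * e1 := by
      rw [he1, h.conj_u hg (good_f1 m), ← mul_assoc, h.f_mul _ _ _ _ _ _ BOne.goodsg1 hg]
      congr 2 <;> ring
    have a1 := main _ ht1 (by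
      rw [k3, ← mul_assoc, k2c, mul_assoc, k21, mul_assoc, k12])
    rw [k3, mul_assoc, k12, hge] at a1
    refine Fu.of_conj htM (Fu.of_eq M.one_mem a1 ?_)
    rw [one_mul, inv_one, mul_one, ← mul_assoc t0, h.Tor_comm ht0 (h.f_mem_Tor BOne.goodsg1)]
    group

end ClDat

end Cfsg.Agent.LFourB
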