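import Mathlib

/-!
# An odd automorphism commuting with an involutory one

`C` is a subgroup with a central Sylow 2-subgroup `B`, `d` of odd order and `e` with `e * e ∈ B` normalise `C`, `d`
centralises `B`, `e` normalises `B` and commutes with `d` modulo `C`.  Then some element of `d C` commutes with `e`.
-/

set_option autoImplicit false

namespace Cfsg.Agent.LFourB.ClB

open Subgroup

variable {G : Type*} [Group G]

theorem pow_mul_mem {d c : G} {C : Subgroup G} (hdC : ∀ c ∈ C, d⁻¹ * c * d ∈ C) (hc : c ∈ C) (k : ℕ) :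
    ∃ c' ∈ C, (d * c) ^ k = d ^ k * c' := by
  induction k with
  | zero => exact ⟨1, C.one_mem, by simp⟩
  | succ k ih =>
    obtain ⟨c', hc', e⟩ := ih
    refine ⟨d⁻¹ * c' * d * c, C.mul_mem (hdC _ hc') hc, ?_⟩
    rw [pow_succ, e, pow_succ]
    group

theorem exists_comm [Finite G] {d e : G} {B C : Subgroup G} {n a : ℕ} (hn : d ^ n = 1) (hodd : ¬ 2 ∣ n)
    (hB : Nat.card B = 2 ^ a) (hdB : ∀ b ∈ B, d * b = b * d) (heB : ∀ b ∈ B, e * b * e⁻¹ ∈ B) (he2 : e * e ∈ B)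
    (_hBC : B ≤ C) (hcen : ∀ b ∈ B, ∀ c ∈ C, b * c = c * b) (h2 : ∀ c ∈ C, ∀ k : ℕ, c ^ 2 ^ k = 1 → c ∈ B)
    (hdC : ∀ c ∈ C, d⁻¹ * c * d ∈ C) (heC : ∀ c ∈ C, e * c * e⁻¹ ∈ C) (hde : d⁻¹ * e * d * e⁻¹ ∈ C) :
    ∃ c ∈ C, e * (d * c) = d * c * e := by
  classical
  have : Fact (Nat.Prime 2) := ⟨Nat.prime_two⟩
  set B' := B.subgroupOf C with hB'
  have hBn : B'.Normal := by
    refine ⟨fun b hb c => ?_⟩
    rw [hB', mem_subgroupOf] at hb ⊢
    have h1 : ((c * b * c⁻¹ : C) : G) = b := by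
      change (c : G) * b * (c : G)⁻¹ = b
      rw [← hcen _ hb _ c.2, mul_inv_cancel_right]
    rw [h1]
    exact hb
  -- the quotient has odd order
  have hoddq : ¬ 2 ∣ Nat.card (C ⧸ B') := by
    intro h
    obtain ⟨q, hq⟩ := exists_prime_orderOf_dvd_card' 2 h
    obtain ⟨c, rfl⟩ := QuotientGroup.mk_surjective q
    have h1 : c * c ∈ B' := by
      rw [← QuotientGroup.eq_one_iff, QuotientGroup.mk_mul, ← pow_two, ← hq, pow_orderOf_eq_one]
    have h3 : c ∈ B' := by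
      rw [hB', mem_subgroupOf] at h1 ⊢
      apply h2 _ c.2 (a + 1)
      have h4 : ((c * c : C) : G) ^ 2 ^ a = 1 := by
        have h5 : (⟨((c * c : C) : G), h1⟩ : B) ^ Nat.card B = 1 := pow_card_eq_one'
        rw [hB] at h5
        exact congrArg Subtype.val h5
      rw [pow_succ', pow_mul, pow_two]
      exact h4
    rw [(QuotientGroup.eq_one_iff c).mpr h3, orderOf_one] at hq
    exact absurd hq (by norm_num)
  -- the involution of the quotient
  have hmem : ∀ c ∈ C, d⁻¹ * e * d * c * e⁻¹ ∈ C := by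
    intro c hc
    have h1 : d⁻¹ * e * d * c * e⁻¹ = d⁻¹ * e * d * e⁻¹ * (e * c * e⁻¹) := by group
    rw [h1]
    exact C.mul_mem hde (heC c hc)
  let s0 : C → C := fun c => ⟨d⁻¹ * e * d * c * e⁻¹, hmem c c.2⟩
  have hs0 : ∀ a b : C, QuotientGroup.leftRel B' a b → QuotientGroup.leftRel B' (s0 a) (s0 b) := by
    intro a b hab
    rw [QuotientGroup.leftRel_apply, hB', mem_subgroupOf] at hab ⊢
    have h1 : (((s0 a)⁻¹ * s0 b : C) : G) = e * ((a⁻¹ * b : C) : G) * e⁻¹ := by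
      change (d⁻¹ * e * d * (a : G) * e⁻¹)⁻¹ * (d⁻¹ * e * d * (b : G) * e⁻¹) = e * ((a : G)⁻¹ * (b : G)) * e⁻¹
      group
    rw [h1]
    exact heB _ hab
  let s : C ⧸ B' → C ⧸ B' := Quotient.map s0 hs0
  have hss : ∀ q, s (s q) = q := by
    intro q
    obtain ⟨c, rfl⟩ := QuotientGroup.mk_surjective q
    change ((s0 (s0 c) : C) : C ⧸ B') = (c : C ⧸ B')
    congr 1
    apply Subtype.ext
    change d⁻¹ * e * d * (d⁻¹ * e * d * c * e⁻¹) * e⁻¹ = c
    have h1 : d⁻¹ * e * d * (d⁻¹ * e * d * (c : G) * e⁻¹) * e⁻¹ = d⁻¹ * ((e * e) * (d * (c : G))) * (e * e)⁻¹ := by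
      group
    rw [h1, ← mul_assoc (e * e), ← hdB _ he2, mul_assoc d, hcen _ he2 _ c.2]
    group
  let σ : Equiv.Perm (C ⧸ B') := ⟨s, s, hss, hss⟩
  have hσ : σ ^ 2 ^ 1 = 1 := by
    rw [pow_one, pow_two]
    ext q
    exact hss q
  have : Fintype (C ⧸ B') := Fintype.ofFinite _
  obtain ⟨q, hq⟩ := Equiv.Perm.exists_fixed_point_of_prime (p := 2) (n := 1) (by
    rw [← Nat.card_eq_fintype_card]; exact hoddq) hσ
  obtain ⟨c, rfl⟩ := QuotientGroup.mk_surjective q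
  have hq1 : ((s0 c : C) : C ⧸ B') = (c : C ⧸ B') := hq
  have hq2 := QuotientGroup.eq.mp hq1.symm
  rw [hB', mem_subgroupOf] at hq2
  have hβ : (c : G)⁻¹ * (d⁻¹ * e * d * (c : G) * e⁻¹) ∈ B := hq2
  set β := (c : G)⁻¹ * (d⁻¹ * e * d * (c : G) * e⁻¹) with hβd
  have hx : e * (d * (c : G)) * e⁻¹ = d * (c : G) * β := by rw [hβd]; group
  have hxβ : Commute (d * (c : G)) β := by
    change d * (c : G) * β = β * (d * (c : G))
    rw [mul_assoc, ← hcen _ hβ _ c.2, ← mul_assoc, hdB _ hβ, mul_assoc]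
  -- the exponent
  have hcop : Nat.Coprime (2 ^ a) n := by
    apply Nat.Coprime.pow_left
    rw [Nat.prime_two.coprime_iff_not_dvd]
    exact hodd
  obtain ⟨k, hk0, hk1⟩ := Nat.chineseRemainder hcop 0 1
  have hβk : β ^ k = 1 := by
    have h5 : (⟨β, hβ⟩ : B) ^ Nat.card B = 1 := pow_card_eq_one'
    rw [hB] at h5
    have h6 : β ^ 2 ^ a = 1 := congrArg Subtype.val h5
    obtain ⟨j, hj⟩ := (Nat.modEq_zero_iff_dvd.mp hk0)
    rw [hj, pow_mul, h6, one_pow]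
  have hdk : d ^ k = d := by
    have h1 : orderOf d ∣ n := orderOf_dvd_of_pow_eq_one hn
    have h3 : k ≡ 1 [MOD orderOf d] := hk1.of_dvd h1
    have h4 := (pow_eq_pow_iff_modEq (x := d) (n := k) (m := 1)).mpr h3
    rw [h4, pow_one]
  obtain ⟨c', hc', e'⟩ := pow_mul_mem hdC c.2 k
  rw [hdk] at e'
  refine ⟨c', hc', ?_⟩
  rw [← e', ← mul_inv_eq_iff_eq_mul, ← conj_pow, hx, hxβ.mul_pow, hβk, mul_one]

end Cfsg.Agent.LFourB.ClB
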