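import Cfsg.Agent.LFourB.ClBClose

/-!
# Closing of type `B1`: a subgroup containing `C(z1)`, `C(x4)` and `N(T)` is the whole group
-/

set_option autoImplicit false

namespace Cfsg.Agent.LFourB

open Subgroup

variable {G : Type*} [Group G] {m : ℕ} {f : R m → R m → R m → G} {u w : G}

namespace ClDat

variable {M : Subgroup G} {P : Sylow 2 G}

theorem act_mul {a b : G} {σ τ : Equiv.Perm (Fin 4)} (ha : ∀ i, a * X f i * a⁻¹ = X f (σ i))
    (hb : ∀ i, b * X f i * b⁻¹ = X f (τ i)) (i : Fin 4) : a * b * X f i * (a * b)⁻¹ = X f ((σ * τ) i) := by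
  rw [Equiv.Perm.mul_apply, ← ha, ← hb]
  group

theorem act_inv {a : G} {σ : Equiv.Perm (Fin 4)} (ha : ∀ i, a * X f i * a⁻¹ = X f (σ i)) (i : Fin 4) :
    a⁻¹ * X f i * a⁻¹⁻¹ = X f (σ⁻¹ i) := by
  have h1 := ha (σ⁻¹ i)
  have h2 : σ (σ⁻¹ i) = i := σ.apply_symm_apply i
  rw [h2] at h1
  rw [← h1]
  group

theorem exists_conj_over_sg [Finite G] (h : ClDat (P : Subgroup G) f u w M) {v : G} (hv : v ∈ (P : Subgroup G))
    (hpi : h.pi ⟨v, hv⟩ = Equiv.swap 0 2 * Equiv.swap 1 3) (hi : v * v = 1) :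
    ∃ g ∈ M, ∃ t ∈ Tor f, g * v * g⁻¹ = t * sg u w := by
  have : Fact (Nat.Prime 2) := ⟨Nat.prime_two⟩
  obtain ⟨n, hn, hnX⟩ := h.hperm (Equiv.swap 1 2)
  set H : Subgroup G := normalizer (Tor f : Set G) with hH
  have hPH : (P : Subgroup G) ≤ H := h.S_le_normalizer
  have hvX : ∀ i, v * X f i * v⁻¹ = X f ((Equiv.swap 0 2 * Equiv.swap 1 3 : Equiv.Perm (Fin 4)) i) := by
    intro i
    rw [← hpi]
    exact h.pi_spec ⟨v, hv⟩ i
  have hsX : ∀ i, sg u w * X f i * (sg u w)⁻¹ = X f ((Equiv.swap 0 1 * Equiv.swap 2 3 : Equiv.Perm (Fin 4)) i) := by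
    intro i
    rw [← h.pi_sg]
    exact h.pi_spec ⟨sg u w, h.sg_mem⟩ i
  have hv'X : ∀ i, n * v * n⁻¹ * X f i * (n * v * n⁻¹)⁻¹ = X f ((Equiv.swap 0 1 * Equiv.swap 2 3 : Equiv.Perm (Fin 4)) i) := by
    intro i
    rw [act_mul (act_mul hnX hvX) (act_inv hnX)]
    congr 1
    revert i
    decide
  have hv'H : n * v * n⁻¹ ∈ H := H.mul_mem (H.mul_mem hn (hPH hv)) (H.inv_mem hn)
  have hsH : sg u w ∈ H := hPH h.sg_mem
  let C : Subgroup H := (centralizer (Tor f : Set G)).subgroupOf H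
  have hCn : C.Normal := by
    refine ⟨fun c hc k => ?_⟩
    rw [mem_subgroupOf, mem_centralizer_iff] at hc ⊢
    intro t ht
    have hk : (k : G)⁻¹ * t * k ∈ Tor f := by
      have := (mem_normalizer_iff.mp (H.inv_mem k.2) t).mp ht
      rwa [inv_inv] at this
    have h2 := hc _ hk
    change t * ((k : G) * c * (k : G)⁻¹) = (k : G) * c * (k : G)⁻¹ * t
    calc t * ((k : G) * c * (k : G)⁻¹) = (k : G) * ((k : G)⁻¹ * t * k * c) * (k : G)⁻¹ := by group
      _ = _ := by rw [h2]; group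
  let x : H := ⟨n * v * n⁻¹, hv'H⟩
  let s : H := ⟨sg u w, hsH⟩
  have hxs : x * s⁻¹ ∈ C := by
    rw [mem_subgroupOf, mem_centralizer_iff]
    intro t ht
    refine (h.hcent _ (x * s⁻¹).2 ?_ t ht).symm
    intro i
    have h2 : n * v * n⁻¹ * (sg u w)⁻¹ * X f i * (n * v * n⁻¹ * (sg u w)⁻¹)⁻¹ = X f i := by
      rw [act_mul hv'X (act_inv hsX)]
      congr 1
      revert i
      decide
    exact mul_inv_eq_iff_eq_mul.mp h2
  obtain ⟨c, hc, hcx⟩ := TwoFusion.IsolatedCenter.exists_conj_mem (P.subtype hPH) C x ⟨1, by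
    rw [pow_one, pow_two]
    apply Subtype.ext
    change n * v * n⁻¹ * (n * v * n⁻¹) = 1
    calc n * v * n⁻¹ * (n * v * n⁻¹) = n * (v * v) * n⁻¹ := by group
      _ = 1 := by rw [hi, mul_one, mul_inv_cancel]⟩ (by
    have h1 : x = (x * s⁻¹) * s := by group
    rw [h1]
    refine mul_mem (mem_sup_right hxs) (mem_sup_left ?_)
    exact h.sg_mem)
  have hcX : ∀ i, (c : G) * X f i * (c : G)⁻¹ = X f ((1 : Equiv.Perm (Fin 4)) i) := by
    intro i
    rw [Equiv.Perm.one_apply]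
    rw [mem_subgroupOf, mem_centralizer_iff] at hc
    rw [← hc _ (h.X_mem i), mul_inv_cancel_right]
  have hmem : (c : G) * (n * v * n⁻¹) * (c : G)⁻¹ ∈ (P : Subgroup G) := hcx
  have hpi2 : h.pi ⟨_, hmem⟩ = h.pi ⟨sg u w, h.sg_mem⟩ := by
    rw [h.pi_sg]
    apply h.pi_eq
    intro i
    change (c : G) * (n * v * n⁻¹) * (c : G)⁻¹ * X f i * ((c : G) * (n * v * n⁻¹) * (c : G)⁻¹)⁻¹ = _
    rw [act_mul (act_mul hcX hv'X) (act_inv hcX)]
    congr 1
  obtain ⟨t, ht, h3⟩ := h.exists_eq_of_pi_eq hmem h.sg_mem hpi2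
  refine ⟨c * n, h.hT (H.mul_mem c.2 hn), t, ht, ?_⟩
  rw [← h3]
  group

theorem fu_over_sg [Finite G] (h : ClDat (P : Subgroup G) f u w M) {t : G} (ht : t ∈ Tor f)
    (hi : t * sg u w * (t * sg u w) = 1) : Fu M f (t * sg u w) := by
  obtain ⟨s, hs, h1 | h1⟩ := h.exists_conj_sg ht hi
  · rw [h1]
    exact Fu.conj (h.Tor_le_M hs) h.fu_sg.1
  · rw [h1]
    exact Fu.conj (h.Tor_le_M hs) h.fu_sg.2

theorem fu_over_w [Finite G] (h : ClDat (P : Subgroup G) f u w M) {t : G} (ht : t ∈ Tor f)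
    (hi : t * w * (t * w) = 1) : Fu M f (t * w) := by
  have hv : t * w ∈ (P : Subgroup G) := mul_mem (h.Tor_le ht) h.w_mem
  obtain ⟨g, hg, t', ht', h1⟩ := h.exists_conj_over_sg hv (by
    have h2 : (⟨t * w, hv⟩ : (P : Subgroup G)) = ⟨t, h.Tor_le ht⟩ * ⟨w, h.w_mem⟩ := rfl
    rw [h2, map_mul, h.pi_Tor ht, one_mul, h.pi_w]) hi
  apply Fu.of_conj hg
  rw [h1]
  apply h.fu_over_sg ht'
  rw [← h1]
  calc g * (t * w) * g⁻¹ * (g * (t * w) * g⁻¹) = g * (t * w * (t * w)) * g⁻¹ := by group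
    _ = 1 := by rw [hi, mul_one, mul_inv_cancel]

/-- **Every involution of `S` is `M`-conjugate to `z1` or `x4`.** -/
theorem fu [Finite G] (h : ClDat (P : Subgroup G) f u w M) {v : G} (hv : v ∈ (P : Subgroup G)) (hi : v * v = 1)
    (h1 : v ≠ 1) : Fu M f v := by
  by_cases hvT : v ∈ Tor f
  · exact h.fu_Tor hvT hi h1
  · rcases h.involution_cases hv hvT hi with h2 | h2
    · exact h.fu_overU h2 hi
    · obtain ⟨s, hs, h3⟩ := h.exists_conj_overV h2 hi
      have hsM := h.S_le_M hs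
      have key : ∀ y : G, v = s * y * s⁻¹ → y * y = 1 := by
        intro y hy
        have h4 : y = s⁻¹ * v * s := by rw [hy]; group
        rw [h4]
        calc s⁻¹ * v * s * (s⁻¹ * v * s) = s⁻¹ * (v * v) * s := by group
          _ = 1 := by rw [hi, mul_one, inv_mul_cancel]
      rcases h3 with h3 | h3 | h3 | h3
      · rw [h3]; exact Fu.conj hsM h.fu_sg.1
      · rw [h3]; exact Fu.conj hsM h.fu_sg.2
      · have h5 := key _ h3
        rw [h3]
        refine Fu.conj hsM ?_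
        have h6 := h.fu_over_w (Tor f).one_mem (by rw [one_mul]; exact h5)
        rwa [one_mul] at h6
      · have h5 := key _ h3
        rw [h3]
        exact Fu.conj hsM (h.fu_over_w (h.f_mem_Tor BOne.goodw1) h5)

theorem z1_ord (h : BOne (P : Subgroup G) m f u w) : orderOf (z1 f) = 2 := by
  refine orderOf_eq_prime ?_ ?_
  · rw [pow_two, z1, h.f_mul _ _ _ _ _ _ BOne.good1 BOne.good1, add_zero, N_add_N, h.f_zero]
  · rw [z1, Ne, h.f_eq_one_iff BOne.good1]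
    exact fun k => N_ne_zero k.2.2

theorem x4_ord (h : BOne (P : Subgroup G) m f u w) : orderOf (x4 f) = 2 := by
  refine orderOf_eq_prime ?_ ?_
  · rw [pow_two, x4, h.f_mul _ _ _ _ _ _ BOne.goodx4 BOne.goodx4, add_zero, N_add_N, h.f_zero]
  · rw [x4, Ne, h.f_eq_one_iff BOne.goodx4]
    exact fun k => N_ne_zero k.2.2

/-- **(C1)** A subgroup containing `C(z1)`, `C(x4)`, `N(T)` is the whole group. -/
theorem eq_top [Finite G] (h : ClDat (P : Subgroup G) f u w M) (hx : centralizer {x4 f} ≤ M)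
    (hne : ¬ IsConj (z1 f) (x4 f)) : M = ⊤ := by
  refine Lib.TwoClassEnd.eq_top P (a := z1 f) (b := x4 f) ?_ {z1 f, x4 f} ?_ ?_ (z1_ord h.toBOne) (x4_ord h.toBOne) hne
  · -- the normaliser of the Sylow subgroup
    refine le_trans ?_ h.hT
    intro g hg
    have h1 : (Tor f).map (MulAut.conj g).toMonoidHom = Tor f := by
      apply h.weakly_closed
      rintro _ ⟨t, ht, rfl⟩
      exact (mem_normalizer_iff.mp hg t).mp (h.Tor_le ht)
    rw [Lib.GoldschmidtFusion.mem_normalizer_iff_map_conj]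
    exact h1
  · rintro z (rfl | rfl)
    · exact h.hz
    · exact hx
  · intro v hv ho
    have h1 : v * v = 1 := by rw [← pow_two, ← ho]; exact pow_orderOf_eq_one v
    have h2 : v ≠ 1 := fun e => by rw [e, orderOf_one] at ho; exact absurd ho (by norm_num)
    obtain ⟨g, hg, h3 | h3⟩ := h.fu hv h1 h2
    · exact ⟨z1 f, Or.inl rfl, g, hg, h3⟩
    · exact ⟨x4 f, Or.inr rfl, g, hg, h3⟩

end ClDat

end Cfsg.Agent.LFourB
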