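import Cfsg.Agent.LFourB.ClBCent

/-!
# Closing of type `B1`: the interface
-/

set_option autoImplicit false

namespace Cfsg.Agent.LFourB

open Subgroup

variable {G : Type*} [Group G] {m : ℕ} {f : R m → R m → R m → G} {u w : G}

/-- The standard odd automorphism `EssFive.DData` gives `DD`. -/
theorem dd_of_std {S : Subgroup G} (h : BOne S m f u w) {d : G} (D : EssFive.DData f u d)
    (hc : ∀ c : G, (∀ e ∈ Ru f u, c * e = e * c) → ∀ n : ℕ, c ^ 2 ^ n = 1 → c ∈ Bu f) : ∃ d' : G, DD f u d' 0 := by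
  have hg0 := EssThree.good_t0 m
  set t : G := f (M m) 0 (-((2 ^ m : ℕ) : R m)) with ht
  have htT : t ∈ Tor f := h.f_mem_Tor hg0
  have hx2 : u * x1 f = f (N m) 0 (N m) * u := by
    rw [x1, h.u_f _ _ _ BOne.goodx1, neg_N, zero_add]
  have ht1 : t * (u * x1 f) * t⁻¹ = f 0 0 (M m) * u := by
    rw [hx2, ht, h.conj_u BOne.goodx2 hg0]
    congr 2
    · rw [two_mul_M, N_add_N]
    · linear_combination - two_mul_M (m := m)
  have hth : t * h1 f = h1 f * t := h.Tor_comm htT h.h1_mem_Tor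
  have hth' : t⁻¹ * h1 f = h1 f * t⁻¹ := by
    rw [inv_mul_eq_iff_eq_mul, ← mul_assoc, hth, mul_inv_cancel_right]
  have hthh : t⁻¹ * h1 f * t = h1 f := by rw [hth', inv_mul_cancel_right]
  have hB : ∀ b ∈ Bu f, t⁻¹ * b * t = b := by
    intro b hb
    rw [mul_assoc, h.comm_Bu_Tor hb htT, inv_mul_cancel_left]
  have hB' : ∀ b ∈ Bu f, t * b * t⁻¹ = b := by
    intro b hb
    rw [← h.comm_Bu_Tor hb htT, mul_inv_cancel_right]
  refine ⟨t * d * t⁻¹, Or.inl rfl, ?_, ?_, ?_, Or.inl ?_, ?_⟩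
  · have h1 : orderOf (t * d * t⁻¹) = orderOf d := by
      have h2 : t * d * t⁻¹ = MulAut.conj t d := rfl
      rw [h2]
      exact (MulAut.conj t).orderOf_eq d
    rw [h1]
    exact D.odd
  · intro b hb
    calc t * d * t⁻¹ * b = t * (d * (t⁻¹ * b * t)) * t⁻¹ := by group
      _ = t * (b * d) * t⁻¹ := by rw [hB b hb, D.comm b hb]
      _ = (t * b * t⁻¹) * (t * d * t⁻¹) := by group
      _ = b * (t * d * t⁻¹) := by rw [hB' b hb]
  · calc t * d * t⁻¹ * h1 f * (t * d * t⁻¹)⁻¹ = t * (d * (t⁻¹ * h1 f * t) * d⁻¹) * t⁻¹ := by group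
      _ = t * (u * x1 f) * t⁻¹ := by rw [hthh, D.one]
      _ = _ := ht1
  · rw [← ht1]
    calc t * d * t⁻¹ * (t * (u * x1 f) * t⁻¹) * (t * d * t⁻¹)⁻¹ = t * (d * (u * x1 f) * d⁻¹) * t⁻¹ := by group
      _ = t * h1 f * (u * x1 f) * t⁻¹ := by rw [D.two]; group
      _ = h1 f * (t * (u * x1 f) * t⁻¹) := by rw [hth]; group
  · intro c h1 h2 h3 n hn
    refine hc c ?_ n hn
    intro e he
    have h4 : Ru f u ≤ centralizer {c} := by
      refine sup_le ?_ ?_
      · intro b hb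
        rw [mem_centralizer_singleton_iff]
        exact (h1 b hb).symm
      · rw [closure_le]
        rintro _ (rfl | rfl)
        · exact mem_centralizer_singleton_iff.mpr h2.symm
        · exact mem_centralizer_singleton_iff.mpr h3.symm
    exact (mem_centralizer_singleton_iff.mp (h4 he)).symm

namespace ClDat

variable {M : Subgroup G} {P : Sylow 2 G}

/-- **Closing of type `B1`**: `M ≥ C(z1), N(T)` is the whole group. -/
theorem closing [Finite G] (h : ClDat (P : Subgroup G) f u w M)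
    {PY : Sylow 2 (centralizer {x4 f} : Subgroup G)} {W D : Subgroup (centralizer {x4 f} : Subgroup G)}
    {L : Subgroup ((centralizer {x4 f} : Subgroup G) ⧸ Cfsg.pPrimeCore 2 (centralizer {x4 f} : Subgroup G))}
    (hO : CentXTail.Out PY W D L) (hPY : (PY : Subgroup (centralizer {x4 f} : Subgroup G)) = W ⊔ D)
    (hPS : (PY : Subgroup (centralizer {x4 f} : Subgroup G)).map (centralizer {x4 f} : Subgroup G).subtype ≤ P)
    (hTP : Tor f ≤ (PY : Subgroup (centralizer {x4 f} : Subgroup G)).map (centralizer {x4 f} : Subgroup G).subtype)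
    (hDT : D.map (centralizer {x4 f} : Subgroup G).subtype ≤ Tor f)
    {a b : (centralizer {x4 f} : Subgroup G)} (ha : (a : G) = z1 f) (hb : (b : G) = z3 f) (haW : a ∈ W) (hbW : b ∈ W)
    (hG : Gen4 L) (hne : ¬ IsConj (z1 f) (x4 f)) : M = ⊤ :=
  h.eq_top (h.cent_x4_le hO hPY hPS hTP hDT ha hb haW hbW hG) hne

end ClDat

end Cfsg.Agent.LFourB
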