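import Cfsg.Agent.LFourA.CzCt

/-!
# `C(z)` modulo its odd core, type B1: two commuting `SL(2,F)`'s

As `LFourA.CzCt.CZL`, but the centraliser of `K₁K₂` is only a 2-group (it is cyclic of order `2^(m+2)` in type B1).
-/

set_option autoImplicit false

namespace Cfsg.Agent.LFourB.CzB

open Subgroup Cfsg Cfsg.Agent.LFourA.CzCt

variable {G X : Type*} [Group G] [Group X]

/-- `C(z)` modulo its odd core, with two commuting subgroups `SL(2,F)`; odd elements centralising both are trivial. -/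
structure CZB (z : G) (F : Type*) [Field F] (p : ↥(centralizer ({z} : Set G)) →* X) (K₁ K₂ : Subgroup X) : Prop where
  surj : Function.Surjective p
  ker : ∀ x, p x = 1 ↔ (x : G) ∈ centralizerPPrimeCore 2 z
  comm : ∀ x ∈ K₁, ∀ y ∈ K₂, x * y = y * x
  z₁ : p (self z) ∈ K₁
  z₂ : p (self z) ∈ K₂
  inf : ∀ x ∈ K₁, x ∈ K₂ → x = 1 ∨ x = p (self z)
  norm : ∀ g : X, ((∀ x ∈ K₁, g * x * g⁻¹ ∈ K₁) ∧ ∀ x ∈ K₂, g * x * g⁻¹ ∈ K₂) ∨
    ((∀ x ∈ K₁, g * x * g⁻¹ ∈ K₂) ∧ ∀ x ∈ K₂, g * x * g⁻¹ ∈ K₁)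
  cent : ∀ g : X, Odd (orderOf g) → (∀ x ∈ K₁, g * x = x * g) → (∀ x ∈ K₂, g * x = x * g) → g = 1
  e₁ : Nonempty (K₁ ≃* Matrix.SpecialLinearGroup (Fin 2) F)
  e₂ : Nonempty (K₂ ≃* Matrix.SpecialLinearGroup (Fin 2) F)

end Cfsg.Agent.LFourB.CzB
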