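import Mathlib
import Cfsg.Agent.SylowSp4.Extremal
import Cfsg.Agent.SylowSp4.ExtTransfer
import Cfsg.Agent.Transfer.FusionBasic
import Cfsg.Agent.TwoFusion.IndexTwo
import Cfsg.Agent.TwoFusion.OneClass
import Cfsg.Agent.SporRec.LyReduce

/-!
# S0510, `q ≡ 1 mod 8`: fusion of the torus part, Steps 1, 3 and 4

`S` is (isomorphic to) a Sylow 2-subgroup of `PSL_4(q)`, `q ≡ 1 mod 8`, `T` the image of the diagonal matrices,
`z, z', z z'` the involutions of `Z₂ = ℧^{n-1}(T)`, `X i` the other four involutions of `T`,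
`TT = T_2 = {t | [t, V] ≤ Z₂}` (order 32), `J = T⟨sg⟩`, `S0 = T V'`.

`SF` is the list of facts about the 2-group `S` which are used. Everything else is fusion.
-/

set_option autoImplicit false
set_option linter.unusedSectionVars false

namespace Cfsg.Agent.LFourB.FusA

open Subgroup Cfsg.Agent.Transfer.FusionBasic

/-- The dihedral group of order 8 preserving `{0,1 | 2,3}`. -/
def d8 (i j k : Bool) : Equiv.Perm (Fin 4) :=
  (if i then Equiv.swap 0 1 else 1) * (if j then Equiv.swap 2 3 else 1) *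
    (if k then Equiv.swap 0 2 * Equiv.swap 1 3 else 1)

set_option maxRecDepth 100000 in
theorem d8_cover : ∀ σ : Equiv.Perm (Fin 4), ¬ ((σ 0).val / 2 = (σ 1).val / 2) → ∀ ρ : Equiv.Perm (Fin 4),
    (∃ i j k, ρ = d8 i j k) ∨ ∃ i j k i' j' k', ρ = d8 i j k * σ * d8 i' j' k' := by
  decide +kernel

variable {G : Type*} [Group G]

/-- `a ∈ {1, z, z', z z'}`. -/
def Z2 (z z' a : G) : Prop := a = 1 ∨ a = z ∨ a = z' ∨ a = z * z'

/-- `F` is an elementary abelian subgroup of order 16 of `S`. -/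
structure E16 (S F : Subgroup G) : Prop where
  le : F ≤ S
  card : Nat.card F = 16
  sq : ∀ a ∈ F, a * a = 1

/-- Facts about the 2-group `S` used in Steps 1, 3 and 4. -/
structure SF (S T TT J S0 : Subgroup G) (z z' : G) (X : Fin 4 → G) : Prop where
  T_le : T ≤ S
  T_comm : ∀ a ∈ T, ∀ b ∈ T, a * b = b * a
  S_norm : ∀ s ∈ S, ∀ t ∈ T, s * t * s⁻¹ ∈ T
  T_max : ∀ D : Subgroup G, D ≤ S → (∀ a ∈ D, ∀ b ∈ D, a * b = b * a) → Nat.card D = Nat.card T → D = T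
  z_mem : z ∈ T
  z'_mem : z' ∈ T
  z_sq : z * z = 1
  z'_sq : z' * z' = 1
  z_ne : z ≠ 1
  z'_ne : z' ≠ 1
  z'_ne_z : z' ≠ z
  z_cent : ∀ s ∈ S, s * z = z * s
  swap : ∃ s ∈ S, s * z' * s⁻¹ = z * z'
  Z2_char : ∃ m : ℕ, ∀ a, (∃ t ∈ T, t ^ m = a) ↔ Z2 z z' a
  X_mem : ∀ i, X i ∈ T
  X_sq : ∀ i, X i * X i = 1
  X_not : ∀ i, ¬ Z2 z z' (X i)
  X_inj : Function.Injective X
  X01 : X 0 * X 1 = z
  X23 : X 2 * X 3 = z
  X02 : X 0 * X 2 = z'
  T_inv : ∀ a ∈ T, a * a = 1 → Z2 z z' a ∨ ∃ i, a = X i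
  /-- `S` induces the dihedral group of order 8 on the four involutions `X i`. -/
  tau : ∃ s ∈ S, s * X 0 * s⁻¹ = X 1 ∧ s * X 1 * s⁻¹ = X 0 ∧ s * X 2 * s⁻¹ = X 2 ∧ s * X 3 * s⁻¹ = X 3
  sg' : ∃ s ∈ S, s * X 0 * s⁻¹ = X 2 ∧ s * X 1 * s⁻¹ = X 3 ∧ s * X 2 * s⁻¹ = X 0 ∧ s * X 3 * s⁻¹ = X 1
  cent_X : ∀ s ∈ S, (∀ i, s * X i = X i * s) → s ∈ T
  TT_le : TT ≤ T
  J_le : J ≤ S0
  T_le_J : T ≤ J
  S0_le : S0 ≤ S
  e_z : ∀ F, E16 S F → z ∈ F
  e_z' : ∀ F, E16 S F → z' ∈ F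
  e_T : ∀ F, E16 S F → ∀ f ∈ F, f ∈ T → Z2 z z' f
  e_card : ∃ N : ℕ, ∀ F, E16 S F → Nat.card ↥(S ⊓ normalizer (F : Set G)) = N
  e_TT : ∀ F, E16 S F → ∀ t ∈ TT, ∀ f ∈ F, ∃ a, Z2 z z' a ∧ t * f * t⁻¹ = a * f
  e_uniq : ∀ F, E16 S F → ∀ D : Subgroup G, D ≤ S ⊓ normalizer (F : Set G) → (∀ a ∈ D, ∀ b ∈ D, a * b = b * a) →
    Nat.card D = Nat.card TT → D = TT
  e_tr : ∀ F, E16 S F → ∀ f ∈ F, f ∉ T → ∀ a, Z2 z z' a → ∃ t ∈ TT, t * f * t⁻¹ = a * f
  e_J : ∀ F, E16 S F → ∀ f ∈ F, f ∉ T → (f ∈ J ↔ ∀ t ∈ TT, t * f = f * t → t * t = 1 ∨ t * t = z)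
  e_S0 : ∀ F, E16 S F → ∀ f ∈ F, f ∈ S0 → f ∈ J
  e_k : ∀ F, E16 S F → ∃ t ∈ TT, (∀ f ∈ F, f ∈ J → t * f * t⁻¹ = f) ∧ (∀ f ∈ F, f ∉ J → t * f * t⁻¹ = z * f)
  e_ker : ∀ F, E16 S F → ∀ p ∈ S, (∀ f ∈ F, p * f * p⁻¹ = f ∨ p * f * p⁻¹ = z * f) → ∀ f ∈ F, f ∈ J →
    p * f * p⁻¹ = f


theorem Z2_one (z z' : G) : Z2 z z' 1 := Or.inl rfl
theorem Z2_z (z z' : G) : Z2 z z' z := Or.inr (Or.inl rfl)
theorem Z2_z' (z z' : G) : Z2 z z' z' := Or.inr (Or.inr (Or.inl rfl))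
theorem Z2_zz' (z z' : G) : Z2 z z' (z * z') := Or.inr (Or.inr (Or.inr rfl))

theorem comm_of_sq {a b : G} (ha : a * a = 1) (hb : b * b = 1) (hab : (a * b) * (a * b) = 1) : a * b = b * a := by
  have h1 : (a * b)⁻¹ = a * b := inv_eq_of_mul_eq_one_left hab
  rw [mul_inv_rev, inv_eq_of_mul_eq_one_left ha, inv_eq_of_mul_eq_one_left hb] at h1
  exact h1.symm

theorem E16.comm {S F : Subgroup G} (hF : E16 S F) {a b : G} (ha : a ∈ F) (hb : b ∈ F) : a * b = b * a :=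
  comm_of_sq (hF.sq a ha) (hF.sq b hb) (hF.sq _ (F.mul_mem ha hb))

theorem E16.map {S F : Subgroup G} (hF : E16 S F) {g : G} (hg : ∀ f ∈ F, g * f * g⁻¹ ∈ S) :
    E16 S (F.map (MulAut.conj g).toMonoidHom) := by
  refine ⟨map_conj_le_iff.2 hg, by rw [card_map_conj, hF.card], ?_⟩
  rintro _ ⟨a, ha, rfl⟩
  rw [← map_mul, hF.sq a ha, map_one]

section Basic

variable {S T TT J S0 : Subgroup G} {z z' : G} {X : Fin 4 → G} (h : SF S T TT J S0 z z' X)
include h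

theorem zz'_comm : z * z' = z' * z := h.T_comm _ h.z_mem _ h.z'_mem

theorem Z2_mem {a : G} (ha : Z2 z z' a) : a ∈ T := by
  rcases ha with rfl | rfl | rfl | rfl
  · exact T.one_mem
  · exact h.z_mem
  · exact h.z'_mem
  · exact T.mul_mem h.z_mem h.z'_mem

theorem Z2_mul {a b : G} (ha : Z2 z z' a) (hb : Z2 z z' b) : Z2 z z' (a * b) := by
  obtain ⟨m, hm⟩ := h.Z2_char
  obtain ⟨s, hs, rfl⟩ := (hm a).2 ha
  obtain ⟨t, ht, rfl⟩ := (hm b).2 hb
  refine (hm _).1 ⟨s * t, T.mul_mem hs ht, ?_⟩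
  exact (show Commute s t from h.T_comm s hs t ht).mul_pow m

/-- Elements of `N(T)` normalise `Z₂`. -/
theorem norm_Z2 {n a : G} (hn : n ∈ normalizer (T : Set G)) (ha : Z2 z z' a) : Z2 z z' (n * a * n⁻¹) := by
  obtain ⟨m, hm⟩ := h.Z2_char
  obtain ⟨s, hs, rfl⟩ := (hm a).2 ha
  refine (hm _).1 ⟨n * s * n⁻¹, (mem_normalizer_iff.1 hn s).1 hs, ?_⟩
  rw [conj_pow]

theorem S_le_norm : S ≤ normalizer (T : Set G) := by
  intro s hs
  rw [mem_normalizer_iff]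
  intro t
  refine ⟨h.S_norm s hs t, fun ht => ?_⟩
  have h1 := h.S_norm s⁻¹ (S.inv_mem hs) _ ht
  have e : s⁻¹ * (s * t * s⁻¹) * s⁻¹⁻¹ = t := by group
  rwa [e] at h1

/-- `T` is weakly closed. -/
theorem wcl {g : G} (hg : ∀ t ∈ T, g * t * g⁻¹ ∈ S) : ∀ t ∈ T, g * t * g⁻¹ ∈ T := by
  have h1 : T.map (MulAut.conj g).toMonoidHom = T := by
    refine h.T_max _ (map_conj_le_iff.2 hg) ?_ (card_map_conj T g)
    rintro _ ⟨a, ha, rfl⟩ _ ⟨b, hb, rfl⟩
    rw [← map_mul, ← map_mul, h.T_comm a ha b hb]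
  intro t ht
  rw [← h1]
  exact ⟨t, ht, rfl⟩

theorem X_ne_one (i : Fin 4) : X i ≠ 1 := fun e => h.X_not i (Or.inl e)

/-- `N(T)` permutes the four involutions `X i`. -/
theorem norm_X {n : G} (hn : n ∈ normalizer (T : Set G)) (i : Fin 4) : ∃ j, n * X i * n⁻¹ = X j := by
  have h1 : n * X i * n⁻¹ ∈ T := (mem_normalizer_iff.1 hn _).1 (h.X_mem i)
  have h2 : (n * X i * n⁻¹) * (n * X i * n⁻¹) = 1 := by
    have e : (n * X i * n⁻¹) * (n * X i * n⁻¹) = n * (X i * X i) * n⁻¹ := by group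
    rw [e, h.X_sq i]; group
  rcases h.T_inv _ h1 h2 with h3 | h3
  · exfalso
    have h4 := norm_Z2 h (inv_mem hn) h3
    have e : n⁻¹ * (n * X i * n⁻¹) * n⁻¹⁻¹ = X i := by group
    rw [e] at h4
    exact h.X_not i h4
  · exact h3

theorem exists_perm {n : G} (hn : n ∈ normalizer (T : Set G)) : ∃ σ : Equiv.Perm (Fin 4), ∀ i, n * X i * n⁻¹ = X (σ i) := by
  choose f hf using norm_X h hn
  have hinj : Function.Injective f := by
    intro i j hij
    apply h.X_inj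
    have h1 : n * X i * n⁻¹ = n * X j * n⁻¹ := by rw [hf, hf, hij]
    exact mul_left_cancel (mul_right_cancel h1)
  exact ⟨Equiv.ofBijective f (Finite.injective_iff_bijective.1 hinj), hf⟩

theorem z_not_X (i : Fin 4) : ¬ Z2 z z' (X i) := h.X_not i

theorem TT_le_normalizer {F : Subgroup G} (hF : E16 S F) : TT ≤ S ⊓ normalizer (F : Set G) := by
  intro t ht
  have key : ∀ t ∈ TT, ∀ f ∈ F, t * f * t⁻¹ ∈ F := by
    intro t ht f hf
    obtain ⟨a, ha, hta⟩ := h.e_TT F hF t ht f hf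
    rw [hta]
    refine F.mul_mem ?_ hf
    rcases ha with rfl | rfl | rfl | rfl
    · exact F.one_mem
    · exact h.e_z F hF
    · exact h.e_z' F hF
    · exact F.mul_mem (h.e_z F hF) (h.e_z' F hF)
  refine ⟨h.T_le (h.TT_le ht), ?_⟩
  show t ∈ normalizer (F : Set G)
  rw [mem_normalizer_iff]
  intro f
  refine ⟨key t ht f, fun hf => ?_⟩
  have h1 := key t⁻¹ (TT.inv_mem ht) _ hf
  have e : t⁻¹ * (t * f * t⁻¹) * t⁻¹⁻¹ = f := by group
  rwa [e] at h1

end Basic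

section Sylow

variable [Finite G] {P : Sylow 2 G} {T TT J S0 : Subgroup G} {z z' : G} {X : Fin 4 → G}
  (h : SF (P : Subgroup G) T TT J S0 z z' X)
include h

/-- `N_S(F)` is a Sylow 2-subgroup of `N_G(F)`. -/
theorem sylIn_normalizer {F : Subgroup G} (hF : E16 (P : Subgroup G) F) :
    SylIn 2 ((P : Subgroup G) ⊓ normalizer (F : Set G)) (normalizer (F : Set G)) := by
  obtain ⟨N, hN⟩ := h.e_card
  have hp : IsPGroup 2 ↥((P : Subgroup G) ⊓ normalizer (F : Set G)) := P.isPGroup'.to_le inf_le_left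
  obtain ⟨R, hR1, hR2⟩ := exists_sylIn_ge hp (inf_le_right : (P : Subgroup G) ⊓ normalizer (F : Set G) ≤ _)
  obtain ⟨l, -, hl⟩ := (sylIn_top P).conj_le (R := R) le_top hR2.isPGroup
  have hFR : F ≤ R := fun f hf => hR1 ⟨hF.le hf, le_normalizer hf⟩
  have hF' : E16 (P : Subgroup G) (F.map (MulAut.conj l).toMonoidHom) := hF.map fun f hf => hl f (hFR hf)
  have h1 : R.map (MulAut.conj l).toMonoidHom ≤
      (P : Subgroup G) ⊓ normalizer ((F.map (MulAut.conj l).toMonoidHom : Subgroup G) : Set G) := by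
    rw [normalizer_map_conj]
    exact le_inf (map_conj_le_iff.2 hl) (map_mono hR2.le)
  have h2 : Nat.card R ≤ Nat.card ↥((P : Subgroup G) ⊓ normalizer (F : Set G)) := by
    rw [hN F hF, ← hN _ hF', ← card_map_conj R l]
    exact Subgroup.card_le_of_le h1
  have h3 : (P : Subgroup G) ⊓ normalizer (F : Set G) = R := Subgroup.eq_of_le_of_card_ge hR1 h2
  rw [h3]
  exact hR2

theorem sylIn_normalizer_inf {F L : Subgroup G} (hF : E16 (P : Subgroup G) F) (hL : (P : Subgroup G) ≤ L) :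
    SylIn 2 ((P : Subgroup G) ⊓ normalizer (F : Set G)) (L ⊓ normalizer (F : Set G)) := by
  have h1 := sylIn_normalizer h hF
  exact ⟨inf_le_inf_right _ hL, h1.isPGroup, fun R hR1 hR2 hR3 => h1.2.2 R hR1 (hR2.trans inf_le_right) hR3⟩

/-- Transport of `(F, T₂)`. -/
theorem transport {F L : Subgroup G} {g : G} (hF : E16 (P : Subgroup G) F) (hL : (P : Subgroup G) ≤ L) (hg : g ∈ L)
    (hgF : ∀ f ∈ F, g * f * g⁻¹ ∈ (P : Subgroup G)) :
    ∃ c ∈ L ⊓ normalizer ((F.map (MulAut.conj g).toMonoidHom : Subgroup G) : Set G),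
      ∀ t ∈ TT, (c * g) * t * (c * g)⁻¹ ∈ TT := by
  have hF' := hF.map hgF
  set F' : Subgroup G := F.map (MulAut.conj g).toMonoidHom with hF'def
  have h1 : ((P : Subgroup G) ⊓ normalizer (F : Set G)).map (MulAut.conj g).toMonoidHom ≤
      L ⊓ normalizer (F' : Set G) := by
    refine le_inf ?_ ?_
    · rw [map_conj_le_iff]
      intro a ha
      exact L.mul_mem (L.mul_mem hg (hL ha.1)) (L.inv_mem hg)
    · rw [hF'def, normalizer_map_conj]
      exact map_mono inf_le_right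
  have hp : IsPGroup 2 ↥((P : Subgroup G) ⊓ normalizer (F : Set G)) := P.isPGroup'.to_le inf_le_left
  obtain ⟨c, hc, hcR⟩ := (sylIn_normalizer_inf h hF' hL).conj_le h1 (hp.map _)
  refine ⟨c, hc, ?_⟩
  have h2 : TT.map (MulAut.conj (c * g)).toMonoidHom = TT := by
    refine h.e_uniq F' hF' _ ?_ ?_ (card_map_conj _ _)
    · rw [map_conj_le_iff]
      intro t ht
      have h3 := hcR (g * t * g⁻¹) ⟨t, TT_le_normalizer h hF ht, rfl⟩
      have e : c * (g * t * g⁻¹) * c⁻¹ = c * g * t * (c * g)⁻¹ := by group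
      rwa [e] at h3
    · rintro _ ⟨a, ha, rfl⟩ _ ⟨b, hb, rfl⟩
      rw [← map_mul, ← map_mul, h.T_comm a (h.TT_le ha) b (h.TT_le hb)]
  intro t ht
  rw [← h2]
  exact ⟨t, ht, rfl⟩

/-- `N_G(T)` controls fusion of elements of `T`. -/
theorem exists_norm_conj {a b : G} (ha : a ∈ T) (hb : b ∈ T) (hab : ∃ g : G, g * a * g⁻¹ = b) :
    ∃ n ∈ normalizer (T : Set G), n * a * n⁻¹ = b := by
  obtain ⟨g, hg⟩ := hab
  obtain ⟨n, hn, he⟩ := Cfsg.Agent.TwoFusion.IndexTwo.exists_normalizer_conj P T h.T_le (fun g hg => wcl h hg) b g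
    (fun u hu => h.T_comm u hu b hb) (by
      have e : g⁻¹ * b * g = a := by rw [← hg]; group
      rw [e]
      exact fun u hu => h.T_comm u hu a ha)
  refine ⟨n, mem_normalizer_of_conj_mem hn, ?_⟩
  have e : g⁻¹ * b * g = a := by rw [← hg]; group
  rw [e] at he
  rw [he]; group

theorem z_not_conj_X (g : G) (i : Fin 4) : g * z * g⁻¹ ≠ X i := by
  intro e
  obtain ⟨n, hn, hn'⟩ := exists_norm_conj h h.z_mem (h.X_mem i) ⟨g, e⟩
  exact h.X_not i (hn' ▸ norm_Z2 h hn (Z2_z z z'))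

theorem z'_not_conj_X (g : G) (i : Fin 4) : g * z' * g⁻¹ ≠ X i := by
  intro e
  obtain ⟨n, hn, hn'⟩ := exists_norm_conj h h.z'_mem (h.X_mem i) ⟨g, e⟩
  exact h.X_not i (hn' ▸ norm_Z2 h hn (Z2_z' z z'))

/-- **Step 3.** -/
theorem isConj_z (hz : ∃ g : G, g * z * g⁻¹ ∈ (P : Subgroup G) ∧ g * z * g⁻¹ ≠ z)
    (hinv : ∀ e ∈ (P : Subgroup G), e * e = 1 → e ∈ T ∨ (∃ i, IsConj e (X i)) ∨ IsConj e z' ∨
      ∃ F, E16 (P : Subgroup G) F ∧ e ∈ F) : ∃ g : G, g * z * g⁻¹ = z' := by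
  by_contra hnc
  have h1 : ∀ g : G, g * z * g⁻¹ ≠ z' := fun g hg => hnc ⟨g, hg⟩
  have h2 : ∀ g : G, g * z * g⁻¹ ≠ z * z' := by
    intro g hg
    obtain ⟨s, _, hs⟩ := h.swap
    apply h1 (s⁻¹ * g)
    have e : s⁻¹ * g * z * (s⁻¹ * g)⁻¹ = s⁻¹ * (g * z * g⁻¹) * s := by group
    rw [e, hg, ← hs]; group
  have h3 : ∀ g : G, g * z * g⁻¹ ≠ 1 := by
    intro g hg
    apply h.z_ne
    have := conj_eq_one_iff.1 hg
    exact this
  obtain ⟨g₀, hg0, hg0'⟩ := hz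
  set e : G := g₀ * z * g₀⁻¹ with he
  have hee : e * e = 1 := by
    have e1 : (g₀ * z * g₀⁻¹) * (g₀ * z * g₀⁻¹) = g₀ * (z * z) * g₀⁻¹ := by group
    rw [he, e1, h.z_sq]; group
  -- conjugates of `z` in `Z₂`
  have hZ2 : ∀ g : G, Z2 z z' (g * z * g⁻¹) → g * z * g⁻¹ = z := by
    intro g hg
    rcases hg with h4 | h4 | h4 | h4
    · exact absurd h4 (h3 g)
    · exact h4
    · exact absurd h4 (h1 g)
    · exact absurd h4 (h2 g)
  have heT : e ∉ T := by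
    intro heT
    rcases h.T_inv e heT hee with h4 | ⟨i, h4⟩
    · exact hg0' (hZ2 g₀ h4)
    · exact z_not_conj_X h g₀ i h4
  rcases hinv e hg0 hee with h4 | ⟨i, h4⟩ | h4 | ⟨F, hF, heF⟩
  · exact heT h4
  · obtain ⟨b, hb⟩ := isConj_iff.1 h4
    apply z_not_conj_X h (b * g₀) i
    rw [← hb, he]; group
  · obtain ⟨b, hb⟩ := isConj_iff.1 h4
    apply h1 (b * g₀)
    rw [← hb, he]; group
  · obtain ⟨g, hge, hgS⟩ := Cfsg.Agent.SylowSp4.Extremal.exists_conj_of_central P (t := z) (w := e)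
      h.z_cent ⟨g₀⁻¹, by rw [he]; group⟩
    have hgF : ∀ f ∈ F, g * f * g⁻¹ ∈ (P : Subgroup G) := fun f hf => hgS f (hF.le hf) (hF.comm hf heF)
    have hF' := hF.map hgF
    obtain ⟨c, ⟨-, hcN⟩, hcT⟩ := transport h hF le_top (mem_top g) hgF
    set F' : Subgroup G := F.map (MulAut.conj g).toMonoidHom with hF'def
    -- `c g` centralises `z`
    have hy : (c * g) * e * (c * g)⁻¹ = c * z * c⁻¹ := by rw [← hge]; group
    have hzF' : z ∈ F' := h.e_z F' hF'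
    have hyF : c * z * c⁻¹ ∈ F' := (mem_normalizer_iff.1 hcN z).1 hzF'
    have hcz : (c * g) * z * (c * g)⁻¹ = z := by
      obtain ⟨t, ht, hte⟩ := h.e_tr F hF e heF heT z (Z2_z z z')
      obtain ⟨a, ha, hta⟩ := h.e_TT F' hF' _ (hcT t ht) _ hyF
      rw [← hy] at hta
      have e1 : (c * g) * t * (c * g)⁻¹ * ((c * g) * e * (c * g)⁻¹) * ((c * g) * t * (c * g)⁻¹)⁻¹ =
          (c * g) * (t * e * t⁻¹) * (c * g)⁻¹ := by group
      rw [e1, hte] at hta
      have e2 : (c * g) * (z * e) * (c * g)⁻¹ = ((c * g) * z * (c * g)⁻¹) * ((c * g) * e * (c * g)⁻¹) := by group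
      rw [e2] at hta
      have h5 := mul_right_cancel hta
      exact hZ2 _ (h5 ▸ ha)
    have hyz : c * z * c⁻¹ ≠ z := by
      intro h5
      apply hg0'
      rw [← hy] at h5
      rw [← hcz] at h5
      exact mul_left_cancel (mul_right_cancel h5)
    have hyT : c * z * c⁻¹ ∉ T := fun h5 => hyz (hZ2 c (h.e_T F' hF' _ hyF h5))
    -- `z' y` is conjugate to `z`
    obtain ⟨t, ht, hty⟩ := h.e_tr F' hF' _ hyF hyT z' (Z2_z' z z')
    set y : G := c * z * c⁻¹ with hydef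
    -- `x = c⁻¹ (z' y) c`
    have hxF : c⁻¹ * (z' * y) * c ∈ F' := by
      have h5 := (mem_normalizer_iff.1 (inv_mem hcN) (z' * y)).1 (F'.mul_mem (h.e_z' F' hF') hyF)
      rwa [inv_inv] at h5
    have hxc : c⁻¹ * (z' * y) * c = (c⁻¹ * t * c) * z * (c⁻¹ * t * c)⁻¹ := by
      rw [← hty, hydef]; group
    have hxT : c⁻¹ * (z' * y) * c ∉ T := by
      intro h5
      have h6 := h.e_T F' hF' _ hxF h5
      rw [hxc] at h6
      have h7 := hZ2 _ h6
      rw [← hxc] at h7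
      -- then `z' y = y`
      have h8 : z' * y = y := by
        rw [hydef]
        rw [hydef] at h7
        calc z' * (c * z * c⁻¹) = c * (c⁻¹ * (z' * (c * z * c⁻¹)) * c) * c⁻¹ := by group
          _ = c * z * c⁻¹ := by rw [h7]
      exact h.z'_ne (mul_eq_right.1 h8)
    obtain ⟨t₂, ht2, hty2⟩ := h.e_tr F' hF' _ hxF hxT z (Z2_z z z')
    -- so `z'` is conjugate to `z`
    have hyy : y * y = 1 := hF'.sq y hyF
    have hyz' : y * z' = z' * y := hF'.comm hyF (h.e_z' F' hF')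
    apply h1 (c * t₂ * (c⁻¹ * t * c))
    have e3 : c * t₂ * (c⁻¹ * t * c) * z * (c * t₂ * (c⁻¹ * t * c))⁻¹ =
        c * (t₂ * ((c⁻¹ * t * c) * z * (c⁻¹ * t * c)⁻¹) * t₂⁻¹) * c⁻¹ := by group
    rw [e3, ← hxc, hty2]
    have e4 : c * (z * (c⁻¹ * (z' * y) * c)) * c⁻¹ = (c * z * c⁻¹) * (z' * y) := by group
    rw [e4, ← hydef, ← mul_assoc, hyz', mul_assoc, hyy, mul_one]


/-- `z` and `z'` are conjugate in `N(T)`. -/
theorem exists_norm_z (hz : ∃ g : G, g * z * g⁻¹ = z') : ∃ n ∈ normalizer (T : Set G), n * z * n⁻¹ = z' :=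
  exists_norm_conj h h.z_mem h.z'_mem hz

theorem X13 : X 1 * X 3 = z' := by
  have h1 : X 1 = X 0 * z := by rw [← h.X01, ← mul_assoc, h.X_sq, one_mul]
  have h3 : X 3 = X 2 * z := by rw [← h.X23, ← mul_assoc, h.X_sq, one_mul]
  have hc : z * X 2 = X 2 * z := h.T_comm _ h.z_mem _ (h.X_mem 2)
  rw [h1, h3]
  calc X 0 * z * (X 2 * z) = X 0 * (z * X 2) * z := by group
    _ = X 0 * X 2 * (z * z) := by rw [hc]; group
    _ = z' := by rw [h.z_sq, mul_one, h.X02]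

theorem X10 : X 1 * X 0 = z := by rw [h.T_comm _ (h.X_mem 1) _ (h.X_mem 0), h.X01]
theorem X32 : X 3 * X 2 = z := by rw [h.T_comm _ (h.X_mem 3) _ (h.X_mem 2), h.X23]

/-- Elements of `G` fixing all `X i` and normalising `T` centralise `T`. -/
theorem cent_of_X {n : G} (hn : n ∈ normalizer (T : Set G)) (hX : ∀ i, n * X i = X i * n) :
    ∀ t ∈ T, n * t = t * n := by
  -- the group `K` of all such elements
  let K : Subgroup G :=
    { carrier := {n | n ∈ normalizer (T : Set G) ∧ ∀ i, n * X i = X i * n}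
      mul_mem' := by
        rintro a b ⟨ha, ha'⟩ ⟨hb, hb'⟩
        refine ⟨mul_mem ha hb, fun i => ?_⟩
        rw [mul_assoc, hb', ← mul_assoc, ha', mul_assoc]
      one_mem' := ⟨one_mem _, fun i => by rw [one_mul, mul_one]⟩
      inv_mem' := by
        rintro a ⟨ha, ha'⟩
        refine ⟨inv_mem ha, fun i => ?_⟩
        have := ha' i
        rw [inv_mul_eq_iff_eq_mul, ← mul_assoc, this, mul_assoc, mul_inv_cancel, mul_one] }
  have hKmem : ∀ {a : G}, a ∈ K ↔ a ∈ normalizer (T : Set G) ∧ ∀ i, a * X i = X i * a := Iff.rfl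
  have hKN : K ≤ normalizer (T : Set G) := fun a ha => (hKmem.1 ha).1
  have hPN : (P : Subgroup G) ≤ normalizer (T : Set G) := S_le_norm h
  have hNK : normalizer (T : Set G) ≤ normalizer (K : Set G) := by
    intro m hm
    refine mem_normalizer_of_conj_mem fun a ha => ?_
    refine hKmem.2 ⟨mul_mem (mul_mem hm (hKN ha)) (inv_mem hm), fun i => ?_⟩
    obtain ⟨j, hj⟩ := norm_X h (inv_mem hm) i
    rw [inv_inv] at hj
    have h1 : X i = m * X j * m⁻¹ := by rw [← hj]; group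
    have h2 := (hKmem.1 ha).2 j
    rw [h1]
    calc m * a * m⁻¹ * (m * X j * m⁻¹) = m * (a * X j) * m⁻¹ := by group
      _ = m * (X j * a) * m⁻¹ := by rw [h2]
      _ = m * X j * m⁻¹ * (m * a * m⁻¹) := by group
  have hsyl : SylIn 2 (P : Subgroup G) (normalizer (T : Set G)) :=
    ⟨hPN, P.isPGroup', fun R hR _ hR3 => (sylIn_top P).2.2 R hR le_top hR3⟩
  have hsylK := hsyl.inf hKN hNK
  have hPK : (P : Subgroup G) ⊓ K = T := by
    apply le_antisymm
    · rintro s ⟨hs, hsK⟩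
      exact h.cent_X s hs (hKmem.1 hsK).2
    · intro t ht
      exact ⟨h.T_le ht, hKmem.2 ⟨le_normalizer ht, fun i => h.T_comm t ht _ (h.X_mem i)⟩⟩
  rw [hPK] at hsylK
  have hnK : n ∈ K := hKmem.2 ⟨hn, hX⟩
  -- 2-elements of `K` lie in `T`
  have h2el : ∀ a ∈ K, (∃ k : ℕ, a ^ 2 ^ k = 1) → a ∈ T := by
    rintro a ha ⟨k, hk⟩
    have hp : IsPGroup 2 (zpowers a) := by
      rintro ⟨x, hx⟩
      obtain ⟨j, rfl⟩ := mem_zpowers_iff.1 hx
      refine ⟨k, Subtype.ext ?_⟩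
      rw [SubmonoidClass.coe_pow, OneMemClass.coe_one]
      rw [← zpow_natCast, ← zpow_mul, mul_comm, zpow_mul, zpow_natCast, hk, one_zpow]
    obtain ⟨l, hl, hlT⟩ := hsylK.conj_le (zpowers_le.2 ha) hp
    have h1 := hlT a (mem_zpowers a)
    have h2 := (mem_normalizer_iff.1 (hKN hl) a).2 h1
    exact h2
  -- decompose the order of `n`
  obtain ⟨k, m, hm, hnm⟩ := Nat.exists_eq_two_pow_mul_odd (n := orderOf n) (orderOf_pos n).ne'
  have h1 : n ^ m ∈ T := by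
    refine h2el _ (K.pow_mem hnK m) ⟨k, ?_⟩
    rw [← pow_mul, mul_comm, ← hnm, pow_orderOf_eq_one]
  have hodd : Odd (orderOf (n ^ 2 ^ k)) := by
    have h3 : orderOf (n ^ 2 ^ k) ∣ m := by
      apply orderOf_dvd_of_pow_eq_one
      rw [← pow_mul, ← hnm, pow_orderOf_eq_one]
    exact hm.of_dvd_nat h3
  have h2 : ∀ t ∈ T, n ^ 2 ^ k * t * (n ^ 2 ^ k)⁻¹ = t := by
    intro t ht
    have hnk : n ^ 2 ^ k ∈ K := K.pow_mem hnK _
    obtain ⟨j, hj⟩ := P.isPGroup' ⟨t, h.T_le ht⟩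
    refine Cfsg.Agent.TwoFusion.OneClass.conj_eq_of_odd T h.T_comm (n ^ 2 ^ k) hodd
      (fun v hv => (mem_normalizer_iff.1 (hKN hnk) v).1 hv) ?_ j t ht ?_
    · intro v hv hvv
      have hXk := (hKmem.1 hnk).2
      have hz : ∀ a b : G, (n ^ 2 ^ k) * a = a * (n ^ 2 ^ k) → (n ^ 2 ^ k) * b = b * (n ^ 2 ^ k) →
          (n ^ 2 ^ k) * (a * b) = (a * b) * (n ^ 2 ^ k) := by
        intro a b ha hb
        rw [← mul_assoc, ha, mul_assoc, hb, mul_assoc]
      have hcz : (n ^ 2 ^ k) * z = z * (n ^ 2 ^ k) := by rw [← h.X01]; exact hz _ _ (hXk 0) (hXk 1)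
      have hcz' : (n ^ 2 ^ k) * z' = z' * (n ^ 2 ^ k) := by rw [← h.X02]; exact hz _ _ (hXk 0) (hXk 2)
      have hfin : (n ^ 2 ^ k) * v = v * (n ^ 2 ^ k) := by
        rcases h.T_inv v hv hvv with h4 | ⟨i, rfl⟩
        · rcases h4 with rfl | rfl | rfl | rfl
          · rw [mul_one, one_mul]
          · exact hcz
          · exact hcz'
          · exact hz _ _ hcz hcz'
        · exact hXk i
      rw [hfin, mul_inv_cancel_right]
    · have := congrArg Subtype.val hj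
      simpa using this
  -- combine
  have hC1 : n ^ m ∈ centralizer (T : Set G) := by
    rw [mem_centralizer_iff]
    intro t ht
    exact h.T_comm t ht _ h1
  have hC2 : n ^ 2 ^ k ∈ centralizer (T : Set G) := by
    rw [mem_centralizer_iff]
    intro t ht
    have := h2 t ht
    rw [mul_inv_eq_iff_eq_mul] at this
    exact this.symm
  have hcop : Nat.gcd m (2 ^ k) = 1 := Nat.Coprime.pow_right k (Nat.coprime_two_right.2 hm)
  have hbez := Nat.gcd_eq_gcd_ab m (2 ^ k)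
  rw [hcop] at hbez
  have hn' : n = (n ^ m) ^ (Nat.gcdA m (2 ^ k)) * (n ^ 2 ^ k) ^ (Nat.gcdB m (2 ^ k)) := by
    rw [← zpow_natCast, ← zpow_natCast n (2 ^ k), ← zpow_mul, ← zpow_mul, ← zpow_add, ← hbez, Nat.cast_one, zpow_one]
  have hnC : n ∈ centralizer (T : Set G) := by
    rw [hn']
    exact mul_mem (zpow_mem hC1 _) (zpow_mem hC2 _)
  intro t ht
  exact (mem_centralizer_iff.1 hnC t ht).symm

/-- The permutations of the `X i` induced by `N(T)`. -/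
def permGroup (T : Subgroup G) (X : Fin 4 → G) : Subgroup (Equiv.Perm (Fin 4)) where
  carrier := {σ | ∃ n ∈ normalizer (T : Set G), ∀ i, n * X i * n⁻¹ = X (σ i)}
  mul_mem' := by
    rintro σ τ ⟨a, ha, ha'⟩ ⟨b, hb, hb'⟩
    refine ⟨a * b, mul_mem ha hb, fun i => ?_⟩
    rw [Equiv.Perm.mul_apply, ← ha', ← hb']; group
  one_mem' := ⟨1, one_mem _, fun i => by simp⟩
  inv_mem' := by
    rintro σ ⟨a, ha, ha'⟩
    refine ⟨a⁻¹, inv_mem ha, fun i => ?_⟩
    have h1 := ha' (σ⁻¹ i)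
    have h2 : σ (σ⁻¹ i) = i := by simp
    rw [h2] at h1
    rw [← h1]; group


theorem mem_permGroup {σ : Equiv.Perm (Fin 4)} :
    σ ∈ permGroup T X ↔ ∃ n ∈ normalizer (T : Set G), ∀ i, n * X i * n⁻¹ = X (σ i) := Iff.rfl

theorem tau_mem : Equiv.swap 0 1 ∈ permGroup T X := by
  obtain ⟨s, hs, h0, h1, h2, h3⟩ := h.tau
  refine ⟨s, S_le_norm h hs, fun i => ?_⟩
  fin_cases i
  · exact h0
  · exact h1
  · exact h2
  · exact h3

theorem sg'_mem : Equiv.swap 0 2 * Equiv.swap 1 3 ∈ permGroup T X := by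
  obtain ⟨s, hs, h0, h1, h2, h3⟩ := h.sg'
  refine ⟨s, S_le_norm h hs, fun i => ?_⟩
  fin_cases i
  · exact h0
  · exact h1
  · exact h2
  · exact h3

theorem tau'_mem : Equiv.swap 2 3 ∈ permGroup T X := by
  have e : (Equiv.swap 2 3 : Equiv.Perm (Fin 4)) = (Equiv.swap 0 2 * Equiv.swap 1 3) * Equiv.swap 0 1 *
      (Equiv.swap 0 2 * Equiv.swap 1 3)⁻¹ := by decide
  rw [e]
  exact mul_mem (mul_mem (sg'_mem h) (tau_mem h)) (inv_mem (sg'_mem h))

theorem d8_mem (i j k : Bool) : d8 i j k ∈ permGroup T X := by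
  unfold d8
  refine mul_mem (mul_mem ?_ ?_) ?_
  · cases i
    · exact one_mem _
    · exact tau_mem h
  · cases j
    · exact one_mem _
    · exact tau'_mem h
  · cases k
    · exact one_mem _
    · exact sg'_mem h

/-- **Steps 1 and 3**: every permutation of the `X i` is induced by `N(T)`. -/
theorem exists_norm_perm (hz : ∃ g : G, g * z * g⁻¹ = z') (ρ : Equiv.Perm (Fin 4)) :
    ∃ n ∈ normalizer (T : Set G), ∀ i, n * X i * n⁻¹ = X (ρ i) := by
  obtain ⟨n, hn, hnz⟩ := exists_norm_z h hz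
  obtain ⟨σ, hσ⟩ := exists_perm h hn
  have hprod : X (σ 0) * X (σ 1) = z' := by
    rw [← hσ, ← hσ, ← hnz, ← h.X01]; group
  have hbad : ¬ ((σ 0).val / 2 = (σ 1).val / 2) := by
    intro hh
    have hne : σ 0 ≠ σ 1 := fun e => by simpa using σ.injective e
    have h01 := h.X01
    have h10 := X10 h
    have h23 := h.X23
    have h32 := X32 h
    apply h.z'_ne_z
    rw [← hprod]
    generalize σ 0 = a at *
    generalize σ 1 = b at *
    fin_cases a <;> fin_cases b <;> first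
      | exact absurd rfl hne
      | exact h01
      | exact h10
      | exact h23
      | exact h32
      | (exfalso; revert hh; decide)
  change ρ ∈ permGroup T X
  have hσm : σ ∈ permGroup T X := ⟨n, hn, hσ⟩
  rcases d8_cover σ hbad ρ with ⟨i, j, k, rfl⟩ | ⟨i, j, k, i', j', k', rfl⟩
  · exact d8_mem h i j k
  · exact mul_mem (mul_mem (d8_mem h i j k) hσm) (d8_mem h i' j' k')

/-- **Step 4**, the contradiction. -/
theorem step4 {u g : G} (huS : u ∉ S0) {F : Subgroup G}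
    (hF : E16 (P : Subgroup G) F) (huF : u ∈ F) (hg : g ∈ centralizer ({z} : Set G)) (hgu : g * u * g⁻¹ ∈ S0)
    (hgP : ∀ y ∈ (P : Subgroup G), y * u = u * y → g * y * g⁻¹ ∈ (P : Subgroup G)) : False := by
  have hPL : (P : Subgroup G) ≤ centralizer ({z} : Set G) := fun s hs =>
    mem_centralizer_singleton_iff.2 (h.z_cent s hs)
  have hgF : ∀ f ∈ F, g * f * g⁻¹ ∈ (P : Subgroup G) := fun f hf => hgP f (hF.le hf) (hF.comm hf huF)
  have hF' := hF.map hgF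
  obtain ⟨c, ⟨hcL, hcN⟩, hcT⟩ := transport h hF hPL hg hgF
  set F' : Subgroup G := F.map (MulAut.conj g).toMonoidHom with hF'def
  set L : Subgroup G := centralizer ({z} : Set G) with hLdef
  have huT : u ∉ T := fun hh => huS (h.J_le (h.T_le_J hh))
  have huJ : u ∉ J := fun hh => huS (h.J_le hh)
  -- `u' = g u g⁻¹ ∈ F' ∩ J`
  have hu'F : g * u * g⁻¹ ∈ F' := ⟨u, huF, rfl⟩
  have hu'J : g * u * g⁻¹ ∈ J := h.e_S0 F' hF' _ hu'F hgu
  -- `u'' = c u' c⁻¹ ∉ J`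
  have hu''F : c * (g * u * g⁻¹) * c⁻¹ ∈ F' := (mem_normalizer_iff.1 hcN _).1 hu'F
  have hcg : c * (g * u * g⁻¹) * c⁻¹ = (c * g) * u * (c * g)⁻¹ := by group
  have hcgz : (c * g) * z * (c * g)⁻¹ = z := by
    have := mem_centralizer_singleton_iff.1 (L.mul_mem hcL hg)
    rw [this, mul_inv_cancel_right]
  have hcomm : ∀ t : G, t * u = u * t ↔ ((c * g) * t * (c * g)⁻¹) * ((c * g) * u * (c * g)⁻¹) =
      ((c * g) * u * (c * g)⁻¹) * ((c * g) * t * (c * g)⁻¹) := by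
    intro t
    have e1 : ((c * g) * t * (c * g)⁻¹) * ((c * g) * u * (c * g)⁻¹) = (c * g) * (t * u) * (c * g)⁻¹ := by group
    have e2 : ((c * g) * u * (c * g)⁻¹) * ((c * g) * t * (c * g)⁻¹) = (c * g) * (u * t) * (c * g)⁻¹ := by group
    rw [e1, e2]
    constructor
    · intro hh; rw [hh]
    · intro hh; exact mul_left_cancel (mul_right_cancel hh)
  have hu''J : c * (g * u * g⁻¹) * c⁻¹ ∉ J := by
    intro hJ
    have h1 := mt (h.e_J F hF u huF huT).2 huJ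
    push Not at h1
    obtain ⟨t, ht, htu, ht1, htz⟩ := h1
    by_cases hT : c * (g * u * g⁻¹) * c⁻¹ ∈ T
    · obtain ⟨t₂, ht2, htu2⟩ := h.e_tr F hF u huF huT z (Z2_z z z')
      have h2 := (hcomm t₂).2 (by
        rw [← hcg]
        exact h.T_comm _ (h.TT_le (hcT t₂ ht2)) _ hT)
      rw [h2, mul_inv_cancel_right] at htu2
      exact h.z_ne (mul_eq_right.1 htu2.symm)
    · have h3 := (h.e_J F' hF' _ hu''F hT).1 hJ _ (hcT t ht) (by rw [hcg]; exact (hcomm t).1 htu)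
      have e : ((c * g) * t * (c * g)⁻¹) * ((c * g) * t * (c * g)⁻¹) = (c * g) * (t * t) * (c * g)⁻¹ := by group
      rw [e] at h3
      rcases h3 with h3 | h3
      · exact ht1 (conj_eq_one_iff.1 h3)
      · apply htz
        rw [← hcgz] at h3
        exact mul_left_cancel (mul_right_cancel h3)
  -- the kernel of the action of `N_L(F')` on `F'/z`
  let K : Subgroup G :=
    { carrier := {k | (k ∈ L ∧ k ∈ normalizer (F' : Set G)) ∧ ∀ f ∈ F', k * f * k⁻¹ = f ∨ k * f * k⁻¹ = z * f}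
      mul_mem' := by
        rintro a b ⟨⟨ha, ha'⟩, ha2⟩ ⟨⟨hb, hb'⟩, hb2⟩
        refine ⟨⟨L.mul_mem ha hb, mul_mem ha' hb'⟩, fun f hf => ?_⟩
        have hza : a * z * a⁻¹ = z := by rw [mem_centralizer_singleton_iff.1 ha, mul_inv_cancel_right]
        have e : a * b * f * (a * b)⁻¹ = a * (b * f * b⁻¹) * a⁻¹ := by group
        rw [e]
        rcases hb2 f hf with h4 | h4
        · rw [h4]; exact ha2 f hf
        · rw [h4]
          have e' : a * (z * f) * a⁻¹ = (a * z * a⁻¹) * (a * f * a⁻¹) := by group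
          rw [e', hza]
          rcases ha2 f hf with h5 | h5
          · right; rw [h5]
          · left; rw [h5, ← mul_assoc, h.z_sq, one_mul]
      one_mem' := ⟨⟨L.one_mem, one_mem _⟩, fun f _ => Or.inl (by group)⟩
      inv_mem' := by
        rintro a ⟨⟨ha, ha'⟩, ha2⟩
        refine ⟨⟨L.inv_mem ha, inv_mem ha'⟩, fun f hf => ?_⟩
        have hza : a * z = z * a := mem_centralizer_singleton_iff.1 ha
        rcases ha2 f hf with h4 | h4
        · left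
          calc a⁻¹ * f * a⁻¹⁻¹ = a⁻¹ * (a * f * a⁻¹) * a := by rw [h4]; group
            _ = f := by group
        · right
          have h5 : a * (z * f) * a⁻¹ = f := by
            calc a * (z * f) * a⁻¹ = (a * z) * f * a⁻¹ := by group
              _ = z * (a * f * a⁻¹) := by rw [hza]; group
              _ = f := by rw [h4, ← mul_assoc, h.z_sq, one_mul]
          calc a⁻¹ * f * a⁻¹⁻¹ = a⁻¹ * (a * (z * f) * a⁻¹) * a := by rw [h5]; group
            _ = z * f := by group }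
  have hKmem : ∀ {k : G}, k ∈ K ↔ (k ∈ L ∧ k ∈ normalizer (F' : Set G)) ∧
      ∀ f ∈ F', k * f * k⁻¹ = f ∨ k * f * k⁻¹ = z * f := Iff.rfl
  have hKL : K ≤ L ⊓ normalizer (F' : Set G) := fun k hk => (hKmem.1 hk).1
  have hLK : L ⊓ normalizer (F' : Set G) ≤ normalizer (K : Set G) := by
    intro m hm
    refine mem_normalizer_of_conj_mem fun a ha => ?_
    refine hKmem.2 ⟨⟨L.mul_mem (L.mul_mem hm.1 (hKL ha).1) (L.inv_mem hm.1),
      mul_mem (mul_mem hm.2 (hKL ha).2) (inv_mem hm.2)⟩, fun f hf => ?_⟩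
    have hzm : m * z * m⁻¹ = z := by rw [mem_centralizer_singleton_iff.1 hm.1, mul_inv_cancel_right]
    have hf' : m⁻¹ * f * m ∈ F' := by
      have := (mem_normalizer_iff.1 (inv_mem hm.2) f).1 hf
      rwa [inv_inv] at this
    have e : m * a * m⁻¹ * f * (m * a * m⁻¹)⁻¹ = m * (a * (m⁻¹ * f * m) * a⁻¹) * m⁻¹ := by group
    rw [e]
    rcases (hKmem.1 ha).2 _ hf' with h4 | h4
    · left; rw [h4]; group
    · right
      rw [h4]
      have e' : m * (z * (m⁻¹ * f * m)) * m⁻¹ = (m * z * m⁻¹) * f := by group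
      rw [e', hzm]
  -- every element of `K` acts as an element of `S`
  have hcentJ : ∀ k ∈ K, ∀ f ∈ F', f ∈ J → k * f * k⁻¹ = f := by
    have hsyl := (sylIn_normalizer_inf h hF' hPL).inf hKL hLK
    have hCK : K ⊓ centralizer (F' : Set G) ≤ K := inf_le_left
    have hKC : K ≤ normalizer ((K ⊓ centralizer (F' : Set G) : Subgroup G) : Set G) := by
      intro m hm
      refine mem_normalizer_of_conj_mem fun a ha => ⟨K.mul_mem (K.mul_mem hm ha.1) (K.inv_mem hm), ?_⟩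
      show m * a * m⁻¹ ∈ centralizer (F' : Set G)
      rw [mem_centralizer_iff]
      intro f hf
      have hf' : m⁻¹ * f * m ∈ F' := by
        have := (mem_normalizer_iff.1 (inv_mem (hKL hm).2) f).1 hf
        rwa [inv_inv] at this
      have h4 := (mem_centralizer_iff.1 ha.2) _ hf'
      calc f * (m * a * m⁻¹) = m * ((m⁻¹ * f * m) * a) * m⁻¹ := by group
        _ = m * (a * (m⁻¹ * f * m)) * m⁻¹ := by rw [h4]
        _ = m * a * m⁻¹ * f := by group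
    have hpow : ∀ x ∈ K, ∃ k : ℕ, x ^ 2 ^ k ∈ K ⊓ centralizer (F' : Set G) := by
      intro x hx
      refine ⟨1, ?_⟩
      rw [pow_one, pow_two]
      refine ⟨K.mul_mem hx hx, ?_⟩
      show x * x ∈ centralizer (F' : Set G)
      rw [mem_centralizer_iff]
      intro f hf
      have hzx : x * z * x⁻¹ = z := by
        rw [mem_centralizer_singleton_iff.1 (hKL hx).1, mul_inv_cancel_right]
      have h6 : x * x * f * (x * x)⁻¹ = f := by
        have e : x * x * f * (x * x)⁻¹ = x * (x * f * x⁻¹) * x⁻¹ := by group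
        rw [e]
        rcases (hKmem.1 hx).2 f hf with h4 | h4
        · rw [h4, h4]
        · rw [h4]
          have e' : x * (z * f) * x⁻¹ = (x * z * x⁻¹) * (x * f * x⁻¹) := by group
          rw [e', hzx, h4, ← mul_assoc, h.z_sq, one_mul]
      exact (mul_inv_eq_iff_eq_mul.1 h6).symm
    intro k hk f hf hfJ
    obtain ⟨n, hn, s, hs, hkns⟩ := hsyl.exists_mul hCK hKC hpow hk
    have h4 : s * f * s⁻¹ = f := h.e_ker F' hF' s hs.1.1 (hKmem.1 hs.2).2 f hf hfJ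
    have h5 := (mem_centralizer_iff.1 hn.2) f hf
    rw [hkns]
    have e : n * s * f * (n * s)⁻¹ = n * (s * f * s⁻¹) * n⁻¹ := by group
    rw [e, h4, ← h5, mul_inv_cancel_right]
  -- `c` normalises `F' ∩ J`
  obtain ⟨t₀, ht0, ht0J, ht0n⟩ := h.e_k F' hF'
  have ht0K : t₀ ∈ K := by
    have h4 := TT_le_normalizer h hF' ht0
    refine hKmem.2 ⟨⟨hPL h4.1, h4.2⟩, fun f hf => ?_⟩
    by_cases hfJ : f ∈ J
    · exact Or.inl (ht0J f hf hfJ)
    · exact Or.inr (ht0n f hf hfJ)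
  have h7 := ht0n _ hu''F hu''J
  have h8 : c⁻¹ * t₀ * c ∈ K := by
    have := (mem_normalizer_iff.1 (inv_mem (hLK ⟨hcL, hcN⟩)) t₀).1 ht0K
    rwa [inv_inv] at this
  have h9 := hcentJ _ h8 _ hu'F hu'J
  have h10 : t₀ * (c * (g * u * g⁻¹) * c⁻¹) * t₀⁻¹ = c * (g * u * g⁻¹) * c⁻¹ := by
    calc t₀ * (c * (g * u * g⁻¹) * c⁻¹) * t₀⁻¹ =
        c * (c⁻¹ * t₀ * c * (g * u * g⁻¹) * (c⁻¹ * t₀ * c)⁻¹) * c⁻¹ := by group
      _ = c * (g * u * g⁻¹) * c⁻¹ := by rw [h9]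
  rw [h10] at h7
  exact h.z_ne (mul_eq_right.1 h7.symm)

theorem P_le_cent : (P : Subgroup G) ≤ centralizer ({z} : Set G) := fun s hs =>
  mem_centralizer_singleton_iff.2 (h.z_cent s hs)

/-- An involution of `S` outside `S0` lying in some `E16` survives in an abelian quotient of `C(z)`. -/
theorem exists_hom_ne (hidx : S0.relIndex (P : Subgroup G) = 2) {u : G} (hu : u ∈ (P : Subgroup G)) (huu : u * u = 1)
    (huS : u ∉ S0) {F : Subgroup G} (hF : E16 (P : Subgroup G) F) (huF : u ∈ F) :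
    ∃ φ : ↥(centralizer ({z} : Set G)) →* ℤˣ, φ ⟨u, P_le_cent h hu⟩ ≠ 1 := by
  by_contra hcon
  push Not at hcon
  have hPL := P_le_cent h
  set L : Subgroup G := centralizer ({z} : Set G) with hL
  have hS0L : S0 ≤ L := h.S0_le.trans hPL
  let u' : L := ⟨u, hPL hu⟩
  have hidx' : (S0.subgroupOf L).relIndex ((P.subtype hPL : Sylow 2 L) : Subgroup L) = 2 := by
    rw [Sylow.coe_subtype]
    have h1 : ((S0.subgroupOf L).relIndex ((P : Subgroup G).subgroupOf L)) = S0.relIndex (P : Subgroup G) := by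
      rw [← relIndex_subgroupOf hPL]
    rw [h1, hidx]
  obtain ⟨g, hg1, hg2⟩ := Cfsg.Agent.SylowSp4.ExtTransfer.exists_extremal (P.subtype hPL) (S0.subgroupOf L)
    (by
      rw [Sylow.coe_subtype]
      exact fun x hx => h.S0_le hx) hidx' u' (Subtype.ext huu) hcon
    (((P : Subgroup G) ⊓ centralizer ({u} : Set G)).subgroupOf L)
    ((P.isPGroup'.to_le inf_le_left).comap_of_injective _ L.subtype_injective) (by
      intro r hr
      exact Subtype.ext (mem_centralizer_singleton_iff.1 hr.2))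
  refine step4 h (g := (g : G)) huS hF huF g.2 hg1 ?_
  intro y hy hyu
  have h3 := hg2 ⟨y, hPL hy⟩ ⟨hy, mem_centralizer_singleton_iff.2 hyu⟩
  exact h3

/-- **Step 4**: `C(z)` has a homomorphism onto `±1` with kernel meeting `S` in `S0`. -/
theorem exists_hom (hidx : S0.relIndex (P : Subgroup G) = 2) {Q : Set G} {t0 u0 : G} (hQS : Q ⊆ S0)
    (hgen : S0 ≤ closure (Q ∪ {t0})) (ht0 : t0 ∈ S0)
    (hQ : ∀ φ : ↥(centralizer ({z} : Set G)) →* ℤˣ, ∀ q ∈ Q, ∀ hq : q ∈ centralizer ({z} : Set G), φ ⟨q, hq⟩ = 1)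
    (hu0 : u0 ∈ (P : Subgroup G)) (hu0S : u0 ∉ S0) (huu : u0 * u0 = 1) (htu : (t0 * u0) * (t0 * u0) = 1)
    (hE : ∀ e ∈ (P : Subgroup G), e * e = 1 → e ∉ S0 → ∃ F, E16 (P : Subgroup G) F ∧ e ∈ F) :
    ∃ φ : ↥(centralizer ({z} : Set G)) →* ℤˣ, ∀ s (hs : s ∈ (P : Subgroup G)),
      φ ⟨s, P_le_cent h hs⟩ = 1 ↔ s ∈ S0 := by
  have hPL := P_le_cent h
  have ht0P : t0 ∈ (P : Subgroup G) := h.S0_le ht0
  have hidx' : (S0.subgroupOf (P : Subgroup G)).index = 2 := hidx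
  have hmul : ∀ a b : G, a ∈ (P : Subgroup G) → b ∈ (P : Subgroup G) → (a * b ∈ S0 ↔ (a ∈ S0 ↔ b ∈ S0)) := by
    intro a b ha hb
    have := Subgroup.mul_mem_iff_of_index_two hidx' (a := ⟨a, ha⟩) (b := ⟨b, hb⟩)
    simpa [mem_subgroupOf] using this
  -- the key criterion
  have key : ∀ φ : ↥(centralizer ({z} : Set G)) →* ℤˣ, φ ⟨t0, hPL ht0P⟩ = 1 → φ ⟨u0, hPL hu0⟩ = -1 →
      ∀ s (hs : s ∈ (P : Subgroup G)), φ ⟨s, hPL hs⟩ = 1 ↔ s ∈ S0 := by
    intro φ h1 h2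
    have h3 : ∀ s, s ∈ S0 → ∀ hs : s ∈ centralizer ({z} : Set G), φ ⟨s, hs⟩ = 1 := by
      have hle : S0 ≤ φ.ker.map (centralizer ({z} : Set G)).subtype := by
        refine hgen.trans ?_
        rw [closure_le]
        rintro x (hx | rfl)
        · exact ⟨⟨x, hPL (h.S0_le (hQS hx))⟩, hQ φ x hx _, rfl⟩
        · exact ⟨⟨_, hPL ht0P⟩, h1, rfl⟩
      intro s hs hs'
      obtain ⟨y, hy, hys⟩ := hle hs
      have e : y = ⟨s, hs'⟩ := Subtype.ext hys
      rw [← e]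
      exact hy
    intro s hs
    constructor
    · intro h4
      by_contra h5
      have h6 : s * u0 ∈ S0 := by
        rw [hmul s u0 hs hu0]
        exact ⟨fun hh => absurd hh h5, fun hh => absurd hh hu0S⟩
      have h7 := h3 _ h6 (hPL ((P : Subgroup G).mul_mem hs hu0))
      have h8 : φ ⟨s * u0, hPL ((P : Subgroup G).mul_mem hs hu0)⟩ = φ ⟨s, hPL hs⟩ * φ ⟨u0, hPL hu0⟩ := by
        rw [← map_mul]; rfl
      rw [h8, h4, h2] at h7
      exact absurd h7 (by decide)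
    · intro h4
      exact h3 s h4 _
  have hneg : ∀ v : ℤˣ, v ≠ 1 → v = -1 := fun v hv => (Int.units_eq_one_or v).resolve_left hv
  obtain ⟨F, hF, huF⟩ := hE u0 hu0 huu hu0S
  obtain ⟨φ, hφ⟩ := exists_hom_ne h hidx hu0 huu hu0S hF huF
  have hφu := hneg _ hφ
  have htu0 : t0 * u0 ∈ (P : Subgroup G) := (P : Subgroup G).mul_mem ht0P hu0
  have htuS : t0 * u0 ∉ S0 := by
    rw [hmul _ _ ht0P hu0]
    exact fun hh => hu0S (hh.1 ht0)
  obtain ⟨F', hF', htuF⟩ := hE _ htu0 htu htuS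
  obtain ⟨ψ, hψ⟩ := exists_hom_ne h hidx htu0 htu htuS hF' htuF
  have hψtu := hneg _ hψ
  have hψmul : ψ ⟨t0 * u0, hPL htu0⟩ = ψ ⟨t0, hPL ht0P⟩ * ψ ⟨u0, hPL hu0⟩ := by
    rw [← map_mul]; rfl
  rw [hψmul] at hψtu
  by_cases h1 : φ ⟨t0, hPL ht0P⟩ = 1
  · exact ⟨φ, key φ h1 hφu⟩
  · have h1' := hneg _ h1
    by_cases h2 : ψ ⟨t0, hPL ht0P⟩ = 1
    · rw [h2, one_mul] at hψtu
      exact ⟨ψ, key ψ h2 hψtu⟩
    · have h2' := hneg _ h2
      rw [h2'] at hψtu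
      have h3 : ψ ⟨u0, hPL hu0⟩ = 1 := by
        rcases Int.units_eq_one_or (ψ ⟨u0, hPL hu0⟩) with h4 | h4
        · exact h4
        · rw [h4] at hψtu; exact absurd hψtu (by decide)
      refine ⟨φ * ψ, key (φ * ψ) ?_ ?_⟩
      · rw [MonoidHom.mul_apply, h1', h2']; decide
      · rw [MonoidHom.mul_apply, hφu, h3]; decide

/-- **Step 4**, subgroup form. -/
theorem exists_index_two (hidx : S0.relIndex (P : Subgroup G) = 2) {Q : Set G} {t0 u0 : G} (hQS : Q ⊆ S0)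
    (hgen : S0 ≤ closure (Q ∪ {t0})) (ht0 : t0 ∈ S0)
    (hQ : ∀ φ : ↥(centralizer ({z} : Set G)) →* ℤˣ, ∀ q ∈ Q, ∀ hq : q ∈ centralizer ({z} : Set G), φ ⟨q, hq⟩ = 1)
    (hu0 : u0 ∈ (P : Subgroup G)) (hu0S : u0 ∉ S0) (huu : u0 * u0 = 1) (htu : (t0 * u0) * (t0 * u0) = 1)
    (hE : ∀ e ∈ (P : Subgroup G), e * e = 1 → e ∉ S0 → ∃ F, E16 (P : Subgroup G) F ∧ e ∈ F) :
    ∃ H0 : Subgroup G, H0 ≤ centralizer ({z} : Set G) ∧ H0.relIndex (centralizer ({z} : Set G)) = 2 ∧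
      centralizer ({z} : Set G) ≤ normalizer (H0 : Set G) ∧ (P : Subgroup G) ⊓ H0 = S0 := by
  obtain ⟨φ, hφ⟩ := exists_hom h hidx hQS hgen ht0 hQ hu0 hu0S huu htu hE
  have hPL := P_le_cent h
  have hmem : ∀ x (hx : x ∈ centralizer ({z} : Set G)),
      x ∈ φ.ker.map (centralizer ({z} : Set G)).subtype ↔ φ ⟨x, hx⟩ = 1 := by
    intro x hx
    constructor
    · rintro ⟨y, hy, rfl⟩
      exact hy
    · intro hh
      exact ⟨⟨x, hx⟩, hh, rfl⟩
  refine ⟨φ.ker.map (centralizer ({z} : Set G)).subtype, map_subtype_le _, ?_, ?_, ?_⟩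
  · rw [relIndex, subgroupOf, comap_map_eq_self_of_injective (Subgroup.subtype_injective _), index_ker]
    have h1 : φ.range = ⊤ := by
      rw [eq_top_iff]
      intro v _
      rcases Int.units_eq_one_or v with rfl | rfl
      · exact one_mem _
      · refine ⟨⟨u0, hPL hu0⟩, ?_⟩
        exact (Int.units_eq_one_or _).resolve_left fun hh => hu0S ((hφ u0 hu0).1 hh)
    rw [h1, Subgroup.card_top, Nat.card_eq_fintype_card]
    rfl
  · intro c hc
    refine mem_normalizer_of_conj_mem ?_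
    rintro _ ⟨y, hy, rfl⟩
    refine ⟨⟨c, hc⟩ * y * ⟨c, hc⟩⁻¹, ?_, rfl⟩
    exact (MonoidHom.normal_ker φ).conj_mem y hy _
  · ext x
    constructor
    · rintro ⟨hxP, hx⟩
      exact (hφ x hxP).1 ((hmem x (hPL hxP)).1 hx)
    · intro hx
      exact ⟨h.S0_le hx, (hmem x (hPL (h.S0_le hx))).2 ((hφ x (h.S0_le hx)).2 hx)⟩

/-- In a simple group `z` is conjugate to another element of `S` (Glauberman's Z*-theorem). -/
theorem exists_mem_conj [IsSimpleGroup G] : ∃ g : G, g * z * g⁻¹ ∈ (P : Subgroup G) ∧ g * z * g⁻¹ ≠ z := by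
  have hnc : ∃ a b : G, a * b ≠ b * a := by
    obtain ⟨s, _, hs⟩ := h.swap
    refine ⟨s, z', fun hh => ?_⟩
    rw [hh, mul_inv_cancel_right] at hs
    exact h.z_ne (mul_eq_right.1 hs.symm)
  have hord : orderOf z = 2 := orderOf_eq_prime (by rw [pow_two, h.z_sq]) h.z_ne
  obtain ⟨g, hg1, hg2⟩ := Cfsg.Agent.SporRec.LyReduce.exists_conj_ne z hord hnc
  have hsyl : SylIn 2 (P : Subgroup G) (centralizer ({z} : Set G)) :=
    ⟨P_le_cent h, P.isPGroup', fun R hR _ hR3 => (sylIn_top P).2.2 R hR le_top hR3⟩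
  have hp : IsPGroup 2 (zpowers (g * z * g⁻¹)) := by
    rw [IsPGroup.iff_card]
    refine ⟨1, ?_⟩
    rw [Nat.card_zpowers, pow_one]
    have : orderOf (g * z * g⁻¹) = orderOf z := by
      rw [← MulAut.conj_apply]
      exact orderOf_injective (MulAut.conj g).toMonoidHom (MulAut.conj g).injective z
    rw [this, hord]
  obtain ⟨l, hl, hl2⟩ := hsyl.conj_le (zpowers_le.2 (mem_centralizer_singleton_iff.2 hg2.eq.symm)) hp
  have hlz : l * z * l⁻¹ = z := by rw [mem_centralizer_singleton_iff.1 hl, mul_inv_cancel_right]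
  refine ⟨l * g, ?_, ?_⟩
  · have e : l * g * z * (l * g)⁻¹ = l * (g * z * g⁻¹) * l⁻¹ := by group
    rw [e]
    exact hl2 _ (mem_zpowers _)
  · intro hh
    apply hg1
    have e : l * g * z * (l * g)⁻¹ = l * (g * z * g⁻¹) * l⁻¹ := by group
    rw [e] at hh
    have h1 : l * (g * z * g⁻¹) * l⁻¹ = l * z * l⁻¹ := hh.trans hlz.symm
    exact mul_left_cancel (mul_right_cancel h1)

end Sylow

end Cfsg.Agent.LFourB.FusA
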