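import Cfsg.Agent.LFourB.Cent
import Cfsg.Agent.LFourB.FusA

/-!
# Elementary abelian subgroups of order 16, part 1

Commutators with the torus, involutions of `S`, the permutation `pi` of an element.
-/

set_option autoImplicit false

namespace Cfsg.Agent.LFourB

open Subgroup FusA

variable {G : Type*} [Group G] {S : Subgroup G} {m : ℕ} {f : R m → R m → R m → G} {u w : G}

namespace EF

/-- `g` lies in the coset `T d`. -/
def Ov (f : R m → R m → R m → G) (d g : G) : Prop := ∃ p q r, Good p q r ∧ g = f p q r * d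

end EF

open EF

namespace BOne

/-! ### `Z2` in coordinates -/

theorem e_z3_eq (h : BOne S m f u w) : z1 f * z2 f = z3 f := by
  rw [z1, z2, z3, h.f_mul _ _ _ _ _ _ good1 good2]
  simp

theorem e_Z2_iff (h : BOne S m f u w) {p q r : R m} (hg : Good p q r) :
    Z2 (z1 f) (z2 f) (f p q r) ↔ p = q ∧ 2 * p = 0 ∧ 2 * r = 0 := by
  constructor
  · rintro (e | e | e | e)
    · obtain ⟨rfl, rfl, rfl⟩ := (h.f_eq_one_iff hg).1 e
      simp
    · obtain ⟨rfl, rfl, rfl⟩ := (h.f_eq_iff hg good1).1 e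
      simp [two_mul_N]
    · obtain ⟨rfl, rfl, rfl⟩ := (h.f_eq_iff hg good2).1 e
      simp [two_mul_N]
    · rw [h.e_z3_eq] at e
      obtain ⟨rfl, rfl, rfl⟩ := (h.f_eq_iff hg good3).1 e
      simp [two_mul_N]
  · rintro ⟨rfl, hp, hr⟩
    rcases eq_of_two_mul hp with rfl | rfl <;> rcases eq_of_two_mul hr with rfl | rfl
    · exact Or.inl h.f_zero
    · exact Or.inr (Or.inl rfl)
    · exact Or.inr (Or.inr (Or.inl rfl))
    · exact Or.inr (Or.inr (Or.inr h.e_z3_eq.symm))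

theorem e_Z2_coord (h : BOne S m f u w) {g : G} (hg : Z2 (z1 f) (z2 f) g) :
    ∃ p r, Good p p r ∧ 2 * p = 0 ∧ 2 * r = 0 ∧ g = f p p r := by
  have hN := two_mul_N (m := m)
  rcases hg with rfl | rfl | rfl | rfl
  · exact ⟨0, 0, Good.zero, by simp, by simp, h.f_zero.symm⟩
  · exact ⟨0, N m, good1, by simp, hN, rfl⟩
  · exact ⟨N m, 0, good2, hN, by simp, rfl⟩
  · exact ⟨N m, N m, good3, hN, hN, h.e_z3_eq⟩

theorem e_mem_Ttwo (h : BOne S m f u w) {g : G} :
    g ∈ Ttwo f ↔ ∃ p q r, 4 * p = 0 ∧ 2 * (q - p) = 0 ∧ 4 * r = 0 ∧ g = f p q r := by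
  have good : ∀ p q r : R m, 4 * p = 0 → 2 * (q - p) = 0 → 4 * r = 0 → Good p q r := by
    intro p q r h1 h2 h3
    have h4 : Good 0 (q - p) r := good_of_N (Or.inl rfl) (eq_of_two_mul h2) h3
    have h5 : Good p p 0 := by
      have h6 : 2 * (2 * p) = 0 := by linear_combination h1
      rcases eq_of_two_mul h6 with h7 | h7
      · exact ⟨0, by linear_combination h7⟩
      · exact ⟨((2 ^ m : ℕ) : R m), by rw [← N_eq]; linear_combination h7⟩
    have h6 := h4.add h5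
    rwa [zero_add, sub_add_cancel, add_zero] at h6
  constructor
  · intro hg
    induction hg using Subgroup.closure_induction with
    | mem x hx => exact hx
    | one => exact ⟨0, 0, 0, by simp, by simp, by simp, h.f_zero.symm⟩
    | mul x y _ _ hx hy =>
      obtain ⟨p, q, r, h1, h2, h3, rfl⟩ := hx
      obtain ⟨p', q', r', h1', h2', h3', rfl⟩ := hy
      exact ⟨p + p', q + q', r + r', by linear_combination h1 + h1', by linear_combination h2 + h2',
        by linear_combination h3 + h3', h.f_mul _ _ _ _ _ _ (good _ _ _ h1 h2 h3) (good _ _ _ h1' h2' h3')⟩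
    | inv x _ hx =>
      obtain ⟨p, q, r, h1, h2, h3, rfl⟩ := hx
      exact ⟨-p, -q, -r, by linear_combination -h1, by linear_combination -h2,
        by linear_combination -h3, h.f_inv (good _ _ _ h1 h2 h3)⟩
  · intro hg
    exact Subgroup.subset_closure hg

theorem e_good_Ttwo {p q r : R m} (h1 : 4 * p = 0) (h2 : 2 * (q - p) = 0) (h3 : 4 * r = 0) : Good p q r := by
  have h4 : Good 0 (q - p) r := good_of_N (Or.inl rfl) (eq_of_two_mul h2) h3
  have h5 : Good p p 0 := by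
    have h6 : 2 * (2 * p) = 0 := by linear_combination h1
    rcases eq_of_two_mul h6 with h7 | h7
    · exact ⟨0, by linear_combination h7⟩
    · exact ⟨((2 ^ m : ℕ) : R m), by rw [← N_eq]; linear_combination h7⟩
  have h6 := h4.add h5
  rwa [zero_add, sub_add_cancel, add_zero] at h6

theorem e_Ttwo_le (h : BOne S m f u w) : Ttwo f ≤ Tor f := by
  intro g hg
  obtain ⟨p, q, r, h1, h2, h3, rfl⟩ := h.e_mem_Ttwo.1 hg
  exact h.f_mem_Tor (e_good_Ttwo h1 h2 h3)

/-! ### Commutators with elements of the torus -/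

section Conj

variable {P Q R' p q r : R m}

theorem e_conj_sg (h : BOne S m f u w) (hG : Good P Q R') (hg : Good p q r) :
    f P Q R' * (f p q r * sg u w) * (f P Q R')⁻¹ = f (2 * P) (2 * Q) (Q - P) * (f p q r * sg u w) := by
  have h1 : Good (2 * P) (2 * Q) (Q - P) := ⟨Q, by ring⟩
  rw [mul_inv_eq_iff_eq_mul, mul_assoc (f (2 * P) (2 * Q) (Q - P)), mul_assoc (f p q r) (sg u w) (f P Q R'),
    h.sg_f hG, ← mul_assoc, h.f_mul _ _ _ _ _ _ hG hg, ← mul_assoc (f p q r), h.f_mul _ _ _ _ _ _ hg hG.actsg,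
    ← mul_assoc, h.f_mul _ _ _ _ _ _ h1 (hg.add hG.actsg)]
  congr 2 <;> ring

theorem e_conj_w (h : BOne S m f u w) (hG : Good P Q R') (hg : Good p q r) :
    f P Q R' * (f p q r * w) * (f P Q R')⁻¹ = f (P - Q) (Q - P) (2 * R') * (f p q r * w) := by
  have h1 : Good (P - Q) (Q - P) (2 * R') := ⟨R', by ring⟩
  rw [mul_inv_eq_iff_eq_mul, mul_assoc (f (P - Q) (Q - P) (2 * R')), mul_assoc (f p q r) w (f P Q R'),
    h.w_f _ _ _ hG, ← mul_assoc, h.f_mul _ _ _ _ _ _ hG hg, ← mul_assoc (f p q r), h.f_mul _ _ _ _ _ _ hg hG.actw,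
    ← mul_assoc, h.f_mul _ _ _ _ _ _ h1 (hg.add hG.actw)]
  congr 2 <;> ring

theorem e_conj_sgw (h : BOne S m f u w) (hG : Good P Q R') (hg : Good p q r) :
    f P Q R' * (f p q r * sgw u w) * (f P Q R')⁻¹ = f (P + Q) (P + Q) (2 * R' + P - Q) * (f p q r * sgw u w) := by
  have h1 : Good (P + Q) (P + Q) (2 * R' + P - Q) := ⟨P + R', by ring⟩
  rw [mul_inv_eq_iff_eq_mul, mul_assoc (f (P + Q) (P + Q) (2 * R' + P - Q)), mul_assoc (f p q r) (sgw u w) (f P Q R'),
    h.sgw_f hG, ← mul_assoc, h.f_mul _ _ _ _ _ _ hG hg, ← mul_assoc (f p q r), h.f_mul _ _ _ _ _ _ hg hG.actsgw,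
    ← mul_assoc, h.f_mul _ _ _ _ _ _ h1 (hg.add hG.actsgw)]
  congr 2 <;> ring

theorem e_conj_u (h : BOne S m f u w) (hG : Good P Q R') (hg : Good p q r) :
    f P Q R' * (f p q r * u) * (f P Q R')⁻¹ = f (2 * P) 0 (-P) * (f p q r * u) := by
  have h1 : Good (2 * P) 0 (-P) := ⟨0, by ring⟩
  rw [mul_inv_eq_iff_eq_mul, mul_assoc (f (2 * P) 0 (-P)), mul_assoc (f p q r) u (f P Q R'),
    h.u_f _ _ _ hG, ← mul_assoc, h.f_mul _ _ _ _ _ _ hG hg, ← mul_assoc (f p q r), h.f_mul _ _ _ _ _ _ hg hG.actu,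
    ← mul_assoc, h.f_mul _ _ _ _ _ _ h1 (hg.add hG.actu)]
  congr 2 <;> ring

theorem e_conj_Tor (h : BOne S m f u w) {s t : G} (hs : s ∈ Tor f) (ht : t ∈ Tor f) : t * s * t⁻¹ = s := by
  rw [h.Tor_comm ht hs, mul_inv_cancel_right]

end Conj

/-! ### Squares -/

section Sq

variable {p q r : R m}

theorem e_sq_u (h : BOne S m f u w) (hg : Good p q r) : (f p q r * u) * (f p q r * u) = f 0 (2 * q) (2 * r + p) := by
  rw [mul_assoc, ← mul_assoc u, h.u_f _ _ _ hg, mul_assoc (f (-p) q (r + p)), h.u_u, mul_one,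
    h.f_mul _ _ _ _ _ _ hg hg.actu]
  congr 1 <;> ring

theorem e_sq_ub (h : BOne S m f u w) (hg : Good p q r) :
    (f p q r * ub u w) * (f p q r * ub u w) = f (2 * p) 0 (2 * r - q) := by
  rw [mul_assoc, ← mul_assoc (ub u w), h.ub_f hg, mul_assoc (f p (-q) (r - q)), h.ub_mul_ub, mul_one,
    h.f_mul _ _ _ _ _ _ hg hg.actub]
  congr 1 <;> ring

theorem e_sq_sg (h : BOne S m f u w) (hg : Good p q r) :
    (f p q r * sg u w) * (f p q r * sg u w) = f 0 0 (2 * r + p - q) := by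
  rw [mul_assoc, ← mul_assoc (sg u w), h.sg_f hg, mul_assoc (f (-p) (-q) (r + p - q)), h.sg_mul_sg, mul_one,
    h.f_mul _ _ _ _ _ _ hg hg.actsg]
  congr 1 <;> ring

theorem e_sq_w (h : BOne S m f u w) (hg : Good p q r) :
    (f p q r * w) * (f p q r * w) = f (p + q) (p + q) 0 := by
  rw [mul_assoc, ← mul_assoc w, h.w_f _ _ _ hg, mul_assoc (f q p (-r)), h.w_w, mul_one,
    h.f_mul _ _ _ _ _ _ hg hg.actw]
  congr 1 <;> ring

theorem e_sq_sgw (h : BOne S m f u w) (hg : Good p q r) :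
    (f p q r * sgw u w) * (f p q r * sgw u w) = f (p - q) (q - p) (q - p) := by
  rw [mul_assoc, ← mul_assoc (sgw u w), h.sgw_f hg, mul_assoc (f (-q) (-p) (-r + q - p)), h.sgw_mul_sgw, mul_one,
    h.f_mul _ _ _ _ _ _ hg hg.actsgw]
  congr 1 <;> ring

theorem e_sq_f (h : BOne S m f u w) (hg : Good p q r) : f p q r * f p q r = f (2 * p) (2 * q) (2 * r) := by
  rw [h.f_mul _ _ _ _ _ _ hg hg]
  congr 1 <;> ring

end Sq

section SqIff

variable {p q r : R m}

theorem e_sq_f_iff (h : BOne S m f u w) (hg : Good p q r) :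
    f p q r * f p q r = 1 ↔ 2 * p = 0 ∧ 2 * q = 0 ∧ 2 * r = 0 := by
  rw [h.f_mul _ _ _ _ _ _ hg hg, h.f_eq_one_iff (hg.add hg), two_mul, two_mul, two_mul]

theorem e_sq_u_iff (h : BOne S m f u w) (hg : Good p q r) :
    (f p q r * u) * (f p q r * u) = 1 ↔ 2 * q = 0 ∧ 2 * r + p = 0 := by
  have h1 : Good 0 (2 * q) (2 * r + p) := by
    obtain ⟨c, hc⟩ := hg
    exact ⟨2 * c, by linear_combination 2 * hc⟩
  rw [h.e_sq_u hg, h.f_eq_one_iff h1]
  simp

theorem e_sq_ub_iff (h : BOne S m f u w) (hg : Good p q r) :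
    (f p q r * ub u w) * (f p q r * ub u w) = 1 ↔ 2 * p = 0 ∧ 2 * r = q := by
  have h1 : Good (2 * p) 0 (2 * r - q) := by
    obtain ⟨c, hc⟩ := hg
    exact ⟨2 * c - q, by linear_combination 2 * hc⟩
  rw [h.e_sq_ub hg, h.f_eq_one_iff h1]
  simp [sub_eq_zero]

theorem e_sq_sg_iff (h : BOne S m f u w) (hg : Good p q r) :
    (f p q r * sg u w) * (f p q r * sg u w) = 1 ↔ 2 * r + p - q = 0 := by
  have h1 : Good 0 0 (2 * r + p - q) := by
    obtain ⟨c, hc⟩ := hg
    exact ⟨2 * c - q, by linear_combination 2 * hc⟩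
  rw [h.e_sq_sg hg, h.f_eq_one_iff h1]
  simp

theorem e_sq_w_iff (h : BOne S m f u w) (hg : Good p q r) :
    (f p q r * w) * (f p q r * w) = 1 ↔ q = -p := by
  have h1 : Good (p + q) (p + q) 0 := by
    obtain ⟨c, hc⟩ := hg
    exact ⟨2 * c - r, by linear_combination 2 * hc⟩
  rw [h.e_sq_w hg, h.f_eq_one_iff h1]
  constructor
  · rintro ⟨h1, -, -⟩
    linear_combination h1
  · rintro rfl
    simp

theorem e_sq_sgw_iff (h : BOne S m f u w) (hg : Good p q r) :
    (f p q r * sgw u w) * (f p q r * sgw u w) = 1 ↔ q = p := by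
  have h1 : Good (p - q) (q - p) (q - p) := by
    obtain ⟨c, hc⟩ := hg
    exact ⟨2 * c - r - p, by linear_combination 2 * hc⟩
  rw [h.e_sq_sgw hg, h.f_eq_one_iff h1]
  constructor
  · rintro ⟨-, h1, -⟩
    linear_combination h1
  · rintro rfl
    simp

end SqIff

end BOne

end Cfsg.Agent.LFourB
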