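import Cfsg.Agent.LFourB.EFactA

/-!
# Elementary abelian subgroups of order 16, part 2: structure
-/

set_option autoImplicit false

namespace Cfsg.Agent.LFourB

open Subgroup FusA

variable {G : Type*} [Group G] {S : Subgroup G} {m : ℕ} {f : R m → R m → R m → G} {u w : G}

namespace EF

/-- The normal four-group. -/
def Vs : Subgroup (Equiv.Perm (Fin 4)) where
  carrier := {σ | ∃ i k : Bool, σ = d8 i i k}
  one_mem' := ⟨false, false, by decide⟩
  mul_mem' := by
    rintro _ _ ⟨i, k, rfl⟩ ⟨i', k', rfl⟩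
    revert i k i' k'
    decide
  inv_mem' := by
    rintro _ ⟨i, k, rfl⟩
    revert i k
    decide

/-- The group generated by two transpositions. -/
def Vt : Subgroup (Equiv.Perm (Fin 4)) where
  carrier := {σ | ∃ i k : Bool, σ = d8 i k false}
  one_mem' := ⟨false, false, by decide⟩
  mul_mem' := by
    rintro _ _ ⟨i, k, rfl⟩ ⟨i', k', rfl⟩
    revert i k i' k'
    decide
  inv_mem' := by
    rintro _ ⟨i, k, rfl⟩
    revert i k
    decide

theorem card_Vs : Nat.card Vs = 4 := by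
  let F : Bool × Bool → Vs := fun a => ⟨d8 a.1 a.1 a.2, ⟨a.1, a.2, rfl⟩⟩
  have hF : Function.Bijective F := by
    constructor
    · rintro ⟨a, b⟩ ⟨a', b'⟩ hab
      have h1 : d8 a a b = d8 a' a' b' := congrArg Subtype.val hab
      revert h1
      revert a b a' b'
      decide
    · rintro ⟨_, i, k, rfl⟩
      exact ⟨(i, k), rfl⟩
  rw [← Nat.card_eq_of_bijective F hF]
  simp [Nat.card_eq_fintype_card]

theorem card_Vt : Nat.card Vt = 4 := by
  let F : Bool × Bool → Vt := fun a => ⟨d8 a.1 a.2 false, ⟨a.1, a.2, rfl⟩⟩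
  have hF : Function.Bijective F := by
    constructor
    · rintro ⟨a, b⟩ ⟨a', b'⟩ hab
      have h1 : d8 a b false = d8 a' b' false := congrArg Subtype.val hab
      revert h1
      revert a b a' b'
      decide
    · rintro ⟨_, i, k, rfl⟩
      exact ⟨(i, k), rfl⟩
  rw [← Nat.card_eq_of_bijective F hF]
  simp [Nat.card_eq_fintype_card]

theorem d8_sq : ∀ i j k : Bool, d8 i j k * d8 i j k = 1 → i = j ∨ k = false := by
  decide

theorem d8_comm_u : ∀ i j k : Bool, d8 i j k * d8 true false false = d8 true false false * d8 i j k → k = false := by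
  decide

theorem d8_comm_ub : ∀ i j k : Bool, d8 i j k * d8 false true false = d8 false true false * d8 i j k → k = false := by
  decide

theorem d8_inj : ∀ i j k i' j' k' : Bool, d8 i j k = d8 i' j' k' → i = i' ∧ j = j' ∧ k = k' := by
  decide

end EF

open EF

namespace BOne

theorem e_pi_over (h : BOne S m f u w) {p q r : R m} (hg : Good p q r) {d : G} (hd : d ∈ S) :
    h.pi ⟨f p q r * d, S.mul_mem (h.f_mem_S hg) hd⟩ = h.pi ⟨d, hd⟩ := by
  have h1 : (⟨f p q r * d, S.mul_mem (h.f_mem_S hg) hd⟩ : S) = ⟨f p q r, h.f_mem_S hg⟩ * ⟨d, hd⟩ := rfl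
  rw [h1, map_mul, h.pi_Tor (h.f_mem_Tor hg), one_mul]

theorem e_over_of_pi (h : BOne S m f u w) {g d : G} (hg : g ∈ S) (hd : d ∈ S) (e : h.pi ⟨g, hg⟩ = h.pi ⟨d, hd⟩) :
    Ov f d g := by
  have h1 : h.pi (⟨g, hg⟩ * ⟨d, hd⟩⁻¹) = 1 := by rw [map_mul, map_inv, e, mul_inv_cancel]
  rw [h.pi_eq_one_iff] at h1
  obtain ⟨p, q, r, hgd, h2⟩ := h.mem_Tor.1 h1
  refine ⟨p, q, r, hgd, ?_⟩
  rw [← h2]
  simp

theorem e_pi_sg (h : BOne S m f u w) : h.pi ⟨sg u w, h.sg_mem⟩ = d8 true true false := by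
  have h1 : (⟨sg u w, h.sg_mem⟩ : S) = ⟨u, h.u_mem⟩ * ⟨ub u w, h.ub_mem⟩ := rfl
  rw [h1, map_mul, h.pi_u, h.pi_ub]
  decide

theorem e_pi_w' (h : BOne S m f u w) : h.pi ⟨w, h.w_mem⟩ = d8 false false true := by
  rw [h.pi_w]; decide

theorem e_pi_u' (h : BOne S m f u w) : h.pi ⟨u, h.u_mem⟩ = d8 true false false := by
  rw [h.pi_u]; decide

theorem e_pi_ub' (h : BOne S m f u w) : h.pi ⟨ub u w, h.ub_mem⟩ = d8 false true false := by
  rw [h.pi_ub]; decide

theorem e_pi_sgw (h : BOne S m f u w) : h.pi ⟨sgw u w, h.sgw_mem⟩ = d8 true true true := by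
  have h1 : (⟨sgw u w, h.sgw_mem⟩ : S) = ⟨sg u w, h.sg_mem⟩ * ⟨w, h.w_mem⟩ := rfl
  rw [h1, map_mul, h.e_pi_sg, h.pi_w]
  decide

theorem e_exists_d8 (h : BOne S m f u w) (s : S) : ∃ i j k, h.pi s = d8 i j k := by
  obtain ⟨t, ht, i, j, l, hst⟩ := h.exists_rep s.2
  refine ⟨i, j, l, ?_⟩
  have h1 : s = ⟨t * rep u w i j l, S.mul_mem (h.Tor_le ht) (h.rep_mem i j l)⟩ := Subtype.ext hst
  rw [h1, h.pi_mul_rep ht, h.pi_rep]
  rfl

/-- The restriction of `pi`. -/
noncomputable def e_rho (h : BOne S m f u w) {D : Subgroup G} (hD : D ≤ S) : D →* Equiv.Perm (Fin 4) :=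
  h.pi.comp (Subgroup.inclusion hD)

theorem e_card_eq (h : BOne S m f u w) {D : Subgroup G} (hD : D ≤ S) :
    Nat.card D = Nat.card ↥(D ⊓ Tor f) * Nat.card (h.e_rho hD).range := by
  rw [← Subgroup.index_ker, ← (h.e_rho hD).ker.card_mul_index]
  congr 1
  have h1 : (h.e_rho hD).ker = (Tor f).subgroupOf D := by
    ext x
    rw [MonoidHom.mem_ker, mem_subgroupOf]
    exact h.pi_eq_one_iff
  rw [h1]
  have h2 : ((Tor f).subgroupOf D).map D.subtype = D ⊓ Tor f := by
    rw [subgroupOf_map_subtype, inf_comm]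
  rw [← h2]
  exact (Nat.card_congr (((Tor f).subgroupOf D).equivMapOfInjective D.subtype D.subtype_injective).toEquiv)

theorem e_mem_range_rho (h : BOne S m f u w) {D : Subgroup G} (hD : D ≤ S) {σ : Equiv.Perm (Fin 4)} :
    σ ∈ (h.e_rho hD).range ↔ ∃ x, ∃ hx : x ∈ D, h.pi ⟨x, hD hx⟩ = σ := by
  constructor
  · rintro ⟨⟨x, hx⟩, rfl⟩
    exact ⟨x, hx, rfl⟩
  · rintro ⟨x, hx, rfl⟩
    exact ⟨⟨x, hx⟩, rfl⟩

/-! ### Small subgroups of the torus -/

section Small

variable {K : Subgroup G}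

theorem e_mem_Z2_of_comm (h : BOne S m f u w) {k : G} (hk : k ∈ Tor f) (hkk : k * k = 1) {d : G}
    (hd : d = sg u w ∨ d = w ∨ d = sgw u w) (hkd : k * d = d * k) : Z2 (z1 f) (z2 f) k := by
  obtain ⟨p, q, r, hg, rfl⟩ := h.mem_Tor.1 hk
  obtain ⟨h1, h2, h3⟩ := (h.e_sq_f_iff hg).1 hkk
  rw [h.e_Z2_iff hg]
  rcases hd with rfl | rfl | rfl
  · obtain ⟨h4, h5⟩ := (h.f_sg_comm_iff hg).1 hkd
    exact ⟨h5.symm, h1, h3⟩
  · obtain ⟨h4, h5⟩ := (h.f_w_comm_iff hg).1 hkd
    exact ⟨h4.symm, h1, h3⟩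
  · obtain ⟨h4, h5⟩ := (h.f_sgw_comm_iff hg).1 hkd
    exact ⟨by linear_combination h1 - h4, h1, h3⟩

theorem e_card_le_of_Z2 (hK : ∀ k ∈ K, Z2 (z1 f) (z2 f) k) : Nat.card K ≤ 4 := by
  have h1 : Nat.card K ≤ Nat.card (Bool × Bool) := card_le_of_surj
    (fun b : Bool × Bool => (if b.1 then z1 f else 1) * (if b.2 then z2 f else 1)) (fun k hk => by
      rcases hK k hk with rfl | rfl | rfl | rfl
      · exact ⟨(false, false), by simp⟩
      · exact ⟨(true, false), by simp⟩
      · exact ⟨(false, true), by simp⟩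
      · exact ⟨(true, true), by simp⟩)
  have h2 : Nat.card (Bool × Bool) = 4 := by simp [Nat.card_eq_fintype_card]
  rwa [h2] at h1

theorem e_card_le_eight (h : BOne S m f u w) (hK : K ≤ Tor f) (hKK : ∀ k ∈ K, k * k = 1) : Nat.card K ≤ 8 := by
  have h1 : Nat.card K ≤ Nat.card (Bool × Bool × Bool) := card_le_of_surj
    (fun b : Bool × Bool × Bool => f (if b.1 then N m else 0) (if b.2.1 then N m else 0)
      (if b.2.2 then N m else 0)) (fun k hk => by
      obtain ⟨p, q, r, hg, rfl⟩ := h.mem_Tor.1 (hK hk)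
      obtain ⟨h1, h2, h3⟩ := (h.e_sq_f_iff hg).1 (hKK _ hk)
      rcases eq_of_two_mul h1 with rfl | rfl <;> rcases eq_of_two_mul h2 with rfl | rfl <;>
        rcases eq_of_two_mul h3 with rfl | rfl
      · exact ⟨(false, false, false), by simp⟩
      · exact ⟨(false, false, true), by simp⟩
      · exact ⟨(false, true, false), by simp⟩
      · exact ⟨(false, true, true), by simp⟩
      · exact ⟨(true, false, false), by simp⟩
      · exact ⟨(true, false, true), by simp⟩
      · exact ⟨(true, true, false), by simp⟩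
      · exact ⟨(true, true, true), by simp⟩)
  have h2 : Nat.card (Bool × Bool × Bool) = 8 := by simp [Nat.card_eq_fintype_card]
  rwa [h2] at h1

theorem e_card_le_four_u (h : BOne S m f u w) (hK : K ≤ Tor f) (hKK : ∀ k ∈ K, k * k = 1)
    (hc : (∀ k ∈ K, k * u = u * k) ∨ (∀ k ∈ K, k * ub u w = ub u w * k)) : Nat.card K ≤ 4 := by
  rcases hc with hc | hc
  · have h1 : Nat.card K ≤ Nat.card (Bool × Bool) := card_le_of_surj
      (fun b : Bool × Bool => f 0 (if b.1 then N m else 0) (if b.2 then N m else 0)) (fun k hk => by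
        obtain ⟨p, q, r, hg, rfl⟩ := h.mem_Tor.1 (hK hk)
        obtain ⟨h1, h2, h3⟩ := (h.e_sq_f_iff hg).1 (hKK _ hk)
        obtain rfl := (h.f_u_comm_iff hg).1 (hc _ hk)
        rcases eq_of_two_mul h2 with rfl | rfl <;> rcases eq_of_two_mul h3 with rfl | rfl
        · exact ⟨(false, false), by simp⟩
        · exact ⟨(false, true), by simp⟩
        · exact ⟨(true, false), by simp⟩
        · exact ⟨(true, true), by simp⟩)
    have h2 : Nat.card (Bool × Bool) = 4 := by simp [Nat.card_eq_fintype_card]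
    rwa [h2] at h1
  · have h1 : Nat.card K ≤ Nat.card (Bool × Bool) := card_le_of_surj
      (fun b : Bool × Bool => f (if b.1 then N m else 0) 0 (if b.2 then N m else 0)) (fun k hk => by
        obtain ⟨p, q, r, hg, rfl⟩ := h.mem_Tor.1 (hK hk)
        obtain ⟨h1, h2, h3⟩ := (h.e_sq_f_iff hg).1 (hKK _ hk)
        obtain rfl := (h.f_ub_comm_iff hg).1 (hc _ hk)
        rcases eq_of_two_mul h1 with rfl | rfl <;> rcases eq_of_two_mul h3 with rfl | rfl
        · exact ⟨(false, false), by simp⟩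
        · exact ⟨(false, true), by simp⟩
        · exact ⟨(true, false), by simp⟩
        · exact ⟨(true, true), by simp⟩)
    have h2 : Nat.card (Bool × Bool) = 4 := by simp [Nat.card_eq_fintype_card]
    rwa [h2] at h1

theorem e_card_le_two_u (h : BOne S m f u w) (hK : K ≤ Tor f) (hKK : ∀ k ∈ K, k * k = 1)
    (hc : ∀ k ∈ K, k * u = u * k) (hc' : ∀ k ∈ K, k * ub u w = ub u w * k) : Nat.card K ≤ 2 := by
  have h1 : Nat.card K ≤ Nat.card Bool := card_le_of_surj
    (fun b : Bool => f 0 0 (if b then N m else 0)) (fun k hk => by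
      obtain ⟨p, q, r, hg, rfl⟩ := h.mem_Tor.1 (hK hk)
      obtain ⟨h1, h2, h3⟩ := (h.e_sq_f_iff hg).1 (hKK _ hk)
      obtain rfl := (h.f_u_comm_iff hg).1 (hc _ hk)
      obtain rfl := (h.f_ub_comm_iff hg).1 (hc' _ hk)
      rcases eq_of_two_mul h3 with rfl | rfl
      · exact ⟨false, by simp⟩
      · exact ⟨true, by simp⟩)
  have h2 : Nat.card Bool = 2 := by simp
  rwa [h2] at h1

end Small

/-- An element of the torus commuting with an element over `d` commutes with `d`. -/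
theorem e_comm_of_over (h : BOne S m f u w) {k d x : G} (hk : k ∈ Tor f) (hx : Ov f d x) (hc : k * x = x * k) :
    k * d = d * k := by
  obtain ⟨p, q, r, hg, rfl⟩ := hx
  exact (h.comm_mul_iff (h.f_mem_Tor hg) hk).1 hc

/-- Structure of the elementary abelian subgroups of order 16 of `S`. -/
theorem e16_struct (h : BOne S m f u w) {F : Subgroup G} (hF : E16 S F) :
    (∀ c, Z2 (z1 f) (z2 f) c → c ∈ F) ∧ (∀ g ∈ F, g ∈ Tor f → Z2 (z1 f) (z2 f) g) ∧
      (h.e_rho hF.le).range = Vs := by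
  set R := (h.e_rho hF.le).range with hR
  set K := F ⊓ Tor f with hK
  have hKF : ∀ k ∈ K, k ∈ F := fun k hk => hk.1
  have hKT : K ≤ Tor f := inf_le_right
  have hKK : ∀ k ∈ K, k * k = 1 := fun k hk => hF.sq k hk.1
  have hcard : 16 = Nat.card K * Nat.card R := by rw [← hF.card, h.e_card_eq hF.le]
  -- commuting with the elements over `d`
  have hcomm : ∀ d (hd : d ∈ S), h.pi ⟨d, hd⟩ ∈ R → ∀ k ∈ K, k * d = d * k := by
    intro d hd hdR k hk
    obtain ⟨x, hx, hxd⟩ := (h.e_mem_range_rho hF.le).1 hdR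
    exact h.e_comm_of_over hk.2 (h.e_over_of_pi _ hd hxd) (hF.comm hk.1 hx)
  have hRsq : ∀ σ ∈ R, σ * σ = 1 := by
    intro σ hσ
    obtain ⟨x, hx, rfl⟩ := (h.e_mem_range_rho hF.le).1 hσ
    rw [← map_mul]
    have : (⟨x, hF.le hx⟩ * ⟨x, hF.le hx⟩ : S) = 1 := Subtype.ext (hF.sq x hx)
    rw [this, map_one]
  have hRcomm : ∀ σ ∈ R, ∀ τ ∈ R, σ * τ = τ * σ := by
    intro σ hσ τ hτ
    obtain ⟨x, hx, rfl⟩ := (h.e_mem_range_rho hF.le).1 hσ
    obtain ⟨y, hy, rfl⟩ := (h.e_mem_range_rho hF.le).1 hτ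
    rw [← map_mul, ← map_mul]
    congr 1
    exact Subtype.ext (hF.comm hx hy)
  have hRd8 : ∀ σ ∈ R, ∃ i j k, σ = d8 i j k := by
    intro σ hσ
    obtain ⟨x, hx, rfl⟩ := (h.e_mem_range_rho hF.le).1 hσ
    exact h.e_exists_d8 _
  -- no transpositions
  have hno : ¬ (d8 true false false ∈ R ∨ d8 false true false ∈ R) := by
    intro hor
    have hRV : R ≤ Vt := by
      intro σ hσ
      obtain ⟨i, j, k, rfl⟩ := hRd8 σ hσ
      have : k = false := by
        rcases hor with h1 | h1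
        · exact d8_comm_u i j k (hRcomm _ hσ _ h1)
        · exact d8_comm_ub i j k (hRcomm _ hσ _ h1)
      subst this
      exact ⟨i, j, rfl⟩
    have hK4 : Nat.card K ≤ 4 := by
      apply h.e_card_le_four_u hKT hKK
      rcases hor with h1 | h1
      · left; exact hcomm u h.u_mem (by rw [h.e_pi_u']; exact h1)
      · right; exact hcomm (ub u w) h.ub_mem (by rw [h.e_pi_ub']; exact h1)
    have hR4 : Nat.card R ≤ 4 :=
      (Nat.card_le_card_of_injective (Subgroup.inclusion hRV) (Subgroup.inclusion_injective hRV)).trans card_Vt.le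
    have hR4' : Nat.card R = 4 := by nlinarith
    have hRV' : R = Vt := Subgroup.eq_of_le_of_card_ge hRV (by rw [card_Vt, hR4'])
    have h1 : d8 true false false ∈ R := by rw [hRV']; exact ⟨true, false, rfl⟩
    have h2 : d8 false true false ∈ R := by rw [hRV']; exact ⟨false, true, rfl⟩
    have hK2 : Nat.card K ≤ 2 := h.e_card_le_two_u hKT hKK (hcomm u h.u_mem (by rw [h.e_pi_u']; exact h1))
      (hcomm (ub u w) h.ub_mem (by rw [h.e_pi_ub']; exact h2))
    rw [hR4'] at hcard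
    omega
  have hRV : R ≤ Vs := by
    intro σ hσ
    obtain ⟨i, j, k, rfl⟩ := hRd8 σ hσ
    rcases d8_sq i j k (hRsq _ hσ) with rfl | rfl
    · exact ⟨i, k, rfl⟩
    · cases i <;> cases j
      · exact ⟨false, false, rfl⟩
      · exact (hno (Or.inr hσ)).elim
      · exact (hno (Or.inl hσ)).elim
      · exact ⟨true, false, rfl⟩
  have hRne : R ≠ ⊥ := by
    intro hbot
    rw [hbot, Subgroup.card_bot, mul_one] at hcard
    have := h.e_card_le_eight hKT hKK
    omega
  have hKZ : ∀ k ∈ K, Z2 (z1 f) (z2 f) k := by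
    obtain ⟨σ, hσ, hσ1'⟩ : ∃ σ ∈ R, σ ≠ 1 := by
      by_contra hcon
      push Not at hcon
      exact hRne ((Subgroup.eq_bot_iff_forall _).2 hcon)
    obtain ⟨i, k, hik⟩ := hRV hσ
    intro x hx
    rw [hik] at hσ hσ1'
    cases i <;> cases k
    · exact (hσ1' (by decide)).elim
    · exact h.e_mem_Z2_of_comm hx.2 (hKK x hx) (Or.inr (Or.inl rfl)) (hcomm w h.w_mem (by rw [h.e_pi_w']; exact hσ) x hx)
    · exact h.e_mem_Z2_of_comm hx.2 (hKK x hx) (Or.inl rfl) (hcomm _ h.sg_mem (by rw [h.e_pi_sg]; exact hσ) x hx)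
    · exact h.e_mem_Z2_of_comm hx.2 (hKK x hx) (Or.inr (Or.inr rfl))
        (hcomm _ h.sgw_mem (by rw [h.e_pi_sgw]; exact hσ) x hx)
  have hK4 : Nat.card K ≤ 4 := e_card_le_of_Z2 hKZ
  have hR4 : Nat.card R ≤ 4 :=
    (Nat.card_le_card_of_injective (Subgroup.inclusion hRV) (Subgroup.inclusion_injective hRV)).trans card_Vs.le
  have hR4' : Nat.card R = 4 := by nlinarith
  have hRV' : R = Vs := Subgroup.eq_of_le_of_card_ge hRV (by rw [card_Vs, hR4'])
  have hK4' : Nat.card K = 4 := by rw [hR4'] at hcard; omega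
  refine ⟨?_, fun g hg hgT => hKZ g ⟨hg, hgT⟩, hRV'⟩
  -- `K` is everything
  intro c hc
  by_contra hcF
  have hne : ∀ k : K, (k : G) ≠ c := fun k e => hcF (e ▸ k.2.1)
  -- an injection of `K` into three elements
  have hlt : Nat.card K < Nat.card (Bool × Bool) := by
    have hsur : ∀ k : K, ∃ b : Bool × Bool, (if b.1 then z1 f else 1) * (if b.2 then z2 f else 1) = (k : G) := by
      intro k
      rcases hKZ k k.2 with e | e | e | e
      · exact ⟨(false, false), by simp [e]⟩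
      · exact ⟨(true, false), by simp [e]⟩
      · exact ⟨(false, true), by simp [e]⟩
      · exact ⟨(true, true), by simp [e]⟩
    choose j hj using hsur
    have hinj : Function.Injective j := fun a b hab => Subtype.ext (by rw [← hj a, ← hj b, hab])
    obtain ⟨b, hb⟩ : ∃ b : Bool × Bool, (if b.1 then z1 f else 1) * (if b.2 then z2 f else 1) = c := by
      rcases hc with e | e | e | e
      · exact ⟨(false, false), by simp [e]⟩
      · exact ⟨(true, false), by simp [e]⟩
      · exact ⟨(false, true), by simp [e]⟩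
      · exact ⟨(true, true), by simp [e]⟩
    have : Finite K := Finite.of_injective j hinj
    have := Fintype.ofFinite K
    rw [Nat.card_eq_fintype_card, Nat.card_eq_fintype_card]
    exact Fintype.card_lt_of_injective_of_notMem j hinj (b := b) (by
      rintro ⟨k, hk⟩
      exact hne k (by rw [← hj k, hk, hb]))
  have h2 : Nat.card (Bool × Bool) = 4 := by simp [Nat.card_eq_fintype_card]
  omega

end BOne

end Cfsg.Agent.LFourB
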