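import Cfsg.Agent.LFourB.EFactB

/-!
# Elementary abelian subgroups of order 16, part 3: the action of `T2`
-/

set_option autoImplicit false

namespace Cfsg.Agent.LFourB

open Subgroup FusA

variable {G : Type*} [Group G] {S : Subgroup G} {m : ℕ} {f : R m → R m → R m → G} {u w : G}

namespace EF

theorem d8_one : (1 : Equiv.Perm (Fin 4)) = d8 false false false := by decide

end EF

open EF

namespace BOne

theorem e_mem_Tor_iff_pi (h : BOne S m f u w) {g : G} (hg : g ∈ S) : g ∈ Tor f ↔ h.pi ⟨g, hg⟩ = d8 false false false := by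
  rw [← d8_one, h.pi_eq_one_iff]

theorem e_pi_of_Ov (h : BOne S m f u w) {g d : G} (hd : d ∈ S) (hg : g ∈ S) (hgd : Ov f d g) :
    h.pi ⟨g, hg⟩ = h.pi ⟨d, hd⟩ := by
  obtain ⟨p, q, r, hgd, rfl⟩ := hgd
  exact h.e_pi_over hgd hd

theorem e_mem_S_of_Ov (h : BOne S m f u w) {g d : G} (hd : d ∈ S) (hgd : Ov f d g) : g ∈ S := by
  obtain ⟨p, q, r, hgd, rfl⟩ := hgd
  exact S.mul_mem (h.f_mem_S hgd) hd

theorem e_not_Tor_sg (h : BOne S m f u w) {g : G} (hg : Ov f (sg u w) g) : g ∉ Tor f := by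
  have hS := h.e_mem_S_of_Ov h.sg_mem hg
  rw [h.e_mem_Tor_iff_pi hS, h.e_pi_of_Ov h.sg_mem hS hg, h.e_pi_sg]
  decide

theorem e_not_Tor_w (h : BOne S m f u w) {g : G} (hg : Ov f w g) : g ∉ Tor f := by
  have hS := h.e_mem_S_of_Ov h.w_mem hg
  rw [h.e_mem_Tor_iff_pi hS, h.e_pi_of_Ov h.w_mem hS hg, h.e_pi_w']
  decide

theorem e_not_Tor_sgw (h : BOne S m f u w) {g : G} (hg : Ov f (sgw u w) g) : g ∉ Tor f := by
  have hS := h.e_mem_S_of_Ov h.sgw_mem hg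
  rw [h.e_mem_Tor_iff_pi hS, h.e_pi_of_Ov h.sgw_mem hS hg, h.e_pi_sgw]
  decide

/-! ### `J` and `S0` -/

theorem e_S_norm (h : BOne S m f u w) : ∀ s ∈ S, ∀ t ∈ Tor f, s * t * s⁻¹ ∈ Tor f := by
  intro s hs t ht
  have h1 := h.pi_eq_one_iff (s := ⟨s, hs⟩ * ⟨t, h.Tor_le ht⟩ * ⟨s, hs⟩⁻¹)
  rw [map_mul, map_mul, h.pi_Tor ht, mul_one, ← map_mul, mul_inv_cancel, map_one] at h1
  exact h1.1 rfl

theorem e_mem_J (h : BOne S m f u w) {g : G} : g ∈ Tor f ⊔ zpowers (sg u w) ↔ g ∈ Tor f ∨ Ov f (sg u w) g := by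
  rw [mem_sup_zpowers h.sg_mul_sg (fun b hb => by
    have := h.e_S_norm _ h.sg_mem b hb
    rwa [h.sg_inv] at this)]
  constructor
  · rintro ⟨b, hb, rfl | rfl⟩
    · exact Or.inl hb
    · obtain ⟨p, q, r, hg, rfl⟩ := h.mem_Tor.1 hb
      exact Or.inr ⟨p, q, r, hg, rfl⟩
  · rintro (hb | ⟨p, q, r, hg, rfl⟩)
    · exact ⟨g, hb, Or.inl rfl⟩
    · exact ⟨_, h.f_mem_Tor hg, Or.inr rfl⟩

theorem e_TVp_pi (h : BOne S m f u w) {g : G} (hg : g ∈ TVp f u w) : ∃ hS : g ∈ S, ∃ i j, h.pi ⟨g, hS⟩ = d8 i j false := by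
  have h1 : TVp f u w ≤ (Vt.comap h.pi).map S.subtype := by
    rw [TVp, sup_le_iff]
    constructor
    · intro x hx
      exact ⟨⟨x, h.Tor_le hx⟩, ⟨false, false, by rw [h.pi_Tor hx]; decide⟩, rfl⟩
    · rw [closure_le]
      rintro x (rfl | hx)
      · exact ⟨⟨x, h.u_mem⟩, ⟨true, false, by rw [h.e_pi_u']⟩, rfl⟩
      · rw [Set.mem_singleton_iff.1 hx]
        exact ⟨⟨ub u w, h.ub_mem⟩, ⟨false, true, by rw [h.e_pi_ub']⟩, rfl⟩
  obtain ⟨⟨x, hx⟩, ⟨i, j, hij⟩, rfl⟩ := h1 hg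
  exact ⟨hx, i, j, hij⟩

theorem e_mem_TVp_of_pi (h : BOne S m f u w) {g : G} (hS : g ∈ S) {i j : Bool} (hg : h.pi ⟨g, hS⟩ = d8 i j false) :
    g ∈ TVp f u w := by
  have hT : Tor f ≤ TVp f u w := le_sup_left
  have hu : u ∈ TVp f u w := (le_sup_right : _ ≤ TVp f u w) (Subgroup.subset_closure (by simp))
  have hub : ub u w ∈ TVp f u w := (le_sup_right : _ ≤ TVp f u w) (Subgroup.subset_closure (by simp))
  cases i <;> cases j
  · rw [← h.e_mem_Tor_iff_pi hS] at hg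
    exact hT hg
  · rw [← h.e_pi_ub'] at hg
    obtain ⟨p, q, r, hgd, rfl⟩ := h.e_over_of_pi hS h.ub_mem hg
    exact mul_mem (hT (h.f_mem_Tor hgd)) hub
  · rw [← h.e_pi_u'] at hg
    obtain ⟨p, q, r, hgd, rfl⟩ := h.e_over_of_pi hS h.u_mem hg
    exact mul_mem (hT (h.f_mem_Tor hgd)) hu
  · rw [← h.e_pi_sg] at hg
    obtain ⟨p, q, r, hgd, rfl⟩ := h.e_over_of_pi hS h.sg_mem hg
    exact mul_mem (hT (h.f_mem_Tor hgd)) (mul_mem hu hub)

/-! ### Elements of an `E16` -/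

theorem e16_cases (h : BOne S m f u w) {F : Subgroup G} (hF : E16 S F) {g : G} (hg : g ∈ F) :
    g ∈ Tor f ∨ Ov f (sg u w) g ∨ Ov f w g ∨ Ov f (sgw u w) g := by
  obtain ⟨-, -, h3⟩ := h.e16_struct hF
  have h4 : h.pi ⟨g, hF.le hg⟩ ∈ (h.e_rho hF.le).range := (h.e_mem_range_rho hF.le).2 ⟨g, hg, rfl⟩
  rw [h3] at h4
  obtain ⟨i, k, hik⟩ := h4
  cases i <;> cases k
  · exact Or.inl ((h.e_mem_Tor_iff_pi (hF.le hg)).2 hik)
  · exact Or.inr (Or.inr (Or.inl (h.e_over_of_pi _ h.w_mem (by rw [h.e_pi_w']; exact hik))))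
  · exact Or.inr (Or.inl (h.e_over_of_pi _ h.sg_mem (by rw [h.e_pi_sg]; exact hik)))
  · exact Or.inr (Or.inr (Or.inr (h.e_over_of_pi _ h.sgw_mem (by rw [h.e_pi_sgw]; exact hik))))

theorem e16_sg (h : BOne S m f u w) {F : Subgroup G} (hF : E16 S F) : ∃ a ∈ F, Ov f (sg u w) a := by
  obtain ⟨-, -, h3⟩ := h.e16_struct hF
  have h4 : d8 true true false ∈ (h.e_rho hF.le).range := by rw [h3]; exact ⟨true, false, rfl⟩
  obtain ⟨x, hx, hxd⟩ := (h.e_mem_range_rho hF.le).1 h4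
  exact ⟨x, hx, h.e_over_of_pi _ h.sg_mem (by rw [h.e_pi_sg]; exact hxd)⟩

theorem e16_w (h : BOne S m f u w) {F : Subgroup G} (hF : E16 S F) : ∃ a ∈ F, Ov f w a := by
  obtain ⟨-, -, h3⟩ := h.e16_struct hF
  have h4 : d8 false false true ∈ (h.e_rho hF.le).range := by rw [h3]; exact ⟨false, true, rfl⟩
  obtain ⟨x, hx, hxd⟩ := (h.e_mem_range_rho hF.le).1 h4
  exact ⟨x, hx, h.e_over_of_pi _ h.w_mem (by rw [h.e_pi_w']; exact hxd)⟩

/-! ### The fields -/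

theorem e_TT (h : BOne S m f u w) {F : Subgroup G} (hF : E16 S F) : ∀ t ∈ Ttwo f, ∀ g ∈ F,
    ∃ a, Z2 (z1 f) (z2 f) a ∧ t * g * t⁻¹ = a * g := by
  intro t ht g hg
  obtain ⟨P, Q, R', hP, hQ, hR, rfl⟩ := h.e_mem_Ttwo.1 ht
  have hG := e_good_Ttwo hP hQ hR
  rcases h.e16_cases hF hg with hg' | ⟨p, q, r, hgd, rfl⟩ | ⟨p, q, r, hgd, rfl⟩ | ⟨p, q, r, hgd, rfl⟩
  · exact ⟨1, Z2_one _ _, by rw [h.e_conj_Tor hg' (h.f_mem_Tor hG), one_mul]⟩
  · refine ⟨_, ?_, h.e_conj_sg hG hgd⟩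
    rw [h.e_Z2_iff ⟨Q, by ring⟩]
    exact ⟨by linear_combination -hQ, by linear_combination hP, hQ⟩
  · refine ⟨_, ?_, h.e_conj_w hG hgd⟩
    rw [h.e_Z2_iff ⟨R', by ring⟩]
    exact ⟨by linear_combination -hQ, by linear_combination -hQ, by linear_combination hR⟩
  · refine ⟨_, ?_, h.e_conj_sgw hG hgd⟩
    rw [h.e_Z2_iff ⟨P + R', by ring⟩]
    exact ⟨rfl, by linear_combination hP + hQ, by linear_combination hR - hQ⟩

theorem e_f_mem_Ttwo (h : BOne S m f u w) {p q r : R m} (h1 : 4 * p = 0) (h2 : 2 * (q - p) = 0) (h3 : 4 * r = 0) :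
    f p q r ∈ Ttwo f := h.e_mem_Ttwo.2 ⟨p, q, r, h1, h2, h3, rfl⟩

theorem e_tr (h : BOne S m f u w) {F : Subgroup G} (hF : E16 S F) : ∀ g ∈ F, g ∉ Tor f → ∀ a, Z2 (z1 f) (z2 f) a →
    ∃ t ∈ Ttwo f, t * g * t⁻¹ = a * g := by
  have hN := two_mul_N (m := m)
  have hM := two_mul_M (m := m)
  have h4M := four_mul_M (m := m)
  intro g hg hgT a ha
  rcases ha with rfl | rfl | rfl | rfl
  · exact ⟨1, one_mem _, by simp⟩
  · rcases h.e16_cases hF hg with hg' | ⟨p, q, r, hgd, rfl⟩ | ⟨p, q, r, hgd, rfl⟩ | ⟨p, q, r, hgd, rfl⟩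
    · exact absurd hg' hgT
    · refine ⟨f 0 (N m) 0, h.e_f_mem_Ttwo (by ring) (by linear_combination hN) (by ring), ?_⟩
      rw [h.e_conj_sg goodx3 hgd, z1]
      congr 2
      · ring
      · ring
    · have hm := h.e_f_mem_Ttwo (p := 0) (q := 0) (r := M m) (by ring) (by ring) h4M
      refine ⟨_, hm, ?_⟩
      rw [h.e_conj_w (e_good_Ttwo (by ring) (by ring) h4M) hgd, z1]
      congr 2
      · ring
      · ring
    · have hm := h.e_f_mem_Ttwo (p := 0) (q := 0) (r := M m) (by ring) (by ring) h4M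
      refine ⟨_, hm, ?_⟩
      rw [h.e_conj_sgw (e_good_Ttwo (by ring) (by ring) h4M) hgd, z1]
      congr 2
      · ring
      · ring
      · linear_combination hM
  · rcases h.e16_cases hF hg with hg' | ⟨p, q, r, hgd, rfl⟩ | ⟨p, q, r, hgd, rfl⟩ | ⟨p, q, r, hgd, rfl⟩
    · exact absurd hg' hgT
    · have hm := h.e_f_mem_Ttwo (p := M m) (q := M m) (r := 0) h4M (by ring) (by ring)
      refine ⟨_, hm, ?_⟩
      rw [h.e_conj_sg (e_good_Ttwo h4M (by ring) (by ring)) hgd, z2]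
      congr 2
      · ring
    · have hm := h.e_f_mem_Ttwo (p := 0) (q := N m) (r := 0) (by ring) (by linear_combination hN) (by ring)
      refine ⟨_, hm, ?_⟩
      rw [h.e_conj_w (e_good_Ttwo (by ring) (by linear_combination hN) (by ring)) hgd, z2]
      congr 2
      · linear_combination neg_N (m := m)
      · ring
      · ring
    · have hm := h.e_f_mem_Ttwo (p := 0) (q := N m) (r := M m) (by ring) (by linear_combination hN) h4M
      refine ⟨_, hm, ?_⟩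
      rw [h.e_conj_sgw (e_good_Ttwo (by ring) (by linear_combination hN) h4M) hgd, z2]
      congr 2
      · ring
      · ring
      · linear_combination hM
  · rw [h.e_z3_eq]
    rcases h.e16_cases hF hg with hg' | ⟨p, q, r, hgd, rfl⟩ | ⟨p, q, r, hgd, rfl⟩ | ⟨p, q, r, hgd, rfl⟩
    · exact absurd hg' hgT
    · have hm := h.e_f_mem_Ttwo (p := M m) (q := M m + N m) (r := 0) h4M (by linear_combination hN) (by ring)
      refine ⟨_, hm, ?_⟩
      rw [h.e_conj_sg (e_good_Ttwo h4M (by linear_combination hN) (by ring)) hgd, z3]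
      congr 2
      · linear_combination hM + hN
      · ring
    · have hm := h.e_f_mem_Ttwo (p := 0) (q := N m) (r := M m) (by ring) (by linear_combination hN) h4M
      refine ⟨_, hm, ?_⟩
      rw [h.e_conj_w (e_good_Ttwo (by ring) (by linear_combination hN) h4M) hgd, z3]
      congr 2
      · linear_combination neg_N (m := m)
      · ring
    · have hm := h.e_f_mem_Ttwo (p := 0) (q := N m) (r := 0) (by ring) (by linear_combination hN) (by ring)
      refine ⟨_, hm, ?_⟩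
      rw [h.e_conj_sgw (e_good_Ttwo (by ring) (by linear_combination hN) (by ring)) hgd, z3]
      congr 2
      · ring
      · ring
      · linear_combination neg_N (m := m)

end BOne

end Cfsg.Agent.LFourB
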