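import Cfsg.Agent.LFourB.EFactC

/-!
# Elementary abelian subgroups of order 16, part 4: normalisers
-/

set_option autoImplicit false

namespace Cfsg.Agent.LFourB

open Subgroup FusA

variable {G : Type*} [Group G] {S : Subgroup G} {m : ℕ} {f : R m → R m → R m → G} {u w : G}

open EF

namespace BOne

theorem e_J (h : BOne S m f u w) {F : Subgroup G} (hF : E16 S F) : ∀ g ∈ F, g ∉ Tor f →
    (g ∈ Tor f ⊔ zpowers (sg u w) ↔ ∀ t ∈ Ttwo f, t * g = g * t → t * t = 1 ∨ t * t = z1 f) := by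
  have hN := two_mul_N (m := m)
  have hM := two_mul_M (m := m)
  have h4M := four_mul_M (m := m)
  intro g hg hgT
  constructor
  · intro hgJ t ht htg
    obtain ⟨P, Q, R', hP, hQ, hR, rfl⟩ := h.e_mem_Ttwo.1 ht
    have hG := e_good_Ttwo hP hQ hR
    obtain ⟨h1, rfl⟩ := (h.f_sg_comm_iff hG).1
      (h.e_comm_of_over (h.f_mem_Tor hG) ((h.e_mem_J.1 hgJ).resolve_left hgT) htg)
    rw [h.e_sq_f hG, h1]
    have h2 : 2 * (2 * R') = 0 := by linear_combination hR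
    rcases eq_of_two_mul h2 with h3 | h3
    · left; rw [h3, h.f_zero]
    · right; rw [h3, z1]
  · intro hall
    rw [h.e_mem_J]
    rcases h.e16_cases hF hg with hg' | hg' | ⟨p, q, r, hgd, rfl⟩ | ⟨p, q, r, hgd, rfl⟩
    · exact Or.inl hg'
    · exact Or.inr hg'
    · exfalso
      have hG : Good (M m) (M m) 0 := e_good_Ttwo h4M (by ring) (by ring)
      have hm := h.e_f_mem_Ttwo (p := M m) (q := M m) (r := 0) h4M (by ring) (by ring)
      have hc : f (M m) (M m) 0 * w = w * f (M m) (M m) 0 := (h.f_w_comm_iff hG).2 ⟨rfl, by ring⟩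
      have := hall _ hm ((h.comm_mul_iff (h.f_mem_Tor hgd) (h.f_mem_Tor hG)).2 hc)
      rw [h.e_sq_f hG, hM, mul_zero] at this
      rcases this with h1 | h1
      · exact N_ne_zero ((h.f_eq_one_iff good2).1 h1).1
      · exact N_ne_zero ((h.f_eq_iff good2 good1).1 h1).1
    · exfalso
      have hG : Good (M m) (-M m) (-M m) := e_good_Ttwo h4M (by linear_combination -h4M) (by linear_combination -h4M)
      have hm := h.e_f_mem_Ttwo (p := M m) (q := -M m) (r := -M m) h4M (by linear_combination -h4M)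
        (by linear_combination -h4M)
      have hc : f (M m) (-M m) (-M m) * sgw u w = sgw u w * f (M m) (-M m) (-M m) :=
        (h.f_sgw_comm_iff hG).2 ⟨rfl, by ring⟩
      have := hall _ hm ((h.comm_mul_iff (h.f_mem_Tor hgd) (h.f_mem_Tor hG)).2 hc)
      rw [h.e_sq_f hG] at this
      have hG2 : Good (2 * M m) (2 * -M m) (2 * -M m) := by
        have := hG.add hG
        rwa [← two_mul, ← two_mul] at this
      rcases this with h1 | h1
      · have h2 := ((h.f_eq_one_iff hG2).1 h1).1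
        rw [hM] at h2
        exact N_ne_zero h2
      · have h2 := ((h.f_eq_iff hG2 good1).1 h1).1
        rw [hM] at h2
        exact N_ne_zero h2

theorem e_S0 (h : BOne S m f u w) {F : Subgroup G} (hF : E16 S F) : ∀ g ∈ F, g ∈ TVp f u w →
    g ∈ Tor f ⊔ zpowers (sg u w) := by
  intro g hg hgS
  rw [h.e_mem_J]
  obtain ⟨hS, i, j, hij⟩ := h.e_TVp_pi hgS
  rcases h.e16_cases hF hg with hg' | hg' | hg' | hg'
  · exact Or.inl hg'
  · exact Or.inr hg'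
  · have h1 := h.e_pi_of_Ov h.w_mem hS hg'
    rw [hij, h.e_pi_w'] at h1
    have := (d8_inj _ _ _ _ _ _ h1).2.2
    exact absurd this (by decide)
  · have h1 := h.e_pi_of_Ov h.sgw_mem hS hg'
    rw [hij, h.e_pi_sgw] at h1
    have := (d8_inj _ _ _ _ _ _ h1).2.2
    exact absurd this (by decide)

/-- Elements of an `E16` outside `J`. -/
theorem e16_notJ (h : BOne S m f u w) {F : Subgroup G} (hF : E16 S F) {g : G} (hg : g ∈ F)
    (hgJ : g ∉ Tor f ⊔ zpowers (sg u w)) : Ov f w g ∨ Ov f (sgw u w) g := by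
  rw [h.e_mem_J] at hgJ
  rcases h.e16_cases hF hg with hg' | hg' | hg' | hg'
  · exact absurd (Or.inl hg') hgJ
  · exact absurd (Or.inr hg') hgJ
  · exact Or.inl hg'
  · exact Or.inr hg'

theorem e_k (h : BOne S m f u w) {F : Subgroup G} (hF : E16 S F) :
    ∃ t ∈ Ttwo f, (∀ g ∈ F, g ∈ Tor f ⊔ zpowers (sg u w) → t * g * t⁻¹ = g) ∧
      (∀ g ∈ F, g ∉ Tor f ⊔ zpowers (sg u w) → t * g * t⁻¹ = z1 f * g) := by
  have hM := two_mul_M (m := m)
  have h4M := four_mul_M (m := m)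
  have hG : Good 0 0 (M m) := e_good_Ttwo (by ring) (by ring) h4M
  refine ⟨f 0 0 (M m), h.e_f_mem_Ttwo (by ring) (by ring) h4M, ?_, ?_⟩
  · intro g _ hgJ
    rcases h.e_mem_J.1 hgJ with hg' | ⟨p, q, r, hgd, rfl⟩
    · exact h.e_conj_Tor hg' (h.f_mem_Tor hG)
    · rw [h.e_conj_sg hG hgd]
      simp [h.f_zero]
  · intro g hg hgJ
    rcases h.e16_notJ hF hg hgJ with ⟨p, q, r, hgd, rfl⟩ | ⟨p, q, r, hgd, rfl⟩
    · rw [h.e_conj_w hG hgd, hM, z1]
      simp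
    · rw [h.e_conj_sgw hG hgd, hM, z1]
      simp

theorem e_z1_mem_T (h : BOne S m f u w) : z1 f ∈ Tor f := h.f_mem_Tor good1

theorem e_z_cent (h : BOne S m f u w) : ∀ s ∈ S, s * z1 f = z1 f * s := by
  intro s hs
  rw [h.closure_eq] at hs
  induction hs using Subgroup.closure_induction with
  | mem x hx =>
    rcases hx with hx | rfl | rfl
    · exact h.Tor_comm hx h.e_z1_mem_T
    · exact ((h.f_u_comm_iff good1).2 rfl).symm
    · exact ((h.f_w_comm_iff good1).2 ⟨rfl, two_mul_N⟩).symm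
  | one => simp
  | mul x y _ _ hx hy => rw [mul_assoc, hy, ← mul_assoc, hx, mul_assoc]
  | inv x _ hx =>
    have h1 : x⁻¹ * (x * z1 f) * x⁻¹ = x⁻¹ * (z1 f * x) * x⁻¹ := by rw [hx]
    calc x⁻¹ * z1 f = x⁻¹ * (z1 f * x) * x⁻¹ := by group
      _ = x⁻¹ * (x * z1 f) * x⁻¹ := by rw [hx]
      _ = z1 f * x⁻¹ := by group

/-- Commuting with both `a` over `sg` and `b` over `w` forces `pi` to be in `Vs`. -/
theorem e_d8_comm_V : ∀ i j k : Bool, d8 i j k * d8 false false true = d8 false false true * d8 i j k → i = j := by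
  decide

theorem e_ker (h : BOne S m f u w) {F : Subgroup G} (hF : E16 S F) :
    ∀ p ∈ S, (∀ g ∈ F, p * g * p⁻¹ = g ∨ p * g * p⁻¹ = z1 f * g) → ∀ g ∈ F,
      g ∈ Tor f ⊔ zpowers (sg u w) → p * g * p⁻¹ = g := by
  intro x hx hxF g hg hgJ
  -- `x = t f0`
  obtain ⟨b, hb, hbw⟩ := h.e16_w hF
  obtain ⟨-, hZ, hR⟩ := h.e16_struct hF
  have hpix : ∃ i k, h.pi ⟨x, hx⟩ = d8 i i k := by
    obtain ⟨i, j, k, hijk⟩ := h.e_exists_d8 ⟨x, hx⟩
    have h1 : h.pi ⟨x, hx⟩ * h.pi ⟨b, hF.le hb⟩ * (h.pi ⟨x, hx⟩)⁻¹ = h.pi ⟨b, hF.le hb⟩ := by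
      rw [← map_inv, ← map_mul, ← map_mul]
      rcases hxF b hb with h2 | h2
      · congr 1
        exact Subtype.ext h2
      · have h3 : (⟨x, hx⟩ * ⟨b, hF.le hb⟩ * ⟨x, hx⟩⁻¹ : S) = ⟨z1 f, h.Tor_le h.e_z1_mem_T⟩ * ⟨b, hF.le hb⟩ :=
          Subtype.ext h2
        rw [h3, map_mul, h.pi_Tor h.e_z1_mem_T, one_mul]
    rw [h.e_pi_of_Ov h.w_mem _ hbw, h.e_pi_w', hijk, mul_inv_eq_iff_eq_mul] at h1
    obtain rfl := e_d8_comm_V i j k h1
    exact ⟨i, k, hijk⟩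
  obtain ⟨i, k, hik⟩ := hpix
  have h4 : d8 i i k ∈ (h.e_rho hF.le).range := by rw [hR]; exact ⟨i, k, rfl⟩
  obtain ⟨y, hy, hyd⟩ := (h.e_mem_range_rho hF.le).1 h4
  have hxy : x * y⁻¹ ∈ Tor f := by
    have h5 := h.pi_eq_one_iff (s := ⟨x, hx⟩ * ⟨y, hF.le hy⟩⁻¹)
    rw [map_mul, map_inv, hik, hyd, mul_inv_cancel] at h5
    exact h5.1 rfl
  -- `t = x y⁻¹` acts as `x` on `F`
  have hact : ∀ g' ∈ F, (x * y⁻¹) * g' * (x * y⁻¹)⁻¹ = x * g' * x⁻¹ := by
    intro g' hg'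
    have h5 : y⁻¹ * g' * y = g' := by
      rw [hF.comm (F.inv_mem hy) hg', inv_mul_cancel_right]
    calc (x * y⁻¹) * g' * (x * y⁻¹)⁻¹ = x * (y⁻¹ * g' * y) * x⁻¹ := by group
      _ = x * g' * x⁻¹ := by rw [h5]
  obtain ⟨P, Q, R', hG, ht⟩ := h.mem_Tor.1 hxy
  rw [ht] at hact
  rcases h.e_mem_J.1 hgJ with hgT | ⟨p, q, r, hgd, rfl⟩
  · rw [← hact g hg]
    exact h.e_conj_Tor hgT (h.f_mem_Tor hG)
  · -- P = Q from `b`
    obtain ⟨p', q', r', hgd', rfl⟩ := hbw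
    have hPQ : P - Q = 0 := by
      have h6 := hxF _ hb
      rw [← hact _ hb, h.e_conj_w hG hgd'] at h6
      have hgg : Good (P - Q) (Q - P) (2 * R') := ⟨R', by ring⟩
      rcases h6 with h6 | h6
      · exact ((h.f_eq_one_iff hgg).1 (mul_eq_right.1 h6)).1
      · exact ((h.f_eq_iff hgg good1).1 (mul_right_cancel h6)).1
    have hPQ' : Q = P := by linear_combination -hPQ
    have h6 := hxF _ hg
    rw [← hact _ hg, h.e_conj_sg hG hgd] at h6 ⊢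
    have hgg : Good (2 * P) (2 * Q) (Q - P) := ⟨Q, by ring⟩
    rcases h6 with h6 | h6
    · exact h6
    · have h7 := ((h.f_eq_iff hgg good1).1 (mul_right_cancel h6)).2.2
      rw [hPQ', sub_self] at h7
      exact absurd h7.symm N_ne_zero

/-- The elements of `T` normalising an `E16`. -/
theorem e_norm_inf_Tor [Finite G] (h : BOne S m f u w) {F : Subgroup G} (hF : E16 S F) :
    (S ⊓ normalizer (F : Set G)) ⊓ Tor f = Ttwo f := by
  obtain ⟨hZF, hZ, hR⟩ := h.e16_struct hF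
  apply le_antisymm
  · rintro t ⟨⟨htS, htN⟩, htT⟩
    obtain ⟨a, ha, p, q, r, hgd, rfl⟩ := h.e16_sg hF
    obtain ⟨b, hb, p', q', r', hgd', rfl⟩ := h.e16_w hF
    obtain ⟨P, Q, R', hG, rfl⟩ := h.mem_Tor.1 htT
    have h1 : f P Q R' * (f p q r * sg u w) * (f P Q R')⁻¹ ∈ F := (mem_normalizer_iff.1 htN _).1 ha
    have h2 : f P Q R' * (f p' q' r' * w) * (f P Q R')⁻¹ ∈ F := (mem_normalizer_iff.1 htN _).1 hb
    rw [h.e_conj_sg hG hgd] at h1
    rw [h.e_conj_w hG hgd'] at h2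
    have hg1 : Good (2 * P) (2 * Q) (Q - P) := ⟨Q, by ring⟩
    have hg2 : Good (P - Q) (Q - P) (2 * R') := ⟨R', by ring⟩
    have h3 := hZ _ ((F.mul_mem_cancel_right ha).1 h1) (h.f_mem_Tor hg1)
    have h4 := hZ _ ((F.mul_mem_cancel_right hb).1 h2) (h.f_mem_Tor hg2)
    rw [h.e_Z2_iff hg1] at h3
    rw [h.e_Z2_iff hg2] at h4
    obtain ⟨h5, h6, h7⟩ := h3
    obtain ⟨h8, h9, h10⟩ := h4
    exact h.e_f_mem_Ttwo (by linear_combination h6) h7 (by linear_combination h10)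
  · intro t ht
    refine ⟨⟨h.Tor_le (h.e_Ttwo_le ht), ?_⟩, h.e_Ttwo_le ht⟩
    refine Cfsg.Agent.Transfer.FusionBasic.mem_normalizer_of_conj_mem ?_
    intro g hg
    obtain ⟨a, ha, hta⟩ := h.e_TT hF t ht g hg
    rw [hta]
    exact F.mul_mem (hZF a ha) hg

/-- Elements of an `E16` in terms of `a` over `sg` and `b` over `w`. -/
theorem e16_gen (h : BOne S m f u w) {F : Subgroup G} (hF : E16 S F) {a b : G} (ha : a ∈ F)
    (hasg : Ov f (sg u w) a) (hb : b ∈ F) (hbw : Ov f w b) {x : G} (hx : x ∈ F) :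
    ∃ c, Z2 (z1 f) (z2 f) c ∧ (x = c ∨ x = c * a ∨ x = c * b ∨ x = c * (a * b)) := by
  obtain ⟨hZF, hZ, hR⟩ := h.e16_struct hF
  have key : ∀ y, ∀ hy : y ∈ F, h.pi ⟨x, hF.le hx⟩ = h.pi ⟨y, hF.le hy⟩ → Z2 (z1 f) (z2 f) (x * y⁻¹) := by
    intro y hy hxy
    refine hZ _ (F.mul_mem hx (F.inv_mem hy)) ?_
    have h5 := h.pi_eq_one_iff (s := ⟨x, hF.le hx⟩ * ⟨y, hF.le hy⟩⁻¹)
    rw [map_mul, map_inv, hxy, mul_inv_cancel] at h5
    exact h5.1 rfl
  have hpa : h.pi ⟨a, hF.le ha⟩ = d8 true true false := by rw [h.e_pi_of_Ov h.sg_mem _ hasg, h.e_pi_sg]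
  have hpb : h.pi ⟨b, hF.le hb⟩ = d8 false false true := by rw [h.e_pi_of_Ov h.w_mem _ hbw, h.e_pi_w']
  rcases h.e16_cases hF hx with hx' | hx' | hx' | hx'
  · exact ⟨x, hZ x hx hx', Or.inl rfl⟩
  · refine ⟨x * a⁻¹, key a ha ?_, Or.inr (Or.inl (by group))⟩
    rw [h.e_pi_of_Ov h.sg_mem _ hx', h.e_pi_sg, hpa]
  · refine ⟨x * b⁻¹, key b hb ?_, Or.inr (Or.inr (Or.inl (by group)))⟩
    rw [h.e_pi_of_Ov h.w_mem _ hx', h.e_pi_w', hpb]
  · refine ⟨x * (a * b)⁻¹, key (a * b) (F.mul_mem ha hb) ?_, Or.inr (Or.inr (Or.inr (by group)))⟩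
    rw [h.e_pi_of_Ov h.sgw_mem _ hx', h.e_pi_sgw]
    have h6 : (⟨a * b, hF.le (F.mul_mem ha hb)⟩ : S) = ⟨a, hF.le ha⟩ * ⟨b, hF.le hb⟩ := rfl
    rw [h6, map_mul, hpa, hpb]
    decide

end BOne

end Cfsg.Agent.LFourB
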