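import Cfsg.Agent.LFourB.EFactD

/-!
# Elementary abelian subgroups of order 16, part 5: orders
-/

set_option autoImplicit false

namespace Cfsg.Agent.LFourB

open Subgroup FusA

variable {G : Type*} [Group G] {S : Subgroup G} {m : ℕ} {f : R m → R m → R m → G} {u w : G}

namespace EF

/-- The dihedral group of order 8. -/
def Ds : Subgroup (Equiv.Perm (Fin 4)) where
  carrier := {σ | ∃ i j k : Bool, σ = d8 i j k}
  one_mem' := ⟨false, false, false, by decide⟩
  mul_mem' := by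
    rintro _ _ ⟨i, j, k, rfl⟩ ⟨i', j', k', rfl⟩
    revert i j k i' j' k'
    decide
  inv_mem' := by
    rintro _ ⟨i, j, k, rfl⟩
    revert i j k
    decide

theorem card_Ds : Nat.card Ds = 8 := by
  let F : Bool × Bool × Bool → Ds := fun a => ⟨d8 a.1 a.2.1 a.2.2, ⟨a.1, a.2.1, a.2.2, rfl⟩⟩
  have hF : Function.Bijective F := by
    constructor
    · rintro ⟨a, b, c⟩ ⟨a', b', c'⟩ hab
      have h1 : d8 a b c = d8 a' b' c' := congrArg Subtype.val hab
      obtain ⟨rfl, rfl, rfl⟩ := d8_inj _ _ _ _ _ _ h1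
      rfl
    · rintro ⟨_, i, j, k, rfl⟩
      exact ⟨(i, j, k), rfl⟩
  rw [← Nat.card_eq_of_bijective F hF]
  simp [Nat.card_eq_fintype_card]

/-- A subgroup of `Ds` containing `sg`, `w`, `u` is everything. -/
theorem eq_Ds {K : Subgroup (Equiv.Perm (Fin 4))} (hK : K ≤ Ds) (h1 : d8 true true false ∈ K)
    (h2 : d8 false false true ∈ K) (h3 : d8 true false false ∈ K) : K = Ds := by
  apply le_antisymm hK
  rintro _ ⟨i, j, k, rfl⟩
  have h4 : d8 false true false ∈ K := by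
    have := K.mul_mem h3 h1
    have e : d8 true false false * d8 true true false = d8 false true false := by decide
    rwa [e] at this
  have e : d8 i j k = (if i then d8 true false false else 1) * (if j then d8 false true false else 1) *
      (if k then d8 false false true else 1) := by
    revert i j k
    decide
  rw [e]
  refine K.mul_mem (K.mul_mem ?_ ?_) ?_
  · split_ifs
    · exact h3
    · exact K.one_mem
  · split_ifs
    · exact h4
    · exact K.one_mem
  · split_ifs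
    · exact h2
    · exact K.one_mem

end EF

open EF

namespace BOne

theorem e_range_le_Ds (h : BOne S m f u w) {D : Subgroup G} (hD : D ≤ S) : (h.e_rho hD).range ≤ Ds := by
  intro σ hσ
  obtain ⟨x, hx, rfl⟩ := (h.e_mem_range_rho hD).1 hσ
  exact h.e_exists_d8 _

theorem e_u_conj_Z2 (h : BOne S m f u w) {c : G} (hc : Z2 (z1 f) (z2 f) c) : Z2 (z1 f) (z2 f) (u * c * u⁻¹) := by
  obtain ⟨p, r, hg, hp, hr, rfl⟩ := h.e_Z2_coord hc
  rw [h.u_f _ _ _ hg, mul_inv_cancel_right, h.e_Z2_iff hg.actu]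
  exact ⟨by linear_combination -hp, by linear_combination -hp, by linear_combination hr + hp⟩

/-- An element over `u` normalising an `E16`. -/
theorem e_exists_norm_u [Finite G] (h : BOne S m f u w) {F : Subgroup G} (hF : E16 S F) :
    ∃ n ∈ S ⊓ normalizer (F : Set G), Ov f u n := by
  obtain ⟨a, ha, hasg⟩ := h.e16_sg hF
  obtain ⟨b, hb, hbw⟩ := h.e16_w hF
  have hasg' := hasg
  have hbw' := hbw
  obtain ⟨hZF, -, -⟩ := h.e16_struct hF
  obtain ⟨p, q, r, hg, ea⟩ := hasg'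
  obtain ⟨p', q', r', hg', eb⟩ := hbw'
  have h1 : 2 * r + p - q = 0 := (h.e_sq_sg_iff hg).1 (by rw [← ea]; exact hF.sq a ha)
  have h2 : q' = -p' := (h.e_sq_w_iff hg').1 (by rw [← eb]; exact hF.sq b hb)
  subst h2
  have hsgw : sgw u w = sg u w * w := rfl
  have hsg : sg u w = u * ub u w := rfl
  -- the commutation
  have hab : a * b = f (p - p') (q + p') (r + r' + 2 * p') * sgw u w := by
    rw [ea, eb, mul_assoc, ← mul_assoc (sg u w), h.sg_f hg', mul_assoc (f (-p') (- -p') (r' + p' - -p')),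
      ← mul_assoc, h.f_mul _ _ _ _ _ _ hg hg'.actsg, hsgw]
    congr 2 <;> ring
  have hba : b * a = f (p' + q) (-p' + p) (r' - r) * sgw u w := by
    rw [ea, eb, mul_assoc, ← mul_assoc w, h.w_f _ _ _ hg, mul_assoc (f q p (-r)),
      ← mul_assoc, h.f_mul _ _ _ _ _ _ hg' hg.actw, h.w_mul_sg, hsgw]
    congr 2
    ring
  have hgab : Good (p - p') (q + p') (r + r' + 2 * p') := by
    obtain ⟨c, hc⟩ := hg
    obtain ⟨c', hc'⟩ := hg'
    exact ⟨c + c' + p', by linear_combination hc + hc'⟩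
  have hgba : Good (p' + q) (-p' + p) (r' - r) := by
    obtain ⟨c, hc⟩ := hg
    obtain ⟨c', hc'⟩ := hg'
    exact ⟨c + c' - r, by linear_combination hc + hc'⟩
  have hcomm : p - p' = p' + q ∧ q + p' = -p' + p ∧ r + r' + 2 * p' = r' - r := by
    rw [← h.f_eq_iff hgab hgba]
    apply mul_right_cancel (b := sgw u w)
    rw [← hab, ← hba, hF.comm ha hb]
  obtain ⟨h3, -, h4⟩ := hcomm
  have hr : 2 * r + 2 * p' = 0 := by linear_combination h4
  have hq : q = p - 2 * p' := by linear_combination -h3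
  -- `p` is even
  have hpe : par m p = 0 := by
    obtain ⟨c, hc⟩ := hg
    apply even_of_two_mul (c := c + p')
    rw [hq] at hc
    linear_combination hc - hr
  obtain ⟨c, hc⟩ := par_eq_zero_iff.1 hpe
  -- `R' = -c`
  have hG : Good p 0 (-c) := ⟨0, by linear_combination hc⟩
  have hn : Ov f u (f p 0 (-c) * u) := ⟨p, 0, -c, hG, rfl⟩
  refine ⟨f p 0 (-c) * u, ⟨S.mul_mem (h.f_mem_S hG) h.u_mem, ?_⟩, hn⟩
  have hna : (f p 0 (-c) * u) * a = a * (f p 0 (-c) * u) := by
    have e1 : (f p 0 (-c) * u) * a = f 0 q (-c + r + p) * (u * sg u w) := by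
      rw [ea, mul_assoc, ← mul_assoc u, h.u_f _ _ _ hg, mul_assoc (f (-p) q (r + p)), ← mul_assoc,
        h.f_mul _ _ _ _ _ _ hG hg.actu]
      congr 2 <;> ring
    have e2 : a * (f p 0 (-c) * u) = f 0 q (r - c + p) * (sg u w * u) := by
      rw [ea, mul_assoc, ← mul_assoc (sg u w), h.sg_f hG, mul_assoc (f (-p) (-0) (-c + p - 0)), ← mul_assoc,
        h.f_mul _ _ _ _ _ _ hg hG.actsg]
      congr 2 <;> ring
    have e3 : sg u w * u = u * sg u w := by
      rw [hsg, mul_assoc, h.ub_mul_u]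
    rw [e1, e2, e3]
    congr 2
    ring
  have hnb : (f p 0 (-c) * u) * b = f 0 0 (-p' - r) * (a * b) * (f p 0 (-c) * u) := by
    have e1 : (f p 0 (-c) * u) * b = f (p - p') (-p') (-c + r' + p') * (u * w) := by
      rw [eb, mul_assoc, ← mul_assoc u, h.u_f _ _ _ hg', mul_assoc (f (-p') (-p') (r' + p')), ← mul_assoc,
        h.f_mul _ _ _ _ _ _ hG hg'.actu]
      congr 2 <;> ring
    have hgz : Good 0 0 (-p' - r) := by
      refine ⟨0, ?_⟩
      linear_combination -hr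
    have e2 : f 0 0 (-p' - r) * (a * b) * (f p 0 (-c) * u) =
        f (p - p') (q + p' - p) (r' + p' + c - p) * (sgw u w * u) := by
      rw [hab, ← mul_assoc (f 0 0 (-p' - r)), h.f_mul _ _ _ _ _ _ hgz hgab, mul_assoc, ← mul_assoc (sgw u w),
        h.sgw_f hG, mul_assoc (f (-0) (-p) (- -c + 0 - p)), ← mul_assoc,
        h.f_mul _ _ _ _ _ _ (hgz.add hgab) hG.actsgw]
      congr 2 <;> ring
    have e3 : sgw u w * u = u * w := by
      rw [hsgw, mul_assoc, h.w_mul_u, hsg, mul_assoc, ← mul_assoc (ub u w), h.ub_mul_ub, one_mul]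
    rw [e1, e2, e3]
    congr 2
    · rw [hq]; ring
    · linear_combination hc
  have hz : Z2 (z1 f) (z2 f) (f 0 0 (-p' - r)) := by
    rw [h.e_Z2_iff (⟨0, by linear_combination -hr⟩)]
    exact ⟨rfl, by ring, by linear_combination -hr⟩
  set n := f p 0 (-c) * u with hndef
  have hnZ : ∀ c', Z2 (z1 f) (z2 f) c' → n * c' * n⁻¹ ∈ F := by
    intro c' hc'
    apply hZF
    have h5 := h.e_u_conj_Z2 hc'
    have e : n * c' * n⁻¹ = u * c' * u⁻¹ := by
      have h6 : u * c' * u⁻¹ ∈ Tor f := by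
        obtain ⟨p1, r1, hg1, -, -, e1⟩ := h.e_Z2_coord h5
        rw [e1]
        exact h.f_mem_Tor hg1
      calc n * c' * n⁻¹ = f p 0 (-c) * (u * c' * u⁻¹) * (f p 0 (-c))⁻¹ := by rw [hndef]; group
        _ = u * c' * u⁻¹ := h.e_conj_Tor h6 (h.f_mem_Tor hG)
    rw [e]
    exact h5
  have hna' : n * a * n⁻¹ ∈ F := by
    rw [hna, mul_inv_cancel_right]; exact ha
  have hnb' : n * b * n⁻¹ ∈ F := by
    rw [hnb, mul_inv_cancel_right]
    exact F.mul_mem (hZF _ hz) (F.mul_mem ha hb)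
  refine Cfsg.Agent.Transfer.FusionBasic.mem_normalizer_of_conj_mem ?_
  intro x hx
  obtain ⟨c', hc', hx' | hx' | hx' | hx'⟩ := h.e16_gen hF ha hasg hb hbw hx
  · rw [hx']; exact hnZ c' hc'
  · have e : n * x * n⁻¹ = (n * c' * n⁻¹) * (n * a * n⁻¹) := by rw [hx']; group
    rw [e]
    exact F.mul_mem (hnZ c' hc') hna'
  · have e : n * x * n⁻¹ = (n * c' * n⁻¹) * (n * b * n⁻¹) := by rw [hx']; group
    rw [e]
    exact F.mul_mem (hnZ c' hc') hnb'
  · have e : n * x * n⁻¹ = (n * c' * n⁻¹) * ((n * a * n⁻¹) * (n * b * n⁻¹)) := by rw [hx']; group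
    rw [e]
    exact F.mul_mem (hnZ c' hc') (F.mul_mem hna' hnb')

theorem e_card [Finite G] (h : BOne S m f u w) {F : Subgroup G} (hF : E16 S F) :
    Nat.card ↥(S ⊓ normalizer (F : Set G)) = Nat.card (Ttwo f) * 8 := by
  have hle : S ⊓ normalizer (F : Set G) ≤ S := inf_le_left
  rw [h.e_card_eq hle, h.e_norm_inf_Tor hF]
  congr 1
  rw [← card_Ds]
  congr 1
  have hFN : F ≤ S ⊓ normalizer (F : Set G) := le_inf hF.le le_normalizer
  obtain ⟨a, ha, hasg⟩ := h.e16_sg hF
  obtain ⟨b, hb, hbw⟩ := h.e16_w hF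
  obtain ⟨n, hn, hnu⟩ := h.e_exists_norm_u hF
  rw [eq_Ds (h.e_range_le_Ds hle)]
  · rw [h.e_mem_range_rho]
    exact ⟨a, hFN ha, by rw [h.e_pi_of_Ov h.sg_mem _ hasg, h.e_pi_sg]⟩
  · rw [h.e_mem_range_rho]
    exact ⟨b, hFN hb, by rw [h.e_pi_of_Ov h.w_mem _ hbw, h.e_pi_w']⟩
  · rw [h.e_mem_range_rho]
    exact ⟨n, hn, by rw [h.e_pi_of_Ov h.u_mem _ hnu, h.e_pi_u']⟩

end BOne

end Cfsg.Agent.LFourB
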