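import Cfsg.Agent.LFourB.EFactE

/-!
# Elementary abelian subgroups of order 16, part 6: `T2` is the only abelian subgroup of its order
-/

set_option autoImplicit false

namespace Cfsg.Agent.LFourB

open Subgroup FusA

variable {G : Type*} [Group G] {S : Subgroup G} {m : ℕ} {f : R m → R m → R m → G} {u w : G}

namespace EF

/-- The embedding of `Z/4`. -/
def mu (m : ℕ) : ZMod 4 →+ R m :=
  ZMod.lift 4 ⟨(zmultiplesHom (R m) (M m)), by
    have h1 : (4 : R m) * M m = 0 := four_mul_M
    simpa [zmultiplesHom_apply] using h1⟩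

theorem mu_one (m : ℕ) : mu m 1 = M m := by
  have h1 : mu m ((1 : ℤ) : ZMod 4) = (zmultiplesHom (R m) (M m)) 1 := ZMod.lift_coe 4 _ 1
  simpa using h1

theorem mu_two (m : ℕ) : mu m 2 = N m := by
  have : (2 : ZMod 4) = 1 + 1 := by decide
  rw [this, map_add, mu_one, M_add_M]

theorem mu_three (m : ℕ) : mu m 3 = -M m := by
  have : (3 : ZMod 4) = -1 := by decide
  rw [this, map_neg, mu_one]

theorem mu_inj (m : ℕ) : Function.Injective (mu m) := by
  rw [injective_iff_map_eq_zero]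
  intro a ha
  have h4 : ∀ a : ZMod 4, a = 0 ∨ a = 1 ∨ a = 2 ∨ a = 3 := by decide
  rcases h4 a with rfl | rfl | rfl | rfl
  · rfl
  · rw [mu_one] at ha; exact absurd ha M_ne_zero
  · rw [mu_two] at ha; exact absurd ha N_ne_zero
  · rw [mu_three, neg_eq_zero] at ha; exact absurd ha M_ne_zero

theorem mu_surj {a : R m} (ha : 4 * a = 0) : ∃ i, a = mu m i := by
  rcases eq_of_four_mul ha with rfl | rfl | rfl | rfl
  · exact ⟨0, by rw [map_zero]⟩
  · exact ⟨2, by rw [mu_two]⟩
  · exact ⟨1, by rw [mu_one]⟩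
  · exact ⟨3, by rw [mu_three]⟩

theorem four_mu (m : ℕ) (i : ZMod 4) : 4 * mu m i = 0 := by
  have h1 : 4 * mu m i = mu m (i + i + i + i) := by
    rw [map_add, map_add, map_add]; ring
  have h2 : ∀ i : ZMod 4, i + i + i + i = 0 := by decide
  rw [h1, h2, map_zero]

theorem two_mu (m : ℕ) (i : ZMod 4) : 2 * mu m i = mu m (2 * i) := by
  have : 2 * i = i + i := by ring
  rw [this, map_add]; ring

theorem mu_eq_zero {i : ZMod 4} : mu m i = 0 ↔ i = 0 := by
  constructor
  · intro h; exact mu_inj m (by rw [h, map_zero])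
  · rintro rfl; exact map_zero _

abbrev V3 : Type := ZMod 4 × ZMod 4 × ZMod 4

/-- The condition for centralising `rep i j k`. -/
def cd (i j k : Bool) (v : V3) : Bool :=
  match i, j, k with
  | false, false, false => true
  | true, false, false => v.1 = 0
  | false, true, false => v.2.1 = 0
  | true, true, false => 2 * v.1 = 0 ∧ v.2.1 = v.1
  | false, false, true => v.2.1 = v.1 ∧ 2 * v.2.2 = 0
  | true, true, true => v.2.1 = -v.1 ∧ 2 * v.2.2 + 2 * v.1 = 0
  | true, false, true => 2 * v.1 = 0 ∧ v.2.1 = v.1 ∧ 2 * v.2.2 = v.1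
  | false, true, true => 2 * v.1 = 0 ∧ v.2.1 = v.1 ∧ 2 * v.2.2 = v.1

/-- Membership in `T2`. -/
def inT (v : V3) : Bool := 2 * (v.2.1 - v.1) = 0

set_option maxRecDepth 10000 in
theorem count_T : (Finset.univ.filter fun v : V3 => inT v = true).card = 32 := by decide +kernel

set_option maxRecDepth 10000 in
theorem count_one : ∀ i j k : Bool, (i = true ∨ j = true ∨ k = true) →
    (Finset.univ.filter fun v : V3 => inT v = true ∧ cd i j k v = true).card ≤ 8 := by decide +kernel

set_option maxRecDepth 10000 in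
theorem count_two : ∀ i j k : Bool, (i = true ∨ j = true ∨ k = true) → ∀ i' j' k' : Bool,
    (i' = true ∨ j' = true ∨ k' = true) → (i ≠ i' ∨ j ≠ j' ∨ k ≠ k') →
    (Finset.univ.filter fun v : V3 => inT v = true ∧ cd i j k v = true ∧ cd i' j' k' v = true).card ≤ 4 := by
  decide +kernel

/-- The element with coordinates in `Z/4`. -/
def tt (f : R m → R m → R m → G) (v : V3) : G := f (mu m v.1) (mu m v.2.1) (mu m v.2.2)

end EF

open EF

namespace BOne

theorem e_inT_iff {v : V3} : inT v = true ↔ 2 * (mu m v.2.1 - mu m v.1) = 0 := by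
  rw [← map_sub, two_mu, mu_eq_zero]
  simp [inT]

theorem e_tt_good {v : V3} (hv : inT v = true) : Good (mu m v.1) (mu m v.2.1) (mu m v.2.2) :=
  e_good_Ttwo (four_mu m _) (e_inT_iff.1 hv) (four_mu m _)

theorem e_mem_Ttwo_tt (h : BOne S m f u w) {g : G} : g ∈ Ttwo f ↔ ∃ v : V3, inT v = true ∧ g = tt f v := by
  rw [h.e_mem_Ttwo]
  constructor
  · rintro ⟨p, q, r, h1, h2, h3, rfl⟩
    obtain ⟨i, rfl⟩ := mu_surj h1
    obtain ⟨j, rfl⟩ := mu_surj (a := q) (by linear_combination h1 + 2 * h2)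
    obtain ⟨k, rfl⟩ := mu_surj h3
    exact ⟨(i, j, k), e_inT_iff.2 h2, rfl⟩
  · rintro ⟨v, hv, rfl⟩
    exact ⟨_, _, _, four_mu m _, e_inT_iff.1 hv, four_mu m _, rfl⟩

theorem e_card_Ttwo (h : BOne S m f u w) : Nat.card (Ttwo f) = 32 := by
  let F : {v : V3 // v ∈ Finset.univ.filter fun v : V3 => inT v = true} → Ttwo f := fun v =>
    ⟨tt f v.1, h.e_mem_Ttwo_tt.2 ⟨v.1, (Finset.mem_filter.1 v.2).2, rfl⟩⟩
  have hF : Function.Bijective F := by
    constructor
    · intro a b hab
      have h1 : tt f a.1 = tt f b.1 := congrArg Subtype.val hab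
      have h2 := (h.f_eq_iff (e_tt_good (Finset.mem_filter.1 a.2).2) (e_tt_good (Finset.mem_filter.1 b.2).2)).1 h1
      apply Subtype.ext
      exact Prod.ext (mu_inj m h2.1) (Prod.ext (mu_inj m h2.2.1) (mu_inj m h2.2.2))
    · rintro ⟨g, hg⟩
      obtain ⟨v, hv, rfl⟩ := h.e_mem_Ttwo_tt.1 hg
      exact ⟨⟨v, Finset.mem_filter.2 ⟨Finset.mem_univ _, hv⟩⟩, rfl⟩
  rw [← Nat.card_eq_of_bijective F hF, Nat.card_eq_fintype_card, Fintype.card_coe]
  exact count_T

/-- Centralising a representative. -/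
theorem e_cd_of_comm (h : BOne S m f u w) {v : V3} (hv : inT v = true) {i j k : Bool}
    (hc : tt f v * rep u w i j k = rep u w i j k * tt f v) : cd i j k v = true := by
  have hg := e_tt_good (m := m) hv
  cases i <;> cases j <;> cases k
  · rfl
  · have h1 : rep u w false false true = w := by simp [rep]
    rw [h1] at hc
    obtain ⟨h2, h3⟩ := (h.f_w_comm_iff hg).1 hc
    rw [two_mu, mu_eq_zero] at h3
    have := mu_inj m h2
    simp [cd, this, h3]
  · have h1 : rep u w false true false = ub u w := by simp [rep]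
    rw [h1] at hc
    have h2 := (h.f_ub_comm_iff hg).1 hc
    rw [mu_eq_zero] at h2
    simp [cd, h2]
  · have h1 : rep u w false true true = ub u w * w := by simp [rep]
    rw [h1] at hc
    obtain ⟨h2, h3, h4⟩ := (h.f_ubw_comm_iff hg).1 hc
    rw [two_mu, mu_eq_zero] at h2
    rw [two_mu] at h4
    have h5 := mu_inj m h3
    have h6 := mu_inj m h4
    simp [cd, h2, h5, h6]
  · have h1 : rep u w true false false = u := by simp [rep]
    rw [h1] at hc
    have h2 := (h.f_u_comm_iff hg).1 hc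
    rw [mu_eq_zero] at h2
    simp [cd, h2]
  · have h1 : rep u w true false true = u * w := by simp [rep]
    rw [h1] at hc
    obtain ⟨h2, h3, h4⟩ := (h.f_uw_comm_iff hg).1 hc
    rw [two_mu, mu_eq_zero] at h2
    rw [two_mu] at h4
    have h5 := mu_inj m h3
    have h6 := mu_inj m h4
    simp [cd, h2, h5, h6]
  · have h1 : rep u w true true false = sg u w := by simp [rep, sg]
    rw [h1] at hc
    obtain ⟨h2, h3⟩ := (h.f_sg_comm_iff hg).1 hc
    rw [two_mu, mu_eq_zero] at h2
    have h5 := mu_inj m h3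
    simp [cd, h2, h5]
  · have h1 : rep u w true true true = sgw u w := by simp [rep, sgw]
    rw [h1] at hc
    obtain ⟨h2, h3⟩ := (h.f_sgw_comm_iff hg).1 hc
    rw [← map_neg] at h2
    rw [two_mu, two_mu, ← map_add, mu_eq_zero] at h3
    have h5 := mu_inj m h2
    simp [cd, h3, h5]

theorem e_card_le_filter (h : BOne S m f u w) {K : Subgroup G} (P : V3 → Prop) [DecidablePred P]
    (hK : ∀ k ∈ K, k ∈ Ttwo f ∧ ∀ v, inT v = true → k = tt f v → P v) :
    Nat.card K ≤ (Finset.univ.filter fun v : V3 => P v).card := by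
  have h1 : Nat.card K ≤ Nat.card {v : V3 // v ∈ Finset.univ.filter fun v : V3 => P v} := by
    apply card_le_of_surj (fun v => tt f v.1)
    intro k hk
    obtain ⟨h2, h3⟩ := hK k hk
    obtain ⟨v, hv, rfl⟩ := h.e_mem_Ttwo_tt.1 h2
    exact ⟨⟨v, Finset.mem_filter.2 ⟨Finset.mem_univ _, h3 v hv rfl⟩⟩, rfl⟩
  rwa [Nat.card_eq_fintype_card (α := {v : V3 // _}), Fintype.card_coe] at h1

theorem e_pi_rep' (h : BOne S m f u w) (i j k : Bool) : h.pi ⟨rep u w i j k, h.rep_mem i j k⟩ = d8 i j k := h.pi_rep i j k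

theorem e_uniq [Finite G] (h : BOne S m f u w) {F : Subgroup G} (hF : E16 S F) (D : Subgroup G)
    (hD : D ≤ S ⊓ normalizer (F : Set G)) (hDc : ∀ a ∈ D, ∀ b ∈ D, a * b = b * a)
    (hDT : Nat.card D = Nat.card (Ttwo f)) : D = Ttwo f := by
  have hDS : D ≤ S := hD.trans inf_le_left
  have hK : D ⊓ Tor f ≤ Ttwo f := by
    rw [← h.e_norm_inf_Tor hF]
    exact inf_le_inf_right _ hD
  by_cases hDle : D ≤ Tor f
  · have h1 : D ≤ Ttwo f := (le_inf le_rfl hDle).trans hK
    exact Subgroup.eq_of_le_of_card_ge h1 hDT.ge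
  exfalso
  set K := D ⊓ Tor f with hKdef
  set R := (h.e_rho hDS).range with hR
  have hcard : Nat.card D = Nat.card K * Nat.card R := h.e_card_eq hDS
  rw [hDT, h.e_card_Ttwo] at hcard
  have hRDs : R ≤ Ds := h.e_range_le_Ds hDS
  have hRcomm : ∀ σ ∈ R, ∀ τ ∈ R, σ * τ = τ * σ := by
    intro σ hσ τ hτ
    obtain ⟨x, hx, rfl⟩ := (h.e_mem_range_rho hDS).1 hσ
    obtain ⟨y, hy, rfl⟩ := (h.e_mem_range_rho hDS).1 hτ
    rw [← map_mul, ← map_mul]
    congr 1
    exact Subtype.ext (hDc x hx y hy)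
  have hcomm : ∀ i j k, d8 i j k ∈ R → ∀ x ∈ K, ∀ v, inT v = true → x = tt f v → cd i j k v = true := by
    intro i j k hijk x hx v hv hxv
    apply h.e_cd_of_comm hv
    obtain ⟨y, hy, hyd⟩ := (h.e_mem_range_rho hDS).1 hijk
    rw [← hxv]
    exact h.e_comm_of_over hx.2 (h.e_over_of_pi _ (h.rep_mem i j k) (by rw [h.e_pi_rep', hyd])) (hDc x hx.1 y hy)
  -- the range has order at most 4
  have hR4 : Nat.card R ≤ 4 := by
    have hdvd : Nat.card R ∣ 8 := by
      have := Subgroup.card_dvd_of_le hRDs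
      rwa [card_Ds] at this
    have hne : Nat.card R ≠ 8 := by
      intro h8
      have h9 : R = Ds := Subgroup.eq_of_le_of_card_ge hRDs (by rw [card_Ds, h8])
      have h10 := hRcomm (d8 true false false) (by rw [h9]; exact ⟨_, _, _, rfl⟩) (d8 false false true)
        (by rw [h9]; exact ⟨_, _, _, rfl⟩)
      revert h10
      decide
    have h11 : Nat.card R ≤ 8 := Nat.le_of_dvd (by norm_num) hdvd
    have h12 : Nat.card R ∈ Nat.divisors 8 := by simp [hdvd]
    have h13 : Nat.divisors 8 = {1, 2, 4, 8} := by decide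
    rw [h13] at h12
    simp only [Finset.mem_insert, Finset.mem_singleton] at h12
    omega
  -- a nontrivial element
  obtain ⟨x, hxD, hxT⟩ := SetLike.not_le_iff_exists.1 hDle
  obtain ⟨i, j, k, hijk⟩ := h.e_exists_d8 ⟨x, hDS hxD⟩
  have hxR : d8 i j k ∈ R := (h.e_mem_range_rho hDS).2 ⟨x, hxD, hijk⟩
  have hnt : i = true ∨ j = true ∨ k = true := by
    by_contra hcon
    push Not at hcon
    obtain ⟨h1, h2, h3⟩ := hcon
    simp only [ne_eq, Bool.not_eq_true] at h1 h2 h3
    subst h1 h2 h3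
    exact hxT ((h.e_mem_Tor_iff_pi (hDS hxD)).2 hijk)
  have hK8 : Nat.card K ≤ 8 := by
    refine (h.e_card_le_filter (fun v => inT v = true ∧ cd i j k v = true) ?_).trans (count_one i j k hnt)
    intro y hy
    exact ⟨hK hy, fun v hv hyv => ⟨hv, hcomm i j k hxR y hy v hv hyv⟩⟩
  by_cases hall : ∀ τ ∈ R, τ = 1 ∨ τ = d8 i j k
  · have hR2 : Nat.card R ≤ 2 := by
      have h1 : Nat.card R ≤ Nat.card Bool := card_le_of_surj (fun b : Bool => if b then d8 i j k else 1)
        (fun τ hτ => by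
          rcases hall τ hτ with rfl | rfl
          · exact ⟨false, by simp⟩
          · exact ⟨true, by simp⟩)
      have h2 : Nat.card Bool = 2 := by simp
      exact h1.trans h2.le
    nlinarith
  · push Not at hall
    obtain ⟨τ, hτ, hτ1, hτ2⟩ := hall
    obtain ⟨i', j', k', rfl⟩ := hRDs hτ
    have hnt' : i' = true ∨ j' = true ∨ k' = true := by
      by_contra hcon
      push Not at hcon
      obtain ⟨h1, h2, h3⟩ := hcon
      simp only [ne_eq, Bool.not_eq_true] at h1 h2 h3
      subst h1 h2 h3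
      exact hτ1 (by decide)
    have hne : i ≠ i' ∨ j ≠ j' ∨ k ≠ k' := by
      by_contra hcon
      push Not at hcon
      obtain ⟨rfl, rfl, rfl⟩ := hcon
      exact hτ2 rfl
    have hK4 : Nat.card K ≤ 4 := by
      refine (h.e_card_le_filter (fun v => inT v = true ∧ cd i j k v = true ∧ cd i' j' k' v = true) ?_).trans
        (count_two i j k hnt i' j' k' hnt' hne)
      intro y hy
      exact ⟨hK hy, fun v hv hyv => ⟨hv, hcomm i j k hxR y hy v hv hyv, hcomm i' j' k' hτ y hy v hv hyv⟩⟩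
    nlinarith

end BOne

end Cfsg.Agent.LFourB
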