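import Cfsg.Agent.LFourB.EFactF

/-!
# The facts `SF` for a 2-group of type `PSL 4 q`, `q = 1 mod 8`
-/

set_option autoImplicit false

namespace Cfsg.Agent.LFourB

open Subgroup FusA

variable {G : Type*} [Group G] {S : Subgroup G} {m : ℕ} {f : R m → R m → R m → G} {u w : G}

open EF

namespace BOne

theorem e_N_mul (p : R m) : (par m p = 0 → N m * p = 0) ∧ (par m p ≠ 0 → N m * p = N m) := by
  constructor
  · intro hp
    obtain ⟨c, rfl⟩ := par_eq_zero_iff.1 hp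
    linear_combination c * two_mul_N (m := m)
  · intro hp
    have h1 : par m (p - 1) = 0 := by
      rw [map_sub, map_one]
      have h2 : ∀ a : ZMod 2, a ≠ 0 → a - 1 = 0 := by decide
      exact h2 _ hp
    obtain ⟨c, hc⟩ := par_eq_zero_iff.1 h1
    have h3 : p = 1 + 2 * c := by linear_combination hc
    rw [h3]
    linear_combination c * two_mul_N (m := m)

theorem e_Z2_char (h : BOne S m f u w) : ∀ a, (∃ t ∈ Tor f, t ^ (2 ^ (m + 2)) = a) ↔ Z2 (z1 f) (z2 f) a := by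
  have hN : ((2 ^ (m + 2) : ℕ) : R m) = N m := rfl
  intro a
  constructor
  · rintro ⟨t, ht, rfl⟩
    obtain ⟨p, q, r, hg, rfl⟩ := h.mem_Tor.1 ht
    rw [h.f_pow hg, h.e_Z2_iff (hg.pow _), hN]
    have hpar : par m p = par m q := by
      obtain ⟨c, hc⟩ := hg
      have h1 : p - q = 2 * (2 * c - r - q) := by linear_combination hc
      have h2 : par m (p - q) = 0 := par_eq_zero_iff.2 ⟨_, h1⟩
      rw [map_sub, sub_eq_zero] at h2
      exact h2
    refine ⟨?_, by linear_combination p * two_mul_N (m := m), by linear_combination r * two_mul_N (m := m)⟩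
    by_cases hp : par m p = 0
    · rw [(e_N_mul p).1 hp, (e_N_mul q).1 (by rw [← hpar]; exact hp)]
    · rw [(e_N_mul p).2 hp, (e_N_mul q).2 (by rw [← hpar]; exact hp)]
  · rintro (rfl | rfl | rfl | rfl)
    · exact ⟨1, one_mem _, one_pow _⟩
    · have hg : Good (2 : R m) 0 1 := ⟨1, by ring⟩
      refine ⟨f 2 0 1, h.f_mem_Tor hg, ?_⟩
      rw [h.f_pow hg, hN, z1]
      congr 1
      · linear_combination two_mul_N (m := m)
      · ring
      · ring
    · have hg : Good (1 : R m) (-1) 0 := ⟨0, by ring⟩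
      refine ⟨f 1 (-1) 0, h.f_mem_Tor hg, ?_⟩
      rw [h.f_pow hg, hN, z2]
      congr 1
      · ring
      · linear_combination neg_N (m := m)
      · ring
    · have hg : Good (1 : R m) 1 1 := ⟨1, by ring⟩
      refine ⟨f 1 1 1, h.f_mem_Tor hg, ?_⟩
      rw [h.f_pow hg, hN, h.e_z3_eq, z3]
      congr 1
      · ring
      · ring
      · ring

theorem e_T_inv (h : BOne S m f u w) : ∀ a ∈ Tor f, a * a = 1 → Z2 (z1 f) (z2 f) a ∨ ∃ i, a = X f i := by
  intro a ha haa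
  obtain ⟨p, q, r, hg, rfl⟩ := h.mem_Tor.1 ha
  obtain ⟨h1, h2, h3⟩ := (h.e_sq_f_iff hg).1 haa
  rw [h.e_Z2_iff hg]
  rcases eq_of_two_mul h1 with rfl | rfl <;> rcases eq_of_two_mul h2 with rfl | rfl <;>
    rcases eq_of_two_mul h3 with rfl | rfl
  · left; exact ⟨rfl, h1, h3⟩
  · left; exact ⟨rfl, h1, h3⟩
  · right; exact ⟨2, rfl⟩
  · right; exact ⟨3, rfl⟩
  · right; exact ⟨0, rfl⟩
  · right; exact ⟨1, rfl⟩
  · left; exact ⟨rfl, h1, h3⟩
  · left; exact ⟨rfl, h1, h3⟩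

theorem e_X_sq (h : BOne S m f u w) : ∀ i, X f i * X f i = 1 := by
  intro i
  fin_cases i
  · exact (h.e_sq_f_iff goodx1).2 ⟨two_mul_N, by ring, by ring⟩
  · exact (h.e_sq_f_iff goodx2).2 ⟨two_mul_N, by ring, two_mul_N⟩
  · exact (h.e_sq_f_iff goodx3).2 ⟨by ring, two_mul_N, by ring⟩
  · exact (h.e_sq_f_iff goodx4).2 ⟨by ring, two_mul_N, two_mul_N⟩

theorem e_X_not (h : BOne S m f u w) : ∀ i, ¬ Z2 (z1 f) (z2 f) (X f i) := by
  have hN : N m ≠ 0 := N_ne_zero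
  intro i hi
  fin_cases i
  · exact hN ((h.e_Z2_iff goodx1).1 hi).1
  · exact hN ((h.e_Z2_iff goodx2).1 hi).1
  · exact hN ((h.e_Z2_iff goodx3).1 hi).1.symm
  · exact hN ((h.e_Z2_iff goodx4).1 hi).1.symm

/-- The facts about `S` used in Steps 1, 3, 4. -/
theorem sf [Finite G] (h : BOne S m f u w)
    (hmax : ∀ D : Subgroup G, D ≤ S → (∀ a ∈ D, ∀ b ∈ D, a * b = b * a) → Nat.card D = Nat.card (Tor f) → D = Tor f) :
    SF S (Tor f) (Ttwo f) (Tor f ⊔ zpowers (sg u w)) (TVp f u w) (z1 f) (z2 f) (X f) where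
  T_le := h.Tor_le
  T_comm := fun a ha b hb => h.Tor_comm ha hb
  S_norm := h.e_S_norm
  T_max := hmax
  z_mem := h.e_z1_mem_T
  z'_mem := h.f_mem_Tor good2
  z_sq := (h.e_sq_f_iff good1).2 ⟨by ring, by ring, two_mul_N⟩
  z'_sq := (h.e_sq_f_iff good2).2 ⟨two_mul_N, two_mul_N, by ring⟩
  z_ne := fun e => N_ne_zero ((h.f_eq_one_iff good1).1 e).2.2
  z'_ne := fun e => N_ne_zero ((h.f_eq_one_iff good2).1 e).1
  z'_ne_z := fun e => N_ne_zero ((h.f_eq_iff good2 good1).1 e).1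
  z_cent := h.e_z_cent
  swap := ⟨u, h.u_mem, by
    rw [h.e_z3_eq, z2, z3, h.u_f _ _ _ good2, mul_inv_cancel_right, neg_N, zero_add]⟩
  Z2_char := ⟨2 ^ (m + 2), h.e_Z2_char⟩
  X_mem := h.X_mem
  X_sq := h.e_X_sq
  X_not := h.e_X_not
  X_inj := h.X_injective
  X01 := by
    change x1 f * x2 f = z1 f
    rw [x1, x2, z1, h.f_mul _ _ _ _ _ _ goodx1 goodx2, N_add_N]
    simp
  X23 := by
    change x3 f * x4 f = z1 f
    rw [x3, x4, z1, h.f_mul _ _ _ _ _ _ goodx3 goodx4, N_add_N]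
    simp
  X02 := by
    change x1 f * x3 f = z2 f
    rw [x1, x3, z2, h.f_mul _ _ _ _ _ _ goodx1 goodx3]
    simp
  T_inv := h.e_T_inv
  tau := ⟨u, h.u_mem, h.conj_X_u 0, h.conj_X_u 1, h.conj_X_u 2, h.conj_X_u 3⟩
  sg' := ⟨w, h.w_mem, h.conj_X_w 0, h.conj_X_w 1, h.conj_X_w 2, h.conj_X_w 3⟩
  cent_X := fun s hs hc => h.mem_Tor_of_comm hs hc
  TT_le := h.e_Ttwo_le
  J_le := by
    intro g hg
    rcases h.e_mem_J.1 hg with hg' | hg'
    · exact (le_sup_left : Tor f ≤ TVp f u w) hg'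
    · have hS := h.e_mem_S_of_Ov h.sg_mem hg'
      refine h.e_mem_TVp_of_pi hS (i := true) (j := true) ?_
      rw [h.e_pi_of_Ov h.sg_mem hS hg', h.e_pi_sg]
  T_le_J := le_sup_left
  S0_le := fun g hg => (h.e_TVp_pi hg).1
  e_z := fun F hF => (h.e16_struct hF).1 _ (Z2_z _ _)
  e_z' := fun F hF => (h.e16_struct hF).1 _ (Z2_z' _ _)
  e_T := fun F hF => (h.e16_struct hF).2.1
  e_card := ⟨Nat.card (Ttwo f) * 8, fun F hF => h.e_card hF⟩
  e_TT := fun F hF => h.e_TT hF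
  e_uniq := fun F hF D hD hDc hDT => h.e_uniq hF D hD hDc hDT
  e_tr := fun F hF => h.e_tr hF
  e_J := fun F hF => h.e_J hF
  e_S0 := fun F hF => h.e_S0 hF
  e_k := fun F hF => h.e_k hF
  e_ker := fun F hF => h.e_ker hF

end BOne

end Cfsg.Agent.LFourB
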