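import Cfsg.Agent.LFourB.Abel

/-!
# Involutions of a 2-group of type `PSL 4 q`, `q = 1 mod 8`; abelian subgroups; weak closure of the torus
-/

set_option autoImplicit false

namespace Cfsg.Agent.LFourB

variable {G : Type*} [Group G] {S : Subgroup G} {m : ℕ} {f : R m → R m → R m → G} {u w : G}

theorem exists_two_mul_or {m : ℕ} (a : R m) : ∃ b, a = 2 * b ∨ a = 2 * b + 1 := by
  have h1 : par m a = 0 ∨ par m a = 1 := by
    generalize par m a = x
    revert x
    decide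
  rcases h1 with h1 | h1
  · obtain ⟨c, hc⟩ := par_eq_zero_iff.mp h1
    exact ⟨c, Or.inl hc⟩
  · have h2 : par m (a - 1) = 0 := by rw [map_sub, h1, map_one, sub_self]
    obtain ⟨c, hc⟩ := par_eq_zero_iff.mp h2
    exact ⟨c, Or.inr (by linear_combination hc)⟩

namespace BOne

/-! ### Involutions -/

/-- `t = f p q r`: the square of `t u`. -/
theorem sq_u (h : BOne S m f u w) {p q r : R m} (hg : Good p q r) :
    f p q r * u * (f p q r * u) = f 0 (2 * q) (2 * r + p) := by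
  have h1 : f p q r * u * (f p q r * u) = f p q r * (u * f p q r) * u := by group
  rw [h1, h.u_f _ _ _ hg]
  have h2 : f p q r * (f (-p) q (r + p) * u) * u = f p q r * f (-p) q (r + p) * (u * u) := by group
  rw [h2, h.u_u, mul_one, h.f_mul _ _ _ _ _ _ hg hg.actu]
  congr 1 <;> ring

theorem sq_sg (h : BOne S m f u w) {p q r : R m} (hg : Good p q r) :
    f p q r * sg u w * (f p q r * sg u w) = f 0 0 (2 * r + p - q) := by
  have h1 : f p q r * sg u w * (f p q r * sg u w) = f p q r * (sg u w * f p q r) * sg u w := by group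
  rw [h1, h.sg_f hg]
  have h2 : f p q r * (f (-p) (-q) (r + p - q) * sg u w) * sg u w =
    f p q r * f (-p) (-q) (r + p - q) * (sg u w * sg u w) := by group
  rw [h2, h.sg_mul_sg, mul_one, h.f_mul _ _ _ _ _ _ hg hg.actsg]
  congr 1 <;> ring

theorem sq_w (h : BOne S m f u w) {p q r : R m} (hg : Good p q r) :
    f p q r * w * (f p q r * w) = f (p + q) (p + q) 0 := by
  have h1 : f p q r * w * (f p q r * w) = f p q r * (w * f p q r) * w := by group
  rw [h1, h.w_f _ _ _ hg]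
  have h2 : f p q r * (f q p (-r) * w) * w = f p q r * f q p (-r) * (w * w) := by group
  rw [h2, h.w_w, mul_one, h.f_mul _ _ _ _ _ _ hg hg.actw]
  congr 1 <;> ring

theorem sq_sgw (h : BOne S m f u w) {p q r : R m} (hg : Good p q r) :
    f p q r * sgw u w * (f p q r * sgw u w) = f (p - q) (q - p) (q - p) := by
  have h1 : f p q r * sgw u w * (f p q r * sgw u w) = f p q r * (sgw u w * f p q r) * sgw u w := by group
  rw [h1, h.sgw_f hg]
  have h2 : f p q r * (f (-q) (-p) (-r + q - p) * sgw u w) * sgw u w =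
    f p q r * f (-q) (-p) (-r + q - p) * (sgw u w * sgw u w) := by group
  rw [h2, h.sgw_mul_sgw, mul_one, h.f_mul _ _ _ _ _ _ hg hg.actsgw]
  congr 1 <;> ring

/-- Conjugates of `s * u` under the torus. -/
theorem conj_u (h : BOne S m f u w) {p q r p' q' r' : R m} (hg : Good p q r) (hg' : Good p' q' r') :
    f p' q' r' * (f p q r * u) * (f p' q' r')⁻¹ = f (p + 2 * p') q (r - p') * u := by
  rw [mul_inv_eq_iff_eq_mul]
  have h1 : f (p + 2 * p') q (r - p') * u * f p' q' r' = f (p + 2 * p') q (r - p') * (u * f p' q' r') := by group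
  have hg2 : Good (p + 2 * p') q (r - p') := by
    obtain ⟨c, hc⟩ := hg
    exact ⟨c, by linear_combination hc⟩
  rw [h1, h.u_f _ _ _ hg', ← mul_assoc, ← mul_assoc, h.f_mul _ _ _ _ _ _ hg' hg,
    h.f_mul _ _ _ _ _ _ hg2 hg'.actu]
  congr 2 <;> ring

theorem conj_sg (h : BOne S m f u w) {p q r p' q' r' : R m} (hg : Good p q r) (hg' : Good p' q' r') :
    f p' q' r' * (f p q r * sg u w) * (f p' q' r')⁻¹ = f (p + 2 * p') (q + 2 * q') (r + q' - p') * sg u w := by
  rw [mul_inv_eq_iff_eq_mul]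
  have h1 : f (p + 2 * p') (q + 2 * q') (r + q' - p') * sg u w * f p' q' r' =
    f (p + 2 * p') (q + 2 * q') (r + q' - p') * (sg u w * f p' q' r') := by group
  have hg2 : Good (p + 2 * p') (q + 2 * q') (r + q' - p') := by
    obtain ⟨c, hc⟩ := hg
    exact ⟨c + q', by linear_combination hc⟩
  rw [h1, h.sg_f hg', ← mul_assoc, ← mul_assoc, h.f_mul _ _ _ _ _ _ hg' hg,
    h.f_mul _ _ _ _ _ _ hg2 hg'.actsg]
  congr 2 <;> ring

theorem conj_w (h : BOne S m f u w) {p q r p' q' r' : R m} (hg : Good p q r) (hg' : Good p' q' r') :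
    f p' q' r' * (f p q r * w) * (f p' q' r')⁻¹ = f (p + p' - q') (q + q' - p') (r + 2 * r') * w := by
  rw [mul_inv_eq_iff_eq_mul]
  have h1 : f (p + p' - q') (q + q' - p') (r + 2 * r') * w * f p' q' r' =
    f (p + p' - q') (q + q' - p') (r + 2 * r') * (w * f p' q' r') := by group
  have hg2 : Good (p + p' - q') (q + q' - p') (r + 2 * r') := by
    obtain ⟨c, hc⟩ := hg
    exact ⟨c + r', by linear_combination hc⟩
  rw [h1, h.w_f _ _ _ hg', ← mul_assoc, ← mul_assoc, h.f_mul _ _ _ _ _ _ hg' hg,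
    h.f_mul _ _ _ _ _ _ hg2 hg'.actw]
  congr 2 <;> ring

theorem conj_sgw (h : BOne S m f u w) {p q r p' q' r' : R m} (hg : Good p q r) (hg' : Good p' q' r') :
    f p' q' r' * (f p q r * sgw u w) * (f p' q' r')⁻¹ =
      f (p + p' + q') (q + p' + q') (r + 2 * r' + p' - q') * sgw u w := by
  rw [mul_inv_eq_iff_eq_mul]
  have h1 : f (p + p' + q') (q + p' + q') (r + 2 * r' + p' - q') * sgw u w * f p' q' r' =
    f (p + p' + q') (q + p' + q') (r + 2 * r' + p' - q') * (sgw u w * f p' q' r') := by group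
  have hg2 : Good (p + p' + q') (q + p' + q') (r + 2 * r' + p' - q') := by
    obtain ⟨c, hc⟩ := hg
    exact ⟨c + p' + r', by linear_combination hc⟩
  rw [h1, h.sgw_f hg', ← mul_assoc, ← mul_assoc, h.f_mul _ _ _ _ _ _ hg' hg,
    h.f_mul _ _ _ _ _ _ hg2 hg'.actsgw]
  congr 2 <;> ring

theorem good_a (a : R m) : Good a (-a) 0 := ⟨0, by ring⟩

theorem inv_over_u (h : BOne S m f u w) {p q r : R m} (hg : Good p q r) (hi : f p q r * u * (f p q r * u) = 1) :
    p = -(2 * r) ∧ (q = 0 ∨ q = N m) := by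
  rw [h.sq_u hg, h.f_eq_one_iff] at hi
  · exact ⟨by linear_combination hi.2.2, eq_of_two_mul hi.2.1⟩
  · obtain ⟨c, hc⟩ := hg
    exact ⟨2 * c, by linear_combination 2 * hc⟩

/-- Involutions over `u`. -/
theorem exists_conj_u (h : BOne S m f u w) {t : G} (ht : t ∈ Tor f) (hi : t * u * (t * u) = 1) :
    ∃ s ∈ Tor f, t * u = s * u * s⁻¹ ∨ t * u = s * (x4 f * u) * s⁻¹ := by
  obtain ⟨p, q, r, hg, rfl⟩ := h.mem_Tor.mp ht
  obtain ⟨rfl, rfl | rfl⟩ := h.inv_over_u hg hi
  · refine ⟨_, h.f_mem_Tor (good_a (-r)), Or.inl ?_⟩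
    have h1 := h.conj_u Good.zero (good_a (-r))
    rw [h.f_zero, one_mul] at h1
    rw [h1]
    congr 2 <;> ring
  · refine ⟨_, h.f_mem_Tor (good_a (-(r + N m))), Or.inr ?_⟩
    rw [x4, h.conj_u goodx4 (good_a (-(r + N m)))]
    congr 2
    · linear_combination two_mul_N (m := m)
    · linear_combination -two_mul_N (m := m)

theorem inv_over_sg (h : BOne S m f u w) {p q r : R m} (hg : Good p q r)
    (hi : f p q r * sg u w * (f p q r * sg u w) = 1) : ∃ a b, p = 2 * a ∧ q = 2 * b ∧ r = b - a := by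
  obtain ⟨c, hc⟩ := hg
  rw [h.sq_sg ⟨c, hc⟩, h.f_eq_one_iff] at hi
  · obtain ⟨-, -, h3⟩ := hi
    have hq : par m q = 0 := even_of_two_mul (c := c) (by linear_combination hc - h3)
    obtain ⟨b, rfl⟩ := par_eq_zero_iff.mp hq
    have h4 : 2 * (r - b + (b - r)) = 0 := by ring
    -- p = q - 2 r = 2 (b - r)
    exact ⟨b - r, b, by linear_combination h3, rfl, by ring⟩
  · exact ⟨2 * c - q, by linear_combination 2 * hc⟩

theorem inv_over_w (h : BOne S m f u w) {p q r : R m} (hg : Good p q r)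
    (hi : f p q r * w * (f p q r * w) = 1) : q = -p ∧ ∃ c, r = 2 * c := by
  obtain ⟨c, hc⟩ := hg
  rw [h.sq_w ⟨c, hc⟩, h.f_eq_one_iff] at hi
  · obtain ⟨h1, -, -⟩ := hi
    refine ⟨by linear_combination h1, ?_⟩
    rw [← par_eq_zero_iff]
    exact even_of_two_mul (c := c) (by linear_combination hc - h1)
  · exact ⟨2 * c - r, by linear_combination 2 * hc⟩

theorem inv_over_sgw (h : BOne S m f u w) {p q r : R m} (hg : Good p q r)
    (hi : f p q r * sgw u w * (f p q r * sgw u w) = 1) : q = p ∧ ∃ c, r = p + 2 * c := by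
  obtain ⟨c, hc⟩ := hg
  rw [h.sq_sgw ⟨c, hc⟩, h.f_eq_one_iff] at hi
  · obtain ⟨h1, -, -⟩ := hi
    have h2 : q = p := by linear_combination -h1
    refine ⟨h2, ?_⟩
    have h3 : par m (r + p) = 0 := even_of_two_mul (c := c) (by linear_combination hc + h1)
    obtain ⟨e, he⟩ := par_eq_zero_iff.mp h3
    exact ⟨e - p, by linear_combination he⟩
  · exact ⟨2 * c - r - p, by linear_combination 2 * hc⟩

theorem goodsg1 : Good (2 : R m) 0 (-1) := ⟨0, by ring⟩
theorem goodw1 : Good (1 : R m) (-1) 0 := ⟨0, by ring⟩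

/-- Involutions over `sg`. -/
theorem exists_conj_sg (h : BOne S m f u w) {t : G} (ht : t ∈ Tor f) (hi : t * sg u w * (t * sg u w) = 1) :
    ∃ s ∈ Tor f, t * sg u w = s * sg u w * s⁻¹ ∨ t * sg u w = s * (f 2 0 (-1) * sg u w) * s⁻¹ := by
  obtain ⟨p, q, r, hg, rfl⟩ := h.mem_Tor.mp ht
  obtain ⟨a, b, rfl, rfl, rfl⟩ := h.inv_over_sg hg hi
  obtain ⟨c, hc | hc⟩ := exists_two_mul_or (a + b)
  · have hgs : Good a b (-c) := ⟨0, by linear_combination hc⟩
    refine ⟨_, h.f_mem_Tor hgs, Or.inl ?_⟩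
    have h1 := h.conj_sg Good.zero hgs
    rw [h.f_zero, one_mul] at h1
    rw [h1]
    congr 2 <;> ring
  · have hgs : Good (a - 1) b (-c) := ⟨0, by linear_combination hc⟩
    refine ⟨_, h.f_mem_Tor hgs, Or.inr ?_⟩
    rw [h.conj_sg goodsg1 hgs]
    congr 2 <;> ring

/-- Involutions over `w`. -/
theorem exists_conj_w (h : BOne S m f u w) {t : G} (ht : t ∈ Tor f) (hi : t * w * (t * w) = 1) :
    ∃ s ∈ Tor f, t * w = s * w * s⁻¹ ∨ t * w = s * (f 1 (-1) 0 * w) * s⁻¹ := by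
  obtain ⟨p, q, r, hg, rfl⟩ := h.mem_Tor.mp ht
  obtain ⟨rfl, c, rfl⟩ := h.inv_over_w hg hi
  obtain ⟨a, rfl | rfl⟩ := exists_two_mul_or p
  · have hgs : Good (a - c) (-a - c) c := ⟨0, by ring⟩
    refine ⟨_, h.f_mem_Tor hgs, Or.inl ?_⟩
    have h1 := h.conj_w Good.zero hgs
    rw [h.f_zero, one_mul] at h1
    rw [h1]
    congr 2 <;> ring
  · have hgs : Good (a - c) (-a - c) c := ⟨0, by ring⟩
    refine ⟨_, h.f_mem_Tor hgs, Or.inr ?_⟩
    rw [h.conj_w goodw1 hgs]
    congr 2 <;> ring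

theorem u_sgw_u (h : BOne S m f u w) : u * sgw u w * u⁻¹ = w := by
  rw [h.u_inv]
  have h1 : sgw u w = sg u w * w := rfl
  rw [h1, ← mul_assoc, h.u_mul_sg, mul_assoc, h.w_mul_u, ← mul_assoc, h.ub_mul_ub, one_mul]

theorem u_w_u (h : BOne S m f u w) : u * w * u⁻¹ = sgw u w := by
  rw [h.u_inv, mul_assoc, h.w_mul_u, ← mul_assoc]
  rfl

/-- Involutions of `S` over `V#` are conjugate to one of four. -/
theorem exists_conj_overV (h : BOne S m f u w) {g : G} (hg : OverV f u w g) (hi : g * g = 1) :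
    ∃ s ∈ S, g = s * sg u w * s⁻¹ ∨ g = s * (f 2 0 (-1) * sg u w) * s⁻¹ ∨ g = s * w * s⁻¹ ∨
      g = s * (f 1 (-1) 0 * w) * s⁻¹ := by
  obtain ⟨t, ht, rfl | rfl | rfl⟩ := hg
  · obtain ⟨s, hs, h1 | h1⟩ := h.exists_conj_sg ht hi
    · exact ⟨s, h.Tor_le hs, Or.inl h1⟩
    · exact ⟨s, h.Tor_le hs, Or.inr (Or.inl h1)⟩
  · obtain ⟨s, hs, h1 | h1⟩ := h.exists_conj_w ht hi
    · exact ⟨s, h.Tor_le hs, Or.inr (Or.inr (Or.inl h1))⟩
    · exact ⟨s, h.Tor_le hs, Or.inr (Or.inr (Or.inr h1))⟩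
  · obtain ⟨p, q, r, hgd, rfl⟩ := h.mem_Tor.mp ht
    -- conjugate by `u`
    have e1 : u * (f p q r * sgw u w) * u⁻¹ = f (-p) q (r + p) * w := by
      have : u * (f p q r * sgw u w) * u⁻¹ = (u * f p q r * u⁻¹) * (u * sgw u w * u⁻¹) := by group
      rw [this, h.u_sgw_u, h.u_f _ _ _ hgd, mul_inv_cancel_right]
    have e2 : f (-p) q (r + p) * w * (f (-p) q (r + p) * w) = 1 := by
      rw [← e1]
      have : u * (f p q r * sgw u w) * u⁻¹ * (u * (f p q r * sgw u w) * u⁻¹) =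
        u * (f p q r * sgw u w * (f p q r * sgw u w)) * u⁻¹ := by group
      rw [this, hi, mul_one, mul_inv_cancel]
    obtain ⟨s, hs, h1 | h1⟩ := h.exists_conj_w (h.f_mem_Tor hgd.actu) e2
    · refine ⟨u⁻¹ * s, S.mul_mem (S.inv_mem h.u_mem) (h.Tor_le hs), Or.inr (Or.inr (Or.inl ?_))⟩
      have : f p q r * sgw u w = u⁻¹ * (u * (f p q r * sgw u w) * u⁻¹) * u := by group
      rw [this, e1, h1]
      group
    · refine ⟨u⁻¹ * s, S.mul_mem (S.inv_mem h.u_mem) (h.Tor_le hs), Or.inr (Or.inr (Or.inr ?_))⟩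
      have : f p q r * sgw u w = u⁻¹ * (u * (f p q r * sgw u w) * u⁻¹) * u := by group
      rw [this, e1, h1]
      group

/-- Involutions of `S` over `u` or `ub` are conjugate to `u` or `x4 u`. -/
theorem exists_conj_overU (h : BOne S m f u w) {g : G} (hg : OverU f u w g) (hi : g * g = 1) :
    ∃ s ∈ S, g = s * u * s⁻¹ ∨ g = s * (x4 f * u) * s⁻¹ := by
  obtain ⟨t, ht, rfl | rfl⟩ := hg
  · obtain ⟨s, hs, h1⟩ := h.exists_conj_u ht hi
    exact ⟨s, h.Tor_le hs, h1⟩
  · obtain ⟨p, q, r, hgd, rfl⟩ := h.mem_Tor.mp ht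
    have e1 : w * (f p q r * ub u w) * w⁻¹ = f q p (-r) * u := by
      have : w * (f p q r * ub u w) * w⁻¹ = (w * f p q r * w⁻¹) * (w * ub u w * w⁻¹) := by group
      rw [this, h.w_mul_ub, h.w_f _ _ _ hgd, mul_inv_cancel_right, mul_inv_cancel_right]
    have e2 : f q p (-r) * u * (f q p (-r) * u) = 1 := by
      rw [← e1]
      have : w * (f p q r * ub u w) * w⁻¹ * (w * (f p q r * ub u w) * w⁻¹) =
        w * (f p q r * ub u w * (f p q r * ub u w)) * w⁻¹ := by group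
      rw [this, hi, mul_one, mul_inv_cancel]
    obtain ⟨s, hs, h1⟩ := h.exists_conj_u (h.f_mem_Tor hgd.actw) e2
    refine ⟨w⁻¹ * s, S.mul_mem (S.inv_mem h.w_mem) (h.Tor_le hs), ?_⟩
    have : f p q r * ub u w = w⁻¹ * (w * (f p q r * ub u w) * w⁻¹) * w := by group
    rw [this, e1]
    rcases h1 with h1 | h1
    · left; rw [h1]; group
    · right; rw [h1]; group

theorem one_not_overV (h : BOne S m f u w) : ¬ OverV f u w 1 := by
  have key : ∀ t ∈ Tor f, ∀ d, t * d = 1 → d ∈ Tor f := by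
    intro t ht d hd
    rw [eq_inv_of_mul_eq_one_right hd]
    exact (Tor f).inv_mem ht
  have hx := h.f_mem_Tor goodx1
  rintro ⟨t, ht, h1 | h1 | h1⟩
  · have h2 := h.Tor_comm hx (key t ht _ h1.symm)
    exact N_ne_zero ((h.f_sg_comm_iff goodx1).mp h2).2.symm
  · have h2 := h.Tor_comm hx (key t ht _ h1.symm)
    exact N_ne_zero ((h.f_w_comm_iff goodx1).mp h2).1.symm
  · have h2 := h.Tor_comm hx (key t ht _ h1.symm)
    have h3 := ((h.f_sgw_comm_iff goodx1).mp h2).1
    exact N_ne_zero (by linear_combination h3)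

theorem overV_mem (h : BOne S m f u w) {g : G} (hg : OverV f u w g) : g ∈ S := by
  obtain ⟨t, ht, rfl | rfl | rfl⟩ := hg
  · exact S.mul_mem (h.Tor_le ht) h.sg_mem
  · exact S.mul_mem (h.Tor_le ht) h.w_mem
  · exact S.mul_mem (h.Tor_le ht) h.sgw_mem

theorem overU_mem (h : BOne S m f u w) {g : G} (hg : OverU f u w g) : g ∈ S := by
  obtain ⟨t, ht, rfl | rfl⟩ := hg
  · exact S.mul_mem (h.Tor_le ht) h.u_mem
  · exact S.mul_mem (h.Tor_le ht) h.ub_mem

theorem not_overV_of_mem (h : BOne S m f u w) {g : G} (hg : g ∈ Tor f) : ¬ OverV f u w g := by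
  rintro ⟨t, ht, h1⟩
  apply h.one_not_overV
  refine ⟨g⁻¹ * t, (Tor f).mul_mem ((Tor f).inv_mem hg) ht, ?_⟩
  rcases h1 with h1 | h1 | h1
  · left; rw [mul_assoc, ← h1, inv_mul_cancel]
  · right; left; rw [mul_assoc, ← h1, inv_mul_cancel]
  · right; right; rw [mul_assoc, ← h1, inv_mul_cancel]

/-- Involutions of `S` outside the torus. -/
theorem involution_cases (h : BOne S m f u w) {g : G} (hg : g ∈ S) (hgT : g ∉ Tor f) (hi : g * g = 1) :
    OverU f u w g ∨ OverV f u w g := by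
  rcases h.trichotomy hg hgT with h1 | h1 | h1
  · exact Or.inl h1
  · exact Or.inr h1
  · rw [hi] at h1
    exact (h.one_not_overV h1).elim

/-- The involutions of the torus. -/
theorem involution_Tor (h : BOne S m f u w) {t : G} (ht : t ∈ Tor f) (hi : t * t = 1) :
    t = 1 ∨ t = z1 f ∨ t = z2 f ∨ t = z3 f ∨ t = x1 f ∨ t = x2 f ∨ t = x3 f ∨ t = x4 f := by
  obtain ⟨p, q, r, hg, rfl⟩ := h.mem_Tor.mp ht
  rw [h.f_mul _ _ _ _ _ _ hg hg, h.f_eq_one_iff (hg.add hg)] at hi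
  obtain ⟨h1, h2, h3⟩ := hi
  rcases eq_of_add_self h1 with rfl | rfl <;> rcases eq_of_add_self h2 with rfl | rfl <;>
    rcases eq_of_add_self h3 with rfl | rfl
  · left; exact h.f_zero
  · right; left; rfl
  · right; right; right; right; right; right; left; rfl
  · right; right; right; right; right; right; right; rfl
  · right; right; right; right; left; rfl
  · right; right; right; right; right; left; rfl
  · right; right; left; rfl
  · right; right; right; left; rfl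

end BOne

end Cfsg.Agent.LFourB
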