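import Cfsg.Agent.LFourB.EFactG
import Cfsg.Agent.LFourB.Weak
import Cfsg.Agent.LFourB.Invol

/-!
# Fusion in `PSL 4 q`, `q = 1 mod 8`: Steps 1, 3, 4 for `BOne`
-/

set_option autoImplicit false

namespace Cfsg.Agent.LFourB

open Subgroup FusA EF

variable {G : Type*} [Group G] {S : Subgroup G} {m : ℕ} {f : R m → R m → R m → G} {u w : G}

/-- Adjoining an involution doubles the order. -/
theorem EF.card_sup_zpowers {H : Subgroup G} {v : G} (hv : v * v = 1) (hn : ∀ b ∈ H, v * b * v ∈ H) (hvH : v ∉ H) :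
    Nat.card ↥(H ⊔ zpowers v) = 2 * Nat.card H := by
  let F : Bool × H → ↥(H ⊔ zpowers v) := fun a =>
    ⟨if a.1 then (a.2 : G) * v else a.2, (mem_sup_zpowers hv hn).2 ⟨a.2, a.2.2, by cases a.1 <;> simp⟩⟩
  have hF : Function.Bijective F := by
    constructor
    · rintro ⟨i, b⟩ ⟨j, c⟩ hab
      have h1 : (if i then (b : G) * v else b) = if j then (c : G) * v else c := congrArg Subtype.val hab
      have key : ∀ b c : H, (b : G) = (c : G) * v → False := by
        intro b c hbc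
        apply hvH
        have : v = (c : G)⁻¹ * b := by rw [hbc]; group
        rw [this]
        exact H.mul_mem (H.inv_mem c.2) b.2
      rcases i with _ | _ <;> rcases j with _ | _
      · have h2 : (b : G) = c := h1
        rw [Subtype.ext h2]
      · have h2 : (b : G) = c * v := h1
        exact (key _ _ h2).elim
      · have h2 : (b : G) * v = c := h1
        exact (key _ _ h2.symm).elim
      · have h2 : (b : G) * v = c * v := h1
        rw [Subtype.ext (mul_right_cancel h2)]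
    · rintro ⟨g, hg⟩
      obtain ⟨b, hb, hgb | hgb⟩ := (mem_sup_zpowers hv hn).1 hg
      · exact ⟨(false, ⟨b, hb⟩), Subtype.ext hgb.symm⟩
      · exact ⟨(true, ⟨b, hb⟩), Subtype.ext hgb.symm⟩
  rw [← Nat.card_eq_of_bijective F hF, Nat.card_prod]
  simp

namespace BOne

/-- The facts about `S` used in Steps 1, 3, 4. -/
theorem e_sf [Finite G] (h : BOne S m f u w) :
    SF S (Tor f) (Ttwo f) (Tor f ⊔ zpowers (sg u w)) (TVp f u w) (z1 f) (z2 f) (X f) :=
  h.sf fun D hD hab hc => h.eq_Tor hD hab (by rw [hc, h.card_Tor])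

/-- The four-group `Z2` as a subgroup. -/
def e_Zg (h : BOne S m f u w) : Subgroup G where
  carrier := {c | Z2 (z1 f) (z2 f) c}
  one_mem' := Z2_one _ _
  mul_mem' := by
    intro a b ha hb
    obtain ⟨s, hs, rfl⟩ := (h.e_Z2_char a).2 ha
    obtain ⟨t, ht, rfl⟩ := (h.e_Z2_char b).2 hb
    refine (h.e_Z2_char _).1 ⟨s * t, mul_mem hs ht, ?_⟩
    exact (show Commute s t from h.Tor_comm hs ht).mul_pow _
  inv_mem' := by
    intro a ha
    obtain ⟨s, hs, rfl⟩ := (h.e_Z2_char a).2 ha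
    exact (h.e_Z2_char _).1 ⟨s⁻¹, inv_mem hs, by rw [inv_pow]⟩

theorem e_card_Zg (h : BOne S m f u w) : Nat.card h.e_Zg = 4 := by
  let F : Bool × Bool → h.e_Zg := fun b => ⟨f (if b.1 then N m else 0) (if b.1 then N m else 0) (if b.2 then N m else 0), by
    change Z2 (z1 f) (z2 f) _
    have hN := two_mul_N (m := m)
    rw [h.e_Z2_iff (good_of_N (by cases b.1 <;> simp) (by cases b.1 <;> simp) (by
      cases b.2
      · simp
      · simp only [if_true]; linear_combination 2 * hN))]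
    refine ⟨rfl, ?_, ?_⟩
    · cases b.1
      · simp
      · simpa using hN
    · cases b.2
      · simp
      · simpa using hN⟩
  have hgd : ∀ a b : Bool, Good (if a then N m else 0) (if a then N m else 0) (if b then N m else 0) := by
    intro a b
    have hN := two_mul_N (m := m)
    refine good_of_N (by cases a <;> simp) (by cases a <;> simp) ?_
    cases b
    · simp
    · simp only [if_true]; linear_combination 2 * hN
  have hF : Function.Bijective F := by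
    constructor
    · rintro ⟨a, b⟩ ⟨a', b'⟩ hab
      have h1 := congrArg Subtype.val hab
      have h2 := (h.f_eq_iff (hgd a b) (hgd a' b')).1 h1
      obtain ⟨h3, -, h4⟩ := h2
      have hN : N m ≠ 0 := N_ne_zero
      cases a <;> cases a' <;> cases b <;> cases b' <;> simp_all
    · rintro ⟨c, hc⟩
      obtain ⟨p, r, hg, hp, hr, rfl⟩ := h.e_Z2_coord hc
      rcases eq_of_two_mul hp with rfl | rfl <;> rcases eq_of_two_mul hr with rfl | rfl
      · exact ⟨(false, false), Subtype.ext (by simp [F])⟩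
      · exact ⟨(false, true), Subtype.ext (by simp [F])⟩
      · exact ⟨(true, false), Subtype.ext (by simp [F])⟩
      · exact ⟨(true, true), Subtype.ext (by simp [F])⟩
  rw [← Nat.card_eq_of_bijective F hF]
  simp [Nat.card_eq_fintype_card]

theorem e_Zg_le (h : BOne S m f u w) : h.e_Zg ≤ Tor f := by
  intro c hc
  obtain ⟨p, r, hg, -, -, rfl⟩ := h.e_Z2_coord hc
  exact h.f_mem_Tor hg

/-- Elements over `V` centralise `Z2`. -/
theorem e_Z2_comm (h : BOne S m f u w) {c g : G} (hc : Z2 (z1 f) (z2 f) c)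
    (hg : Ov f (sg u w) g ∨ Ov f w g ∨ Ov f (sgw u w) g) : c * g = g * c := by
  obtain ⟨p, r, hgd, hp, hr, rfl⟩ := h.e_Z2_coord hc
  rcases hg with ⟨p', q', r', hgd', rfl⟩ | ⟨p', q', r', hgd', rfl⟩ | ⟨p', q', r', hgd', rfl⟩
  · exact (h.comm_mul_iff (h.f_mem_Tor hgd') (h.f_mem_Tor hgd)).2 ((h.f_sg_comm_iff hgd).2 ⟨hp, rfl⟩)
  · exact (h.comm_mul_iff (h.f_mem_Tor hgd') (h.f_mem_Tor hgd)).2 ((h.f_w_comm_iff hgd).2 ⟨rfl, hr⟩)
  · refine (h.comm_mul_iff (h.f_mem_Tor hgd') (h.f_mem_Tor hgd)).2 ((h.f_sgw_comm_iff hgd).2 ⟨?_, ?_⟩)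
    · linear_combination hp
    · linear_combination hp + hr

/-- Two commuting involutions over `sg` and `w` lie in an `E16`. -/
theorem e_exists_E16 (h : BOne S m f u w) {a b : G} (ha : Ov f (sg u w) a) (hb : Ov f w b) (haa : a * a = 1)
    (hbb : b * b = 1) (hab : a * b = b * a) : ∃ F, E16 S F ∧ a ∈ F ∧ b ∈ F := by
  have hca : ∀ c ∈ h.e_Zg, c * a = a * c := fun c hc => h.e_Z2_comm hc (Or.inl ha)
  have hcb : ∀ c ∈ h.e_Zg, c * b = b * c := fun c hc => h.e_Z2_comm hc (Or.inr (Or.inl hb))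
  have hcc : ∀ c ∈ h.e_Zg, ∀ c' ∈ h.e_Zg, c * c' = c' * c := fun c hc c' hc' =>
    h.Tor_comm (h.e_Zg_le hc) (h.e_Zg_le hc')
  have hcsq : ∀ c ∈ h.e_Zg, c * c = 1 := by
    intro c hc
    obtain ⟨p, r, hgd, hp, hr, rfl⟩ := h.e_Z2_coord hc
    exact (h.e_sq_f_iff hgd).2 ⟨hp, hp, hr⟩
  have hn1 : ∀ c ∈ h.e_Zg, a * c * a ∈ h.e_Zg := by
    intro c hc
    rw [← hca c hc, mul_assoc, haa, mul_one]
    exact hc
  have hmem1 : ∀ g, g ∈ h.e_Zg ⊔ zpowers a ↔ ∃ c ∈ h.e_Zg, g = c ∨ g = c * a := fun g => mem_sup_zpowers haa hn1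
  have hb1 : ∀ g ∈ h.e_Zg ⊔ zpowers a, g * b = b * g := by
    intro g hg
    obtain ⟨c, hc, rfl | rfl⟩ := (hmem1 g).1 hg
    · exact hcb _ hc
    · rw [mul_assoc, hab, ← mul_assoc, hcb c hc, mul_assoc]
  have hn2 : ∀ g ∈ h.e_Zg ⊔ zpowers a, b * g * b ∈ h.e_Zg ⊔ zpowers a := by
    intro g hg
    rw [← hb1 g hg, mul_assoc, hbb, mul_one]
    exact hg
  have hmem2 : ∀ g, g ∈ (h.e_Zg ⊔ zpowers a) ⊔ zpowers b ↔ ∃ c ∈ h.e_Zg ⊔ zpowers a, g = c ∨ g = c * b :=
    fun g => mem_sup_zpowers hbb hn2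
  have hsq1 : ∀ g ∈ h.e_Zg ⊔ zpowers a, g * g = 1 := by
    intro g hg
    obtain ⟨c, hc, rfl | rfl⟩ := (hmem1 g).1 hg
    · exact hcsq _ hc
    · calc c * a * (c * a) = c * (a * c) * a := by group
        _ = c * (c * a) * a := by rw [hca c hc]
        _ = (c * c) * (a * a) := by group
        _ = 1 := by rw [hcsq c hc, haa, one_mul]
  have hsq2 : ∀ g ∈ (h.e_Zg ⊔ zpowers a) ⊔ zpowers b, g * g = 1 := by
    intro g hg
    obtain ⟨c, hc, rfl | rfl⟩ := (hmem2 g).1 hg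
    · exact hsq1 _ hc
    · calc c * b * (c * b) = c * (b * c) * b := by group
        _ = c * (c * b) * b := by rw [hb1 c hc]
        _ = (c * c) * (b * b) := by group
        _ = 1 := by rw [hsq1 c hc, hbb, one_mul]
  have haZ : a ∉ h.e_Zg := fun hh => h.e_not_Tor_sg ha (h.e_Zg_le hh)
  have haS : a ∈ S := h.e_mem_S_of_Ov h.sg_mem ha
  have hbS : b ∈ S := h.e_mem_S_of_Ov h.w_mem hb
  have hbZ : b ∉ h.e_Zg ⊔ zpowers a := by
    intro hh
    obtain ⟨c, hc, h1 | h1⟩ := (hmem1 b).1 hh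
    · exact h.e_not_Tor_w hb (h1 ▸ h.e_Zg_le hc)
    · have h2 : (⟨b, hbS⟩ : S) = ⟨c, h.Tor_le (h.e_Zg_le hc)⟩ * ⟨a, haS⟩ := Subtype.ext h1
      have h3 := congrArg h.pi h2
      rw [map_mul, h.pi_Tor (h.e_Zg_le hc), one_mul, h.e_pi_of_Ov h.w_mem hbS hb, h.e_pi_of_Ov h.sg_mem haS ha,
        h.e_pi_w', h.e_pi_sg] at h3
      revert h3
      decide
  refine ⟨(h.e_Zg ⊔ zpowers a) ⊔ zpowers b, ⟨?_, ?_, hsq2⟩, ?_, ?_⟩
  · refine sup_le (sup_le (h.e_Zg_le.trans h.Tor_le) ?_) ?_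
    · rw [zpowers_le]; exact haS
    · rw [zpowers_le]; exact hbS
  · rw [EF.card_sup_zpowers hbb hn2 hbZ, EF.card_sup_zpowers haa hn1 haZ, h.e_card_Zg]
  · exact (hmem2 a).2 ⟨a, (hmem1 a).2 ⟨1, one_mem _, Or.inr (one_mul a).symm⟩, Or.inl rfl⟩
  · exact (hmem2 b).2 ⟨1, one_mem _, Or.inr (one_mul b).symm⟩

/-- **Every involution over `V` lies in an `E16`.** -/
theorem e_E16_of_overV (h : BOne S m f u w) {e : G} (he : Ov f (sg u w) e ∨ Ov f w e ∨ Ov f (sgw u w) e)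
    (hee : e * e = 1) : ∃ F, E16 S F ∧ e ∈ F := by
  have hsgw : sgw u w = sg u w * w := rfl
  rcases he with he | he | he
  · obtain ⟨p, q, r, hg, rfl⟩ := id he
    have h1 : 2 * r + p - q = 0 := (h.e_sq_sg_iff hg).1 hee
    have hgb : Good (-r) r 0 := ⟨0, by ring⟩
    have hbb := (h.e_sq_w_iff hgb).2 (by ring)
    obtain ⟨F, hF, haF, -⟩ := h.e_exists_E16 he ⟨-r, r, 0, hgb, rfl⟩ hee hbb (by
      rw [mul_assoc, ← mul_assoc (sg u w), h.sg_f hgb, mul_assoc (f (- -r) (-r) (0 + -r - r)), ← mul_assoc,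
        h.f_mul _ _ _ _ _ _ hg hgb.actsg, mul_assoc (f (-r) r 0), ← mul_assoc w, h.w_f _ _ _ hg,
        mul_assoc (f q p (-r)), ← mul_assoc (f (-r) r 0), h.f_mul _ _ _ _ _ _ hgb hg.actw, h.w_mul_sg]
      congr 2
      · linear_combination h1
      · linear_combination -h1
      · ring)
    exact ⟨F, hF, haF⟩
  · obtain ⟨p, q, r, hg, rfl⟩ := id he
    obtain rfl := (h.e_sq_w_iff hg).1 hee
    have hga : Good (2 * p) 0 (-p) := ⟨0, by ring⟩
    have haa := (h.e_sq_sg_iff hga).2 (by ring)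
    obtain ⟨F, hF, -, hbF⟩ := h.e_exists_E16 ⟨2 * p, 0, -p, hga, rfl⟩ he haa hee (by
      rw [mul_assoc, ← mul_assoc (sg u w), h.sg_f hg, mul_assoc (f (-p) (- -p) (r + p - -p)), ← mul_assoc,
        h.f_mul _ _ _ _ _ _ hga hg.actsg, mul_assoc (f p (-p) r), ← mul_assoc w, h.w_f _ _ _ hga,
        mul_assoc (f 0 (2 * p) (- -p)), ← mul_assoc (f p (-p) r), h.f_mul _ _ _ _ _ _ hg hga.actw, h.w_mul_sg]
      congr 2
      · ring
      · ring
      · ring)
    exact ⟨F, hF, hbF⟩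
  · obtain ⟨p, q, r, hg, rfl⟩ := id he
    obtain rfl := (h.e_sq_sgw_iff hg).1 hee
    have hga : Good (2 * q) 0 (-q) := ⟨0, by ring⟩
    have haa := (h.e_sq_sg_iff hga).2 (by ring)
    have hgb : Good q (-q) (r - q) := by
      obtain ⟨c, hc⟩ := hg
      exact ⟨c - q, by linear_combination hc⟩
    have hbb := (h.e_sq_w_iff hgb).2 rfl
    have hsw : sg u w * sgw u w = w := by rw [hsgw, ← mul_assoc, h.sg_mul_sg, one_mul]
    have hae : f (2 * q) 0 (-q) * sg u w * (f q q r * sgw u w) = f q (-q) (r - q) * w := by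
      rw [mul_assoc, ← mul_assoc (sg u w), h.sg_f hg, mul_assoc (f (-q) (-q) (r + q - q)), hsw, ← mul_assoc,
        h.f_mul _ _ _ _ _ _ hga hg.actsg]
      congr 2 <;> ring
    obtain ⟨F, hF, haF, hbF⟩ := h.e_exists_E16 ⟨2 * q, 0, -q, hga, rfl⟩ ⟨q, -q, r - q, hgb, rfl⟩ haa hbb (by
      rw [mul_assoc, ← mul_assoc (sg u w), h.sg_f hgb, mul_assoc (f (-q) (- -q) (r - q + q - -q)), ← mul_assoc,
        h.f_mul _ _ _ _ _ _ hga hgb.actsg, mul_assoc (f q (-q) (r - q)), ← mul_assoc w, h.w_f _ _ _ hga,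
        mul_assoc (f 0 (2 * q) (- -q)), ← mul_assoc (f q (-q) (r - q)), h.f_mul _ _ _ _ _ _ hgb hga.actw, h.w_mul_sg]
      congr 2
      · ring
      · ring
      · ring)
    refine ⟨F, hF, ?_⟩
    rw [← hae] at hbF
    exact (F.mul_mem_cancel_left haF).1 hbF

/-- `OverV` in the present notation. -/
theorem e_overV (h : BOne S m f u w) {g : G} (hg : OverV f u w g) :
    Ov f (sg u w) g ∨ Ov f w g ∨ Ov f (sgw u w) g := by
  obtain ⟨t, ht, hgt⟩ := hg
  obtain ⟨p, q, r, hgd, rfl⟩ := h.mem_Tor.1 ht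
  rcases hgt with rfl | rfl | rfl
  · exact Or.inl ⟨p, q, r, hgd, rfl⟩
  · exact Or.inr (Or.inl ⟨p, q, r, hgd, rfl⟩)
  · exact Or.inr (Or.inr ⟨p, q, r, hgd, rfl⟩)

/-- Involutions of `S` outside `T V'` lie in an `E16`. -/
theorem e_E16_of_not_mem (h : BOne S m f u w) : ∀ e ∈ S, e * e = 1 → e ∉ TVp f u w → ∃ F, E16 S F ∧ e ∈ F := by
  intro e he hee heS
  have hT : e ∉ Tor f := fun hh => heS ((le_sup_left : Tor f ≤ TVp f u w) hh)
  rcases h.involution_cases he hT hee with h1 | h1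
  · exfalso
    apply heS
    obtain ⟨t, ht, h2⟩ := h1
    have hle : Tor f ≤ TVp f u w := le_sup_left
    have hu : u ∈ TVp f u w := (le_sup_right : _ ≤ TVp f u w) (Subgroup.subset_closure (by simp))
    have hub : ub u w ∈ TVp f u w := (le_sup_right : _ ≤ TVp f u w) (Subgroup.subset_closure (by simp))
    rcases h2 with rfl | rfl
    · exact mul_mem (hle ht) hu
    · exact mul_mem (hle ht) hub
  · exact h.e_E16_of_overV (h.e_overV h1) hee

end BOne

end Cfsg.Agent.LFourB
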