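import Cfsg.Agent.LFourB.EightInst
import Cfsg.Agent.LFourB.MSevenFf

/-!
# Type B5, cases (a1), (b1): the end, from the fusion theorem
-/

set_option autoImplicit false
set_option linter.unusedSectionVars false

namespace Cfsg.Agent.LFourB.EightFus

open Subgroup Cfsg K4 M7 MSevenFa MSevenFb MSevenFc MSevenFd MSevenFf MQ StepEight EightInst
open Cfsg.Agent.SignalizersComponents.RelSylow
open Cfsg.Agent.SylowL5.Weak

universe u

variable {G : Type u} [Group G] [Finite G] {S : Sylow 2 G} {φ : M7 →* G}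

/-- the hypothesis of Step 8 -/
theorem eight (F : Fus S φ)
    (hCZ : ∀ c ∈ centralizer ({φ z} : Set G), ∃ o ∈ centralizerPPrimeCore 2 (φ z),
      ∃ n ∈ normalizer (V1.map φ : Set G), c = o * n) :
    Eight S (V1.map φ) (V2.map φ) (Z.map φ) (φ z) := by
  obtain ⟨σ, hσ⟩ := F.exists_sigma
  exact EightInst.eight F.emb hσ ⟨F.all1 ze (by decide) (by decide), F.all1 x1 (by decide) (by decide),
    F.all1 x2 (by decide) (by decide)⟩ hCZ

theorem dich (F : Fus S φ) :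
    (∀ b ∈ V2.map φ, b ≠ 1 → ∃ g ∈ normalizer (V2.map φ : Set G), g * b * g⁻¹ = φ z) ∨
      (∀ b ∈ V2.map φ, IsConj (φ z) b → b ∈ V1.map φ) := by
  rcases F.dich with h1 | ⟨h1, -⟩
  · left
    rintro _ ⟨x, hx, rfl⟩ hx1
    obtain ⟨n, hn, e⟩ := h1 x hx (fun h0 => hx1 (by rw [h0, map_one]))
    refine ⟨n⁻¹, inv_mem (cj_eq_iff.1 hn), ?_⟩
    rw [← e]; group
  · right
    rintro _ ⟨x, hx, rfl⟩ hc
    obtain ⟨g, hg⟩ := isConj_iff.1 hc
    exact F.emb.mem_map.2 (EightInst.Z_le_V1 (h1 g x hx hg))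

/-- **cases (a1) and (b1)** -/
theorem mathieu [IsSimpleGroup G] (F : Fus S φ)
    (hCZ : ∀ c ∈ centralizer ({φ z} : Set G), ∃ o ∈ centralizerPPrimeCore 2 (φ z),
      ∃ n ∈ normalizer (V1.map φ : Set G), c = o * n)
    (hodd : OddSolv G) (hgen : Gen G) (hben : Bender G) (htim : Timm G) :
    Cfsg.IsM22 G ∨ Cfsg.IsM23 G :=
  (eight F hCZ).mathieu hodd hgen hben htim (dich F)

end Cfsg.Agent.LFourB.EightFus
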