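import Cfsg.Agent.LFourB.MSevenFc
import Cfsg.Agent.SylowL5.Act

/-!
# The element `τ` of the centralizer of `Z`

If `ze`, `x1` and `x2` are fused in `C(z) ∩ N(V1)` there is an element `τ` of odd order in `C(Z) ∩ N(V1) ∩ N(V2)` that moves
`x1 Z` (and then also `y1 Z`).
-/

set_option autoImplicit false

namespace Cfsg.Agent.LFourB.MSevenFd

open K4 M7 MSevenFa MSevenFb MSevenFc
open Subgroup
open Cfsg.Agent.SignalizersComponents.RelSylow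
open Cfsg.Agent.SylowL5.Weak

section General

variable {G : Type*} [Group G] [Finite G]

/-- Frattini argument -/
theorem frattini {C K R : Subgroup G} (hR : IsMaxP 2 K R) (hn : ∀ c ∈ C, ∀ k ∈ K, c * k * c⁻¹ ∈ K) {t : G}
    (ht : t ∈ C) : ∃ k ∈ K, cj (k * t) R = R := by
  have f2 : Fact (Nat.Prime 2) := ⟨Nat.prime_two⟩
  have h1 : cj t R ≤ K := by
    rw [cj_le_iff]
    exact fun x hx => hn t ht x (hR.2.1 hx)
  obtain ⟨k, hk, hkR⟩ := hR.exists_conj_le (isPGroup_cj (g := t) hR.1) h1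
  refine ⟨k, hk, ?_⟩
  rw [cj_mul]
  exact cj_eq_of_le hkR (by rw [card_cj])

omit [Finite G] in
theorem cj_pow {A : Subgroup G} {t : G} (h : cj t A = A) (n : ℕ) : cj (t ^ n) A = A := by
  induction n with
  | zero => rw [pow_zero, cj_one]
  | succ n ih => rw [pow_succ', cj_mul, ih, h]

/-- a power of `t` in `t R` of odd order -/
theorem exists_odd {M R : Subgroup G} (hR : IsMaxP 2 M R) {t : G} (ht : t ∈ M) (htR : cj t R = R) :
    ∃ r ∈ R, ∃ n : ℕ, t ^ n = t * r ∧ Odd (orderOf (t ^ n)) := by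
  obtain ⟨m, k, hm, hk⟩ := MSevenFa.exists_odd_pow t
  have h1 : t ^ m ∈ R := mem_of_norm hR (M.pow_mem ht m) (cj_pow htR m) hk
  obtain ⟨s, r, hsr⟩ : ∃ s r : ℕ, 2 ^ k * s = 1 + m * r := by
    rcases Nat.lt_or_ge 1 m with h2 | h2
    · have hc : Nat.Coprime (2 ^ k) m := Nat.Coprime.pow_left _ (Nat.coprime_two_left.2 hm)
      obtain ⟨s, hs⟩ := Nat.exists_mul_mod_eq_one_of_coprime hc h2
      have h3 := Nat.div_add_mod (2 ^ k * s) m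
      exact ⟨s, 2 ^ k * s / m, by omega⟩
    · have h3 : m = 1 := by
        obtain ⟨j, hj⟩ := hm
        omega
      subst h3
      refine ⟨1, 2 ^ k - 1, ?_⟩
      have := Nat.one_le_two_pow (n := k)
      omega
  refine ⟨(t ^ m) ^ r, R.pow_mem h1 r, 2 ^ k * s, ?_, ?_⟩
  · rw [hsr, pow_add, pow_one, pow_mul]
  · have h2 : (t ^ (2 ^ k * s)) ^ m = 1 := by
      rw [← pow_mul, show 2 ^ k * s * m = m * 2 ^ k * s by ring, pow_mul, pow_mul, hk, one_pow]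
    exact Odd.of_dvd_nat hm (orderOf_dvd_of_pow_eq_one h2)

end General

/-! ### Facts on `M7` -/

/-- `V1 ⊓ Q`, of order 8 -/
def W1 : Subgroup M7 := V1 ⊓ Q

instance : DecidablePred (· ∈ W1) := fun x => inferInstanceAs (Decidable (x ∈ V1 ∧ x ∈ Q))

theorem W1_conj : ∀ g : M7, ∀ x ∈ W1, g * x * g⁻¹ ∈ W1 := by decide +kernel

theorem W1_cases : ∀ x ∈ W1, x = 1 ∨ x = z ∨ x = ze ∨ x = ze * z ∨ x = x1 ∨ x = x1 * z ∨ x = x1 * ze ∨
    x = x1 * ze * z := by decide +kernel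

theorem mul_mem_W1 : ∀ x ∈ V1, ∀ y ∈ V1, x ∉ W1 → y ∉ W1 → x * y ∈ W1 := by decide +kernel

theorem pr_of_not_mem_W1 : ∀ x ∈ V1, x ∉ W1 → pr x.a = false := by decide +kernel

theorem comm_Z : ∀ x ∈ V1, ∀ y ∈ V2, x * y * x⁻¹ * y⁻¹ ∈ Z := by decide +kernel

theorem comm_S0 : ∀ x ∈ V1, ∀ y ∈ S0, y * x * y⁻¹ * x⁻¹ ∈ Z := by decide +kernel

theorem Z_cases : ∀ x ∈ Z, x = 1 ∨ x = z ∨ x = ze ∨ x = ze * z := by decide +kernel

theorem exists_y : ∀ x ∈ V1, x ∉ Z → ∃ y ∈ V2, y * x * y⁻¹ = x * ze := by decide +kernel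

theorem mul_Z_a : ∀ x ∈ V1, ∀ c ∈ Z, (x * c).a = x.a ∧ x * c ∈ V1 := by decide +kernel

theorem comm_z_b : ∀ x ∈ V1, ∀ y ∈ V2, pr x.a = false → x * y * x⁻¹ * y⁻¹ = z → pr y.b = false := by
  decide +kernel

theorem conj_x1 : ∀ y ∈ S0, y * x1 * y⁻¹ * x1⁻¹ ∈ Z := by decide +kernel

theorem exists_conj_W1 : ∀ x ∈ W1, x ≠ 1 → x ≠ z →
    (∃ g : M7, g * ze * g⁻¹ = x) ∨ (∃ g : M7, g * x1 * g⁻¹ = x) := by decide +kernel

theorem exists_conj_x2 : ∀ x ∈ V1, pr x.a = false → ∃ g : M7, g * x * g⁻¹ = x2 := by decide +kernel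

/-! ### In the group -/

variable {G : Type*} [Group G] {S : Sylow 2 G} {φ : M7 →* G}

/-- the element `τ` -/
def Tau (φ : M7 →* G) : Prop :=
  ∃ t : G, t * φ z = φ z * t ∧ t * φ ze = φ ze * t ∧ cj t (V1.map φ) = V1.map φ ∧ cj t (V2.map φ) = V2.map φ ∧
    Odd (orderOf t) ∧ (∃ m ∈ V1, pr m.a = false ∧ t * φ x1 * t⁻¹ = φ m) ∧
    ∃ m ∈ V2, pr m.b = false ∧ t * φ y1 * t⁻¹ = φ m

theorem swap_a (m : M7) : (swap m).a = m.b := rfl
theorem swap_b (m : M7) : (swap m).b = m.a := rfl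

theorem Tau.swap (h : Tau φ) : Tau (φ.comp swap.toMonoidHom) := by
  obtain ⟨t, h1, h2, h3, h4, h5, ⟨m, hm1, hm2, hm3⟩, ⟨n, hn1, hn2, hn3⟩⟩ := h
  refine ⟨t, h1, h2, ?_, ?_, h5, ⟨M7.swap n, (swap_mem_V1 n).2 hn1, hn2, ?_⟩, ⟨M7.swap m, (swap_mem_V2 m).2 hm1, hm2, ?_⟩⟩
  · rw [Emb7.V1_comp_swap]; exact h4
  · rw [Emb7.V2_comp_swap]; exact h3
  · show t * φ (M7.swap x1) * t⁻¹ = φ (M7.swap (M7.swap n))
    rw [swap_swap]; exact hn3
  · show t * φ (M7.swap y1) * t⁻¹ = φ (M7.swap (M7.swap m))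
    rw [swap_swap]; exact hm3

theorem conj_mul' (n a b : G) : n * (a * b) * n⁻¹ = n * a * n⁻¹ * (n * b * n⁻¹) := by group

theorem mem_of_cj {A : Subgroup G} {n x : G} (hn : cj n A = A) (hx : x ∈ A) : n * x * n⁻¹ ∈ A := by
  rw [← hn]; exact conj_mem_cj hx

theorem cj_inv' {A : Subgroup G} {n : G} (hn : cj n A = A) : cj n⁻¹ A = A := by
  conv_lhs => rw [← hn]
  rw [cj_inv_cj]

variable [Finite G]

/-- if `ze ~ x1` in `C(z) ∩ N(V1)` then `C(z) ∩ N(V1) ∩ N(W1)` is transitive on `W1 \ <z>` -/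
theorem W_trans (h : Emb7 (S : Subgroup G) φ) (hq : Orb (centralizer {φ z}) φ ze x1) {x : M7} (hx : x ∈ W1)
    (hx1 : x ≠ 1) (hxz : x ≠ z) : ∃ u ∈ centralizer {φ z}, cj u (V1.map φ) = V1.map φ ∧
      cj u (W1.map φ) = W1.map φ ∧ u * φ ze * u⁻¹ = φ x := by
  obtain ⟨g, hg, hgV, hgz⟩ := hq
  have hgz' := mem_centralizer_singleton_iff.1 hg
  -- the inverse image of `ze`
  obtain ⟨m, hm, hmg⟩ : g⁻¹ * φ ze * g⁻¹⁻¹ ∈ V1.map φ := mem_of_cj (cj_inv' hgV) (h.mem_map.2 (by decide))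
  have hmg' : g * φ m * g⁻¹ = φ ze := by rw [hmg]; group
  have hmZ : m ∉ Z := by
    intro hmZ
    rcases Z_cases m hmZ with rfl | rfl | rfl | rfl
    · rw [map_one] at hmg'
      have h1 : φ ze = φ 1 := by rw [← hmg', map_one]; group
      exact absurd (h.inj h1) (by decide)
    · rw [hgz', mul_inv_cancel_right] at hmg'
      exact absurd (h.inj hmg') (by decide)
    · rw [hgz] at hmg'
      exact absurd (h.inj hmg') (by decide)
    · rw [map_mul, conj_mul', hgz, hgz', mul_inv_cancel_right, ← map_mul] at hmg'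
      exact absurd (h.inj hmg') (by decide)
  obtain ⟨y, hy, hym⟩ := exists_y m hm hmZ
  -- `u = g y g⁻¹`
  have hu1 : g * φ y * g⁻¹ ∈ centralizer {φ z} :=
    mul_mem (mul_mem hg (S_le_H h (h.mem y))) (inv_mem hg)
  have hu2 : cj (g * φ y * g⁻¹) (V1.map φ) = V1.map φ := by
    rw [cj_mul, cj_mul, cj_inv' hgV, cj_eq_iff.2 (norm_of h V1_conj (h.mem y)), hgV]
  have hu3 : g * φ y * g⁻¹ * φ ze * (g * φ y * g⁻¹)⁻¹ = φ (ze * x1) := by
    rw [← hmg']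
    have e1 : φ y * φ m * (φ y)⁻¹ = φ m * φ ze := by rw [← map_mul, ← map_inv, ← map_mul, hym, map_mul]
    calc g * φ y * g⁻¹ * (g * φ m * g⁻¹) * (g * φ y * g⁻¹)⁻¹ = g * (φ y * φ m * (φ y)⁻¹) * g⁻¹ := by group
      _ = g * φ m * g⁻¹ * (g * φ ze * g⁻¹) := by rw [e1]; group
      _ = φ (ze * x1) := by rw [hmg', hgz, map_mul]
  -- `u` acts trivially on `V1 / <z, x1>`
  have hu4 : ∀ v ∈ V1.map φ, ∃ c ∈ Z, g * φ y * g⁻¹ * v * (g * φ y * g⁻¹)⁻¹ * v⁻¹ = g * φ c * g⁻¹ := by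
    intro v hv
    obtain ⟨k, hk, hkg⟩ : g⁻¹ * v * g⁻¹⁻¹ ∈ V1.map φ := mem_of_cj (cj_inv' hgV) hv
    refine ⟨y * k * y⁻¹ * k⁻¹, comm_S0 k hk y (V2_le_S0 hy), ?_⟩
    simp only [map_mul, map_inv]
    rw [hkg]
    group
  have hZW : ∀ c ∈ Z, g * φ c * g⁻¹ ∈ W1.map φ := by
    intro c hc
    have ez : g * φ z * g⁻¹ = φ z := by rw [hgz', mul_inv_cancel_right]
    rcases Z_cases c hc with rfl | rfl | rfl | rfl
    · rw [map_one, mul_one, mul_inv_cancel]; exact one_mem _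
    · rw [ez]; exact h.mem_map.2 (by decide)
    · rw [hgz]; exact h.mem_map.2 (by decide)
    · rw [map_mul, conj_mul', hgz, ez, ← map_mul]; exact h.mem_map.2 (by decide)
  have hW1V1 : W1 ≤ V1 := inf_le_left
  have hu5 : cj (g * φ y * g⁻¹) (W1.map φ) = W1.map φ := by
    refine cj_eq_of_le (cj_le_iff.2 fun v hv => ?_) le_rfl
    obtain ⟨c, hc, hcv⟩ := hu4 v (map_mono hW1V1 hv)
    have h1 := mul_mem (hZW c hc) hv
    rw [← hcv] at h1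
    simpa using h1
  have hW : ∀ s ∈ (S : Subgroup G), cj s (W1.map φ) = W1.map φ := fun s hs => cj_eq_iff.2 (norm_of h W1_conj hs)
  have hV : ∀ s ∈ (S : Subgroup G), cj s (V1.map φ) = V1.map φ := fun s hs => cj_eq_iff.2 (norm_of h V1_conj hs)
  rcases exists_conj_W1 x hx hx1 hxz with ⟨s, hs⟩ | ⟨s, hs⟩
  · refine ⟨φ s, S_le_H h (h.mem s), hV _ (h.mem s), hW _ (h.mem s), ?_⟩
    rw [← map_mul, ← map_inv, ← map_mul, hs]
  · obtain ⟨s', hs'⟩ : ∃ s' : M7, s' * (ze * x1) * s'⁻¹ = x1 := by decide +kernel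
    refine ⟨φ (s * s') * (g * φ y * g⁻¹), mul_mem (S_le_H h (h.mem _)) hu1, ?_, ?_, ?_⟩
    · rw [cj_mul, hu2, hV _ (h.mem _)]
    · rw [cj_mul, hu5, hW _ (h.mem _)]
    · rw [← hs, ← hs']
      calc φ (s * s') * (g * φ y * g⁻¹) * φ ze * (φ (s * s') * (g * φ y * g⁻¹))⁻¹
          = φ (s * s') * (g * φ y * g⁻¹ * φ ze * (g * φ y * g⁻¹)⁻¹) * (φ (s * s'))⁻¹ := by group
        _ = _ := by
            rw [hu3]
            simp only [map_mul, map_inv]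
            group

/-- an element of `C(Z) ∩ N(V1)` moving `x1 Z`. -/
theorem exists_t (h : Emb7 (S : Subgroup G) φ) (hp : Orb (centralizer {φ z}) φ ze x2) :
    ∃ t : G, t * φ z = φ z * t ∧ t * φ ze = φ ze * t ∧ cj t (V1.map φ) = V1.map φ ∧
      ∃ m ∈ V1, pr m.a = false ∧ t * φ x1 * t⁻¹ = φ m := by
  have hq : Orb (centralizer {φ z}) φ ze x1 := orb_ze h (S_le_H h) le_rfl hp
  obtain ⟨n, hn, hnV, hnz⟩ := hp
  have hnz' := mem_centralizer_singleton_iff.1 hn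
  have ez : n * φ z * n⁻¹ = φ z := by rw [hnz', mul_inv_cancel_right]
  -- a point of `W1` and of its image
  obtain ⟨x, hx, hx1, hxz, y, hy, hxy⟩ : ∃ x ∈ W1, x ≠ 1 ∧ x ≠ z ∧ ∃ y ∈ W1, n * φ x * n⁻¹ = φ y := by
    obtain ⟨y, hy, hyn⟩ : n * φ x1 * n⁻¹ ∈ V1.map φ := mem_of_cj hnV (h.mem_map.2 (by decide))
    by_cases h1 : y ∈ W1
    · exact ⟨x1, by decide, by decide, by decide, y, h1, hyn.symm⟩
    · refine ⟨x1 * ze, by decide, by decide, by decide, y * x2, mul_mem_W1 y hy x2 (by decide) h1 (by decide), ?_⟩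
      rw [map_mul, conj_mul', hnz, ← hyn, map_mul]
  have hy1 : y ≠ 1 := by
    rintro rfl
    apply hx1
    apply h.inj
    have h2 : φ x = n⁻¹ * (n * φ x * n⁻¹) * n := by group
    rw [h2, hxy, map_one]; group
  have hyz : y ≠ z := by
    rintro rfl
    apply hxz
    apply h.inj
    rw [← ez] at hxy
    exact mul_left_cancel (mul_right_cancel hxy)
  obtain ⟨u, hu, huV, huW, hux⟩ := W_trans h hq hx hx1 hxz
  obtain ⟨v, hv, hvV, hvW, hvy⟩ := W_trans h hq hy hy1 hyz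
  have hvy' : v⁻¹ * φ y * v = φ ze := by rw [← hvy]; group
  have ht1 : v⁻¹ * n * u ∈ centralizer {φ z} := mul_mem (mul_mem (inv_mem hv) hn) hu
  have ht2 : v⁻¹ * n * u * φ ze * (v⁻¹ * n * u)⁻¹ = φ ze := by
    calc v⁻¹ * n * u * φ ze * (v⁻¹ * n * u)⁻¹ = v⁻¹ * (n * (u * φ ze * u⁻¹) * n⁻¹) * v := by group
      _ = φ ze := by rw [hux, hxy, hvy']
  have ht3 : cj (v⁻¹ * n * u) (V1.map φ) = V1.map φ := by
    rw [cj_mul, cj_mul, huV, hnV, cj_inv' hvV]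
  have htz := mem_centralizer_singleton_iff.1 ht1
  have htze : v⁻¹ * n * u * φ ze = φ ze * (v⁻¹ * n * u) := by
    calc v⁻¹ * n * u * φ ze = v⁻¹ * n * u * φ ze * (v⁻¹ * n * u)⁻¹ * (v⁻¹ * n * u) := by group
      _ = _ := by rw [ht2]
  refine ⟨v⁻¹ * n * u, htz, htze, ht3, ?_⟩
  obtain ⟨m, hm, hmt⟩ : v⁻¹ * n * u * φ x1 * (v⁻¹ * n * u)⁻¹ ∈ V1.map φ :=
    mem_of_cj ht3 (h.mem_map.2 (by decide))
  refine ⟨m, hm, pr_of_not_mem_W1 m hm ?_, hmt.symm⟩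
  intro hmW
  -- otherwise `W1` is normalised
  have ez' : v⁻¹ * n * u * φ z * (v⁻¹ * n * u)⁻¹ = φ z := by rw [htz, mul_inv_cancel_right]
  have h1 : cj (v⁻¹ * n * u) (W1.map φ) = W1.map φ := by
    refine cj_eq_of_le (cj_le_iff.2 ?_) le_rfl
    rintro _ ⟨k, hk, rfl⟩
    have e1 : ∀ a b : M7, v⁻¹ * n * u * φ a * (v⁻¹ * n * u)⁻¹ ∈ W1.map φ →
        v⁻¹ * n * u * φ b * (v⁻¹ * n * u)⁻¹ ∈ W1.map φ →
        v⁻¹ * n * u * φ (a * b) * (v⁻¹ * n * u)⁻¹ ∈ W1.map φ := by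
      intro a b ha hb
      rw [map_mul, conj_mul']
      exact mul_mem ha hb
    have i1 : v⁻¹ * n * u * φ z * (v⁻¹ * n * u)⁻¹ ∈ W1.map φ := by rw [ez']; exact h.mem_map.2 (by decide)
    have i2 : v⁻¹ * n * u * φ ze * (v⁻¹ * n * u)⁻¹ ∈ W1.map φ := by rw [ht2]; exact h.mem_map.2 (by decide)
    have i3 : v⁻¹ * n * u * φ x1 * (v⁻¹ * n * u)⁻¹ ∈ W1.map φ := by rw [← hmt]; exact h.mem_map.2 hmW
    rcases W1_cases k hk with rfl | rfl | rfl | rfl | rfl | rfl | rfl | rfl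
    · rw [map_one, mul_one, mul_inv_cancel]; exact one_mem _
    · exact i1
    · exact i2
    · exact e1 _ _ i2 i1
    · exact i3
    · exact e1 _ _ i3 i1
    · exact e1 _ _ i3 i2
    · exact e1 _ _ (e1 _ _ i3 i2) i1
  have h2 : cj n (W1.map φ) = W1.map φ := by
    have h3 : n = v * (v⁻¹ * n * u) * u⁻¹ := by group
    rw [h3, cj_mul, cj_mul, cj_inv' huW, h1, hvW]
  have h3 : φ x2 ∈ W1.map φ := by
    rw [← hnz]
    exact mem_of_cj h2 (h.mem_map.2 (by decide))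
  exact absurd (h.mem_map.1 h3) (by decide)

/-- `C(Z) ∩ N(V1)` -/
def MM (φ : M7 →* G) : Subgroup G := centralizer {φ z} ⊓ centralizer {φ ze} ⊓ normalizer (V1.map φ : Set G)

omit [Finite G] in
theorem mem_MM {g : G} : g ∈ MM φ ↔ g * φ z = φ z * g ∧ g * φ ze = φ ze * g ∧ cj g (V1.map φ) = V1.map φ := by
  unfold MM
  rw [Subgroup.mem_inf, Subgroup.mem_inf, mem_centralizer_singleton_iff, mem_centralizer_singleton_iff, cj_eq_iff, and_assoc]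

/-- the kernel of `MM` on `V1 / Z` -/
def KK (φ : M7 →* G) : Subgroup G where
  carrier := {g | g ∈ MM φ ∧ ∀ x ∈ V1.map φ, g * x * g⁻¹ * x⁻¹ ∈ Z.map φ}
  one_mem' := ⟨one_mem _, fun x _ => by simp⟩
  mul_mem' := by
    rintro a b ⟨ha, ha'⟩ ⟨hb, hb'⟩
    refine ⟨mul_mem ha hb, fun x hx => ?_⟩
    have h1 := mem_of_cj (mem_MM.1 hb).2.2 hx
    have h2 := mul_mem (ha' _ h1) (hb' x hx)
    have h3 : a * b * x * (a * b)⁻¹ * x⁻¹ = a * (b * x * b⁻¹) * a⁻¹ * (b * x * b⁻¹)⁻¹ * (b * x * b⁻¹ * x⁻¹) := by group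
    rw [h3]
    exact h2
  inv_mem' := by
    rintro a ⟨ha, ha'⟩
    refine ⟨inv_mem ha, fun x hx => ?_⟩
    have h1 := mem_of_cj (cj_inv' (mem_MM.1 ha).2.2) hx
    have h2 := inv_mem (ha' _ h1)
    have h3 : a⁻¹ * x * a⁻¹⁻¹ * x⁻¹ = (a * (a⁻¹ * x * a⁻¹⁻¹) * a⁻¹ * (a⁻¹ * x * a⁻¹⁻¹)⁻¹)⁻¹ := by group
    rw [h3]
    exact h2

omit [Finite G] in
theorem comm_Z_of_MM {g c : G} (hg : g ∈ MM φ) (hc : c ∈ Z.map φ) : g * c * g⁻¹ = c := by
  obtain ⟨h1, h2, _⟩ := mem_MM.1 hg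
  have e1 : g * φ z * g⁻¹ = φ z := by rw [h1, mul_inv_cancel_right]
  have e2 : g * φ ze * g⁻¹ = φ ze := by rw [h2, mul_inv_cancel_right]
  obtain ⟨k, hk, rfl⟩ := hc
  rcases Z_cases k hk with rfl | rfl | rfl | rfl
  · rw [map_one]; group
  · exact e1
  · exact e2
  · rw [map_mul, conj_mul', e1, e2]

omit [Finite G] in
theorem KK_normal : ∀ c ∈ MM φ, ∀ k ∈ KK φ, c * k * c⁻¹ ∈ KK φ := by
  rintro c hc k ⟨hk, hk'⟩
  refine ⟨mul_mem (mul_mem hc hk) (inv_mem hc), fun x hx => ?_⟩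
  have h1 := mem_of_cj (cj_inv' (mem_MM.1 hc).2.2) hx
  have h2 := hk' _ h1
  have h3 : c * k * c⁻¹ * x * (c * k * c⁻¹)⁻¹ * x⁻¹ = c * (k * (c⁻¹ * x * c⁻¹⁻¹) * k⁻¹ * (c⁻¹ * x * c⁻¹⁻¹)⁻¹) * c⁻¹ := by
    group
  rw [h3, comm_Z_of_MM hc h2]
  exact h2

theorem S0_comm : ∀ x ∈ S0, x * z = z * x ∧ x * ze = ze * x := by decide +kernel

omit [Finite G] in
theorem S0_le_KK (h : Emb7 (S : Subgroup G) φ) : S0.map φ ≤ KK φ := by
  rintro _ ⟨s, hs, rfl⟩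
  refine ⟨mem_MM.2 ⟨?_, ?_, ?_⟩, ?_⟩
  · rw [← map_mul, (S0_comm s hs).1, map_mul]
  · rw [← map_mul, (S0_comm s hs).2, map_mul]
  · exact cj_eq_iff.2 (norm_of h V1_conj (h.mem s))
  · rintro _ ⟨x, hx, rfl⟩
    rw [← map_mul, ← map_inv, ← map_mul, ← map_inv, ← map_mul]
    exact h.mem_map.2 (comm_S0 x hx s hs)

/-- `S0` is a Sylow 2-subgroup of `MM` -/
theorem isMaxP_MM (h : Emb7 (S : Subgroup G) φ) : IsMaxP 2 (MM φ) (S0.map φ) := by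
  -- `MM` is normal in `N = C(z) ∩ N(Z) ∩ N(V1)`
  let N : Subgroup G := centralizer {φ z} ⊓ normalizer (Z.map φ : Set G) ⊓ normalizer (V1.map φ : Set G)
  have hSN : (S : Subgroup G) ≤ N := le_inf (le_inf (S_le_H h) (norm_of h Z_conj)) (norm_of h V1_conj)
  have hMN : MM φ ≤ N := by
    intro g hg
    refine ⟨⟨hg.1.1, ?_⟩, hg.2⟩
    show g ∈ normalizer (Z.map φ : Set G)
    rw [← cj_eq_iff]
    refine cj_eq_of_le (cj_le_iff.2 fun x hx => ?_) le_rfl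
    rw [comm_Z_of_MM hg hx]
    exact hx
  have hn : ∀ n ∈ N, ∀ l ∈ MM φ, n * l * n⁻¹ ∈ MM φ := by
    intro n hn l hl
    have hn1 : cj n (Z.map φ) = Z.map φ := cj_eq_iff.2 hn.1.2
    have hn2 : cj n (V1.map φ) = V1.map φ := cj_eq_iff.2 hn.2
    have key : ∀ c ∈ Z.map φ, n * l * n⁻¹ * c = c * (n * l * n⁻¹) := by
      intro c hc
      have h1 := comm_Z_of_MM hl (mem_of_cj (cj_inv' hn1) hc)
      calc n * l * n⁻¹ * c = n * (l * (n⁻¹ * c * n⁻¹⁻¹) * l⁻¹) * n⁻¹ * (n * l * n⁻¹) := by group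
        _ = c * (n * l * n⁻¹) := by rw [h1]; group
    refine mem_MM.2 ⟨key _ (h.mem_map.2 (by decide)), key _ (h.mem_map.2 (by decide)), ?_⟩
    rw [cj_mul, cj_mul, cj_inv' hn2, (mem_MM.1 hl).2.2, hn2]
  have h1 := Cfsg.Agent.SylowL5.Act.isMaxP_inter (isMaxP_of_le S hSN) hMN hn
  have h2 : (S : Subgroup G) ⊓ MM φ = S0.map φ := by
    apply le_antisymm
    · rintro _ ⟨hs, hm⟩
      obtain ⟨s, rfl⟩ := h.exists_eq hs
      rw [h.mem_map, ← cent_ze]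
      apply h.inj
      rw [map_mul, map_mul]
      exact (mem_MM.1 hm).2.1
    · exact le_inf (h.map_le _) (fun x hx => (S0_le_KK h hx).1)
  rwa [h2] at h1

/-- the element `τ` from an element of `C(Z) ∩ N(V1)` moving `x1 Z`. -/
theorem tau_of_t (h : Emb7 (S : Subgroup G) φ) {t : G} (ht1 : t * φ z = φ z * t) (ht2 : t * φ ze = φ ze * t)
    (ht3 : cj t (V1.map φ) = V1.map φ) {m : M7} (hm : m ∈ V1) (hma : pr m.a = false)
    (htm : t * φ x1 * t⁻¹ = φ m) : Tau φ := by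
  have hR := isMaxP_MM h
  have hK : IsMaxP 2 (KK φ) (S0.map φ) := IsMaxP.mono' hR (S0_le_KK h) (fun x hx => hx.1)
  have htM : t ∈ MM φ := mem_MM.2 ⟨ht1, ht2, ht3⟩
  obtain ⟨k, hk, hkt⟩ := frattini hK KK_normal htM
  have hkM : k * t ∈ MM φ := mul_mem hk.1 htM
  obtain ⟨r, hr, n, hn, hodd⟩ := exists_odd hR hkM hkt
  obtain ⟨r', hr', rfl⟩ := hr
  -- the conjugate of `x1`
  obtain ⟨c, hc, hck⟩ : k * φ m * k⁻¹ * (φ m)⁻¹ ∈ Z.map φ := hk.2 _ (h.mem_map.2 hm)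
  have e1 : k * t * φ x1 * (k * t)⁻¹ = φ (m * c) := by
    calc k * t * φ x1 * (k * t)⁻¹ = k * (t * φ x1 * t⁻¹) * k⁻¹ := by group
      _ = k * φ m * k⁻¹ * (φ m)⁻¹ * φ m := by rw [htm]; group
      _ = φ (c * m) := by rw [← hck, map_mul]
      _ = φ (m * c) := by
        congr 1
        exact V1_comm c (by
          have : ∀ x ∈ Z, x ∈ V1 := by decide +kernel
          exact this c hc) m hm
  have hd := conj_x1 r' hr'
  have e2 : φ r' * φ x1 * (φ r')⁻¹ = φ x1 * φ (r' * x1 * r'⁻¹ * x1⁻¹) := by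
    simp only [map_mul, map_inv]
    have h2 : φ r' * φ x1 * (φ r')⁻¹ ∈ V1.map φ := by
      rw [← map_mul, ← map_inv, ← map_mul]
      exact h.mem_map.2 (V1_conj r' x1 (by decide))
    have h3 := comm_map V1_comm _ h2 (φ x1) (h.mem_map.2 (by decide))
    rw [← mul_assoc, ← h3]; group
  have hτM : (k * t) ^ n ∈ MM φ := pow_mem hkM n
  have e3 : (k * t) ^ n * φ x1 * ((k * t) ^ n)⁻¹ = φ (m * (c * (r' * x1 * r'⁻¹ * x1⁻¹))) := by
    rw [hn]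
    calc k * t * φ r' * φ x1 * (k * t * φ r')⁻¹ = k * t * (φ r' * φ x1 * (φ r')⁻¹) * (k * t)⁻¹ := by group
      _ = k * t * φ x1 * (k * t)⁻¹ * (k * t * φ (r' * x1 * r'⁻¹ * x1⁻¹) * (k * t)⁻¹) := by rw [e2]; group
      _ = _ := by rw [e1, comm_Z_of_MM hkM (h.mem_map.2 hd), ← map_mul, mul_assoc]
  obtain ⟨f1, f2⟩ := mul_Z_a m hm (c * (r' * x1 * r'⁻¹ * x1⁻¹)) (mul_mem hc hd)
  have hτR : cj ((k * t) ^ n) (S0.map φ) ≤ (S : Subgroup G) := by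
    rw [cj_pow hkt]; exact h.map_le _
  have hV2 : cj ((k * t) ^ n) (V2.map φ) = V2.map φ := cj_V2_of_le h V2_le_S0 hτR
  have hτ := mem_MM.1 hτM
  obtain ⟨m2, hm2, hm2t⟩ : (k * t) ^ n * φ y1 * ((k * t) ^ n)⁻¹ ∈ V2.map φ :=
    mem_of_cj hV2 (h.mem_map.2 (by decide))
  refine ⟨(k * t) ^ n, hτ.1, hτ.2.1, hτ.2.2, hV2, hodd, ⟨_, f2, by rw [f1]; exact hma, e3⟩, ⟨m2, hm2, ?_, hm2t.symm⟩⟩
  have e4 : (k * t) ^ n * φ z * ((k * t) ^ n)⁻¹ = φ z := by rw [hτ.1, mul_inv_cancel_right]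
  rw [show φ z = φ (x1 * y1 * x1⁻¹ * y1⁻¹) by congr 1] at e4
  have e5 : (k * t) ^ n * φ (x1 * y1 * x1⁻¹ * y1⁻¹) * ((k * t) ^ n)⁻¹ =
      ((k * t) ^ n * φ x1 * ((k * t) ^ n)⁻¹) * ((k * t) ^ n * φ y1 * ((k * t) ^ n)⁻¹) *
        ((k * t) ^ n * φ x1 * ((k * t) ^ n)⁻¹)⁻¹ * ((k * t) ^ n * φ y1 * ((k * t) ^ n)⁻¹)⁻¹ := by
    simp only [map_mul, map_inv]
    group
  rw [e5, e3, ← hm2t, ← map_inv, ← map_inv, ← map_mul, ← map_mul, ← map_mul] at e4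
  exact comm_z_b _ f2 m2 hm2 (by rw [f1]; exact hma) ((h.inj e4).trans (by decide))

/-- (8) if `ze` and `x2` are fused in `C(z)` there is `τ`. -/
theorem exists_tau (h : Emb7 (S : Subgroup G) φ) (hp : Orb (centralizer {φ z}) φ ze x2) : Tau φ := by
  obtain ⟨t, ht1, ht2, ht3, m, hm, hma, htm⟩ := exists_t h hp
  exact tau_of_t h ht1 ht2 ht3 hm hma htm

theorem conj_ze_cases : ∀ x ∈ V1, ty x = 1 → ∃ s : M7, s * x * s⁻¹ = ze := by decide +kernel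

theorem pr_conj_x2 : ∀ s : M7, pr (s * x2 * s⁻¹).a = false ∧ s * x2 * s⁻¹ ∈ V1 := by decide +kernel

/-- if `x1` and `x2` are fused in `C(z) ∩ N(V1)` there is `τ`. -/
theorem tau_of_x1_x2 (h : Emb7 (S : Subgroup G) φ) (hx : Orb (centralizer {φ z}) φ x1 x2) : Tau φ := by
  by_cases hq : Orb (centralizer {φ z}) φ ze x1
  · exact exists_tau h (hq.trans hx)
  · obtain ⟨n, hn, hnV, hnx⟩ := hx
    obtain ⟨k, hk, hkn⟩ : n * φ ze * n⁻¹ ∈ V1.map φ := mem_of_cj hnV (h.mem_map.2 (by decide))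
    have h1 : Orb (centralizer {φ z}) φ ze k := ⟨n, hn, hnV, hkn.symm⟩
    have h2 : k ≠ 1 := h1.ne_one h (by decide)
    have h3 := (orb_rep h (S_le_H h) hk h2).1 h1
    have h4 : ty k = 1 := by
      have : ∀ j : Fin 4, Orb (centralizer {φ z}) φ ze (rep j) → j = 1 := by
        intro j hj
        fin_cases j
        · exact absurd hj (fun h5 => not_orb_z h le_rfl (x := ze) (by decide) h5)
        · rfl
        · exact absurd hj hq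
        · exact absurd (orb_ze h (S_le_H h) le_rfl hj) hq
      exact this _ h3
    obtain ⟨s, hs⟩ := conj_ze_cases k hk h4
    have e1 : φ s * n * φ ze * (φ s * n)⁻¹ = φ ze := by
      calc φ s * n * φ ze * (φ s * n)⁻¹ = φ s * (n * φ ze * n⁻¹) * (φ s)⁻¹ := by group
        _ = φ ze := by rw [← hkn, ← map_mul, ← map_inv, ← map_mul, hs]
    have e2 : φ s * n * φ x1 * (φ s * n)⁻¹ = φ (s * x2 * s⁻¹) := by
      calc φ s * n * φ x1 * (φ s * n)⁻¹ = φ s * (n * φ x1 * n⁻¹) * (φ s)⁻¹ := by group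
        _ = _ := by rw [hnx, ← map_mul, ← map_inv, ← map_mul]
    have e3 : φ s * n ∈ centralizer {φ z} := mul_mem (S_le_H h (h.mem s)) hn
    refine tau_of_t h (t := φ s * n) (mem_centralizer_singleton_iff.1 e3) ?_ ?_ (pr_conj_x2 s).2 (pr_conj_x2 s).1 e2
    · calc φ s * n * φ ze = φ s * n * φ ze * (φ s * n)⁻¹ * (φ s * n) := by group
        _ = φ ze * (φ s * n) := by rw [e1]
    · rw [cj_mul, hnV, cj_eq_iff.2 (norm_of h V1_conj (h.mem s))]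

omit [Finite G] in
/-- if `ze ~ x1` in `C(z) ∩ N(V1)` and `τ` exists, then `ze ~ x2`. -/
theorem orb_of_tau (h : Emb7 (S : Subgroup G) φ) (hq : Orb (centralizer {φ z}) φ ze x1) (hτ : Tau φ) :
    Orb (centralizer {φ z}) φ ze x2 := by
  obtain ⟨t, h1, h2, h3, h4, h5, ⟨m, hm1, hm2, hm3⟩, _⟩ := hτ
  obtain ⟨g, hg⟩ := exists_conj_x2 m hm1 hm2
  have h6 : Orb (centralizer {φ z}) φ x1 m := ⟨t, mem_centralizer_singleton_iff.2 h1, h3, hm3⟩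
  exact hq.trans (h6.trans (Orb.of_conj h (S_le_H h) hg))

end Cfsg.Agent.LFourB.MSevenFd
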