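import Cfsg.Agent.LFourB.MSevenFactsQ

/-!
# Kernel facts on `M7` for the element `σ`
-/

set_option autoImplicit false

namespace Cfsg.Agent.LFourB.MQ

open M7

/-! ### Kernel facts -/

theorem move_V1 : ∀ v : M7, v ∈ V1 → v ∉ Z4 → ∃ s : M7, s ∈ V2 ∧
    (s * v * s⁻¹ = v * ze ∨ s * v * s⁻¹ = v * (ze * z)) := by decide +kernel

theorem V2_cent_ze : ∀ s : M7, s ∈ V2 → s * ze = ze * s := by decide +kernel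

theorem W1_gen : ∀ w : M7, w ∈ V1 → w ∈ Q → w = 1 ∨ w = z ∨ w = ze ∨ w = ze * z ∨ w = x1 ∨ w = x1 * z ∨
    w = x1 * ze ∨ w = x1 * ze * z := by decide +kernel

theorem R2_triv : ∀ s w : M7, s ∈ R2 → w ∈ V1 → w ∈ Q → s * w * s⁻¹ * w⁻¹ ∈ Z1 := by decide +kernel

theorem R2_of_triv : ∀ s : M7, s * x1 * s⁻¹ * x1⁻¹ ∈ Z1 → s ∈ R2 := by decide +kernel

theorem R2_act : ∀ v r : M7, v ∈ V1 → v ∉ Q → r ∈ R2 →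
    (v * r * v⁻¹ * r⁻¹ ∈ Z1 → r ∈ V1) ∧
    ((v * r * v⁻¹ * r⁻¹) * ze ∈ Z1 → y1 * r ∈ V1) ∧
    ((v * r * v⁻¹ * r⁻¹) * x1 ∈ Z1 → f * r ∈ V1) ∧
    ((v * r * v⁻¹ * r⁻¹) * (x1 * ze) ∈ Z1 → y1 * f * r ∈ V1) := by decide +kernel

theorem x2_y1 : (x2 * y1 * x2⁻¹ * y1⁻¹) * ze ∈ Z1 := by decide
theorem x2_f : (x2 * f * x2⁻¹ * f⁻¹) * x1 ∈ Z1 := by decide
theorem x2_y1f : (x2 * (y1 * f) * x2⁻¹ * (y1 * f)⁻¹) * (x1 * ze) ∈ Z1 := by decide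

theorem fV1_conj : ∀ r : M7, f * r ∈ V1 → r * r = 1 → ∃ s : M7, s * r * s⁻¹ = f := by decide +kernel

theorem R2_normal : ∀ s r : M7, r ∈ R2 → s * r * s⁻¹ ∈ R2 := by decide +kernel

end Cfsg.Agent.LFourB.MQ
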