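import Cfsg.Agent.LFourB.MSevenQ
import Cfsg.Agent.LFourB.MSevenFactsS

/-!
# The element `σ` of `N(R2) ∩ C(z)` (S0510, piece F-B5, step 4)
-/

set_option autoImplicit false

namespace Cfsg.Agent.LFourB.MQ

open Subgroup Cfsg.Agent.Lib.GoldschmidtFusion M7

variable {G : Type*} [Group G]

/-- The image of `K` under conjugation by `g` is the image of `K`. -/
def Nm (φ : M7 →* G) (K : Subgroup M7) (g : G) : Prop :=
  (K.map φ).map (MulAut.conj g).toMonoidHom = K.map φ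

theorem Nm.mul {φ : M7 →* G} {K : Subgroup M7} {g g' : G} (h : Nm φ K g) (h' : Nm φ K g') :
    Nm φ K (g * g') := by
  unfold Nm at *
  rw [← map_conj_map_conj, h', h]

theorem Nm.one {φ : M7 →* G} {K : Subgroup M7} : Nm φ K 1 := map_conj_one _

theorem Nm.inv {φ : M7 →* G} {K : Subgroup M7} {g : G} (h : Nm φ K g) : Nm φ K g⁻¹ := by
  unfold Nm at *
  conv_lhs => rw [← h]
  rw [map_conj_map_conj, inv_mul_cancel, map_conj_one]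

theorem Nm.exists {φ : M7 →* G} {K : Subgroup M7} {g : G} (h : Nm φ K g) {m : M7} (hm : m ∈ K) :
    ∃ m' ∈ K, g * φ m * g⁻¹ = φ m' := by
  have h1 : g * φ m * g⁻¹ ∈ K.map φ := by
    rw [← h]
    exact conj_mem_map_conj (mem_map_of_mem φ hm) _
  obtain ⟨t, ht, ht'⟩ := h1
  exact ⟨t, ht, ht'.symm⟩

theorem Nm.of_forall [Finite G] {φ : M7 →* G} {K : Subgroup M7} {g : G}
    (h : ∀ m ∈ K, ∃ m' ∈ K, g * φ m * g⁻¹ = φ m') : Nm φ K g := by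
  apply Subgroup.eq_of_le_of_card_ge
  · rintro _ ⟨_, ⟨m, hm, rfl⟩, rfl⟩
    obtain ⟨m', hm', hm''⟩ := h m hm
    exact ⟨m', hm', hm''.symm⟩
  · rw [card_map_conj]

theorem Nm.image [Finite G] (φ : M7 →* G) {K : Subgroup M7} (hK : ∀ s k : M7, k ∈ K → s * k * s⁻¹ ∈ K)
    (s : M7) : Nm φ K (φ s) :=
  Nm.of_forall fun m hm => ⟨s * m * s⁻¹, hK s m hm, by rw [map_mul, map_mul, map_inv]⟩

/-- `V1 ⊓ Q`. -/
abbrev W1 : Subgroup M7 := V1 ⊓ Q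

theorem W1_normal (s w : M7) (hw : w ∈ W1) : s * w * s⁻¹ ∈ W1 :=
  ⟨V1_normal s w hw.1, Q_normal s w hw.2⟩

theorem Z1_list : ∀ m : M7, m ∈ Z1 → m ∈ [1, z] := by decide +kernel

theorem z_mem_W1 : z ∈ W1 := Subgroup.mem_inf.2 ⟨by decide, by decide⟩
theorem ze_mem_W1 : ze ∈ W1 := Subgroup.mem_inf.2 ⟨by decide, by decide⟩
theorem x1_mem_W1 : x1 ∈ W1 := Subgroup.mem_inf.2 ⟨by decide, by decide⟩

/-- `{n ∈ C(z) | n normalises V1 and V1 ⊓ Q}`. -/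
def NW (φ : M7 →* G) : Subgroup G where
  carrier := {n | n ∈ Cz φ ∧ Nm φ V1 n ∧ Nm φ W1 n}
  one_mem' := ⟨one_mem _, Nm.one, Nm.one⟩
  mul_mem' := fun {_ _} ha hb => ⟨mul_mem ha.1 hb.1, ha.2.1.mul hb.2.1, ha.2.2.mul hb.2.2⟩
  inv_mem' := fun {_} ha => ⟨inv_mem ha.1, ha.2.1.inv, ha.2.2.inv⟩

theorem mem_NW {φ : M7 →* G} {n : G} : n ∈ NW φ ↔ n ∈ Cz φ ∧ Nm φ V1 n ∧ Nm φ W1 n := Iff.rfl

/-- The kernel of `NW` on `W1 / ⟨z⟩`. -/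
def KW (φ : M7 →* G) : Subgroup G where
  carrier := {n | n ∈ NW φ ∧ ∀ w ∈ W1, ∃ m ∈ Z1, n * φ w * n⁻¹ = φ (w * m)}
  one_mem' := ⟨one_mem _, fun w _ => ⟨1, one_mem _, by simp⟩⟩
  mul_mem' := by
    rintro a b ⟨ha, ha'⟩ ⟨hb, hb'⟩
    refine ⟨mul_mem ha hb, fun w hw => ?_⟩
    obtain ⟨m, hm, hm'⟩ := hb' w hw
    obtain ⟨m2, hm2, hm2'⟩ := ha' w hw
    refine ⟨m2 * m, mul_mem hm2 hm, ?_⟩
    calc a * b * φ w * (a * b)⁻¹ = a * (b * φ w * b⁻¹) * a⁻¹ := by group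
      _ = a * φ w * a⁻¹ * (a * φ m * a⁻¹) := by rw [hm', map_mul]; group
      _ = φ (w * m2) * φ m := by rw [hm2', conj_Z1 ha.1 hm]
      _ = _ := by rw [← map_mul, mul_assoc]
  inv_mem' := by
    rintro a ⟨ha, ha'⟩
    refine ⟨inv_mem ha, fun w hw => ?_⟩
    obtain ⟨m, hm, hm'⟩ := ha' w hw
    refine ⟨m⁻¹, inv_mem hm, ?_⟩
    have h1 : a⁻¹ * φ (w * m) * a⁻¹⁻¹ = φ w := by rw [← hm']; group
    have h2 := conj_Z1 (inv_mem ha.1) (Z1.inv_mem hm)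
    calc a⁻¹ * φ w * a⁻¹⁻¹ = (a⁻¹ * φ (w * m) * a⁻¹⁻¹) * (a⁻¹ * φ m⁻¹ * a⁻¹⁻¹) := by
          rw [map_mul, map_inv]; group
      _ = φ w * φ m⁻¹ := by rw [h1, h2]
      _ = _ := by rw [← map_mul]

variable [Finite G] {P : Sylow 2 G} {φ : M7 →* G}

theorem P_le_NW (h : Emb7 (P : Subgroup G) φ) : (P : Subgroup G) ≤ NW φ := by
  intro g hg
  obtain ⟨m, rfl⟩ := h.exists_eq hg
  exact ⟨image_mem_Cz φ m, Nm.image φ V1_normal m, Nm.image φ W1_normal m⟩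

omit [Finite G] in
theorem KW_normal {n : G} (hn : n ∈ NW φ) {k : G} (hk : k ∈ KW φ) : n * k * n⁻¹ ∈ KW φ := by
  refine ⟨mul_mem (mul_mem hn hk.1) (inv_mem hn), fun w hw => ?_⟩
  obtain ⟨w', hw', hnw⟩ := hn.2.2.inv.exists hw
  obtain ⟨m, hm, hm'⟩ := hk.2 w' hw'
  refine ⟨m, hm, ?_⟩
  have h1 : φ w = n * φ w' * n⁻¹ := by rw [← hnw]; group
  calc n * k * n⁻¹ * φ w * (n * k * n⁻¹)⁻¹ = n * (k * (n⁻¹ * φ w * n⁻¹⁻¹) * k⁻¹) * n⁻¹ := by group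
    _ = n * φ w' * n⁻¹ * (n * φ m * n⁻¹) := by rw [hnw, hm', map_mul]; group
    _ = φ (w * m) := by rw [← h1, conj_Z1 hn.1 hm, map_mul]

theorem P_inf_KW (h : Emb7 (P : Subgroup G) φ) : (P : Subgroup G) ⊓ KW φ = R2.map φ := by
  apply le_antisymm
  · rintro g ⟨hg, hgK⟩
    obtain ⟨s, rfl⟩ := h.exists_eq hg
    obtain ⟨m, hm, hm'⟩ := hgK.2 x1 x1_mem_W1
    refine mem_map_of_mem φ (R2_of_triv s ?_)
    have h1 : s * x1 * s⁻¹ = x1 * m := h.inj (by rw [← hm', map_mul, map_mul, map_inv])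
    have h2 : ∀ m : M7, m ∈ Z1 → x1 * m * x1⁻¹ ∈ Z1 := by decide +kernel
    rw [h1]
    exact h2 m hm
  · rintro _ ⟨s, hs, rfl⟩
    refine ⟨h.mem s, ⟨P_le_NW h (h.mem s), fun w hw => ?_⟩⟩
    refine ⟨w⁻¹ * (s * w * s⁻¹), ?_, ?_⟩
    · have h1 := R2_triv s w hs hw.1 hw.2
      have h2 : ∀ m : M7, m ∈ Z1 → ∀ w : M7, w⁻¹ * m * w ∈ Z1 := by decide +kernel
      have h3 := h2 _ h1 w
      have e : w⁻¹ * (s * w * s⁻¹ * w⁻¹) * w = w⁻¹ * (s * w * s⁻¹) := by group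
      rwa [e] at h3
    · rw [← map_inv, ← map_mul, ← map_mul]
      congr 1
      group

/-- The element `σ` : it normalises `R2`, `V1`, `Q`, centralises `z` and acts as `ze → x1 → x1 ze` modulo `⟨z⟩`. -/
structure Sig (φ : M7 →* G) (σ : G) : Prop where
  cz : σ ∈ Cz φ
  nV1 : Nm φ V1 σ
  nQ : Nm φ Q σ
  nR2 : Nm φ R2 σ
  aze : ∃ m ∈ Z1, σ * φ M7.ze * σ⁻¹ = φ (M7.x1 * m)
  ax1 : ∃ m ∈ Z1, σ * φ M7.x1 * σ⁻¹ = φ (M7.x1 * M7.ze * m)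

/-- **Step 4, the element `σ`.** -/
theorem exists_sigma (h : Emb7 (P : Subgroup G) φ) {g : G} (hg : g ∈ Cz φ) (hgV : Nm φ V1 g)
    (hgz : g * φ ze * g⁻¹ = φ x1) : ∃ σ : G, Sig φ σ := by
  have hinj : ∀ m n : M7, φ m = φ n → m = n := fun m n hmn => h.inj hmn
  -- the preimage of `ze`
  obtain ⟨v, hv, hgv⟩ := hgV.inv.exists (m := ze) (by decide)
  have hgv' : g * φ v * g⁻¹ = φ ze := by rw [← hgv]; group
  have hvZ : v ∉ Z4 := by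
    intro hvZ
    rcases Z4_cases v hvZ with h1 | h1 | h1 | h1
    · rw [h1, map_one] at hgv'
      have h2 : φ (1 : M7) = φ ze := by rw [← hgv', map_one]; group
      exact absurd (hinj _ _ h2) (by decide)
    · rw [h1, conj_of_mem_Cz hg] at hgv'
      exact absurd (hinj _ _ hgv') (by decide)
    · rw [h1, hgz] at hgv'
      exact absurd (hinj _ _ hgv') (by decide)
    · have h2 : g * φ (ze * z) * g⁻¹ = φ (x1 * z) := by
        calc g * φ (ze * z) * g⁻¹ = (g * φ ze * g⁻¹) * (g * φ z * g⁻¹) := by rw [map_mul]; group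
          _ = φ (x1 * z) := by rw [hgz, conj_of_mem_Cz hg, map_mul]
      rw [h1, h2] at hgv'
      exact absurd (hinj _ _ hgv') (by decide)
  obtain ⟨s, hs, hsv⟩ := move_V1 v hv hvZ
  have hsv' : ∃ m ∈ Z1, s * v * s⁻¹ = v * (ze * m) := by
    rcases hsv with h1 | h1
    · exact ⟨1, one_mem _, by rw [h1, mul_one]⟩
    · exact ⟨z, by decide, h1⟩
  obtain ⟨j, hj, hsj⟩ := hsv'
  -- the element `t`
  set t : G := g * φ s * g⁻¹ with ht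
  have htC : t ∈ Cz φ := mul_mem (mul_mem hg (image_mem_Cz φ s)) (inv_mem hg)
  have htV : Nm φ V1 t := (hgV.mul (Nm.image φ V1_normal s)).mul hgV.inv
  have ht1 : t * φ x1 * t⁻¹ = φ x1 := by
    have h1 : φ s * φ ze = φ ze * φ s := by rw [← map_mul, ← map_mul, V2_cent_ze s hs]
    rw [← hgz, ht]
    calc g * φ s * g⁻¹ * (g * φ ze * g⁻¹) * (g * φ s * g⁻¹)⁻¹ = g * (φ s * φ ze) * (φ s)⁻¹ * g⁻¹ := by group
      _ = g * (φ ze * φ s) * (φ s)⁻¹ * g⁻¹ := by rw [h1]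
      _ = _ := by group
  have ht2 : t * φ ze * t⁻¹ = φ (ze * x1 * j) := by
    have h1 : φ s * φ v * (φ s)⁻¹ = φ v * (φ ze * φ j) := by
      rw [← map_mul, ← map_inv, ← map_mul, hsj, map_mul, map_mul]
    rw [ht]
    calc g * φ s * g⁻¹ * φ ze * (g * φ s * g⁻¹)⁻¹ = g * φ s * (g⁻¹ * φ ze * g⁻¹⁻¹) * (φ s)⁻¹ * g⁻¹ := by group
      _ = g * (φ s * φ v * (φ s)⁻¹) * g⁻¹ := by rw [hgv]; group
      _ = (g * φ v * g⁻¹) * (g * φ ze * g⁻¹) * (g * φ j * g⁻¹) := by rw [h1]; group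
      _ = φ (ze * x1 * j) := by rw [hgv', hgz, conj_Z1 hg hj, map_mul, map_mul]
  have ht3 : t * φ z * t⁻¹ = φ z := conj_of_mem_Cz htC
  have hjW : j ∈ V1 ∧ j ∈ Q := by
    rcases Z1_cases j hj with h1 | h1 <;> rw [h1] <;> decide
  have htW : Nm φ W1 t := by
    apply Nm.of_forall
    have hz : z ∈ W1 := z_mem_W1
    have hze : ze ∈ W1 := ze_mem_W1
    have hx1 : x1 ∈ W1 := x1_mem_W1
    have hmul : ∀ {a b a' b' : M7}, t * φ a * t⁻¹ = φ a' → t * φ b * t⁻¹ = φ b' →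
        t * φ (a * b) * t⁻¹ = φ (a' * b') := by
      intro a b a' b' ha hb
      rw [map_mul, map_mul, ← ha, ← hb]; group
    have hzeW : ze * x1 * j ∈ W1 := mul_mem (mul_mem hze hx1) hjW
    intro w hw
    rcases W1_gen w hw.1 hw.2 with h1 | h1 | h1 | h1 | h1 | h1 | h1 | h1 <;> rw [h1]
    · exact ⟨1, one_mem _, by simp⟩
    · exact ⟨z, hz, ht3⟩
    · exact ⟨_, hzeW, ht2⟩
    · exact ⟨_, mul_mem hzeW hz, hmul ht2 ht3⟩
    · exact ⟨x1, hx1, ht1⟩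
    · exact ⟨_, mul_mem hx1 hz, hmul ht1 ht3⟩
    · exact ⟨_, mul_mem hx1 hzeW, hmul ht1 ht2⟩
    · exact ⟨_, mul_mem (mul_mem hx1 hzeW) hz, hmul (hmul ht1 ht2) ht3⟩
  have htN : t ∈ NW φ := ⟨htC, htV, htW⟩
  have hrN : φ y2 * t ∈ NW φ := mul_mem (P_le_NW h (h.mem y2)) htN
  have hr1 : (φ y2 * t) * φ x1 * (φ y2 * t)⁻¹ = φ (x1 * ze) := by
    calc (φ y2 * t) * φ x1 * (φ y2 * t)⁻¹ = φ y2 * (t * φ x1 * t⁻¹) * (φ y2)⁻¹ := by group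
      _ = φ (y2 * x1 * y2⁻¹) := by rw [ht1, map_mul, map_mul, map_inv]
      _ = φ (x1 * ze) := by rw [show y2 * x1 * y2⁻¹ = x1 * ze by decide]
  have hr2 : (φ y2 * t) * φ ze * (φ y2 * t)⁻¹ = φ (x1 * j) := by
    calc (φ y2 * t) * φ ze * (φ y2 * t)⁻¹ = φ y2 * (t * φ ze * t⁻¹) * (φ y2)⁻¹ := by group
      _ = φ (y2 * (ze * x1 * j) * y2⁻¹) := by rw [ht2]; simp only [map_mul, map_inv]
      _ = φ (x1 * j) := by
        have h1 : ∀ j : M7, j ∈ Z1 → y2 * (ze * x1 * j) * y2⁻¹ = x1 * j := by decide +kernel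
        rw [h1 j hj]
  -- Frattini
  have hKle : R2.map φ ≤ KW φ := by
    rw [← P_inf_KW h]; exact inf_le_right
  have hKi : ¬ 2 ∣ (R2.map φ).relIndex (KW φ) := by
    rw [← P_inf_KW h]
    exact RelExt.sylow_inf (N := NW φ) P.isPGroup' (P_le_NW h)
      (fun hd => P.not_dvd_index (hd.trans (relIndex_dvd_index_of_le (P_le_NW h)))) (fun k hk => hk.1)
      (fun n hn k hk => KW_normal hn hk)
  obtain ⟨k, hk, hkR⟩ := RelExt.frattini (K := KW φ) (T := R2.map φ) (P.isPGroup'.to_le (h.map_le R2)) hKle hKi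
    (n := φ y2 * t) (by
      apply Subgroup.eq_of_le_of_card_ge
      · rintro _ ⟨k, hk, rfl⟩
        exact KW_normal hrN hk
      · rw [card_map_conj])
  have hσN : k * (φ y2 * t) ∈ NW φ := mul_mem hk.1 hrN
  have hx1W : x1 ∈ W1 := x1_mem_W1
  have hzeW : ze ∈ W1 := ze_mem_W1
  refine ⟨k * (φ y2 * t), hσN.1, hσN.2.1, ?_, hkR, ?_, ?_⟩
  · refine Q_weak h hσN.1 ?_
    have h1 : Q ≤ R2 := by
      have h2 : ∀ m : M7, m ∈ Q → m ∈ R2 := by decide +kernel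
      exact h2
    refine (map_conj_mono (Subgroup.map_mono h1) _).trans ?_
    rw [hkR]
    exact h.map_le R2
  · obtain ⟨m, hm, hm'⟩ := hk.2 x1 hx1W
    refine ⟨m * j, mul_mem hm hj, ?_⟩
    calc k * (φ y2 * t) * φ ze * (k * (φ y2 * t))⁻¹
        = k * ((φ y2 * t) * φ ze * (φ y2 * t)⁻¹) * k⁻¹ := by group
      _ = (k * φ x1 * k⁻¹) * (k * φ j * k⁻¹) := by rw [hr2, map_mul]; group
      _ = φ (x1 * (m * j)) := by rw [hm', conj_Z1 hk.1.1 hj, ← map_mul, mul_assoc]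
  · obtain ⟨m, hm, hm'⟩ := hk.2 (x1 * ze) (mul_mem hx1W hzeW)
    refine ⟨m, hm, ?_⟩
    calc k * (φ y2 * t) * φ x1 * (k * (φ y2 * t))⁻¹
        = k * ((φ y2 * t) * φ x1 * (φ y2 * t)⁻¹) * k⁻¹ := by group
      _ = _ := by rw [hr1, hm']

/-! ### The action of `σ` on `R2 / V1` and on `Q / ⟨z⟩` -/

omit [Finite G]

theorem sig_comm (h : Emb7 (P : Subgroup G) φ) {σ : G} (hσ : Sig φ σ) {r : M7} (hr : r ∈ R2) :
    ∃ v r' : M7, v ∈ V1 ∧ v ∉ Q ∧ r' ∈ R2 ∧ σ * φ r * σ⁻¹ = φ r' ∧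
      σ * φ (x2 * r * x2⁻¹ * r⁻¹) * σ⁻¹ = φ (v * r' * v⁻¹ * r'⁻¹) := by
  obtain ⟨v, hv, hσv⟩ := hσ.nV1.exists (m := x2) (by decide)
  obtain ⟨r', hr', hσr⟩ := hσ.nR2.exists hr
  refine ⟨v, r', hv, ?_, hr', hσr, ?_⟩
  · intro hvQ
    obtain ⟨q, hq, hq'⟩ := hσ.nQ.inv.exists hvQ
    have h1 : φ x2 = φ q := by rw [← hq', ← hσv]; group
    rw [← h.inj h1] at hq
    exact absurd hq (by decide)
  · simp only [map_mul, map_inv]
    rw [← hσv, ← hσr]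
    group

theorem x1_ze_comm : ∀ m n : M7, m ∈ Z1 → n ∈ Z1 → (x1 * ze * m) * (x1 * n) * ze ∈ Z1 := by decide +kernel

theorem sig_cosets (h : Emb7 (P : Subgroup G) φ) {σ : G} (hσ : Sig φ σ) {r : M7} (hr : r ∈ R2) :
    ∃ r' : M7, r' ∈ R2 ∧ σ * φ r * σ⁻¹ = φ r' ∧
      (y1 * r ∈ V1 → f * r' ∈ V1) ∧ (f * r ∈ V1 → y1 * f * r' ∈ V1) ∧
      (y1 * f * r ∈ V1 → y1 * r' ∈ V1) := by
  obtain ⟨v, r', hv, hvQ, hr', hσr, hc⟩ := sig_comm h hσ hr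
  obtain ⟨m, hm, hm'⟩ := hσ.aze
  obtain ⟨n, hn, hn'⟩ := hσ.ax1
  have hact := R2_act v r' hv hvQ hr'
  -- the commutator `[x2, r]`
  have hcase : ∀ c : M7, c ∈ R2 → (y1 * c ∈ V1 → ∃ j ∈ Z1, x2 * c * x2⁻¹ * c⁻¹ = ze * j) ∧
      (f * c ∈ V1 → ∃ j ∈ Z1, x2 * c * x2⁻¹ * c⁻¹ = x1 * j) ∧
      (y1 * f * c ∈ V1 → ∃ j ∈ Z1, x2 * c * x2⁻¹ * c⁻¹ = x1 * ze * j) := by
    have h0 : ∀ c : M7, c ∈ R2 → (y1 * c ∈ V1 → ze * (x2 * c * x2⁻¹ * c⁻¹) ∈ Z1) ∧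
      (f * c ∈ V1 → x1 * (x2 * c * x2⁻¹ * c⁻¹) ∈ Z1) ∧
      (y1 * f * c ∈ V1 → (x1 * ze)⁻¹ * (x2 * c * x2⁻¹ * c⁻¹) ∈ Z1) := by decide +kernel
    intro c hcR
    obtain ⟨h1, h2, h3⟩ := h0 c hcR
    refine ⟨fun hc => ⟨_, h1 hc, ?_⟩, fun hc => ⟨_, h2 hc, ?_⟩, fun hc => ⟨_, h3 hc, ?_⟩⟩
    · rw [← mul_assoc, show ze * ze = 1 by decide, one_mul]
    · rw [← mul_assoc, show x1 * x1 = 1 by decide, one_mul]
    · rw [mul_inv_cancel_left]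
  obtain ⟨c1, c2, c3⟩ := hcase r hr
  refine ⟨r', hr', hσr, fun hc' => ?_, fun hc' => ?_, fun hc' => ?_⟩
  · obtain ⟨j, hj, hj'⟩ := c1 hc'
    refine hact.2.2.1 ?_
    have h1 : v * r' * v⁻¹ * r'⁻¹ = x1 * m * j := by
      apply h.inj
      rw [← hc, hj', map_mul φ (x1 * m), ← hm', ← conj_Z1 hσ.cz hj, map_mul]
      group
    rw [h1]
    have h2 : ∀ m j : M7, m ∈ Z1 → j ∈ Z1 → x1 * m * j * x1 ∈ Z1 := by decide +kernel
    exact h2 m j hm hj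
  · obtain ⟨j, hj, hj'⟩ := c2 hc'
    refine hact.2.2.2 ?_
    have h1 : v * r' * v⁻¹ * r'⁻¹ = x1 * ze * n * j := by
      apply h.inj
      rw [← hc, hj', map_mul φ (x1 * ze * n), ← hn', ← conj_Z1 hσ.cz hj, map_mul]
      group
    rw [h1]
    have h2 : ∀ m j : M7, m ∈ Z1 → j ∈ Z1 → x1 * ze * m * j * (x1 * ze) ∈ Z1 := by decide +kernel
    exact h2 n j hn hj
  · obtain ⟨j, hj, hj'⟩ := c3 hc'
    refine hact.2.1 ?_
    have h1 : v * r' * v⁻¹ * r'⁻¹ = (x1 * ze * n) * (x1 * m) * j := by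
      apply h.inj
      rw [← hc, hj', map_mul φ ((x1 * ze * n) * (x1 * m)), map_mul φ (x1 * ze * n), ← hn', ← hm',
        ← conj_Z1 hσ.cz hj, map_mul, map_mul]
      group
    rw [h1]
    have h2 : ∀ m n j : M7, m ∈ Z1 → n ∈ Z1 → j ∈ Z1 → (x1 * ze * n) * (x1 * m) * j * ze ∈ Z1 := by
      have h3 : ∀ m ∈ [1, z], ∀ n ∈ [1, z], ∀ j ∈ [1, z],
        (x1 * ze * n) * (x1 * m) * j * ze ∈ Z1 := by decide
      have h4 : ∀ m : M7, m ∈ Z1 → m ∈ [1, z] := Z1_list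
      intro m n j hm hn hj
      exact h3 m (h4 m hm) n (h4 n hn) j (h4 j hj)
    exact h2 m n j hm hn hj

/-- `y1` and `f` are conjugate in `C(z)`. -/
theorem y1_conj_f (h : Emb7 (P : Subgroup G) φ) {σ : G} (hσ : Sig φ σ) :
    ∃ c ∈ Cz φ, c * φ y1 * c⁻¹ = φ f := by
  obtain ⟨r', -, hσr, h1, -, -⟩ := sig_cosets h hσ (r := y1) (by decide)
  have h2 : r' * r' = 1 := by
    apply h.inj
    rw [map_mul, ← hσr, map_one]
    calc σ * φ y1 * σ⁻¹ * (σ * φ y1 * σ⁻¹) = σ * φ (y1 * y1) * σ⁻¹ := by rw [map_mul]; group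
      _ = 1 := by rw [show y1 * y1 = 1 by decide, map_one]; group
  obtain ⟨s, hs⟩ := fV1_conj r' (h1 (by decide)) h2
  refine ⟨φ s * σ, mul_mem (image_mem_Cz φ s) hσ.cz, ?_⟩
  rw [← hs, map_mul, map_mul, map_inv, ← hσr]
  group

/-- `σ` acts fixed point freely on `Q / ⟨z⟩`. -/
theorem sig_fpf (h : Emb7 (P : Subgroup G) φ) {σ : G} (hσ : Sig φ σ) {q : M7} (hq : q ∈ Q)
    (hfix : ∃ m ∈ Z1, σ * φ q * σ⁻¹ = φ (q * m)) : q ∈ Z1 := by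
  obtain ⟨m, hm, hm'⟩ := hfix
  have hqR : q ∈ R2 := (mem_R2 q).2 ((mem_Q q).1 hq).2
  obtain ⟨r', -, hσr, h1, h2, h3⟩ := sig_cosets h hσ hqR
  have hr' : r' = q * m := h.inj (by rw [← hσr, hm'])
  have hcos : ∀ q : M7, q ∈ R2 → q ∈ V1 ∨ y1 * q ∈ V1 ∨ f * q ∈ V1 ∨ y1 * f * q ∈ V1 := by decide +kernel
  have hno : ∀ q : M7, ∀ m ∈ [1, z], (y1 * q ∈ V1 → ¬ f * (q * m) ∈ V1) ∧
      (f * q ∈ V1 → ¬ y1 * f * (q * m) ∈ V1) ∧ (y1 * f * q ∈ V1 → ¬ y1 * (q * m) ∈ V1) := by decide +kernel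
  have hml : m ∈ [1, z] := Z1_list m hm
  obtain ⟨n1, n2, n3⟩ := hno q m hml
  rw [hr'] at h1 h2 h3
  have hqV : q ∈ V1 := by
    rcases hcos q hqR with c | c | c | c
    · exact c
    · exact absurd (h1 c) (n1 c)
    · exact absurd (h2 c) (n2 c)
    · exact absurd (h3 c) (n3 c)
  -- now `q ∈ W1`
  obtain ⟨a, ha, ha'⟩ := hσ.aze
  obtain ⟨b, hb, hb'⟩ := hσ.ax1
  have hz := conj_of_mem_Cz hσ.cz
  have hmul : ∀ {a b a' b' : M7}, σ * φ a * σ⁻¹ = φ a' → σ * φ b * σ⁻¹ = φ b' →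
      σ * φ (a * b) * σ⁻¹ = φ (a' * b') := by
    intro a b a' b' ha hb
    rw [map_mul, map_mul, ← ha, ← hb]; group
  have hal : a ∈ [1, z] := Z1_list a ha
  have hbl : b ∈ [1, z] := Z1_list b hb
  have hneg : ∀ {w w' : M7}, q = w → σ * φ w * σ⁻¹ = φ w' → w' = w * m := by
    intro w w' hw hww
    apply h.inj
    rw [← hww, ← hw, hm']
  rcases W1_gen q hqV hq with c | c | c | c | c | c | c | c
  · rw [c]; exact one_mem _
  · rw [c]; decide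
  · exfalso
    have := hneg c ha'
    revert this
    have : ∀ a ∈ [1, z], ∀ m ∈ [1, z], x1 * a ≠ ze * m := by decide
    exact this a hal m hml
  · exfalso
    have := hneg c (hmul ha' hz)
    revert this
    have : ∀ a ∈ [1, z], ∀ m ∈ [1, z], x1 * a * z ≠ ze * z * m := by decide
    exact this a hal m hml
  · exfalso
    have := hneg c hb'
    revert this
    have : ∀ b ∈ [1, z], ∀ m ∈ [1, z], x1 * ze * b ≠ x1 * m := by decide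
    exact this b hbl m hml
  · exfalso
    have := hneg c (hmul hb' hz)
    revert this
    have : ∀ b ∈ [1, z], ∀ m ∈ [1, z], x1 * ze * b * z ≠ x1 * z * m := by decide
    exact this b hbl m hml
  · exfalso
    have := hneg c (hmul hb' ha')
    revert this
    have : ∀ a ∈ [1, z], ∀ b ∈ [1, z], ∀ m ∈ [1, z],
      x1 * ze * b * (x1 * a) ≠ x1 * ze * m := by decide
    exact this a hal b hbl m hml
  · exfalso
    have := hneg c (hmul (hmul hb' ha') hz)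
    revert this
    have : ∀ a ∈ [1, z], ∀ b ∈ [1, z], ∀ m ∈ [1, z],
      x1 * ze * b * (x1 * a) * z ≠ x1 * ze * z * m := by decide
    exact this a hal b hbl m hml

end Cfsg.Agent.LFourB.MQ
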