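import Cfsg.Agent.LFourB.StepEight
import Cfsg.Agent.LFourB.MSevenFd
import Cfsg.Agent.LFourB.MSevenSigma

/-!
# Type B5, cases (a1), (b1): the hypothesis of Step 8 from the fusion pattern

`S ≃* M7`, `σ` in `C(z) ∩ N(R2) ∩ N(V1)`, `C(z) = O(C(z)) (C(z) ∩ N(V1))`. Then `G` is `M₂₂` or `M₂₃`.
-/

set_option autoImplicit false
set_option linter.unusedSectionVars false

namespace Cfsg.Agent.LFourB.EightInst

open Subgroup Cfsg K4 M7 MSevenFa MSevenFb MSevenFc MSevenFd MQ StepEight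
open Cfsg.Agent.SignalizersComponents.RelSylow
open Cfsg.Agent.SylowL5.Weak

/-! ### kernel part -/

theorem Z_le_V1 : Z ≤ V1 := fun x hx => (mem_V1 x).2 ((mem_Z4 x).1 hx).2

theorem Z_le_V2 : Z ≤ V2 := fun x hx => (mem_V2 x).2 ⟨((mem_Z4 x).1 hx).1, ((mem_Z4 x).1 hx).2.2⟩

theorem V1_inf_V2 : ∀ x : M7, x ∈ V1 → x ∈ V2 → x ∈ Z := by decide +kernel

theorem y1_mem : y1 ∈ V2 ∧ y1 ∉ V1 := by decide

theorem x1_conj' : ∀ m ∈ Z1, ∃ s : M7, s * x1 * s⁻¹ = x1 * m := by decide +kernel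

theorem cent_V1 : ∀ x : M7, x * x2 = x2 * x → x ∈ V1 := fun x hx => (cent_x2 x).1 hx

variable {G : Type*} [Group G] {S : Sylow 2 G} {φ : M7 →* G}

theorem Nm_iff {K : Subgroup M7} {g : G} : Nm φ K g ↔ cj g (K.map φ) = K.map φ := Iff.rfl

theorem elab_map {K : Subgroup M7} (hc : ∀ x ∈ K, ∀ y ∈ K, x * y = y * x) (hs : ∀ x ∈ K, x * x = 1) :
    IsElementaryAbelian 2 (K.map φ) := by
  refine ⟨⟨⟨?_⟩⟩, ?_⟩
  · rintro ⟨_, a, ha, rfl⟩ ⟨_, b, hb, rfl⟩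
    apply Subtype.ext
    show φ a * φ b = φ b * φ a
    rw [← map_mul, hc a ha b hb, map_mul]
  · rintro _ ⟨a, ha, rfl⟩
    rw [← map_pow, pow_two, hs a ha, map_one]

variable [Finite G]

/-- `N(V1)` is transitive on the involutions of `V1` -/
theorem orb_sig (h : Emb7 (S : Subgroup G) φ) {σ : G} (hσ : Sig φ σ) (hG : ∀ H : Subgroup G, H.index ≠ 2)
    (hZ : ∃ g : G, g * φ z * g⁻¹ ∈ (S : Subgroup G) ∧ g * φ z * g⁻¹ ≠ φ z) :
    Orb ⊤ φ z ze ∧ Orb ⊤ φ z x1 ∧ Orb ⊤ φ z x2 := by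
  obtain ⟨h1, h2⟩ := orbits h hG hZ
  have h3 : Orb ⊤ φ z x1 := by
    obtain ⟨m, hm, e⟩ := hσ.aze
    obtain ⟨s, hs⟩ := x1_conj' m hm
    have h4 : Orb ⊤ φ ze (x1 * m) := ⟨σ, mem_top _, hσ.nV1, e⟩
    exact (h1.trans h4).trans (Orb.of_conj h le_top hs).symm
  rcases h2 with h2 | h2
  · exact ⟨h1, h2.1, h2.2⟩
  · exact absurd h3 h2.1

theorem fus_of_orb (h : Emb7 (S : Subgroup G) φ) (ho : Orb ⊤ φ z ze ∧ Orb ⊤ φ z x1 ∧ Orb ⊤ φ z x2) :
    ∀ a ∈ V1.map φ, a ≠ 1 → ∃ g ∈ normalizer (V1.map φ : Set G), g * a * g⁻¹ = φ z := by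
  rintro _ ⟨x, hx, rfl⟩ hx1
  have hx1' : x ≠ 1 := fun h0 => hx1 (by rw [h0, map_one])
  have h1 : Orb ⊤ φ z x := by
    rw [orb_rep h le_top hx hx1']
    generalize ty x = k
    fin_cases k
    · exact Orb.refl _
    · exact ho.1
    · exact ho.2.1
    · exact ho.2.2
  obtain ⟨n, -, h2, h3⟩ := h1.symm
  exact ⟨n, cj_eq_iff.1 h2, h3⟩

/-- the hypothesis of Step 8 -/
theorem eight (h : Emb7 (S : Subgroup G) φ) {σ : G} (hσ : Sig φ σ)
    (ho : Orb ⊤ φ z ze ∧ Orb ⊤ φ z x1 ∧ Orb ⊤ φ z x2)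
    (hCZ : ∀ c ∈ centralizer ({φ z} : Set G), ∃ o ∈ centralizerPPrimeCore 2 (φ z),
      ∃ n ∈ normalizer (V1.map φ : Set G), c = o * n) :
    Eight S (V1.map φ) (V2.map φ) (Z.map φ) (φ z) where
  elA := elab_map MSevenFa.V1_comm V1_sq
  elB := elab_map MSevenFa.V2_comm V2_sq
  cardA := by rw [h.card_map, card_V1]
  cardB := by rw [h.card_map, card_V2]
  AS := h.map_le _
  BS := h.map_le _
  ZA := map_mono Z_le_V1
  ZB := map_mono Z_le_V2
  cardZ := by rw [h.card_map, card_Z4]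
  zZ := h.mem_map.2 (by decide)
  z1 := by
    intro h1
    rw [← map_one φ] at h1
    exact absurd (h.inj h1) (by decide)
  Sz := S_le_H h
  cardS := by rw [h.card]; norm_num
  sixteen := by
    intro D hD he hc
    exact eq_of_card_G h hD (fun x hx => by rw [← pow_two]; exact he.2 x hx) hc
  not_conj := cj_V1_ne h
  centA := by
    intro x hx hxa
    obtain ⟨m, rfl⟩ := h.exists_eq hx
    refine h.mem_map.2 (cent_V1 m (h.inj ?_))
    rw [map_mul, map_mul]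
    exact hxa _ (h.mem_map.2 (by decide))
  fusA := fus_of_orb h ho
  phi := by
    intro t ht ht2 htA htB
    obtain ⟨m, rfl⟩ := h.exists_eq ht
    rw [h.mem_map] at htA htB
    have hm : m * m = 1 := by
      apply h.inj
      rw [map_mul, ← pow_two, map_one]
      exact orderOf_dvd_iff_pow_eq_one.1 (by rw [ht2])
    obtain ⟨s, hs⟩ := ((M7.inv_cases m hm).resolve_left htA).resolve_left htB
    obtain ⟨c, hc, hcf⟩ := y1_conj_f h hσ
    refine ⟨c⁻¹ * (φ s)⁻¹, mul_mem (inv_mem hc) (inv_mem (S_le_H h (h.mem s))), ?_⟩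
    have h1 : c⁻¹ * (φ s)⁻¹ * φ m * (c⁻¹ * (φ s)⁻¹)⁻¹ = φ y1 := by
      have h2 : (φ s)⁻¹ * φ m * φ s = φ f := by
        rw [← hs, map_mul, map_mul, map_inv]; group
      calc c⁻¹ * (φ s)⁻¹ * φ m * (c⁻¹ * (φ s)⁻¹)⁻¹ = c⁻¹ * ((φ s)⁻¹ * φ m * φ s) * c := by group
        _ = φ y1 := by rw [h2, ← hcf]; group
    rw [h1]
    exact ⟨h.mem_map.2 y1_mem.1, fun h2 => y1_mem.2 (h.mem_map.1 h2)⟩
  CZ := hCZ

/-- the two possible orbits on `V2` -/
theorem dich (h : Emb7 (S : Subgroup G) φ) (hG : ∀ H : Subgroup G, H.index ≠ 2)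
    (hZ : ∃ g : G, g * φ z * g⁻¹ ∈ (S : Subgroup G) ∧ g * φ z * g⁻¹ ≠ φ z) :
    (∀ b ∈ V2.map φ, b ≠ 1 → ∃ g ∈ normalizer (V2.map φ : Set G), g * b * g⁻¹ = φ z) ∨
      (∀ b ∈ V2.map φ, IsConj (φ z) b → b ∈ V1.map φ) := by
  have h' := h.comp_swap
  have hz' : (φ.comp swap.toMonoidHom) z = φ z := rfl
  obtain ⟨h1, h2⟩ := orbits h' hG (by rw [hz']; exact hZ)
  rcases h2 with h2 | h2
  · left
    have h3 := fus_of_orb h' ⟨h1, h2⟩
    rw [Emb7.V1_comp_swap] at h3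
    exact h3
  · right
    intro b hb hzb
    rw [← Emb7.V1_comp_swap] at hb
    obtain ⟨x, hx, rfl⟩ := hb
    obtain ⟨g, hg⟩ := isConj_iff.1 hzb
    obtain ⟨n, hn, hn1, hn2⟩ := control1 h' (C := ⊤) le_top (x := z) (y := x) (by decide) hx (mem_top g) hg
    have h3 : Orb ⊤ (φ.comp swap.toMonoidHom) z x := ⟨n, hn, hn1, hn2⟩
    have hx1 : x ≠ 1 := h3.ne_one h' (by decide)
    rw [orb_rep h' le_top hx hx1] at h3
    have h4 : ty x = 0 ∨ ty x = 1 := by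
      revert h3
      generalize ty x = k
      fin_cases k
      · exact fun _ => Or.inl rfl
      · exact fun _ => Or.inr rfl
      · exact fun h5 => absurd h5 h2.1
      · exact fun h5 => absurd h5 h2.2.1
    have h5 : ∀ x ∈ V1, x ≠ 1 → (ty x = 0 ∨ ty x = 1) → swap x ∈ V1 := by decide +kernel
    exact h.mem_map.2 (h5 x hx hx1 h4)

/-- a simple group with this Sylow subgroup has no subgroup of index `2` -/
theorem index_ne_two {G : Type*} [Group G] [Finite G] [IsSimpleGroup G] {S : Sylow 2 G} {φ : M7 →* G}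
    (h : Emb7 (S : Subgroup G) φ) (H : Subgroup G) : H.index ≠ 2 := by
  intro h2
  have hn : H.Normal := Subgroup.normal_of_index_eq_two h2
  rcases hn.eq_bot_or_eq_top with h1 | h1
  · rw [h1, Subgroup.index_bot] at h2
    have h3 : Nat.card (S : Subgroup G) ∣ Nat.card G := Subgroup.card_subgroup_dvd_card _
    rw [h.card, h2] at h3
    exact absurd h3 (by norm_num)
  · rw [h1, Subgroup.index_top] at h2
    exact absurd h2 (by norm_num)

/-- **cases (a1) and (b1)** -/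
theorem mathieu {G : Type*} [Group G] [Finite G] [IsSimpleGroup G] {S : Sylow 2 G} {φ : M7 →* G}
    (h : Emb7 (S : Subgroup G) φ) {σ : G} (hσ : Sig φ σ)
    (hG : ∀ H : Subgroup G, H.index ≠ 2)
    (hZ : ∃ g : G, g * φ z * g⁻¹ ∈ (S : Subgroup G) ∧ g * φ z * g⁻¹ ≠ φ z)
    (hCZ : ∀ c ∈ centralizer ({φ z} : Set G), ∃ o ∈ centralizerPPrimeCore 2 (φ z),
      ∃ n ∈ normalizer (V1.map φ : Set G), c = o * n)
    (hodd : OddSolv G) (hgen : Gen G) (hben : Bender G) (htim : Timm G) :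
    Cfsg.IsM22 G ∨ Cfsg.IsM23 G :=
  (eight h hσ (orb_sig h hσ hG hZ) hCZ).mathieu hodd hgen hben htim (dich h hG hZ)

end Cfsg.Agent.LFourB.EightInst
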