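import Cfsg.Agent.LFourB.EssThree

/-!
# The odd automorphisms of `Ru`
-/

set_option autoImplicit false

namespace Cfsg.Agent.LFourB.EssFour

open Subgroup Cfsg.Agent.LFourB.EssHalf Cfsg.Agent.LFourB.EssOne
open Cfsg.Agent.LFourB.EssTwo Cfsg.Agent.LFourB.EssThree

section Half

variable {C : Type*} [Group C] [Finite C] {P : Subgroup C} {m : ℕ} {f : R m → R m → R m → C} {u : C} {X : Subgroup C}

/-- The action of an odd automorphism. -/
theorem core (h : Half P m f u) (hX : EX P X f u) (hF : Full P X f) {g : C} (hx : g * x4 f = x4 f * g)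
    (hg : g ∈ normalizer (X : Set C)) (ho : ¬ 2 ∣ orderOf g) (hgc : g ∉ centralizer (X : Set C)) :
    ∃ t ∈ Tor f, t * u ∈ X ∧ g * h1 f * g⁻¹ = t * u ∧ (t * u) * (t * u) = z1 f ∧
      (g * (t * u) * g⁻¹ = h1 f * (t * u) ∨ g * (t * u) * g⁻¹ = h1 f * (t * u) * z1 f) := by
  have hXP : X ≤ P := hX.le
  have hB := Bu_le' h hX.le hX.cen
  have hh := hX.h1X
  have hcB : ∀ b ∈ Bu f, g * b = b * g := fun b hb => odd_comm_Bu h hX hx hg ho hb
  have hgz : g * z1 f = z1 f * g := hcB _ h.z1_mem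
  -- `e1`
  have hnm := conj_h1_notMem h hX hx hg ho hgc
  have he1X : g * h1 f * g⁻¹ ∈ X := (mem_normalizer_iff.1 hg _).1 hh
  obtain ⟨t, ht, het⟩ : ∃ t ∈ Tor f, g * h1 f * g⁻¹ = t * u := by
    rcases h.mem_or (hXP he1X) with k | k
    · exact absurd k hnm
    · exact k
  have htu : t * u ∈ X := by rw [← het]; exact he1X
  have htP : t * u ∈ P := hXP htu
  have hsq : (t * u) * (t * u) = z1 f := by
    have e1 : g * h1 f * g⁻¹ * (g * h1 f * g⁻¹) = g * (h1 f * h1 f) * g⁻¹ := by group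
    rw [← het, e1, h.h1_sq, hgz, mul_inv_cancel_right]
  -- conjugation relations
  have hzc : ∀ e ∈ P, z1 f * e = e * z1 f := fun e he => h.z1_comm he
  have hht : (t * u) * h1 f = h1 f * (t * u) * z1 f := by
    have k1 := h.conj_T ht h.h1_mem
    rw [h.u_h1_u] at k1
    have k2 := mul_inv_eq_iff_eq_mul.1 k1
    rw [k2, mul_assoc, hzc _ htP, ← mul_assoc]
  -- `e2`
  have he2X : g * (t * u) * g⁻¹ ∈ X := (mem_normalizer_iff.1 hg _).1 htu
  obtain ⟨b, hb, hcase⟩ := mem_cases h hX he2X ht htu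
  have hbP : b ∈ P := h.Tor_le (h.Bu_le hb)
  have hbc : ∀ e ∈ P, b * e = e * b := fun e he => h.Bu_comm hb he
  have he2 : g * (t * u) * g⁻¹ = h1 f * (t * u) * b := by
    rcases hcase with k | k | k | k
    · exfalso
      have k1 := hcB b hb
      rw [← k, inv_mul_cancel_right] at k1
      have k2 := mul_left_cancel k1
      rw [k] at k2
      exact h.tu_notMem ht (k2 ▸ h.Bu_le hb)
    · exfalso
      have k1 : (g ^ 2) * h1 f * (g ^ 2)⁻¹ = h1 f * b := by
        rw [← k, ← het, pow_two]; group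
      have k2 : (g ^ 2) * b = b * g ^ 2 := (Commute.pow_left (hcB b hb) 2).eq
      have k3 : (g ^ 2) ^ orderOf g = 1 := by rw [← pow_mul, mul_comm, pow_mul, pow_orderOf_eq_one, one_pow]
      have k4 := comm_of_odd k3 ho k1 k2 (h.Bu_pow hb)
      rw [k4, mul_one, mul_inv_eq_iff_eq_mul] at k1
      apply hnm
      obtain ⟨j, hj⟩ : ∃ j, orderOf g = 2 * j + 1 := by
        rcases Nat.even_or_odd' (orderOf g) with ⟨j, h0 | h0⟩
        · exact absurd ⟨j, h0⟩ ho
        · exact ⟨j, h0⟩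
      have k5 : (g ^ 2) ^ (j + 1) = g := by
        rw [← pow_mul]
        have : 2 * (j + 1) = orderOf g + 1 := by omega
        rw [this, pow_succ, pow_orderOf_eq_one, one_mul]
      have k6 : g * h1 f = h1 f * g := by
        have := (Commute.pow_left (show Commute (g ^ 2) (h1 f) from k1) (j + 1)).eq
        rwa [k5] at this
      rw [k6, mul_inv_cancel_right]
      exact h.h1_mem
    · exfalso
      have k4 := comm_of_odd (pow_orderOf_eq_one g) ho k (hcB b hb) (h.Bu_pow hb)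
      rw [k4, mul_one, mul_inv_eq_iff_eq_mul, ← het] at k
      have k5 : g * h1 f * g⁻¹ = h1 f := by
        have e2 : g * (g * h1 f * g⁻¹) = g * h1 f := by rw [k, inv_mul_cancel_right]
        exact mul_left_cancel e2
      apply hnm
      rw [k5]
      exact h.h1_mem
    · exact k
  have hbb : b * b = 1 := by
    have k1 : (g * (t * u) * g⁻¹) * (g * (t * u) * g⁻¹) = z1 f := by
      have e1 : (g * (t * u) * g⁻¹) * (g * (t * u) * g⁻¹) = g * ((t * u) * (t * u)) * g⁻¹ := by group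
      rw [e1, hsq, hgz, mul_inv_cancel_right]
    rw [he2] at k1
    have k2 : h1 f * (t * u) * b * (h1 f * (t * u) * b) = z1 f * (b * b) := by
      calc h1 f * (t * u) * b * (h1 f * (t * u) * b)
          = h1 f * (t * u) * (b * (h1 f * (t * u))) * b := by group
        _ = h1 f * (t * u) * ((h1 f * (t * u)) * b) * b := by
            rw [hbc _ (mul_mem (h.Tor_le h.h1_mem) htP)]
        _ = h1 f * ((t * u) * h1 f) * (t * u) * (b * b) := by group
        _ = h1 f * (h1 f * (t * u) * z1 f) * (t * u) * (b * b) := by rw [hht]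
        _ = (h1 f * h1 f) * (t * u) * (z1 f * (t * u)) * (b * b) := by group
        _ = (h1 f * h1 f) * (t * u) * ((t * u) * z1 f) * (b * b) := by rw [hzc _ htP]
        _ = (h1 f * h1 f) * ((t * u) * (t * u)) * z1 f * (b * b) := by group
        _ = z1 f * (b * b) := by rw [h.h1_sq, hsq, h.z1_sq, one_mul]
    rw [k2] at k1
    exact mul_eq_left.1 k1
  -- the element `t0`
  set t0 := f (M m) 0 (-((2 ^ m : ℕ) : R m)) with ht0d
  have ht0T : t0 ∈ Tor f := h.f_mem_Tor (good_t0 m)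
  have ht0 : t0 * (t * u) * t0⁻¹ = h1 f * (t * u) := conj_t0 h ht
  have ht0' : t0 * (t * u) = h1 f * (t * u) * t0 := mul_inv_eq_iff_eq_mul.1 ht0
  have ht0h : t0 * h1 f = h1 f * t0 := h.Tor_comm ht0T h.h1_mem
  have ht0B : ∀ b ∈ Bu f, t0 * b = b * t0 := fun b hb => h.Tor_comm ht0T (h.Bu_le hb)
  have ht0N : t0 ∈ normalizer (X : Set C) := by
    refine mem_normalizer_of ?_
    intro e he
    obtain ⟨b', hb', k | k | k | k⟩ := mem_cases h hX he ht htu
    · rw [k, ht0B b' hb', mul_inv_cancel_right]; exact hB hb'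
    · have e1 : t0 * (h1 f * b') * t0⁻¹ = (t0 * h1 f * t0⁻¹) * (t0 * b' * t0⁻¹) := by group
      rw [k, e1, ht0h, ht0B b' hb', mul_inv_cancel_right, mul_inv_cancel_right]
      exact mul_mem hh (hB hb')
    · have e1 : t0 * (t * u * b') * t0⁻¹ = (t0 * (t * u) * t0⁻¹) * (t0 * b' * t0⁻¹) := by group
      rw [k, e1, ht0, ht0B b' hb', mul_inv_cancel_right]
      exact mul_mem (mul_mem hh htu) (hB hb')
    · have e1 : t0 * (h1 f * (t * u) * b') * t0⁻¹ = (t0 * h1 f * t0⁻¹) * (t0 * (t * u) * t0⁻¹) * (t0 * b' * t0⁻¹) := by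
        group
      rw [k, e1, ht0h, ht0, ht0B b' hb', mul_inv_cancel_right, mul_inv_cancel_right]
      exact mul_mem (mul_mem hh (mul_mem hh htu)) (hB hb')
  -- `k = t0 g t0⁻¹ g`
  have hkB : ∀ b ∈ Bu f, (t0 * g * t0⁻¹ * g) * b = b * (t0 * g * t0⁻¹ * g) := by
    intro b' hb'
    have c1 : Commute t0 b' := ht0B b' hb'
    have c2 : Commute g b' := hcB b' hb'
    exact (((c1.mul_left c2).mul_left c1.inv_left).mul_left c2).eq
  have hk1 : (t0 * g * t0⁻¹ * g) * h1 f * (t0 * g * t0⁻¹ * g)⁻¹ = h1 f * (z1 f * b) := by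
    have e1 : (t0 * g * t0⁻¹ * g) * h1 f * (t0 * g * t0⁻¹ * g)⁻¹ =
        t0 * (g * (t0⁻¹ * (g * h1 f * g⁻¹) * t0) * g⁻¹) * t0⁻¹ := by group
    have e2 : t0⁻¹ * (t * u) * t0 = (h1 f)⁻¹ * (t * u) := by
      have k1 : t0⁻¹ * (t * u) * t0 = t0⁻¹ * ((h1 f)⁻¹ * (h1 f * (t * u) * t0)) := by group
      rw [k1, ← ht0']
      have k2 : t0⁻¹ * ((h1 f)⁻¹ * (t0 * (t * u))) = (t0⁻¹ * (h1 f)⁻¹ * t0) * (t * u) := by group
      have k3 : t0⁻¹ * (h1 f)⁻¹ * t0 = (h1 f)⁻¹ := by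
        have : (h1 f)⁻¹ * t0 = t0 * (h1 f)⁻¹ := h.Tor_comm (inv_mem h.h1_mem) ht0T
        rw [mul_assoc, this, inv_mul_cancel_left]
      rw [k2, k3]
    have e3 : g * ((h1 f)⁻¹ * (t * u)) * g⁻¹ = (t * u)⁻¹ * (h1 f * (t * u) * b) := by
      have k1 : g * ((h1 f)⁻¹ * (t * u)) * g⁻¹ = (g * h1 f * g⁻¹)⁻¹ * (g * (t * u) * g⁻¹) := by group
      rw [k1, het, he2]
    have e4 : t0 * ((t * u)⁻¹ * (h1 f * (t * u) * b)) * t0⁻¹ =
        (t0 * (t * u) * t0⁻¹)⁻¹ * ((t0 * h1 f * t0⁻¹) * (t0 * (t * u) * t0⁻¹) * (t0 * b * t0⁻¹)) := by group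
    rw [e1, het, e2, e3, e4, ht0, ht0h, ht0B b hb, mul_inv_cancel_right, mul_inv_cancel_right]
    have e5 : (h1 f * (t * u))⁻¹ * (h1 f * (h1 f * (t * u)) * b) = (t * u)⁻¹ * (h1 f * (t * u)) * b := by group
    rw [e5]
    have e6 : h1 f * (t * u) = (t * u) * h1 f * z1 f := by
      rw [hht, mul_assoc, h.z1_sq, mul_one]
    rw [e6]
    group
  have hk2 : (t0 * g * t0⁻¹ * g) * (t * u) * (t0 * g * t0⁻¹ * g)⁻¹ = z1 f * (t * u) := by
    have e1 : (t0 * g * t0⁻¹ * g) * (t * u) * (t0 * g * t0⁻¹ * g)⁻¹ =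
        t0 * (g * (t0⁻¹ * (g * (t * u) * g⁻¹) * t0) * g⁻¹) * t0⁻¹ := by group
    have e2 : t0⁻¹ * (h1 f * (t * u) * b) * t0 = (t * u) * b := by
      have k1 : t0⁻¹ * (h1 f * (t * u) * b) * t0 = t0⁻¹ * (h1 f * (t * u) * (b * t0)) := by group
      rw [k1, ← ht0B b hb]
      have k2 : t0⁻¹ * (h1 f * (t * u) * (t0 * b)) = t0⁻¹ * (h1 f * (t * u) * t0) * b := by group
      rw [k2, ← ht0', inv_mul_cancel_left]
    have e3 : g * ((t * u) * b) * g⁻¹ = h1 f * (t * u) := by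
      have k1 : g * ((t * u) * b) * g⁻¹ = (g * (t * u) * g⁻¹) * (g * b * g⁻¹) := by group
      rw [k1, he2, hcB b hb, mul_inv_cancel_right, mul_assoc _ b b, hbb, mul_one]
    have e4 : t0 * (h1 f * (t * u)) * t0⁻¹ = (t0 * h1 f * t0⁻¹) * (t0 * (t * u) * t0⁻¹) := by group
    rw [e1, he2, e2, e3, e4, ht0, ht0h, mul_inv_cancel_right, ← mul_assoc, h.h1_sq]
  have hkN : t0 * g * t0⁻¹ * g ∈ normalizer (X : Set C) :=
    mul_mem (mul_mem (mul_mem ht0N hg) (inv_mem ht0N)) hg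
  have hktriv : t0 * g * t0⁻¹ * g ∈ triv h hX := by
    set k := t0 * g * t0⁻¹ * g with hk
    have hkB' : ∀ b ∈ Bu f, k * b * k⁻¹ = b := fun b hb => by rw [hkB b hb, mul_inv_cancel_right]
    refine ⟨hkN, fun e he => ?_⟩
    obtain ⟨b', hb', k1 | k1 | k1 | k1⟩ := mem_cases h hX he ht htu
    · rw [k1, hkB' b' hb', mul_inv_cancel]; exact one_mem _
    · have e1 : k * (h1 f * b') * k⁻¹ * (h1 f * b')⁻¹ = (k * h1 f * k⁻¹) * (k * b' * k⁻¹) * b'⁻¹ * (h1 f)⁻¹ := by
        group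
      rw [k1, e1, hk1, hkB' b' hb', mul_inv_cancel_right,
        ← h.Tor_comm (h.Bu_le (mul_mem h.z1_mem hb)) h.h1_mem, mul_inv_cancel_right]
      exact mul_mem h.z1_mem hb
    · have e1 : k * (t * u * b') * k⁻¹ * (t * u * b')⁻¹ = (k * (t * u) * k⁻¹) * (k * b' * k⁻¹) * b'⁻¹ * (t * u)⁻¹ := by
        group
      rw [k1, e1, hk2, hkB' b' hb', mul_inv_cancel_right, mul_inv_cancel_right]
      exact h.z1_mem
    · have e1 : k * (h1 f * (t * u) * b') * k⁻¹ * (h1 f * (t * u) * b')⁻¹ =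
          (k * h1 f * k⁻¹) * (k * (t * u) * k⁻¹) * (k * b' * k⁻¹) * b'⁻¹ * (t * u)⁻¹ * (h1 f)⁻¹ := by
        group
      rw [k1, e1, hk1, hk2, hkB' b' hb', mul_inv_cancel_right]
      have e2 : h1 f * (z1 f * b) * (z1 f * (t * u)) * (t * u)⁻¹ * (h1 f)⁻¹ =
          h1 f * (z1 f * (b * z1 f)) * (h1 f)⁻¹ := by group
      have e3 : b * z1 f = z1 f * b := hbc _ (h.Tor_le (h.Bu_le h.z1_mem))
      rw [e2, e3, ← mul_assoc (z1 f), h.z1_sq, one_mul, ← h.Tor_comm (h.Bu_le hb) h.h1_mem, mul_inv_cancel_right]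
      exact hb
  have hbz : b = 1 ∨ b = z1 f := by
    have k0 := triv_mem h hX hF hktriv hkB hh
    rw [hk1, ← h.Tor_comm (h.Bu_le (mul_mem h.z1_mem hb)) h.h1_mem, mul_inv_cancel_right] at k0
    rcases k0 with k | k
    · right
      have := eq_inv_of_mul_eq_one_right k
      rw [h.z1_inv] at this
      exact this
    · left
      exact mul_eq_left.1 k
  refine ⟨t, ht, htu, het, hsq, ?_⟩
  rcases hbz with k | k
  · left; rw [he2, k, mul_one]
  · right; rw [he2, k]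

omit [Finite C] in
/-- the property `Full` is invariant -/
theorem full_map (h : Half P m f u) {y : C} (hy : y ∈ Tor f) (hF : Full P ((Ru f u).map (MulAut.conj y).toMonoidHom) f) :
    Full P (Ru f u) f := by
  intro k hk hkx n hn
  have hyx : y * x4 f = x4 f * y := h.Tor_comm hy (h.Bu_le h.x4_mem)
  have hn' : ∀ g : C, g ∈ normalizer (Ru f u : Set C) ↔
      y * g * y⁻¹ ∈ normalizer (((Ru f u).map (MulAut.conj y).toMonoidHom : Subgroup C) : Set C) := by
    intro g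
    rw [← Cfsg.Agent.Lib.GoldschmidtFusion.map_conj_normalizer, Cfsg.Agent.Lib.GoldschmidtFusion.mem_map_conj]
    have e1 : y⁻¹ * (y * g * y⁻¹) * y = g := by group
    rw [e1]
  have c1 : Commute y (x4 f) := hyx
  have c2 : Commute k (x4 f) := hkx
  obtain ⟨g, hg, hgx, hgP⟩ := hF (y * k * y⁻¹) ((hn' k).1 hk) ((c1.mul_left c2).mul_left c1.inv_left).eq n
    (by rw [conj_pow, hn, mul_one, mul_inv_cancel])
  have c3 : Commute g (x4 f) := hgx
  refine ⟨y⁻¹ * g * y, ?_, ((c1.inv_left.mul_left c3).mul_left c1).eq, ?_⟩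
  · rw [hn']
    have e1 : y * (y⁻¹ * g * y) * y⁻¹ = g := by group
    rwa [e1]
  · have e1 : y⁻¹ * g * y * k * (y⁻¹ * g * y)⁻¹ = y⁻¹ * (g * (y * k * y⁻¹) * g⁻¹) * y := by group
    rw [e1]
    exact mul_mem (mul_mem (inv_mem (h.Tor_le hy)) hgP) (h.Tor_le hy)

omit [Finite C] in
theorem mem_normalizer_conj {y g : C}
    (hg : g ∈ normalizer (((Ru f u).map (MulAut.conj y).toMonoidHom : Subgroup C) : Set C)) :
    y⁻¹ * g * y ∈ normalizer (Ru f u : Set C) := by
  rw [← Cfsg.Agent.Lib.GoldschmidtFusion.map_conj_normalizer, Cfsg.Agent.Lib.GoldschmidtFusion.mem_map_conj] at hg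
  exact hg

/-! ### Change of frame -/

omit [Finite C] in
theorem x4_sq (h : Half P m f u) : x4 f * x4 f = 1 := by
  rw [x4, h.f_mul _ _ _ _ _ _ BOne.goodx4 BOne.goodx4, N_add_N, add_zero, h.f_zero]

omit [Finite C] in
theorem twist (h : Half P m f u) : Half P m f (x4 f * u) where
  f_mul := h.f_mul
  f_inj := h.f_inj
  u_u := by
    have k1 : x4 f * u = u * x4 f := h.Bu_comm h.x4_mem h.u_mem
    have e1 : x4 f * u * (x4 f * u) = x4 f * (u * x4 f) * u := by group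
    rw [e1, ← k1]
    have e2 : x4 f * (x4 f * u) * u = (x4 f * x4 f) * (u * u) := by group
    rw [e2, x4_sq h, h.u_u, mul_one]
  u_f := by
    intro p q r hg
    rw [mul_assoc, h.u_f p q r hg, ← mul_assoc, h.Tor_comm (h.Bu_le h.x4_mem) (h.f_mem_Tor hg.actu), mul_assoc]
  mem_iff := by
    intro g
    rw [h.mem_iff]
    have k1 : ∀ p q r : R m, Good p q r → f (p + 0) (q + N m) (r + N m) * (x4 f * u) = f p q r * u := by
      intro p q r hg
      rw [← mul_assoc, x4, h.f_mul _ _ _ _ _ _ (hg.add BOne.goodx4) BOne.goodx4, add_zero, add_zero, add_assoc, N_add_N,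
        add_zero, add_assoc, N_add_N, add_zero]
    constructor
    · rintro ⟨p, q, r, hg, k | k⟩
      · exact ⟨p, q, r, hg, Or.inl k⟩
      · exact ⟨_, _, _, hg.add BOne.goodx4, Or.inr (by rw [k1 p q r hg]; exact k)⟩
    · rintro ⟨p, q, r, hg, k | k⟩
      · exact ⟨p, q, r, hg, Or.inl k⟩
      · refine ⟨_, _, _, hg.add BOne.goodx4, Or.inr ?_⟩
        rw [k, ← mul_assoc, x4, h.f_mul _ _ _ _ _ _ hg BOne.goodx4]

omit [Finite C] in
theorem Ru_twist (h : Half P m f u) : Ru f (x4 f * u) = Ru f u := by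
  apply le_antisymm
  · refine sup_le le_sup_left ?_
    rw [closure_le]
    rintro x (rfl | rfl)
    · exact h1_mem_Ru
    · exact mul_mem (Bu_le_Ru h.x4_mem) u_mem_Ru
  · refine sup_le le_sup_left ?_
    rw [closure_le]
    rintro x (hx | hx)
    · rw [hx]; exact h1_mem_Ru
    · have k1 : u = x4 f * (x4 f * u) := by rw [← mul_assoc, x4_sq h, one_mul]
      have hx' : x = u := hx
      rw [hx', k1]
      exact mul_mem (Bu_le_Ru h.x4_mem) (by rw [← k1]; exact u_mem_Ru)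

end Half

end Cfsg.Agent.LFourB.EssFour
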