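import Cfsg.Agent.LFourB.EssHalf

/-!
# Essential subgroups of `T ⟨u⟩` not containing the torus

They are conjugate to `B ⟨h1, u⟩`, and an odd automorphism permutes `h1`, `u ..`, `h1 u ..` cyclically.
-/

set_option autoImplicit false

namespace Cfsg.Agent.LFourB.EssOne

open Subgroup Cfsg.Agent.Lib.GoldschmidtFusion Cfsg.Agent.Lib.EssentialFusion
open Cfsg.Agent.LFourB.EssHalf

/-! ### Generalities -/

section General

variable {C : Type*} [Group C]

/-- an odd automorphism moving an element by a fixed 2-element is trivial on it -/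
theorem comm_of_odd {g a c : C} {k n : ℕ} (hg : g ^ n = 1) (hn : ¬ 2 ∣ n) (hc : g * a * g⁻¹ = a * c)
    (hgc : g * c = c * g) (h2 : c ^ 2 ^ k = 1) : c = 1 := by
  have h1 : ∀ j : ℕ, g ^ j * a * (g ^ j)⁻¹ = a * c ^ j := by
    intro j
    induction j with
    | zero => simp
    | succ j ih =>
      have e1 : g ^ (j + 1) * a * (g ^ (j + 1))⁻¹ = g * (g ^ j * a * (g ^ j)⁻¹) * g⁻¹ := by
        rw [pow_succ', mul_inv_rev]; group
      have h3 : g * c ^ j * g⁻¹ = c ^ j := by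
        have h4 : Commute g (c ^ j) := Commute.pow_right hgc j
        rw [h4.eq, mul_inv_cancel_right]
      have e2 : g * (a * c ^ j) * g⁻¹ = (g * a * g⁻¹) * (g * c ^ j * g⁻¹) := by group
      rw [e1, ih, e2, hc, h3, mul_assoc, ← pow_succ']
  have h3 := h1 n
  rw [hg, one_mul, inv_one, mul_one, left_eq_mul] at h3
  have h4 : orderOf c ∣ n := orderOf_dvd_of_pow_eq_one h3
  have h5 : orderOf c ∣ 2 ^ k := orderOf_dvd_of_pow_eq_one h2
  have h6 : Nat.Coprime n (2 ^ k) := Nat.Coprime.pow_right _ ((Nat.Prime.coprime_iff_not_dvd Nat.prime_two).2 hn).symm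
  exact orderOf_eq_one_iff.1 (Nat.dvd_one.1 (h6 ▸ Nat.dvd_gcd h4 h5))

/-- an odd automorphism of an abelian 2-group `B` fixing the involutions is trivial -/
theorem comm_of_omega {B : Subgroup C} (hB : ∀ a ∈ B, ∀ b ∈ B, a * b = b * a) {g : C} {n : ℕ} (hg : g ^ n = 1)
    (hn : ¬ 2 ∣ n) (hgB : ∀ b ∈ B, g * b * g⁻¹ ∈ B) (hom : ∀ b ∈ B, b * b = 1 → g * b = b * g) :
    ∀ (k : ℕ), ∀ b ∈ B, b ^ 2 ^ k = 1 → g * b = b * g := by
  intro k
  induction k with
  | zero =>
    intro b _ hb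
    rw [pow_zero, pow_one] at hb
    rw [hb, mul_one, one_mul]
  | succ k ih =>
    intro b hb hbk
    have h1 : g * (b * b) = b * b * g := by
      refine ih (b * b) (mul_mem hb hb) ?_
      rw [← pow_two, ← pow_mul, ← pow_succ']
      exact hbk
    set c := b⁻¹ * (g * b * g⁻¹) with hcd
    have hcB : c ∈ B := mul_mem (inv_mem hb) (hgB b hb)
    have h2 : g * b * g⁻¹ = b * c := by rw [hcd, mul_inv_cancel_left]
    have h3 : (g * b * g⁻¹) * (g * b * g⁻¹) = b * b := by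
      have e1 : (g * b * g⁻¹) * (g * b * g⁻¹) = g * (b * b) * g⁻¹ := by group
      rw [e1, h1, mul_inv_cancel_right]
    have h4 : c * c = 1 := by
      rw [h2] at h3
      have e1 : b * c * (b * c) = b * b * (c * c) := by
        rw [mul_assoc, ← mul_assoc c, hB c hcB b hb]
        group
      rw [e1] at h3
      exact mul_eq_left.1 h3
    have h5 : c = 1 := comm_of_odd (k := 1) hg hn h2 (hom c hcB h4) (by rw [pow_one, pow_two]; exact h4)
    rw [h5, mul_one] at h2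
    exact mul_inv_eq_iff_eq_mul.1 h2

theorem pow_orderOf_odd {g : C} (hg : Nat.Coprime (orderOf g) 2) : ¬ 2 ∣ orderOf g := by
  intro h
  have := Nat.dvd_gcd h dvd_rfl
  rw [hg] at this
  omega

/-- an essential subgroup has an odd automorphism -/
theorem exists_odd [Finite C] {P : Sylow 2 C} {X : Subgroup C} (hX : Ess P X) :
    ∃ g ∈ normalizer (X : Set C), ¬ 2 ∣ orderOf g ∧ g ∉ centralizer (X : Set C) := by
  by_contra hcon
  push Not at hcon
  have h1 := hX.inf_le (A := normalizer (X : Set C)) le_rfl le_normalizer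
    (fun g hg hc => hcon g hg (pow_orderOf_odd hc))
  have h2 := lt_inf_normalizer P.isPGroup' hX.lt
  exact absurd (h2.trans_le (by rw [inf_comm]; exact h1)) (lt_irrefl _)

end General

/-! ### Centric subgroups with an odd automorphism -/

section Half

variable {C : Type*} [Group C] {P : Subgroup C} {m : ℕ} {f : R m → R m → R m → C} {u : C} {X : Subgroup C}

/-- A centric subgroup `X` of `P = T ⟨u⟩` with `X ⊓ T = B ⟨h1⟩`, not contained in `T`. -/
structure EX (P X : Subgroup C) (f : R m → R m → R m → C) (u : C) : Prop where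
  le : X ≤ P
  cen : centralizer (X : Set C) ⊓ P ≤ X
  tu : ∃ t ∈ Tor f, t * u ∈ X
  h1X : h1 f ∈ X
  two : ∀ p q r, Good p q r → f p q r ∈ X → 2 * p = 0

theorem Bu_le' (h : Half P m f u) (hX : X ≤ P) (hc : centralizer (X : Set C) ⊓ P ≤ X) : Bu f ≤ X := by
  intro b hb
  refine hc (mem_inf.2 ⟨mem_centralizer_iff.2 ?_, h.Tor_le (h.Bu_le hb)⟩)
  intro e he
  exact (h.Bu_comm hb (hX he)).symm

theorem exists_tu (h : Half P m f u) (hX : X ≤ P) (hT : ¬ X ≤ Tor f) : ∃ t ∈ Tor f, t * u ∈ X := by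
  by_contra hcon
  push Not at hcon
  apply hT
  intro e he
  rcases h.mem_or (hX he) with h2 | ⟨t, ht, rfl⟩
  · exact h2
  · exact absurd he (hcon t ht)

theorem conj_mem_of {g : C} (hg : g ∈ normalizer (X : Set C)) {x : C} (hx : x ∈ X) : g * x * g⁻¹ ∈ X :=
  (mem_normalizer_iff.1 hg x).1 hx

theorem conj_mem_of' {g : C} (hg : g ∈ normalizer (X : Set C)) {x : C} (hx : x ∈ X) : g⁻¹ * x * g ∈ X := by
  have := (mem_normalizer_iff.1 (inv_mem hg) x).1 hx
  rwa [inv_inv] at this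

/-- if `X ∩ T` contains an element with `2 p ≠ 0`, it is normalised by `N(X)` -/
theorem inf_invariant (h : Half P m f u) (hXP : X ≤ P) {t : C} (ht : t ∈ Tor f) (htu : t * u ∈ X)
    {p q r : R m} (hg : Good p q r) (ha : f p q r ∈ X) (hp : 2 * p ≠ 0) {g : C}
    (hgN : g ∈ normalizer (X : Set C)) {a : C} (haX : a ∈ X) (haT : a ∈ Tor f) : g * a * g⁻¹ ∈ Tor f := by
  -- a commutator not centralised by elements outside the torus
  have hgc : Good (2 * p) 0 (-p) := BOne.goodq1 p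
  have hc : f (2 * p) 0 (-p) = f p q r * ((t * u) * (f p q r)⁻¹ * (t * u)⁻¹) := by
    rw [h.f_inv hg, h.conj_f ht hg.neg, h.f_mul _ _ _ _ _ _ hg hg.neg.actu]
    congr 1 <;> ring
  have hgaX : g * a * g⁻¹ ∈ X := conj_mem_of hgN haX
  by_contra hn
  rcases h.mem_or (hXP hgaX) with h1 | ⟨t', ht', h1⟩
  · exact hn h1
  -- `g a g⁻¹` centralises all commutators
  have h2 : ∀ e ∈ X, ∀ e' ∈ X, (g * a * g⁻¹) * (e * e' * e⁻¹ * e'⁻¹) = (e * e' * e⁻¹ * e'⁻¹) * (g * a * g⁻¹) := by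
    intro e he e' he'
    have h5 := h.Tor_comm haT (h.commutator_mem (hXP (conj_mem_of' hgN he)) (hXP (conj_mem_of' hgN he')))
    have h6 : (g⁻¹ * e * g) * (g⁻¹ * e' * g) * (g⁻¹ * e * g)⁻¹ * (g⁻¹ * e' * g)⁻¹ =
        g⁻¹ * (e * e' * e⁻¹ * e'⁻¹) * g := by group
    rw [h6] at h5
    have h7 : g * (a * (g⁻¹ * (e * e' * e⁻¹ * e'⁻¹) * g)) * g⁻¹ =
        g * ((g⁻¹ * (e * e' * e⁻¹ * e'⁻¹) * g) * a) * g⁻¹ := by rw [h5]
    calc (g * a * g⁻¹) * (e * e' * e⁻¹ * e'⁻¹) = g * (a * (g⁻¹ * (e * e' * e⁻¹ * e'⁻¹) * g)) * g⁻¹ := by group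
      _ = g * ((g⁻¹ * (e * e' * e⁻¹ * e'⁻¹) * g) * a) * g⁻¹ := h7
      _ = _ := by group
  have h8 := h2 _ ha _ htu
  have h9 : f p q r * (t * u) * (f p q r)⁻¹ * (t * u)⁻¹ = f (2 * p) 0 (-p) := by rw [hc]; group
  rw [h9, h1] at h8
  have h10 := h.conj_f ht' hgc
  rw [h8, mul_inv_cancel_right, h.f_eq_iff hgc hgc.actu] at h10
  apply hp
  linear_combination -h10.2.2

/-- powers `e ^ (2 ^ (m + 2))` of elements of `B` and `T u` -/
theorem pow_eq (h : Half P m f u) {e : C} (he : e ∈ Bu f ∨ ∃ t ∈ Tor f, e = t * u) :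
    ∃ p q r, Good p q r ∧ e ^ 2 ^ (m + 2) = f 0 (N m * q) (N m * r + M m * p) := by
  have k1 : ((2 ^ (m + 1) : ℕ) : R m) * 2 = N m := by rw [N]; push_cast; ring
  rcases he with he | ⟨t, ht, rfl⟩
  · obtain ⟨q, r, hg, rfl⟩ := h.mem_Bu.1 he
    refine ⟨0, q, r, hg, ?_⟩
    rw [h.f_pow hg, N, mul_zero, mul_zero, add_zero]
  · obtain ⟨p, q, r, hg, rfl⟩ := h.mem_Tor.1 ht
    refine ⟨p, q, r, hg, ?_⟩
    have k2 : (f p q r * u) ^ 2 = f 0 (2 * q) (2 * r + p) := by
      have e1 : (f p q r * u) ^ 2 = f p q r * (u * f p q r * u) := by rw [pow_two]; group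
      rw [e1, h.u_f_u hg, h.f_mul _ _ _ _ _ _ hg hg.actu]
      congr 1 <;> ring
    have hgg : Good 0 (2 * q) (2 * r + p) := by
      have := hg.add hg.actu
      rw [add_neg_cancel] at this
      have e1 : q + q = 2 * q := by ring
      have e2 : r + (r + p) = 2 * r + p := by ring
      rwa [e1, e2] at this
    rw [pow_succ' 2 (m + 1), pow_mul, k2, h.f_pow hgg, mul_zero]
    congr 1
    · rw [← mul_assoc, k1]
    · rw [mul_add, ← mul_assoc, k1]; rfl

theorem exists_two_mul {m : ℕ} {p : R m} (hp : N m * p = 0) : ∃ c, p = 2 * c := by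
  by_contra hcon
  have k1 : par m p ≠ 0 := fun k => hcon (par_eq_zero_iff.1 k)
  have k2 : par m (p - 1) = 0 := by
    rw [map_sub, map_one]
    revert k1
    generalize par m p = x
    revert x
    decide
  obtain ⟨c, hc⟩ := par_eq_zero_iff.1 k2
  have k3 : p = 2 * c + 1 := by linear_combination hc
  rw [k3] at hp
  apply N_ne_zero (m := m)
  have k4 : (2 : R m) * N m = 0 := two_mul_N
  linear_combination hp - c * k4

theorem pow_eq_z1 (h : Half P m f u) {e : C} (he : e ∈ Bu f ∨ ∃ t ∈ Tor f, e = t * u)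
    (h2 : e ^ 2 ^ (m + 2) * e ^ 2 ^ (m + 2) = 1) : e ^ 2 ^ (m + 2) = 1 ∨ e ^ 2 ^ (m + 2) = z1 f := by
  obtain ⟨p, q, r, ⟨c, hc⟩, hpow⟩ := pow_eq h he
  have k4 : (2 : R m) * N m = 0 := two_mul_N
  have k5 : (2 : R m) * M m = N m := two_mul_M
  have hg : Good 0 (N m * q) (N m * r + M m * p) :=
    ⟨0, by linear_combination N m * hc + k5 * p + (2 * c) * k4⟩
  rw [hpow] at h2 ⊢
  rw [h.f_mul _ _ _ _ _ _ hg hg, h.f_eq_one_iff (hg.add hg)] at h2
  obtain ⟨-, -, h3⟩ := h2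
  have k6 : N m * p = 0 := by linear_combination h3 - k5 * p - r * k4
  obtain ⟨p', rfl⟩ := exists_two_mul k6
  have k7 : N m * q = 0 := by linear_combination N m * hc - k4 * p' - k4 * r + 2 * c * k4
  have k8 : N m * r + M m * (2 * p') = N m * (r + p') := by linear_combination p' * k5
  rw [k7, k8]
  have k9 : 2 * (N m * (r + p')) = 0 := by linear_combination (r + p') * k4
  rcases eq_of_two_mul k9 with k | k
  · left; rw [k, h.f_zero]
  · right; rw [k]; rfl

theorem w0_pow (h : Half P m f u) : Good (0 : R m) 2 3 ∧ f 0 2 3 ^ 2 ^ (m + 2) = z1 f := by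
  have hg : Good (0 : R m) 2 3 := ⟨2, by ring⟩
  refine ⟨hg, ?_⟩
  rw [h.f_pow hg, z1]
  have k4 : (2 : R m) * N m = 0 := two_mul_N
  have e1 : ((2 ^ (m + 2) : ℕ) : R m) = N m := rfl
  rw [e1, mul_zero]
  congr 1
  · linear_combination k4
  · linear_combination k4

/-- `z1` is fixed by `g` as soon as `g w0 g⁻¹` is in `B` or outside `T` -/
theorem conj_z1_of (h : Half P m f u) {g : C} (hg : g * f 0 2 3 * g⁻¹ ∈ Bu f ∨ ∃ t ∈ Tor f, g * f 0 2 3 * g⁻¹ = t * u) :
    g * z1 f = z1 f * g := by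
  obtain ⟨hg0, hw0⟩ := w0_pow h
  have k1 : g * z1 f * g⁻¹ = (g * f 0 2 3 * g⁻¹) ^ 2 ^ (m + 2) := by
    rw [← hw0, conj_pow]
  have k3 := pow_eq_z1 h hg (by
    rw [← k1]
    have e1 : g * z1 f * g⁻¹ * (g * z1 f * g⁻¹) = g * (z1 f * z1 f) * g⁻¹ := by group
    rw [e1, h.z1_sq, mul_one, mul_inv_cancel])
  rw [← k1] at k3
  rcases k3 with k | k
  · exfalso
    apply h.z1_ne
    have := congrArg (fun x => g⁻¹ * x * g) k
    simpa [mul_assoc] using this
  · exact mul_inv_eq_iff_eq_mul.1 k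

theorem omega_comm (h : Half P m f u) {g : C} (hx : g * x4 f = x4 f * g) (hz : g * z1 f = z1 f * g) {b : C}
    (hb : b ∈ Bu f) (hbb : b * b = 1) : g * b = b * g := by
  rcases h.omega hb hbb with rfl | rfl | rfl | rfl
  · rw [mul_one, one_mul]
  · exact hz
  · exact hx
  · rw [← mul_assoc, hx, mul_assoc, hz, mul_assoc]

/-- an odd element normalising `B` and commuting with `x4` centralises `B` -/
theorem odd_comm_Bu' (h : Half P m f u) {g : C} (hx : g * x4 f = x4 f * g) (ho : ¬ 2 ∣ orderOf g)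
    (hgB : ∀ b ∈ Bu f, g * b * g⁻¹ ∈ Bu f) {b : C} (hb : b ∈ Bu f) : g * b = b * g := by
  have hz : g * z1 f = z1 f * g := conj_z1_of h (Or.inl (hgB _ (h.f_mem_Bu (w0_pow h).1)))
  exact comm_of_omega (B := Bu f) (fun a ha b hb => h.Tor_comm (h.Bu_le ha) (h.Bu_le hb)) (pow_orderOf_eq_one g) ho
    hgB (fun b hb hbb => omega_comm h hx hz hb hbb) (m + 3) b hb (h.Bu_pow hb)

theorem mem_Bu_of_comm' (h : Half P m f u) (hXP : X ≤ P) {t : C} (ht : t ∈ Tor f) (htu : t * u ∈ X)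
    {p q r : R m} (hg : Good p q r) (ha : f p q r ∈ X) (hp : p ≠ 0) {e : C} (he : e ∈ X)
    (hc : ∀ x ∈ X, x * e = e * x) : e ∈ Bu f := by
  rcases h.mem_or (hXP he) with k | ⟨t', ht', rfl⟩
  · obtain ⟨p', q', r', hg', rfl⟩ := h.mem_Tor.1 k
    have k1 := h.conj_f ht hg'
    rw [hc _ htu, mul_inv_cancel_right, h.f_eq_iff hg' hg'.actu] at k1
    have : p' = 0 := by linear_combination -k1.2.2
    subst this
    exact h.f_mem_Bu hg'
  · exfalso
    have k1 := h.conj_f ht' hg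
    rw [← hc _ ha, mul_inv_cancel_right, h.f_eq_iff hg hg.actu] at k1
    apply hp
    linear_combination -k1.2.2

theorem conj_Bu' (h : Half P m f u) (hXP : X ≤ P) (hcen : centralizer (X : Set C) ⊓ P ≤ X) {t : C}
    (ht : t ∈ Tor f) (htu : t * u ∈ X) {p q r : R m} (hg : Good p q r) (ha : f p q r ∈ X) (hp : p ≠ 0) {g : C}
    (hgN : g ∈ normalizer (X : Set C)) {b : C} (hb : b ∈ Bu f) : g * b * g⁻¹ ∈ Bu f := by
  have hbX := Bu_le' h hXP hcen hb
  refine mem_Bu_of_comm' h hXP ht htu hg ha hp (conj_mem_of hgN hbX) ?_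
  intro x hx
  have k2 := h.Bu_comm hb (hXP (conj_mem_of' hgN hx))
  have k3 : g * (b * (g⁻¹ * x * g)) * g⁻¹ = g * (g⁻¹ * x * g * b) * g⁻¹ := by rw [k2]
  calc x * (g * b * g⁻¹) = g * (g⁻¹ * x * g * b) * g⁻¹ := by group
    _ = g * (b * (g⁻¹ * x * g)) * g⁻¹ := k3.symm
    _ = _ := by group

/-- case `2 p ≠ 0`: odd automorphisms are trivial -/
theorem mem_centralizer_of_two (h : Half P m f u) (hXP : X ≤ P) (hcen : centralizer (X : Set C) ⊓ P ≤ X) {t : C}
    (ht : t ∈ Tor f) (htu : t * u ∈ X) {p q r : R m} (hg : Good p q r) (ha : f p q r ∈ X) (hp : 2 * p ≠ 0) {g : C}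
    (hgN : g ∈ normalizer (X : Set C)) (hx : g * x4 f = x4 f * g) (ho : ¬ 2 ∣ orderOf g) :
    g ∈ centralizer (X : Set C) := by
  have hp' : p ≠ 0 := by rintro rfl; exact hp (mul_zero 2)
  have hgB : ∀ b ∈ Bu f, g * b * g⁻¹ ∈ Bu f := fun b hb => conj_Bu' h hXP hcen ht htu hg ha hp' hgN hb
  have hcB : ∀ b ∈ Bu f, g * b = b * g := fun b hb => odd_comm_Bu' h hx ho hgB hb
  have hinv : ∀ a ∈ X, a ∈ Tor f → g * a * g⁻¹ ∈ Tor f := fun a haX haT =>
    inf_invariant h hXP ht htu hg ha hp hgN haX haT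
  have hinv' : ∀ a ∈ X, a ∈ Tor f → g⁻¹ * a * g ∈ Tor f := fun a haX haT => by
    have := inf_invariant h hXP ht htu hg ha hp (inv_mem hgN) haX haT
    rwa [inv_inv] at this
  -- the element `c = a⁻¹ g a g⁻¹`
  have hsq : ∀ a ∈ X, a ∈ Tor f → g * (a * a) = a * a * g →
      (a⁻¹ * (g * a * g⁻¹)) * (a⁻¹ * (g * a * g⁻¹)) = 1 := by
    intro a haX haT h1
    have k1 := hinv a haX haT
    have k2 := h.Tor_comm k1 (inv_mem haT)
    have k3 : (a⁻¹ * (g * a * g⁻¹)) * (a⁻¹ * (g * a * g⁻¹)) = a⁻¹ * ((g * a * g⁻¹) * a⁻¹) * (g * a * g⁻¹) := by group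
    rw [k3, k2]
    have k4 : a⁻¹ * (a⁻¹ * (g * a * g⁻¹)) * (g * a * g⁻¹) = (a * a)⁻¹ * (g * (a * a) * g⁻¹) := by group
    rw [k4, h1, mul_inv_cancel_right, inv_mul_cancel]
  have hstep : ∀ a ∈ X, a ∈ Tor f → g * (a⁻¹ * (g * a * g⁻¹)) = (a⁻¹ * (g * a * g⁻¹)) * g → g * a = a * g := by
    intro a haX haT h1
    have k1 : g * a * g⁻¹ = a * (a⁻¹ * (g * a * g⁻¹)) := by rw [mul_inv_cancel_left]
    have k2 := comm_of_odd (pow_orderOf_eq_one g) ho k1 h1 (h.Tor_pow (mul_mem (inv_mem haT) (hinv a haX haT)))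
    rw [k2, mul_one] at k1
    exact mul_inv_eq_iff_eq_mul.1 k1
  have hone : ∀ p' q' r' : R m, Good p' q' r' → f p' q' r' ∈ X → 2 * p' = 0 →
      g * f p' q' r' = f p' q' r' * g := by
    intro p' q' r' hg' haX h2
    have haT := h.f_mem_Tor hg'
    rcases eq_of_two_mul h2 with rfl | rfl
    · exact hcB _ (h.f_mem_Bu hg')
    · have hgg : Good (0 : R m) (q' + q') (r' + r') := by
        have := hg'.add hg'
        rwa [N_add_N] at this
      have k1 : f (N m) q' r' * f (N m) q' r' = f 0 (q' + q') (r' + r') := by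
        rw [h.f_mul _ _ _ _ _ _ hg' hg', N_add_N]
      have k2 := hcB _ (h.f_mem_Bu hgg)
      rw [← k1] at k2
      obtain ⟨p2, q2, r2, hg2, k3⟩ := h.mem_Tor.1 (hinv _ haX haT)
      -- `2 p2 = 0`
      have k4 : f p2 q2 r2 * f p2 q2 r2 = f 0 (q' + q') (r' + r') := by
        rw [← k3]
        have e1 : g * f (N m) q' r' * g⁻¹ * (g * f (N m) q' r' * g⁻¹) = g * (f (N m) q' r' * f (N m) q' r') * g⁻¹ := by
          group
        rw [e1, k2, mul_inv_cancel_right, k1]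
      rw [h.f_mul _ _ _ _ _ _ hg2 hg2, h.f_eq_iff (hg2.add hg2) hgg] at k4
      rcases eq_of_add_self k4.1 with rfl | rfl
      · exfalso
        have k5 : g * f (N m) q' r' * g⁻¹ ∈ Bu f := by rw [k3]; exact h.f_mem_Bu hg2
        have k6 := hcB _ k5
        have k7 : g * f (N m) q' r' * g⁻¹ = f (N m) q' r' := by
          have e1 : g * (g * f (N m) q' r' * g⁻¹) = g * f (N m) q' r' * g⁻¹ * g := k6
          rw [inv_mul_cancel_right] at e1
          exact mul_left_cancel e1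
        rw [k7] at k3
        exact N_ne_zero ((h.f_eq_iff hg' hg2).1 k3).1
      · apply hstep _ haX haT
        refine hcB _ ?_
        have hgd := hg2.sub hg'
        rw [sub_self] at hgd
        have e1 : (f (N m) q' r')⁻¹ * (g * f (N m) q' r' * g⁻¹) = f 0 (q2 - q') (r2 - r') := by
          rw [k3, h.f_inv hg', h.f_mul _ _ _ _ _ _ hg'.neg hg2, neg_add_cancel]
          congr 1 <;> ring
        rw [e1]
        exact h.f_mem_Bu hgd
  have hall : ∀ k : ℕ, ∀ p' q' r' : R m, Good p' q' r' → f p' q' r' ∈ X → ((2 ^ k : ℕ) : R m) * p' = 0 →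
      g * f p' q' r' = f p' q' r' * g := by
    intro k
    induction k with
    | zero =>
      intro p' q' r' hg' haX h2
      rw [pow_zero, Nat.cast_one, one_mul] at h2
      exact hone p' q' r' hg' haX (by rw [h2, mul_zero])
    | succ k ih =>
      intro p' q' r' hg' haX h2
      have haT := h.f_mem_Tor hg'
      have k1 : g * (f p' q' r' * f p' q' r') = f p' q' r' * f p' q' r' * g := by
        have e1 := h.f_mul _ _ _ _ _ _ hg' hg'
        rw [e1]
        refine ih _ _ _ (hg'.add hg') (by rw [← e1]; exact mul_mem haX haX) ?_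
        rw [← h2]; push_cast; ring
      apply hstep _ haX haT
      have k2 := hsq _ haX haT k1
      have k3 : (f p' q' r')⁻¹ * (g * f p' q' r' * g⁻¹) ∈ Tor f := mul_mem (inv_mem haT) (hinv _ haX haT)
      have k4 : (f p' q' r')⁻¹ * (g * f p' q' r' * g⁻¹) ∈ X := mul_mem (inv_mem haX) (conj_mem_of hgN haX)
      obtain ⟨p2, q2, r2, hg2, k5⟩ := h.mem_Tor.1 k3
      rw [k5] at k2 k4 ⊢
      rw [h.f_mul _ _ _ _ _ _ hg2 hg2, h.f_eq_one_iff (hg2.add hg2)] at k2
      exact hone _ _ _ hg2 k4 (by rw [two_mul]; exact k2.1)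
  have hT : ∀ a ∈ X, a ∈ Tor f → g * a = a * g := by
    intro a haX haT
    obtain ⟨p', q', r', hg', rfl⟩ := h.mem_Tor.1 haT
    refine hall (m + 3) _ _ _ hg' haX ?_
    have k : ((2 ^ (m + 3) : ℕ) : R m) = 0 := ZMod.natCast_self _
    rw [k, zero_mul]
  have htuT := h.tu_notMem ht
  have hgtu : g * (t * u) = (t * u) * g := by
    have k1 : g * (t * u) * g⁻¹ ∈ X := conj_mem_of hgN htu
    have k2 : g * (t * u) * g⁻¹ ∉ Tor f := by
      intro k
      apply htuT
      have := hinv' _ k1 k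
      have e1 : g⁻¹ * (g * (t * u) * g⁻¹) * g = t * u := by group
      rwa [e1] at this
    have k3 : (t * u)⁻¹ * (g * (t * u) * g⁻¹) ∈ Tor f := by
      rw [h.mul_mem_iff (hXP (inv_mem htu)) (hXP k1), inv_mem_iff]
      tauto
    have k4 : (t * u)⁻¹ * (g * (t * u) * g⁻¹) ∈ X := mul_mem (inv_mem htu) k1
    have k5 : g * (t * u) * g⁻¹ = (t * u) * ((t * u)⁻¹ * (g * (t * u) * g⁻¹)) := by rw [mul_inv_cancel_left]
    have k6 := comm_of_odd (pow_orderOf_eq_one g) ho k5 (hT _ k4 k3) (h.Tor_pow k3)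
    rw [k6, mul_one] at k5
    exact mul_inv_eq_iff_eq_mul.1 k5
  rw [mem_centralizer_iff]
  intro e he
  rcases h.mem_or (hXP he) with k | ⟨t', ht', rfl⟩
  · exact (hT e he k).symm
  · have e1 : t' * u * (t * u)⁻¹ = t' * t⁻¹ := by group
    have k1 : t' * t⁻¹ ∈ X := by rw [← e1]; exact mul_mem he (inv_mem htu)
    have e2 : t' * u = (t' * t⁻¹) * (t * u) := by group
    rw [e2]
    exact (Commute.mul_right (show Commute g _ from hT _ k1 (mul_mem ht' (inv_mem ht))) hgtu).eq.symm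

/-- case `X ⊓ T = B`: odd automorphisms are trivial -/
theorem mem_centralizer_of_Bu (h : Half P m f u) (hXP : X ≤ P) (hcen : centralizer (X : Set C) ⊓ P ≤ X) {t : C}
    (ht : t ∈ Tor f) (htu : t * u ∈ X) (hall : ∀ p q r, Good p q r → f p q r ∈ X → p = 0) {g : C}
    (hgN : g ∈ normalizer (X : Set C)) (hx : g * x4 f = x4 f * g) (ho : ¬ 2 ∣ orderOf g) :
    g ∈ centralizer (X : Set C) := by
  have hB := Bu_le' h hXP hcen
  have hXB : ∀ e ∈ X, e ∈ Tor f → e ∈ Bu f := by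
    intro e he heT
    obtain ⟨p, q, r, hg, rfl⟩ := h.mem_Tor.1 heT
    have := hall p q r hg he
    subst this
    exact h.f_mem_Bu hg
  have hXT : ∀ e ∈ X, e ∈ Bu f ∨ ∃ t ∈ Tor f, e = t * u := by
    intro e he
    rcases h.mem_or (hXP he) with k1 | k1
    · exact Or.inl (hXB e he k1)
    · exact Or.inr k1
  have hab : ∀ a ∈ X, ∀ b ∈ X, a * b = b * a := by
    intro a ha b hb
    rcases hXT a ha with k | ⟨t1, ht1, k⟩
    · exact h.Bu_comm k (hXP hb)
    · rcases hXT b hb with k' | ⟨t2, ht2, k'⟩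
      · exact (h.Bu_comm k' (hXP ha)).symm
      · have e1 : a * b⁻¹ = t1 * t2⁻¹ := by rw [k, k']; group
        have k2 : a * b⁻¹ ∈ Bu f := hXB _ (mul_mem ha (inv_mem hb)) (by rw [e1]; exact mul_mem ht1 (inv_mem ht2))
        have k3 := h.Bu_comm k2 (hXP hb)
        rw [inv_mul_cancel_right] at k3
        calc a * b = (b * (a * b⁻¹)) * b := congrArg (· * b) k3
          _ = b * a := by group
  have hz : g * z1 f = z1 f * g := conj_z1_of h (hXT _ (conj_mem_of hgN (hB (h.f_mem_Bu (w0_pow h).1))))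
  rw [mem_centralizer_iff]
  intro e he
  have hpow : ∀ e ∈ X, e ^ 2 ^ (m + 4) = 1 := by
    intro e he
    have k1 : e * e ∈ Tor f := by
      rw [h.mul_mem_iff (hXP he) (hXP he)]
    rw [pow_succ', pow_mul, pow_two]
    exact h.Tor_pow k1
  refine (comm_of_omega (B := X) hab (pow_orderOf_eq_one g) ho (fun b hb => conj_mem_of hgN hb) ?_ (m + 4) e he
    (hpow e he)).symm
  intro b hb hbb
  rcases hXT b hb with k | ⟨t1, ht1, k⟩
  · exact omega_comm h hx hz k hbb
  · have hbT : b ∉ Tor f := by rw [k]; exact h.tu_notMem ht1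
    have k1 : g * b * g⁻¹ ∈ X := conj_mem_of hgN hb
    have k1' : (g * b * g⁻¹) * (g * b * g⁻¹) = 1 := by
      have e1 : (g * b * g⁻¹) * (g * b * g⁻¹) = g * (b * b) * g⁻¹ := by group
      rw [e1, hbb, mul_one, mul_inv_cancel]
    have k2 : g * b * g⁻¹ ∉ Tor f := by
      intro k3
      have k4 := omega_comm h hx hz (hXB _ k1 k3) k1'
      have k5 : g * b * g⁻¹ = b := by
        have e1 : g * (g * b * g⁻¹) = g * b * g⁻¹ * g := k4
        rw [inv_mul_cancel_right] at e1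
        exact mul_left_cancel e1
      rw [k5] at k3
      exact hbT k3
    have k3 : b⁻¹ * (g * b * g⁻¹) ∈ Tor f := by
      rw [h.mul_mem_iff (hXP (inv_mem hb)) (hXP k1), inv_mem_iff]
      tauto
    have k4 : b⁻¹ * (g * b * g⁻¹) ∈ Bu f := hXB _ (mul_mem (inv_mem hb) k1) k3
    have k5 : (b⁻¹ * (g * b * g⁻¹)) * (b⁻¹ * (g * b * g⁻¹)) = 1 := by
      have e2 : b⁻¹ = b := inv_eq_of_mul_eq_one_left hbb
      rw [e2]
      have e1 : b * (g * b * g⁻¹) * (b * (g * b * g⁻¹)) = b * ((g * b * g⁻¹) * b) * (g * b * g⁻¹) := by group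
      rw [e1, hab _ k1 b hb]
      have e3 : b * (b * (g * b * g⁻¹)) * (g * b * g⁻¹) = (b * b) * ((g * b * g⁻¹) * (g * b * g⁻¹)) := by group
      rw [e3, hbb, k1', mul_one]
    have k6 : g * b * g⁻¹ = b * (b⁻¹ * (g * b * g⁻¹)) := by rw [mul_inv_cancel_left]
    have k7 := comm_of_odd (pow_orderOf_eq_one g) ho k6 (omega_comm h hx hz k4 k5) (h.Bu_pow k4)
    rw [k7, mul_one] at k6
    exact mul_inv_eq_iff_eq_mul.1 k6

/-- **Centric subgroups with a nontrivial odd automorphism.** -/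
theorem EX.of_odd (h : Half P m f u) (hXP : X ≤ P) (hcen : centralizer (X : Set C) ⊓ P ≤ X) (hT : ¬ X ≤ Tor f)
    {g : C} (hgN : g ∈ normalizer (X : Set C)) (hx : g * x4 f = x4 f * g) (ho : ¬ 2 ∣ orderOf g)
    (hgc : g ∉ centralizer (X : Set C)) : EX P X f u := by
  obtain ⟨t, ht, htu⟩ := exists_tu h hXP hT
  have two : ∀ p q r, Good p q r → f p q r ∈ X → 2 * p = 0 := by
    intro p q r hg ha
    by_contra hp
    exact hgc (mem_centralizer_of_two h hXP hcen ht htu hg ha hp hgN hx ho)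
  refine ⟨hXP, hcen, ⟨t, ht, htu⟩, ?_, two⟩
  by_cases hcase : ∀ p q r, Good p q r → f p q r ∈ X → p = 0
  · exact absurd (mem_centralizer_of_Bu h hXP hcen ht htu hcase hgN hx ho) hgc
  · push Not at hcase
    obtain ⟨p, q, r, hg, hfX, hp⟩ := hcase
    have k1 := two _ _ _ hg hfX
    rcases eq_of_two_mul k1 with k2 | k2
    · exact absurd k2 hp
    subst k2
    have hg' : Good (0 : R m) (-q) (-M m - r) := by
      have := BOne.goodh1.sub hg
      rwa [sub_self, zero_sub] at this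
    have k3 : h1 f = f (N m) q r * f 0 (-q) (-M m - r) := by
      rw [h.f_mul _ _ _ _ _ _ hg hg', h1]
      congr 1 <;> ring
    rw [k3]
    exact mul_mem hfX (Bu_le' h hXP hcen (h.f_mem_Bu hg'))

theorem eq_Tor (h : Half P m f u) (hcen : centralizer (X : Set C) ⊓ P ≤ X) (hT : X ≤ Tor f) :
    X = Tor f := by
  refine le_antisymm hT ?_
  intro t ht
  refine hcen (mem_inf.2 ⟨mem_centralizer_iff.2 ?_, h.Tor_le ht⟩)
  intro e he
  exact h.Tor_comm (hT he) ht

end Half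

end Cfsg.Agent.LFourB.EssOne
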