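import Cfsg.Agent.LFourB.EssFive
import Cfsg.Agent.LFourB.Weak
import Cfsg.Agent.Transfer.FusionBasic
import Cfsg.Agent.TwoFusion.IndexTwo
import Cfsg.Agent.SylowSp4.ExtTransfer

/-!
# The torus is not strongly closed in `C_S(x4)` with respect to `C_G(x4)`

Extremal transfer for `S / T V` followed by fusion inside `N_G(P)`, `P = B × ⟨u⟩`.
-/

set_option autoImplicit false

namespace Cfsg.Agent.LFourB.EssSix

open Subgroup Cfsg.Agent.LFourB.EssHalf Cfsg.Agent.LFourB.EssOne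
open Cfsg.Agent.LFourB.EssTwo Cfsg.Agent.LFourB.EssThree Cfsg.Agent.LFourB.EssFour Cfsg.Agent.LFourB.EssFive
open Cfsg.Agent.Transfer.FusionBasic

/-! ### The 2-group -/

section TwoGroup

variable {G : Type*} [Group G] {S : Subgroup G} {m : ℕ} {f : R m → R m → R m → G} {u w : G}

theorem mem_Sx' (h : BOne S m f u w) {g : G} : g ∈ Sx f u ↔ ∃ t ∈ Tor f, g = t ∨ g = t * u := by
  refine mem_sup_zpowers h.u_u fun b hb => ?_
  have k := h.u_conj_Tor hb
  rwa [h.u_inv] at k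

/-- The structure used in the local part. -/
theorem half (h : BOne S m f u w) : Half (Sx f u) m f u where
  f_mul := h.f_mul
  f_inj := h.f_inj
  u_u := h.u_u
  u_f := h.u_f
  mem_iff := by
    intro g
    rw [mem_Sx' h]
    constructor
    · rintro ⟨t, ht, hg⟩
      obtain ⟨p, q, r, hgd, rfl⟩ := h.mem_Tor.1 ht
      exact ⟨p, q, r, hgd, hg⟩
    · rintro ⟨p, q, r, hgd, hg⟩
      exact ⟨_, h.f_mem_Tor hgd, hg⟩

theorem Sx_le (h : BOne S m f u w) : Sx f u ≤ S := by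
  intro g hg
  obtain ⟨t, ht, rfl | rfl⟩ := (mem_Sx' h).1 hg
  · exact h.Tor_le ht
  · exact S.mul_mem (h.Tor_le ht) h.u_mem

theorem rep_three : ∀ i j l : Bool,
    ((if i then Equiv.swap (0 : Fin 4) 1 else 1) * (if j then Equiv.swap 2 3 else 1) *
      (if l then Equiv.swap 0 2 * Equiv.swap 1 3 else 1) : Equiv.Perm (Fin 4)) 3 = 3 → j = false ∧ l = false := by
  decide

/-- `C_S(x4) = T ⟨u⟩` -/
theorem mem_Sx_iff (h : BOne S m f u w) {s : G} : s ∈ Sx f u ↔ s ∈ S ∧ s * x4 f = x4 f * s := by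
  constructor
  · intro hs
    exact ⟨Sx_le h hs, ((half h).Bu_comm (half h).x4_mem hs).symm⟩
  · rintro ⟨hs, hc⟩
    obtain ⟨t, ht, i, j, l, hst⟩ := h.exists_rep hs
    have k1 : h.pi ⟨s, hs⟩ = h.pi ⟨BOne.rep u w i j l, h.rep_mem i j l⟩ := by
      rw [← h.pi_mul_rep ht i j l]
      congr 1
      exact Subtype.ext hst
    have k2 : X f (h.pi ⟨s, hs⟩ 3) = X f 3 := by
      rw [← h.pi_spec ⟨s, hs⟩ 3]
      show s * x4 f * s⁻¹ = x4 f
      rw [hc, mul_inv_cancel_right]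
    have k3 := h.X_injective k2
    rw [k1, h.pi_rep] at k3
    obtain ⟨rfl, rfl⟩ := rep_three i j l k3
    rw [mem_Sx' h]
    refine ⟨t, ht, ?_⟩
    rw [hst]
    cases i
    · left; simp [BOne.rep]
    · right; simp [BOne.rep]

/-- `C_S(x4, u) = P` -/
theorem mem_Pu_of_comm (h : BOne S m f u w) {s : G} (hs : s ∈ S) (hx : s * x4 f = x4 f * s) (hu : s * u = u * s) :
    s ∈ Pu f u := by
  obtain ⟨t, ht, k⟩ := (mem_Sx' h).1 ((mem_Sx_iff h).2 ⟨hs, hx⟩)
  rw [h.mem_Pu]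
  refine ⟨t, h.mem_Bu_iff.2 ⟨ht, ?_⟩, k⟩
  rcases k with rfl | rfl
  · exact hu
  · have : t * u * u = u * t * u := by rw [hu]; group
    exact mul_right_cancel this

theorem Bu_le_Pu : Bu f ≤ Pu f u := le_sup_left

theorem u_mem_Pu : u ∈ Pu f u := mem_sup_right (mem_zpowers u)

theorem Pu_le_Sx (h : BOne S m f u w) : Pu f u ≤ Sx f u := by
  intro g hg
  obtain ⟨b, hb, k⟩ := h.mem_Pu.1 hg
  exact (mem_Sx' h).2 ⟨b, h.Bu_le hb, k⟩

theorem Pu_comm (h : BOne S m f u w) {a b : G} (ha : a ∈ Pu f u) (hb : b ∈ Pu f u) : a * b = b * a := by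
  have key : ∀ c ∈ Bu f, ∀ d ∈ Pu f u, c * d = d * c := fun c hc d hd => (half h).Bu_comm hc (Pu_le_Sx h hd)
  obtain ⟨c, hc, rfl | rfl⟩ := h.mem_Pu.1 ha
  · exact key a hc b hb
  · have k1 : u * b = b * u := by
      obtain ⟨d, hd, rfl | rfl⟩ := h.mem_Pu.1 hb
      · exact (key b hd u u_mem_Pu).symm
      · rw [← mul_assoc, ← key d hd u u_mem_Pu]
    rw [mul_assoc, k1, ← mul_assoc, key c hc b hb, mul_assoc]

/-- Elements of `P` lying in the torus. -/
theorem mem_Bu_of_Pu (h : BOne S m f u w) {a : G} (ha : a ∈ Pu f u) (haT : a ∈ Tor f) : a ∈ Bu f := by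
  rw [h.mem_Bu_iff]
  exact ⟨haT, Pu_comm h ha u_mem_Pu⟩

theorem ub_x4 (h : BOne S m f u w) : ub u w * x4 f = x3 f * ub u w := by
  rw [x4, h.ub_f BOne.goodx4, x3, neg_N, sub_self]

theorem ub_x3 (h : BOne S m f u w) : ub u w * x3 f = x4 f * ub u w := by
  rw [x3, h.ub_f BOne.goodx3, x4, neg_N, zero_sub, neg_N]

theorem ub_z1 (h : BOne S m f u w) : ub u w * z1 f = z1 f * ub u w := by
  rw [z1, h.ub_f BOne.good1, neg_zero, sub_zero]

theorem x4_z1 (h : BOne S m f u w) : x4 f * z1 f = x3 f := by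
  rw [x4, z1, x3, h.f_mul _ _ _ _ _ _ BOne.goodx4 BOne.good1, N_add_N, add_zero, add_zero]

theorem x3_z1 (h : BOne S m f u w) : x3 f * z1 f = x4 f := by
  rw [x4, z1, x3, h.f_mul _ _ _ _ _ _ BOne.goodx3 BOne.good1, zero_add, add_zero, zero_add]

theorem ub_mem_normalizer (h : BOne S m f u w) {b : G} (hb : b ∈ Pu f u) : ub u w * b * (ub u w)⁻¹ ∈ Pu f u := by
  have hT : ∀ t ∈ Tor f, ub u w * t * (ub u w)⁻¹ ∈ Tor f := fun t ht => h.conj_mem_Tor h.ub_mem ht
  have key : ∀ t ∈ Bu f, ub u w * t * (ub u w)⁻¹ ∈ Bu f := by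
    intro t ht
    obtain ⟨htT, hc⟩ := h.mem_Bu_iff.1 ht
    refine h.mem_Bu_iff.2 ⟨hT t htT, ?_⟩
    have k1 : (ub u w)⁻¹ * u = u * (ub u w)⁻¹ := by rw [h.ub_inv]; exact h.ub_mul_u
    calc ub u w * t * (ub u w)⁻¹ * u = ub u w * (t * ((ub u w)⁻¹ * u)) := by group
      _ = ub u w * (t * u) * (ub u w)⁻¹ := by rw [k1]; group
      _ = ub u w * u * t * (ub u w)⁻¹ := by rw [hc]; group
      _ = _ := by rw [h.ub_mul_u]; group
  obtain ⟨c, hc, rfl | rfl⟩ := h.mem_Pu.1 hb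
  · exact Bu_le_Pu (key _ hc)
  · refine h.mem_Pu.2 ⟨_, key c hc, Or.inr ?_⟩
    have k1 : (ub u w)⁻¹ * u = u * (ub u w)⁻¹ := by rw [h.ub_inv]; exact h.ub_mul_u
    rw [mul_assoc _ _ u, k1]; group

/-- The involutions of `P`. -/
theorem invol_Pu (h : BOne S m f u w) {b : G} (hb : b ∈ Bu f) (hbb : b * b = 1) :
    b = 1 ∨ b = z1 f ∨ b = x4 f ∨ b = x3 f := by
  obtain ⟨q, r, hg, rfl⟩ := h.mem_Bu.1 hb
  rw [h.f_mul _ _ _ _ _ _ hg hg, h.f_eq_one_iff (by simpa using hg.add hg)] at hbb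
  obtain ⟨-, k2, k3⟩ := hbb
  rcases eq_of_add_self k2 with rfl | rfl <;> rcases eq_of_add_self k3 with rfl | rfl
  · left; exact h.f_zero
  · right; left; rfl
  · right; right; right; rfl
  · right; right; left; rfl

/-- the sign of the permutation induced on the four involutions `x_i` -/
noncomputable def sgn (h : BOne S m f u w) : S →* ℤˣ := Equiv.Perm.sign.comp h.pi

theorem sgn_u (h : BOne S m f u w) : sgn h ⟨u, h.u_mem⟩ = -1 := by
  show Equiv.Perm.sign (h.pi ⟨u, h.u_mem⟩) = -1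
  rw [h.pi_u]
  exact Equiv.Perm.sign_swap (by decide)

theorem index_ker (h : BOne S m f u w) : (sgn h).ker.index = 2 := by
  rw [Subgroup.index_ker]
  have k1 : (sgn h).range = ⊤ := by
    rw [eq_top_iff]
    intro x _
    rcases Int.units_eq_one_or x with rfl | rfl
    · exact one_mem _
    · exact ⟨⟨u, h.u_mem⟩, sgn_u h⟩
  rw [k1, Nat.card_congr (Subgroup.topEquiv (G := ℤˣ)).toEquiv, Nat.card_eq_fintype_card]
  rfl

/-- `T V` -/
noncomputable def TS (h : BOne S m f u w) : Subgroup G := (sgn h).ker.map S.subtype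

theorem TS_le (h : BOne S m f u w) : TS h ≤ S := map_subtype_le _

theorem relIndex_TS (h : BOne S m f u w) : (TS h).relIndex S = 2 := by
  rw [Subgroup.relIndex, Subgroup.subgroupOf, TS, comap_map_eq_self_of_injective S.subtype_injective]
  exact index_ker h

theorem not_overU_of_TS (h : BOne S m f u w) {g : G} (hg : g ∈ TS h) : ¬ OverU f u w g := by
  obtain ⟨s, hs, rfl⟩ := hg
  intro hU
  have hs1 : Equiv.Perm.sign (h.pi s) = 1 := hs
  rcases (h.overU_iff s.2).1 hU with k | k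
  · have k' : h.pi s = Equiv.swap 0 1 := k
    rw [k', Equiv.Perm.sign_swap (by decide)] at hs1
    exact absurd hs1 (by decide)
  · have k' : h.pi s = Equiv.swap 2 3 := k
    rw [k', Equiv.Perm.sign_swap (by decide)] at hs1
    exact absurd hs1 (by decide)

end TwoGroup

/-! ### Fusion -/

section Fusion

variable {G : Type*} [Group G] {m : ℕ} {f : R m → R m → R m → G} {u w : G}

/-- the torus is strongly closed in `T ⟨u⟩` with respect to `C(x4)` -/
def SC (f : R m → R m → R m → G) (u : G) : Prop :=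
  ∀ g : G, g * x4 f = x4 f * g → ∀ t ∈ Tor f, g * t * g⁻¹ ∈ Sx f u → g * t * g⁻¹ ∈ Tor f

variable [Finite G] {S : Sylow 2 G}

omit [Finite G] in
theorem wcl (h : BOne (S : Subgroup G) m f u w) {g : G} (hg : ∀ t ∈ Tor f, g * t * g⁻¹ ∈ (S : Subgroup G)) :
    ∀ t ∈ Tor f, g * t * g⁻¹ ∈ Tor f := by
  have k := h.weakly_closed (map_conj_le_iff.2 hg)
  intro t ht
  have k2 : g * t * g⁻¹ ∈ (Tor f).map (MulAut.conj g).toMonoidHom := ⟨t, ht, rfl⟩
  rwa [k] at k2

/-- `N(T)` controls fusion in `T`. -/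
theorem exists_norm_conj (h : BOne (S : Subgroup G) m f u w) {a g : G} (ha : a ∈ Tor f)
    (hb : g * a * g⁻¹ ∈ Tor f) : ∃ n ∈ normalizer (Tor f : Set G), n * a * n⁻¹ = g * a * g⁻¹ := by
  have e : g⁻¹ * (g * a * g⁻¹) * g = a := by group
  obtain ⟨n, hn, he⟩ := Cfsg.Agent.TwoFusion.IndexTwo.exists_normalizer_conj S (Tor f) h.Tor_le
    (fun g hg => wcl h hg) (g * a * g⁻¹) g (fun t ht => h.Tor_comm ht hb) (by
      rw [e]
      exact fun t ht => h.Tor_comm ht ha)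
  refine ⟨n, mem_normalizer_of_conj_mem hn, ?_⟩
  rw [e] at he
  calc n * a * n⁻¹ = n * (n⁻¹ * (g * a * g⁻¹) * n) * n⁻¹ := by rw [← he]
    _ = _ := by group

theorem never_both (h : BOne (S : Subgroup G) m f u w) (hsc : SC f u) {g : G} (hx : g * x4 f * g⁻¹ ∈ Tor f)
    (hu : g * u * g⁻¹ ∈ Tor f) : False := by
  obtain ⟨n, hn, hnx⟩ := exists_norm_conj h (h.Bu_le (half h).x4_mem) hx
  set k := n⁻¹ * g with hkd
  have hk : k * x4 f * k⁻¹ = x4 f := by
    have e : k * x4 f * k⁻¹ = n⁻¹ * (g * x4 f * g⁻¹) * n := by rw [hkd]; group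
    rw [e, ← hnx]; group
  have hk' : k⁻¹ * x4 f = x4 f * k⁻¹ := by
    have k1 : k * x4 f = x4 f * k := mul_inv_eq_iff_eq_mul.1 hk
    have k2 := congrArg (fun x => k⁻¹ * x * k⁻¹) k1
    simp only [mul_assoc, mul_inv_cancel, mul_one] at k2
    simpa using k2.symm
  have hku : k * u * k⁻¹ ∈ Tor f := by
    have e : k * u * k⁻¹ = n⁻¹ * (g * u * g⁻¹) * n⁻¹⁻¹ := by rw [hkd]; group
    rw [e]
    exact (mem_normalizer_iff.1 (inv_mem hn) _).1 hu
  have e : k⁻¹ * (k * u * k⁻¹) * k⁻¹⁻¹ = u := by group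
  have k3 := hsc k⁻¹ hk' _ hku (by rw [e]; exact (half h).u_mem)
  rw [e] at k3
  exact h.u_not_mem_Tor k3

/-- All conjugates of `P` in `S` are conjugate to `P` in `S`. -/
theorem exists_conj_Pu' (h : BOne (S : Subgroup G) m f u w) (hsc : SC f u) {g : G}
    (hg : ∀ b ∈ Pu f u, g * b * g⁻¹ ∈ (S : Subgroup G)) :
    ∃ s ∈ (S : Subgroup G), ∀ b ∈ Pu f u, (s * g) * b * (s * g)⁻¹ ∈ Pu f u := by
  have hD : (Pu f u).map (MulAut.conj g).toMonoidHom ≤ (S : Subgroup G) := map_conj_le_iff.2 hg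
  have hab : ∀ x ∈ (Pu f u).map (MulAut.conj g).toMonoidHom, ∀ y ∈ (Pu f u).map (MulAut.conj g).toMonoidHom,
      x * y = y * x := by
    rintro _ ⟨a, ha, rfl⟩ _ ⟨b, hb, rfl⟩
    rw [← map_mul, ← map_mul, Pu_comm h ha hb]
  have hc : 2 ^ (2 * m + 5) ≤ Nat.card ((Pu f u).map (MulAut.conj g).toMonoidHom) := by
    rw [card_map_conj, h.card_Pu]
  obtain ⟨v, hv, hvv, hvT⟩ : ∃ v ∈ Pu f u, v * v = 1 ∧ g * v * g⁻¹ ∉ Tor f := by
    by_contra hcon
    push Not at hcon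
    exact never_both h hsc (hcon _ (Bu_le_Pu (half h).x4_mem) (x4_sq (half h))) (hcon _ u_mem_Pu h.u_u)
  obtain ⟨s, hs, k⟩ := h.exists_conj_Pu hD hab hc (v := g * v * g⁻¹) ⟨v, hv, rfl⟩ hvT (by
    have e : g * v * g⁻¹ * (g * v * g⁻¹) = g * (v * v) * g⁻¹ := by group
    rw [e, hvv, mul_one, mul_inv_cancel])
  refine ⟨s, hs, fun b hb => ?_⟩
  rw [← k]
  refine ⟨g * b * g⁻¹, ⟨b, hb, rfl⟩, ?_⟩
  show s * (g * b * g⁻¹) * s⁻¹ = _
  group

omit [Finite G] in
theorem conj_z1_of_Pu (h : BOne (S : Subgroup G) m f u w) {g : G}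
    (hg : ∀ b ∈ Pu f u, g * b * g⁻¹ ∈ Pu f u) : g * z1 f = z1 f * g := by
  refine conj_z1_of (half h) ?_
  have hg0 : Good (0 : R m) 2 3 := ⟨2, by ring⟩
  obtain ⟨b, hb, k | k⟩ := h.mem_Pu.1 (hg _ (Bu_le_Pu (h.mem_Bu.2 ⟨2, 3, hg0, rfl⟩)))
  · left; rw [k]; exact hb
  · right; exact ⟨b, h.Bu_le hb, k⟩

/-- The extremal transfer. -/
theorem exists_norm_Pu (h : BOne (S : Subgroup G) m f u w) (hsc : SC f u) (hG : ∀ φ : G →* ℤˣ, φ u = 1) :
    ∃ g : G, (∀ b ∈ Pu f u, g * b * g⁻¹ ∈ Pu f u) ∧ g * u * g⁻¹ = x4 f ∧ g * x4 f * g⁻¹ ∉ Tor f := by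
  obtain ⟨g, hgu, hgP⟩ := Cfsg.Agent.SylowSp4.ExtTransfer.exists_extremal S (TS h) (TS_le h) (relIndex_TS h) u h.u_u hG
    (Pu f u) (S.isPGroup'.to_le h.Pu_le) (fun r hr => Pu_comm h hr u_mem_Pu)
  have hgT : g * u * g⁻¹ ∈ Tor f := by
    by_contra hcon
    have hS : g * u * g⁻¹ ∈ (S : Subgroup G) := hgP u u_mem_Pu
    rcases h.involution_cases hS hcon (by
      have e : g * u * g⁻¹ * (g * u * g⁻¹) = g * (u * u) * g⁻¹ := by group
      rw [e, h.u_u, mul_one, mul_inv_cancel]) with k | k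
    · exact not_overU_of_TS h hgu k
    · refine h.not_overV_of_card (D := (Pu f u).map (MulAut.conj g).toMonoidHom) (map_conj_le_iff.2 hgP) ?_ ?_ _ ?_ k
      · rintro _ ⟨a, ha, rfl⟩ _ ⟨b, hb, rfl⟩
        rw [← map_mul, ← map_mul, Pu_comm h ha hb]
      · rw [card_map_conj, h.card_Pu]
      · exact ⟨u, u_mem_Pu, rfl⟩
  obtain ⟨s, hs, hsg⟩ := exists_conj_Pu' h hsc hgP
  have hgx : g * x4 f * g⁻¹ ∉ Tor f := fun hx => never_both h hsc hx hgT
  have hsu : (s * g) * u * (s * g)⁻¹ ∈ Tor f := by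
    have e : (s * g) * u * (s * g)⁻¹ = s * (g * u * g⁻¹) * s⁻¹ := by group
    rw [e]; exact h.conj_mem_Tor hs hgT
  have hsx : (s * g) * x4 f * (s * g)⁻¹ ∉ Tor f := by
    intro hx
    apply hgx
    have e : g * x4 f * g⁻¹ = s⁻¹ * ((s * g) * x4 f * (s * g)⁻¹) * s⁻¹⁻¹ := by group
    rw [e]; exact h.conj_mem_Tor (inv_mem hs) hx
  have hz := conj_z1_of_Pu h hsg
  have huB := mem_Bu_of_Pu h (hsg _ u_mem_Pu) hsu
  have hne : u ≠ 1 := fun e => h.u_not_mem_Tor (e ▸ one_mem _)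
  rcases invol_Pu h huB (by
      have e : (s * g) * u * (s * g)⁻¹ * ((s * g) * u * (s * g)⁻¹) = (s * g) * (u * u) * (s * g)⁻¹ := by group
      rw [e, h.u_u, mul_one, mul_inv_cancel]) with k | k | k | k
  · exfalso
    apply hne
    have := congrArg (fun x => (s * g)⁻¹ * x * (s * g)) k
    simpa [mul_assoc] using this
  · exfalso
    apply h.u_not_mem_Tor
    have k2 : u = (s * g)⁻¹ * z1 f * (s * g) := by rw [← k]; group
    rw [k2, mul_assoc, ← hz, inv_mul_cancel_left]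
    exact h.Bu_le (half h).z1_mem
  · exact ⟨s * g, hsg, k, hsx⟩
  · refine ⟨ub u w * (s * g), ?_, ?_, ?_⟩
    · intro b hb
      have e : ub u w * (s * g) * b * (ub u w * (s * g))⁻¹ = ub u w * ((s * g) * b * (s * g)⁻¹) * (ub u w)⁻¹ := by
        group
      rw [e]; exact ub_mem_normalizer h (hsg b hb)
    · have e : ub u w * (s * g) * u * (ub u w * (s * g))⁻¹ = ub u w * ((s * g) * u * (s * g)⁻¹) * (ub u w)⁻¹ := by
        group
      rw [e, k, ub_x3 h, mul_inv_cancel_right]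
    · intro hx
      apply hsx
      have e : (s * g) * x4 f * (s * g)⁻¹ = (ub u w)⁻¹ * (ub u w * (s * g) * x4 f * (ub u w * (s * g))⁻¹) *
          (ub u w)⁻¹⁻¹ := by group
      rw [e]; exact h.conj_mem_Tor (inv_mem h.ub_mem) hx

/-- Decomposition into a 2-part and an odd part. -/
theorem comm_of_parts {c b : G} (h2 : ∀ (k : ℕ) (n : ℕ), (c ^ k) ^ 2 ^ n = 1 → c ^ k * b = b * c ^ k)
    (ho : ∀ k : ℕ, ¬ 2 ∣ orderOf (c ^ k) → c ^ k * b = b * c ^ k) : c * b = b * c := by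
  obtain ⟨n, o, hod, hno⟩ := Nat.exists_eq_pow_mul_and_not_dvd (orderOf_pos c).ne' 2 (by norm_num)
  have k1 : (c ^ o) ^ 2 ^ n = 1 := by rw [← pow_mul, mul_comm, ← hno, pow_orderOf_eq_one]
  have k2 : (c ^ 2 ^ n) ^ o = 1 := by rw [← pow_mul, ← hno, pow_orderOf_eq_one]
  have k3 : ¬ 2 ∣ orderOf (c ^ 2 ^ n) := fun hd => hod (hd.trans (orderOf_dvd_of_pow_eq_one k2))
  have e1 : Commute (c ^ o) b := h2 o n k1
  have e2 : Commute (c ^ 2 ^ n) b := ho _ k3
  have hcop : Nat.Coprime o (2 ^ n) :=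
    Nat.Coprime.pow_right _ ((Nat.Prime.coprime_iff_not_dvd Nat.prime_two).2 hod).symm
  have hb : (o : ℤ) * Nat.gcdA o (2 ^ n) + ((2 ^ n : ℕ) : ℤ) * Nat.gcdB o (2 ^ n) = 1 := by
    rw [← Nat.gcd_eq_gcd_ab, hcop]; rfl
  have e3 : c = (c ^ o) ^ Nat.gcdA o (2 ^ n) * (c ^ 2 ^ n) ^ Nat.gcdB o (2 ^ n) := by
    rw [← zpow_natCast c o, ← zpow_natCast c (2 ^ n), ← zpow_mul, ← zpow_mul, ← zpow_add, hb, zpow_one]
  rw [e3]
  exact (Commute.mul_left (e1.zpow_left _) (e2.zpow_left _)).eq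

/-- Elements of `N(P)` centralising the involutions of `P` centralise `P`. -/
theorem comm_Pu (h : BOne (S : Subgroup G) m f u w) (hsc : SC f u) {c : G}
    (hc : ∀ b ∈ Pu f u, c * b * c⁻¹ ∈ Pu f u) (hx : c * x4 f = x4 f * c) (hu : c * u = u * c) {b : G}
    (hb : b ∈ Pu f u) : c * b = b * c := by
  have hcN : c ∈ normalizer (Pu f u : Set G) := mem_normalizer_of_conj_mem hc
  refine comm_of_parts ?_ ?_
  · intro k n hn
    set e := c ^ k with he
    have heN : e ∈ normalizer (Pu f u : Set G) := pow_mem hcN k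
    have hex : e * x4 f = x4 f * e := (Commute.pow_left (show Commute c _ from hx) k).eq
    have heu : e * u = u * e := (Commute.pow_left (show Commute c _ from hu) k).eq
    -- a 2-group containing `P` and `e`
    have h2 : IsPGroup 2 ↥(Pu f u ⊔ zpowers e) := by
      refine IsPGroup.to_sup_of_normal_left' (S.isPGroup'.to_le h.Pu_le) ?_ (zpowers_le.2 heN)
      obtain ⟨j, -, hj⟩ := (Nat.dvd_prime_pow Nat.prime_two).1 (orderOf_dvd_of_pow_eq_one hn)
      exact IsPGroup.of_card (n := j) (by rw [Nat.card_zpowers, hj])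
    obtain ⟨g, -, hg⟩ := (sylIn_top S).conj_le le_top h2
    obtain ⟨s, hs, hsg⟩ := exists_conj_Pu' h hsc (g := g) (fun b hb => hg b (mem_sup_left hb))
    have hsgN : s * g ∈ normalizer (Pu f u : Set G) := mem_normalizer_of_conj_mem hsg
    have k1 : (s * g) * e * (s * g)⁻¹ ∈ (S : Subgroup G) := by
      have e1 : (s * g) * e * (s * g)⁻¹ = s * (g * e * g⁻¹) * s⁻¹ := by group
      rw [e1]
      exact mul_mem (mul_mem hs (hg e (mem_sup_right (mem_zpowers e)))) (inv_mem hs)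
    have hez : e * z1 f = z1 f * e := conj_z1_of_Pu h (fun b hb => (mem_normalizer_iff.1 heN b).1 hb)
    -- `e` centralises all involutions of `P`
    have hinv : ∀ v ∈ Pu f u, v * v = 1 → e * v = v * e := by
      intro v hv hvv
      have hB : ∀ a ∈ Bu f, a * a = 1 → e * a = a * e := by
        intro a ha haa
        rcases invol_Pu h ha haa with rfl | rfl | rfl | rfl
        · rw [mul_one, one_mul]
        · exact hez
        · exact hex
        · rw [← x4_z1 h, ← mul_assoc, hex, mul_assoc, hez, mul_assoc]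
      obtain ⟨a, ha, rfl | rfl⟩ := h.mem_Pu.1 hv
      · exact hB _ ha hvv
      · have haa : a * a = 1 := by
          have k2 : a * u = u * a := Pu_comm h (Bu_le_Pu ha) u_mem_Pu
          have k3 : a * u * (a * u) = a * a * (u * u) := by
            calc a * u * (a * u) = a * (u * a) * u := by group
              _ = a * (a * u) * u := by rw [k2]
              _ = _ := by group
          rw [k3, h.u_u, mul_one] at hvv
          exact hvv
        rw [← mul_assoc, hB a ha haa, mul_assoc, heu, mul_assoc]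
    have k2 : ∀ v ∈ Pu f u, v * v = 1 → (s * g) * e * (s * g)⁻¹ * v = v * ((s * g) * e * (s * g)⁻¹) := by
      intro v hv hvv
      have hv' : (s * g)⁻¹ * v * (s * g) ∈ Pu f u := by
        have := (mem_normalizer_iff.1 (inv_mem hsgN) v).1 hv
        rwa [inv_inv] at this
      have k3 := hinv _ hv' (by
        have e1 : (s * g)⁻¹ * v * (s * g) * ((s * g)⁻¹ * v * (s * g)) = (s * g)⁻¹ * (v * v) * (s * g) := by group
        rw [e1, hvv, mul_one, inv_mul_cancel])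
      calc (s * g) * e * (s * g)⁻¹ * v = (s * g) * (e * ((s * g)⁻¹ * v * (s * g))) * (s * g)⁻¹ := by group
        _ = (s * g) * (((s * g)⁻¹ * v * (s * g)) * e) * (s * g)⁻¹ := by rw [k3]
        _ = _ := by group
    have k3 : (s * g) * e * (s * g)⁻¹ ∈ Pu f u :=
      mem_Pu_of_comm h k1 (k2 _ (Bu_le_Pu (half h).x4_mem) (x4_sq (half h))) (k2 _ u_mem_Pu h.u_u)
    have k4 : e ∈ Pu f u := (mem_normalizer_iff.1 hsgN e).2 k3
    exact Pu_comm h k4 hb
  · intro k ho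
    set e := c ^ k with he
    have heN : e ∈ normalizer (Pu f u : Set G) := pow_mem hcN k
    have hex : e * x4 f = x4 f * e := (Commute.pow_left (show Commute c _ from hx) k).eq
    have heu : e * u = u * e := (Commute.pow_left (show Commute c _ from hu) k).eq
    have hez : e * z1 f = z1 f * e := conj_z1_of_Pu h (fun b hb => (mem_normalizer_iff.1 heN b).1 hb)
    obtain ⟨j, hj⟩ := (S.isPGroup'.to_le h.Pu_le) ⟨b, hb⟩
    refine comm_of_omega (B := Pu f u) (fun a ha b hb => Pu_comm h ha hb) (pow_orderOf_eq_one e) ho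
      (fun b hb => (mem_normalizer_iff.1 heN b).1 hb) ?_ j b hb (congrArg Subtype.val hj)
    intro v hv hvv
    have hB : ∀ a ∈ Bu f, a * a = 1 → e * a = a * e := by
      intro a ha haa
      rcases invol_Pu h ha haa with rfl | rfl | rfl | rfl
      · rw [mul_one, one_mul]
      · exact hez
      · exact hex
      · rw [← x4_z1 h, ← mul_assoc, hex, mul_assoc, hez, mul_assoc]
    obtain ⟨a, ha, rfl | rfl⟩ := h.mem_Pu.1 hv
    · exact hB _ ha hvv
    · have haa : a * a = 1 := by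
        have k2 : a * u = u * a := Pu_comm h (Bu_le_Pu ha) u_mem_Pu
        have k3 : a * u * (a * u) = a * a * (u * u) := by
          calc a * u * (a * u) = a * (u * a) * u := by group
            _ = a * (a * u) * u := by rw [k2]
            _ = _ := by group
        rw [k3, h.u_u, mul_one] at hvv
        exact hvv
      rw [← mul_assoc, hB a ha haa, mul_assoc, heu, mul_assoc]

omit [Finite G] in
theorem ss_eq (h : BOne (S : Subgroup G) m f u w) : f 0 2 3 ^ 2 ^ (m + 1) = ss f := by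
  have hg : Good (0 : R m) 2 3 := ⟨2, by ring⟩
  rw [(half h).f_pow hg, ss]
  have e1 : ((2 ^ (m + 1) : ℕ) : R m) = M m := rfl
  have k4 : (4 : R m) * M m = 0 := four_mul_M
  have k5 : (2 : R m) * M m = N m := two_mul_M
  rw [e1, mul_zero]
  congr 1
  · linear_combination k5
  · linear_combination k4

omit [Finite G] in
theorem ub_ss (h : BOne (S : Subgroup G) m f u w) : ub u w * ss f ≠ ss f * ub u w := by
  intro hc
  rw [ss, h.ub_f BOne.goodss] at hc
  have k1 := mul_right_cancel hc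
  have k2 := ((h.f_eq_iff BOne.goodss.actub BOne.goodss).1 k1).2.2
  have k3 : N m = 0 := by linear_combination -k2
  exact N_ne_zero k3

omit [Finite G] in
/-- `2 ^ (m + 1)`-th powers of elements of `P` lie in the torus. -/
theorem pow_mem_Bu (h : BOne (S : Subgroup G) m f u w) {b : G} (hb : b ∈ Pu f u) : b ^ 2 ^ (m + 1) ∈ Bu f := by
  obtain ⟨a, ha, rfl | rfl⟩ := h.mem_Pu.1 hb
  · exact pow_mem ha _
  · have k2 : Commute a u := Pu_comm h (Bu_le_Pu ha) u_mem_Pu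
    rw [k2.mul_pow]
    have k3 : u ^ 2 ^ (m + 1) = 1 := by rw [pow_succ', pow_mul, pow_two, h.u_u, one_pow]
    rw [k3, mul_one]
    exact pow_mem ha _

/-- **The torus is not strongly closed in `T ⟨u⟩` with respect to `C(x4)`.** -/
theorem not_SC (h : BOne (S : Subgroup G) m f u w) (hG : ∀ φ : G →* ℤˣ, φ u = 1) : ¬ SC f u := by
  intro hsc
  obtain ⟨g, hg, hgu, hgx⟩ := exists_norm_Pu h hsc hG
  have hgN : g ∈ normalizer (Pu f u : Set G) := mem_normalizer_of_conj_mem hg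
  have hg' : ∀ b ∈ Pu f u, g⁻¹ * b * g ∈ Pu f u := by
    intro b hb
    have := (mem_normalizer_iff.1 (inv_mem hgN) b).1 hb
    rwa [inv_inv] at this
  have hzg := conj_z1_of_Pu h hg
  -- `k = g⁻¹ h1 g`
  have hh := (half h)
  have hhu : h1 f * u * (h1 f)⁻¹ = z1 f * u := by
    have k1 := hh.u_h1_u
    have k2 : u * h1 f = h1 f * z1 f * u := by
      calc u * h1 f = u * h1 f * u * u := by rw [mul_assoc _ u u, h.u_u, mul_one]
        _ = _ := by rw [k1]
    have k3 : h1 f * z1 f = z1 f * h1 f := hh.Tor_comm hh.h1_mem (hh.Bu_le hh.z1_mem)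
    -- h1 u h1⁻¹ : from `u h1 = z1 h1 u`, `h1 u = z1 u h1`
    have k4 : h1 f * u = z1 f * (u * h1 f) := by
      rw [k2, k3, mul_assoc, ← mul_assoc (z1 f) (z1 f), hh.z1_sq, one_mul]
    rw [k4]; group
  set k := g⁻¹ * h1 f * g with hk
  have hkB : ∀ b ∈ Pu f u, g * b * g⁻¹ ∈ Bu f → k * b = b * k := by
    intro b hb hgb
    have k1 : h1 f * (g * b * g⁻¹) = (g * b * g⁻¹) * h1 f := hh.Tor_comm hh.h1_mem (hh.Bu_le hgb)
    calc k * b = g⁻¹ * (h1 f * (g * b * g⁻¹)) * g := by rw [hk]; group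
      _ = g⁻¹ * ((g * b * g⁻¹) * h1 f) * g := by rw [k1]
      _ = _ := by rw [hk]; group
  have hkb' : ∀ b ∈ Pu f u, g * b * g⁻¹ ∉ Bu f → k * b * k⁻¹ = z1 f * b := by
    intro b hb hgb
    obtain ⟨a, ha, e1 | e1⟩ := h.mem_Pu.1 (hg b hb)
    · exact absurd (e1 ▸ ha) hgb
    have k1 : h1 f * a = a * h1 f := hh.Tor_comm hh.h1_mem (hh.Bu_le ha)
    have k2 : a * z1 f = z1 f * a := hh.Tor_comm (hh.Bu_le ha) (hh.Bu_le hh.z1_mem)
    have k3 : h1 f * (g * b * g⁻¹) * (h1 f)⁻¹ = z1 f * (g * b * g⁻¹) := by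
      rw [e1, ← mul_assoc, k1]
      calc a * h1 f * u * (h1 f)⁻¹ = a * (h1 f * u * (h1 f)⁻¹) := by group
        _ = _ := by rw [hhu, ← mul_assoc, k2, mul_assoc]
    calc k * b * k⁻¹ = g⁻¹ * (h1 f * (g * b * g⁻¹) * (h1 f)⁻¹) * g := by rw [hk]; group
      _ = g⁻¹ * z1 f * (g * b) := by rw [k3]; group
      _ = z1 f * g⁻¹ * (g * b) := by
          congr 1
          have := congrArg (fun x => g⁻¹ * x * g⁻¹) hzg
          simp only [mul_assoc, mul_inv_cancel, mul_one] at this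
          simpa using this.symm
      _ = _ := by group
  have hkN : ∀ b ∈ Pu f u, k * b * k⁻¹ ∈ Pu f u := by
    intro b hb
    by_cases hgb : g * b * g⁻¹ ∈ Bu f
    · rw [hkB b hb hgb, mul_inv_cancel_right]; exact hb
    · rw [hkb' b hb hgb]; exact mul_mem (Bu_le_Pu hh.z1_mem) hb
  have hku : k * u = u * k := hkB u u_mem_Pu (by rw [hgu]; exact hh.x4_mem)
  have hkx : k * x4 f * k⁻¹ = x3 f := by
    rw [hkb' _ (Bu_le_Pu hh.x4_mem) (fun hB => hgx (h.Bu_le hB)),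
      hh.Tor_comm (hh.Bu_le hh.z1_mem) (hh.Bu_le hh.x4_mem), x4_z1 h]
  -- `k ub` centralises `x4` and `u`
  have hc1 : ∀ b ∈ Pu f u, (k⁻¹ * ub u w) * b * (k⁻¹ * ub u w)⁻¹ ∈ Pu f u := by
    intro b hb
    have hkN' : k ∈ normalizer (Pu f u : Set G) := mem_normalizer_of_conj_mem hkN
    have e1 : (k⁻¹ * ub u w) * b * (k⁻¹ * ub u w)⁻¹ = k⁻¹ * (ub u w * b * (ub u w)⁻¹) * k⁻¹⁻¹ := by group
    rw [e1]
    exact (mem_normalizer_iff.1 (inv_mem hkN') _).1 (ub_mem_normalizer h hb)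
  have hc2 : (k⁻¹ * ub u w) * x4 f = x4 f * (k⁻¹ * ub u w) := by
    rw [mul_assoc, ub_x4 h, ← hkx]; group
  have hc3 : (k⁻¹ * ub u w) * u = u * (k⁻¹ * ub u w) := by
    have k1 : k⁻¹ * u = u * k⁻¹ := by
      have := congrArg (fun x => k⁻¹ * x * k⁻¹) hku
      simp only [mul_assoc, mul_inv_cancel, mul_one] at this
      simpa using this.symm
    rw [mul_assoc, h.ub_mul_u, ← mul_assoc, k1, mul_assoc]
  have hssP : ss f ∈ Bu f := by
    rw [← ss_eq h]; exact pow_mem (h.mem_Bu.2 ⟨2, 3, ⟨2, by ring⟩, rfl⟩) _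
  have hc4 := comm_Pu h hsc hc1 hc2 hc3 (Bu_le_Pu hssP)
  -- `k` centralises `ss`
  have hkss : k * ss f = ss f * k := by
    refine hkB _ (Bu_le_Pu hssP) ?_
    have e1 : g * ss f * g⁻¹ = (g * f 0 2 3 * g⁻¹) ^ 2 ^ (m + 1) := by rw [← ss_eq h, conj_pow]
    rw [e1]
    exact pow_mem_Bu h (hg _ (Bu_le_Pu (h.mem_Bu.2 ⟨2, 3, ⟨2, by ring⟩, rfl⟩)))
  apply ub_ss h
  calc ub u w * ss f = k * ((k⁻¹ * ub u w) * ss f) := by group
    _ = k * (ss f * (k⁻¹ * ub u w)) := by rw [hc4]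
    _ = (k * ss f) * (k⁻¹ * ub u w) := by group
    _ = ss f * k * (k⁻¹ * ub u w) := by rw [hkss]
    _ = _ := by group

end Fusion

end Cfsg.Agent.LFourB.EssSix
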