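import Cfsg.Agent.LFourB.EssOne

/-!
# The structure of the centric subgroups `B ⟨h1, t u⟩`
-/

set_option autoImplicit false

namespace Cfsg.Agent.LFourB.EssTwo

open Subgroup Cfsg.Agent.LFourB.EssHalf Cfsg.Agent.LFourB.EssOne

section Half

variable {C : Type*} [Group C] {P : Subgroup C} {m : ℕ} {f : R m → R m → R m → C} {u : C} {X : Subgroup C}

/-- the elements of `X ∩ T` -/
theorem mem_T (h : Half P m f u) (hX : EX P X f u) {e : C} (he : e ∈ X)
    (heT : e ∈ Tor f) : e ∈ Bu f ∨ ∃ b ∈ Bu f, e = h1 f * b := by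
  obtain ⟨p, q, r, hg, rfl⟩ := h.mem_Tor.1 heT
  rcases eq_of_two_mul (hX.two _ _ _ hg he) with k | k
  · subst k; exact Or.inl (h.f_mem_Bu hg)
  · subst k
    have hg' : Good (0 : R m) q (r + M m) := by
      have := hg.sub BOne.goodh1
      rwa [sub_self, sub_zero, sub_neg_eq_add] at this
    refine Or.inr ⟨_, h.f_mem_Bu hg', ?_⟩
    rw [h1, h.f_mul _ _ _ _ _ _ BOne.goodh1 hg']
    congr 1 <;> ring

theorem conj_X (h : Half P m f u) (hX : EX P X f u) {t : C} (ht : t ∈ Tor f)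
    {a : C} (ha : a ∈ X) (haT : a ∈ Tor f) :
    (t * u) * a * (t * u)⁻¹ = a ∨ (t * u) * a * (t * u)⁻¹ = a * z1 f := by
  rw [h.conj_T ht haT]
  rcases mem_T h hX ha haT with k | ⟨b, hb, rfl⟩
  · left
    rw [← h.Bu_comm k h.u_mem, mul_assoc, h.u_u, mul_one]
  · right
    have e1 : u * (h1 f * b) * u = (u * h1 f * u) * (u⁻¹ * b * u) := by group
    have e2 : u⁻¹ * b * u = b := by
      rw [mul_assoc, h.Bu_comm hb h.u_mem, inv_mul_cancel_left]
    rw [e1, e2, h.u_h1_u, mul_assoc, mul_assoc, h.Tor_comm (h.Bu_le h.z1_mem) (h.Bu_le hb)]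

/-- commutators of `X` -/
theorem commutator_X (h : Half P m f u) (hX : EX P X f u) {e e' : C} (he : e ∈ X)
    (he' : e' ∈ X) : e * e' * e⁻¹ * e'⁻¹ = 1 ∨ e * e' * e⁻¹ * e'⁻¹ = z1 f := by
  have hXP : X ≤ P := hX.le
  -- `a` in `T`, `e` outside
  have key : ∀ t ∈ Tor f, ∀ a ∈ X, a ∈ Tor f →
      (t * u) * a * (t * u)⁻¹ * a⁻¹ = 1 ∨ (t * u) * a * (t * u)⁻¹ * a⁻¹ = z1 f := by
    intro t ht a ha haT
    rcases conj_X h hX ht ha haT with k | k
    · left; rw [k, mul_inv_cancel]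
    · right
      rw [k, ← h.z1_comm (hXP ha), mul_inv_cancel_right]
  rcases h.mem_or (hXP he) with k | ⟨t, ht, rfl⟩
  · rcases h.mem_or (hXP he') with k' | ⟨t', ht', rfl⟩
    · left
      rw [h.Tor_comm k k', mul_inv_cancel_right, mul_inv_cancel]
    · have e1 : e * (t' * u) * e⁻¹ * (t' * u)⁻¹ = ((t' * u) * e * (t' * u)⁻¹ * e⁻¹)⁻¹ := by group
      rw [e1]
      rcases key t' ht' e he k with k1 | k1
      · left; rw [k1, inv_one]
      · right; rw [k1, h.z1_inv]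
  · rcases h.mem_or (hXP he') with k' | ⟨t', ht', rfl⟩
    · exact key t ht e' he' k'
    · have ha : t' * t⁻¹ ∈ X := by
        have := mul_mem he' (inv_mem he)
        have e1 : t' * u * (t * u)⁻¹ = t' * t⁻¹ := by group
        rwa [e1] at this
      have e1 : (t * u) * (t' * u) * (t * u)⁻¹ * (t' * u)⁻¹ =
          (t * u) * (t' * t⁻¹) * (t * u)⁻¹ * (t' * t⁻¹)⁻¹ := by group
      rw [e1]
      exact key t ht _ ha (mul_mem ht' (inv_mem ht))

theorem conj_z1 (h : Half P m f u) (hX : EX P X f u) {g : C}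
    (hg : g ∈ normalizer (X : Set C)) : g * z1 f = z1 f * g := by
  obtain ⟨t, ht, htu⟩ := hX.tu
  have hh := hX.h1X
  have k1 : (t * u) * h1 f * (t * u)⁻¹ * (h1 f)⁻¹ = z1 f := by
    rw [h.conj_T ht h.h1_mem, h.u_h1_u, ← h.z1_comm (h.Tor_le h.h1_mem), mul_inv_cancel_right]
  have k2 : g * z1 f * g⁻¹ = (g * (t * u) * g⁻¹) * (g * h1 f * g⁻¹) * (g * (t * u) * g⁻¹)⁻¹ * (g * h1 f * g⁻¹)⁻¹ := by
    rw [← k1]; group
  rcases commutator_X h hX ((mem_normalizer_iff.1 hg _).1 htu) ((mem_normalizer_iff.1 hg _).1 hh) with k | k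
  · rw [k] at k2
    exfalso
    apply h.z1_ne
    have := congrArg (fun x => g⁻¹ * x * g) k2
    simpa [mul_assoc] using this
  · rw [k] at k2
    exact mul_inv_eq_iff_eq_mul.1 k2

/-- the centre of `X` -/
theorem mem_Bu_of_comm (h : Half P m f u) (hX : EX P X f u) {e : C} (he : e ∈ X)
    (hc : ∀ x ∈ X, x * e = e * x) : e ∈ Bu f := by
  obtain ⟨t, ht, htu⟩ := hX.tu
  have hh := hX.h1X
  rcases h.mem_or (hX.le he) with k | ⟨t', ht', rfl⟩
  · obtain ⟨p, q, r, hg, rfl⟩ := h.mem_Tor.1 k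
    have k1 := h.conj_f ht hg
    rw [hc _ htu, mul_inv_cancel_right, h.f_eq_iff hg hg.actu] at k1
    have : p = 0 := by linear_combination -k1.2.2
    subst this
    exact h.f_mem_Bu hg
  · exfalso
    have k1 := h.conj_T ht' h.h1_mem
    rw [← hc _ hh, mul_inv_cancel_right, h.u_h1_u] at k1
    exact h.z1_ne (left_eq_mul.1 k1)

theorem conj_Bu (h : Half P m f u) (hX : EX P X f u) {g : C}
    (hg : g ∈ normalizer (X : Set C)) {b : C} (hb : b ∈ Bu f) : g * b * g⁻¹ ∈ Bu f := by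
  have hbX := Bu_le' h hX.le hX.cen hb
  refine mem_Bu_of_comm h hX ((mem_normalizer_iff.1 hg _).1 hbX) ?_
  intro x hx
  have k1 : g⁻¹ * x * g ∈ X := by
    have := (mem_normalizer_iff.1 (inv_mem hg) x).1 hx
    rwa [inv_inv] at this
  have k2 := h.Bu_comm hb (hX.le k1)
  have k3 : g * (b * (g⁻¹ * x * g)) * g⁻¹ = g * (g⁻¹ * x * g * b) * g⁻¹ := by rw [k2]
  calc x * (g * b * g⁻¹) = g * (g⁻¹ * x * g * b) * g⁻¹ := by group
    _ = g * (b * (g⁻¹ * x * g)) * g⁻¹ := k3.symm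
    _ = _ := by group

/-- an odd element of `N(X)` commuting with `x4` centralises `B` -/
theorem odd_comm_Bu (h : Half P m f u) (hX : EX P X f u) {g : C} (hx : g * x4 f = x4 f * g)
    (hg : g ∈ normalizer (X : Set C)) (ho : ¬ 2 ∣ orderOf g) {b : C} (hb : b ∈ Bu f) :
    g * b = b * g :=
  odd_comm_Bu' h hx ho (fun b hb => conj_Bu h hX hg hb) hb

/-- the elements of `X` -/
theorem mem_cases (h : Half P m f u) (hX : EX P X f u) {e : C} (he : e ∈ X)
    {t : C} (ht : t ∈ Tor f) (htu : t * u ∈ X) :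
    ∃ b ∈ Bu f, e = b ∨ e = h1 f * b ∨ e = (t * u) * b ∨ e = h1 f * (t * u) * b := by
  rcases h.mem_or (hX.le he) with k | ⟨t', ht', rfl⟩
  · rcases mem_T h hX he k with k1 | ⟨b, hb, k1⟩
    · exact ⟨e, k1, Or.inl rfl⟩
    · exact ⟨b, hb, Or.inr (Or.inl k1)⟩
  · have e1 : t' * u * (t * u)⁻¹ = t' * t⁻¹ := by group
    have ha : t' * t⁻¹ ∈ X := by
      have := mul_mem he (inv_mem htu)
      rwa [e1] at this
    have e2 : t' * u = (t' * t⁻¹) * (t * u) := by group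
    rcases mem_T h hX ha (mul_mem ht' (inv_mem ht)) with k1 | ⟨b, hb, k1⟩
    · refine ⟨t' * t⁻¹, k1, Or.inr (Or.inr (Or.inl ?_))⟩
      rw [← h.Bu_comm k1 (mul_mem (h.Tor_le ht) h.u_mem)]
      exact e2
    · refine ⟨b, hb, Or.inr (Or.inr (Or.inr ?_))⟩
      rw [e2, k1, mul_assoc, mul_assoc, h.Bu_comm hb (mul_mem (h.Tor_le ht) h.u_mem)]

/-- The odd automorphism moves `h1` outside the torus. -/
theorem conj_h1_notMem (h : Half P m f u) (hX : EX P X f u) {g : C} (hx : g * x4 f = x4 f * g)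
    (hg : g ∈ normalizer (X : Set C)) (ho : ¬ 2 ∣ orderOf g)
    (hgc : g ∉ centralizer (X : Set C)) : g * h1 f * g⁻¹ ∉ Tor f := by
  intro hmem
  obtain ⟨t, ht, htu⟩ := hX.tu
  have hh := hX.h1X
  have hcB := fun {b : C} (hb : b ∈ Bu f) => odd_comm_Bu h hX hx hg ho hb
  have hgh : g * h1 f = h1 f * g := by
    rcases mem_T h hX ((mem_normalizer_iff.1 hg _).1 hh) hmem with k | ⟨b, hb, k⟩
    · have k1 := hcB k
      have k2 : g * h1 f * g⁻¹ = h1 f := by
        have e1 : g * (g * h1 f * g⁻¹) = g * h1 f * g⁻¹ * g := k1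
        rw [inv_mul_cancel_right] at e1
        exact mul_left_cancel e1
      exact mul_inv_eq_iff_eq_mul.1 k2
    · have k1 := comm_of_odd (pow_orderOf_eq_one g) ho k (hcB hb) (h.Bu_pow hb)
      rw [k1, mul_one] at k
      exact mul_inv_eq_iff_eq_mul.1 k
  have hcT : ∀ a ∈ X, a ∈ Tor f → g * a = a * g := by
    intro a ha haT
    rcases mem_T h hX ha haT with k | ⟨b, hb, rfl⟩
    · exact hcB k
    · rw [← mul_assoc, hgh, mul_assoc, hcB hb, mul_assoc]
  have hgt : g * (t * u) = (t * u) * g := by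
    have hmX : g * (t * u) * g⁻¹ ∈ X := (mem_normalizer_iff.1 hg _).1 htu
    have hnT : g * (t * u) * g⁻¹ ∉ Tor f := by
      intro k
      have k1 := hcT _ hmX k
      have k2 : g * (t * u) * g⁻¹ = t * u := by
        have e1 : g * (g * (t * u) * g⁻¹) = g * (t * u) * g⁻¹ * g := k1
        rw [inv_mul_cancel_right] at e1
        exact mul_left_cancel e1
      rw [k2] at k
      exact h.tu_notMem ht k
    set c := (t * u)⁻¹ * (g * (t * u) * g⁻¹) with hc
    have hcX : c ∈ X := mul_mem (inv_mem htu) hmX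
    have hcT' : c ∈ Tor f := by
      rw [hc, h.mul_mem_iff (hX.le (inv_mem htu)) (hX.le hmX), inv_mem_iff]
      have := h.tu_notMem ht
      tauto
    have k1 : g * (t * u) * g⁻¹ = (t * u) * c := by rw [hc, mul_inv_cancel_left]
    have k2 : c ^ 2 ^ (m + 3) = 1 := by
      obtain ⟨p, q, r, hgd, k3⟩ := h.mem_Tor.1 hcT'
      have k : ((2 ^ (m + 3) : ℕ) : R m) = 0 := ZMod.natCast_self _
      rw [k3, h.f_pow hgd, k, zero_mul, zero_mul, zero_mul, h.f_zero]
    have k3 := comm_of_odd (pow_orderOf_eq_one g) ho k1 (hcT _ hcX hcT') k2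
    rw [k3, mul_one] at k1
    exact mul_inv_eq_iff_eq_mul.1 k1
  apply hgc
  rw [mem_centralizer_iff]
  intro e he
  obtain ⟨b, hb, k | k | k | k⟩ := mem_cases h hX he ht htu
  · rw [k]; exact (hcB hb).symm
  · rw [k]; exact (Commute.mul_right (show Commute g _ from hgh) (hcB hb)).eq.symm
  · rw [k]; exact (Commute.mul_right (show Commute g _ from hgt) (hcB hb)).eq.symm
  · rw [k]
    exact (Commute.mul_right (Commute.mul_right (show Commute g _ from hgh) hgt) (hcB hb)).eq.symm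

/-! ### 2-elements of `N(X)` acting trivially on `X / B` -/

/-- the subgroup of the elements of `N(X)` acting trivially on `X / B` -/
def triv (h : Half P m f u) (hX : EX P X f u) : Subgroup C where
  carrier := {k | k ∈ normalizer (X : Set C) ∧ ∀ e ∈ X, k * e * k⁻¹ * e⁻¹ ∈ Bu f}
  one_mem' := ⟨one_mem _, fun e _ => by simp⟩
  mul_mem' := by
    rintro a b ⟨ha, ha'⟩ ⟨hb, hb'⟩
    refine ⟨mul_mem ha hb, fun e he => ?_⟩
    have e1 : a * b * e * (a * b)⁻¹ * e⁻¹ = a * (b * e * b⁻¹ * e⁻¹) * a⁻¹ * (a * e * a⁻¹ * e⁻¹) := by group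
    rw [e1]
    exact mul_mem (conj_Bu h hX ha (hb' e he)) (ha' e he)
  inv_mem' := by
    rintro a ⟨ha, ha'⟩
    refine ⟨inv_mem ha, fun e he => ?_⟩
    have k1 : a⁻¹ * e * a ∈ X := by
      have := (mem_normalizer_iff.1 (inv_mem ha) e).1 he
      rwa [inv_inv] at this
    have k2 := inv_mem (ha' _ k1)
    have e1 : (a * (a⁻¹ * e * a) * a⁻¹ * (a⁻¹ * e * a)⁻¹)⁻¹ = a⁻¹ * e * a⁻¹⁻¹ * e⁻¹ := by group
    rwa [e1] at k2

theorem mem_triv (h : Half P m f u) (hX : EX P X f u) {k : C} :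
    k ∈ triv h hX ↔ k ∈ normalizer (X : Set C) ∧ ∀ e ∈ X, k * e * k⁻¹ * e⁻¹ ∈ Bu f := Iff.rfl

theorem conj_mem_triv (h : Half P m f u) (hX : EX P X f u) {k g : C}
    (hg : g ∈ normalizer (X : Set C)) (hk : k ∈ triv h hX) : g * k * g⁻¹ ∈ triv h hX := by
  refine ⟨mul_mem (mul_mem hg hk.1) (inv_mem hg), fun e he => ?_⟩
  have k1 : g⁻¹ * e * g ∈ X := by
    have := (mem_normalizer_iff.1 (inv_mem hg) e).1 he
    rwa [inv_inv] at this
  have k2 := conj_Bu h hX hg (hk.2 _ k1)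
  have e1 : g * (k * (g⁻¹ * e * g) * k⁻¹ * (g⁻¹ * e * g)⁻¹) * g⁻¹ = g * k * g⁻¹ * e * (g * k * g⁻¹)⁻¹ * e⁻¹ := by
    group
  rwa [e1] at k2

/-- 2-elements of `N(X) ⊓ C(x4)` are conjugate into `P` -/
def Full (P X : Subgroup C) (f : R m → R m → R m → C) : Prop :=
  ∀ k ∈ normalizer (X : Set C), k * x4 f = x4 f * k → ∀ n : ℕ, k ^ 2 ^ n = 1 →
    ∃ g ∈ normalizer (X : Set C), g * x4 f = x4 f * g ∧ g * k * g⁻¹ ∈ P

theorem mem_X_of_triv (h : Half P m f u) (hX : EX P X f u) (hF : Full P X f) {k : C}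
    (hk : k ∈ triv h hX) (hx : k * x4 f = x4 f * k) {n : ℕ} (h2 : k ^ 2 ^ n = 1) : k ∈ X := by
  obtain ⟨t, ht, htu⟩ := hX.tu
  have hXT : ∀ k' ∈ triv h hX, k' ∈ Tor f → k' ∈ X := by
    intro k' hk' hkT
    obtain ⟨p, q, r, hg, rfl⟩ := h.mem_Tor.1 hkT
    have k1 := hk'.2 _ htu
    have k2 : f p q r * (t * u) * (f p q r)⁻¹ * (t * u)⁻¹ = f (2 * p) 0 (-p) := by
      have e1 : f p q r * (t * u) * (f p q r)⁻¹ * (t * u)⁻¹ = f p q r * ((t * u) * (f p q r)⁻¹ * (t * u)⁻¹) := by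
        group
      rw [e1, h.f_inv hg, h.conj_f ht hg.neg, h.f_mul _ _ _ _ _ _ hg hg.neg.actu]
      congr 1 <;> ring
    rw [k2] at k1
    obtain ⟨q', r', hg', k3⟩ := h.mem_Bu.1 k1
    have k4 := ((h.f_eq_iff (BOne.goodq1 p) hg').1 k3).1
    rcases eq_of_two_mul k4 with rfl | rfl
    · exact Bu_le' h hX.le hX.cen (h.f_mem_Bu hg)
    · have hg' : Good (0 : R m) q (r + M m) := by
        have := hg.sub BOne.goodh1
        rwa [sub_self, sub_zero, sub_neg_eq_add] at this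
      have e1 : f (N m) q r = h1 f * f 0 q (r + M m) := by
        rw [h1, h.f_mul _ _ _ _ _ _ BOne.goodh1 hg']
        congr 1 <;> ring
      rw [e1]
      exact mul_mem (hX.h1X) (Bu_le' h hX.le hX.cen (h.f_mem_Bu hg'))
  obtain ⟨g, hg, -, hgP⟩ := hF k hk.1 hx n h2
  have k1 := conj_mem_triv h hX hg hk
  have k2 : g * k * g⁻¹ ∈ X := by
    rcases h.mem_or hgP with k3 | ⟨t', ht', k3⟩
    · exact hXT _ k1 k3
    · have htu' : t * u ∈ triv h hX := by
        refine ⟨le_normalizer htu, fun e he => ?_⟩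
        rcases commutator_X h hX htu he with k4 | k4
        · rw [k4]; exact one_mem _
        · rw [k4]; exact h.z1_mem
      have k4 := mul_mem k1 (inv_mem htu')
      have e1 : g * k * g⁻¹ * (t * u)⁻¹ = t' * t⁻¹ := by rw [k3]; group
      rw [e1] at k4
      have k5 := hXT _ k4 (mul_mem ht' (inv_mem ht))
      rw [← e1] at k5
      have := mul_mem k5 htu
      rwa [inv_mul_cancel_right] at this
  exact (mem_normalizer_iff.1 hg k).2 k2

theorem conj_pow_eq {k a b : C} (hk : k * a * k⁻¹ = a * b) (hkb : k * b = b * k) (j : ℕ) :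
    k ^ j * a * (k ^ j)⁻¹ = a * b ^ j := by
  induction j with
  | zero => simp
  | succ j ih =>
    have e1 : k ^ (j + 1) * a * (k ^ (j + 1))⁻¹ = k * (k ^ j * a * (k ^ j)⁻¹) * k⁻¹ := by
      rw [pow_succ', mul_inv_rev]; group
    have h3 : k * b ^ j * k⁻¹ = b ^ j := by
      have h4 : Commute k (b ^ j) := Commute.pow_right hkb j
      rw [h4.eq, mul_inv_cancel_right]
    have e2 : k * (a * b ^ j) * k⁻¹ = (k * a * k⁻¹) * (k * b ^ j * k⁻¹) := by group
    rw [e1, ih, e2, hk, h3, mul_assoc, ← pow_succ']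

/-- The main point: an element acting trivially on `X / B` and on `B` acts on `X` as an inner automorphism. -/
theorem triv_mem [Finite C] (h : Half P m f u) (hX : EX P X f u) (hF : Full P X f) {k : C}
    (hk : k ∈ triv h hX) (hkB : ∀ b ∈ Bu f, k * b = b * k) {x : C} (hxX : x ∈ X) :
    k * x * k⁻¹ * x⁻¹ = 1 ∨ k * x * k⁻¹ * x⁻¹ = z1 f := by
  set b := k * x * k⁻¹ * x⁻¹ with hbd
  have hb : b ∈ Bu f := hk.2 x hxX
  have hbx : b * x = x * b := h.Bu_comm hb (hX.le hxX)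
  have hk1 : k * x * k⁻¹ = x * b := by rw [← hbx, hbd, inv_mul_cancel_right]
  obtain ⟨n, o, ho, hno⟩ := Nat.exists_eq_pow_mul_and_not_dvd (orderOf_pos k).ne' 2 (by norm_num)
  have hk' : k ^ o ∈ triv h hX := pow_mem hk o
  have h2 : (k ^ o) ^ 2 ^ n = 1 := by
    rw [← pow_mul, mul_comm, ← hno, pow_orderOf_eq_one]
  have hx4 : k ^ o * x4 f = x4 f * k ^ o := (Commute.pow_left (show Commute k _ from hkB _ h.x4_mem) o).eq
  have k1 := mem_X_of_triv h hX hF hk' hx4 h2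
  have k2 := conj_pow_eq hk1 (hkB b hb) o
  have k4 := commutator_X h hX k1 hxX
  have k5 : k ^ o * x * (k ^ o)⁻¹ * x⁻¹ = b ^ o := by
    have : b ^ o * x = x * b ^ o := (Commute.pow_left (show Commute b x from hbx) o).eq
    rw [k2, ← this, mul_inv_cancel_right]
  rw [k5] at k4
  have hcop : Nat.Coprime o (2 ^ (m + 3)) :=
    Nat.Coprime.pow_right _ ((Nat.Prime.coprime_iff_not_dvd Nat.prime_two).2 ho).symm
  have key : ∀ c : C, c ^ 2 ^ (m + 3) = 1 → c ^ o = 1 → c = 1 := by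
    intro c hc1 hc2
    have h5 : orderOf c ∣ 2 ^ (m + 3) := orderOf_dvd_of_pow_eq_one hc1
    have h4 : orderOf c ∣ o := orderOf_dvd_of_pow_eq_one hc2
    exact orderOf_eq_one_iff.1 (Nat.dvd_one.1 (hcop ▸ Nat.dvd_gcd h4 h5))
  rcases k4 with k4 | k4
  · left; exact key b (h.Bu_pow hb) k4
  · right
    have k6 : b * b = 1 := by
      refine key _ (h.Bu_pow (mul_mem hb hb)) ?_
      rw [← pow_two, ← pow_mul, mul_comm, pow_mul, k4, pow_two, h.z1_sq]
    obtain ⟨j, rfl⟩ : ∃ j, o = 2 * j + 1 := by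
      rcases Nat.even_or_odd' o with ⟨j, rfl | rfl⟩
      · exact absurd (dvd_mul_right 2 j) ho
      · exact ⟨j, rfl⟩
    rw [pow_succ, pow_mul, pow_two, k6, one_pow, one_mul] at k4
    exact k4

/-- 2-elements centralising `X` lie in `B` -/
theorem mem_Bu_of_centralizer (h : Half P m f u) (hX : EX P X f u) (hF : Full P X f) {c : C}
    (hc : ∀ e ∈ X, c * e = e * c) {n : ℕ} (hn : c ^ 2 ^ n = 1) : c ∈ Bu f := by
  have hcN : c ∈ normalizer (X : Set C) :=
    centralizer_le_normalizer _ (mem_centralizer_iff.2 fun e he => (hc e he).symm)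
  obtain ⟨g', hg', -, hgP⟩ := hF c hcN (hc _ (Bu_le' h hX.le hX.cen h.x4_mem)) n hn
  have k1 : g' * c * g'⁻¹ ∈ centralizer (X : Set C) := by
    rw [mem_centralizer_iff]
    intro e he
    have k3 := hc _ (conj_mem_of' hg' he)
    have k4 : g' * (c * (g'⁻¹ * e * g')) * g'⁻¹ = g' * ((g'⁻¹ * e * g') * c) * g'⁻¹ := by
      rw [k3]
    calc e * (g' * c * g'⁻¹) = g' * ((g'⁻¹ * e * g') * c) * g'⁻¹ := by group
      _ = g' * (c * (g'⁻¹ * e * g')) * g'⁻¹ := k4.symm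
      _ = _ := by group
  have k2 : g' * c * g'⁻¹ ∈ X := hX.cen ⟨k1, hgP⟩
  have k3 : g' * c * g'⁻¹ ∈ Bu f :=
    mem_Bu_of_comm h hX k2 (fun x hx => mem_centralizer_iff.1 k1 x hx)
  have k4 := conj_Bu h hX (inv_mem hg') k3
  have e1 : g'⁻¹ * (g' * c * g'⁻¹) * g'⁻¹⁻¹ = c := by group
  rwa [e1] at k4

end Half

end Cfsg.Agent.LFourB.EssTwo
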