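import Mathlib
import Cfsg.Agent.Lib.GoldschmidtFusion

/-!
# Relative Sylow tools: extremal conjugates and weak closure inside a subgroup `N`

`R ≤ N` is a Sylow `p`-subgroup of `N` in the form `IsPGroup p R`, `¬ p ∣ R.relIndex N`.
-/

set_option autoImplicit false

namespace Cfsg.Agent.LFourB.RelExt

open Subgroup Cfsg.Agent.Lib.GoldschmidtFusion

variable {G : Type*} [Group G] [Finite G] {p : ℕ} [Fact p.Prime]

/-- Extremal conjugates with respect to `N`. -/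
theorem exists_extremal {N R : Subgroup G} (hR : IsPGroup p R) (hRN : R ≤ N)
    (hRi : ¬ p ∣ R.relIndex N) {x : G} (hx : x ∈ R) :
    ∃ n ∈ N, n * x * n⁻¹ ∈ R ∧ ∀ w ∈ R, (∃ g ∈ N, g * x * g⁻¹ = w) →
      ∃ g ∈ N, g * w * g⁻¹ = n * x * n⁻¹ ∧ ∀ y ∈ R, y * w = w * y → g * y * g⁻¹ ∈ R := by
  obtain ⟨R', hxR, hRN', hR', hRi'⟩ := exists_sylow_in (p := p) (N := N ⊓ centralizer ({x} : Set G))
    (D := R ⊓ centralizer ({x} : Set G)) (inf_le_inf_right _ hRN) (hR.to_le inf_le_left)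
  obtain ⟨n, hn, hnR⟩ := exists_conj_le_in hR hRi (hRN'.trans inf_le_left) hR'
  have hxx : x ∈ R' := hxR ⟨hx, mem_centralizer_singleton_iff.2 rfl⟩
  refine ⟨n, hn, hnR (conj_mem_map_conj hxx n), ?_⟩
  rintro w hw ⟨g, hg, rfl⟩
  have hD : IsPGroup p ((R ⊓ centralizer ({g * x * g⁻¹} : Set G)).map (MulAut.conj g⁻¹).toMonoidHom :
      Subgroup G) := (hR.to_le inf_le_left).map _
  have hDN : (R ⊓ centralizer ({g * x * g⁻¹} : Set G)).map (MulAut.conj g⁻¹).toMonoidHom ≤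
      N ⊓ centralizer ({x} : Set G) := by
    intro y hy
    rw [mem_map_conj, inv_inv] at hy
    have h1 := (mem_centralizer_singleton_iff.1 hy.2)
    refine ⟨?_, mem_centralizer_singleton_iff.2 ?_⟩
    · have h2 : g⁻¹ * (g * y * g⁻¹) * g ∈ N :=
        N.mul_mem (N.mul_mem (N.inv_mem hg) (hRN hy.1)) hg
      simpa [mul_assoc] using h2
    · have h2 : g⁻¹ * ((g * y * g⁻¹) * (g * x * g⁻¹)) * g = g⁻¹ * ((g * x * g⁻¹) * (g * y * g⁻¹)) * g := by
        rw [h1]
      simpa [mul_assoc] using h2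
  obtain ⟨m, hm, hmD⟩ := exists_conj_le_in hR' hRi' hDN hD
  refine ⟨n * m * g⁻¹, N.mul_mem (N.mul_mem hn hm.1) (N.inv_mem hg), ?_, ?_⟩
  · have h1 := mem_centralizer_singleton_iff.1 hm.2
    calc n * m * g⁻¹ * (g * x * g⁻¹) * (n * m * g⁻¹)⁻¹ = n * (m * x) * m⁻¹ * n⁻¹ := by group
      _ = n * (x * m) * m⁻¹ * n⁻¹ := by rw [h1]
      _ = n * x * n⁻¹ := by group
  · intro y hy hyw
    have h1 : m * (g⁻¹ * y * g) * m⁻¹ ∈ R' := by
      apply hmD
      refine ⟨g⁻¹ * y * g, ?_, by simp⟩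
      refine ⟨y, ⟨hy, mem_centralizer_singleton_iff.2 hyw⟩, by simp⟩
    have h2 := hnR (conj_mem_map_conj h1 n)
    have e : n * (m * (g⁻¹ * y * g) * m⁻¹) * n⁻¹ = n * m * g⁻¹ * y * (n * m * g⁻¹)⁻¹ := by group
    rwa [e] at h2

/-- If `A` is weakly closed in `R` with respect to `N`, then conjugates of `A` inside a subgroup `C ≥ A` of `N`
are conjugate to `A` in `C`. -/
theorem exists_fix {N R A : Subgroup G} (hR : IsPGroup p R)
    (hRi : ¬ p ∣ R.relIndex N) (hAR : A ≤ R)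
    (hw : ∀ g ∈ N, A.map (MulAut.conj g).toMonoidHom ≤ R → A.map (MulAut.conj g).toMonoidHom = A)
    {C : Subgroup G} (hCN : C ≤ N) (hAC : A ≤ C) {g : G} (hg : g ∈ N)
    (hgA : A.map (MulAut.conj g).toMonoidHom ≤ C) :
    ∃ c ∈ C, A.map (MulAut.conj (c * g)).toMonoidHom = A := by
  have hA : IsPGroup p A := hR.to_le hAR
  obtain ⟨R1, hAR1, hR1C, hR1, hR1i⟩ := exists_sylow_in (p := p) hAC hA
  obtain ⟨c, hc, hcA⟩ := exists_conj_le_in hR1 hR1i hgA (hA.map _)
  obtain ⟨k, hk, hkR⟩ := exists_conj_le_in hR hRi (hR1C.trans hCN) hR1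
  have h1 : A.map (MulAut.conj k).toMonoidHom = A := hw k hk ((map_conj_mono hAR1 k).trans hkR)
  have h2 := (map_conj_mono hcA k).trans hkR
  rw [map_conj_map_conj] at hcA
  rw [map_conj_map_conj, map_conj_map_conj, mul_assoc] at h2
  have h3 := hw _ (N.mul_mem hk (N.mul_mem (hCN hc) hg)) h2
  refine ⟨c, hc, ?_⟩
  have h4 : (A.map (MulAut.conj (c * g)).toMonoidHom).map (MulAut.conj k).toMonoidHom = A := by
    rw [map_conj_map_conj]
    exact h3
  have h5 : Function.Injective (MulAut.conj k).toMonoidHom := (MulAut.conj k).injective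
  exact Subgroup.map_injective h5 (h4.trans h1.symm)

/-- Frattini argument: `K` normalised by `n ∈ N`, `K ≤ N` and `R ⊓ K` a Sylow subgroup of `K`. -/
theorem frattini {K T : Subgroup G} (hT : IsPGroup p T) (hTK : T ≤ K)
    (hTi : ¬ p ∣ T.relIndex K) {n : G} (hn : K.map (MulAut.conj n).toMonoidHom = K) :
    ∃ k ∈ K, T.map (MulAut.conj (k * n)).toMonoidHom = T := by
  have h1 : T.map (MulAut.conj n).toMonoidHom ≤ K := by
    rw [← hn]
    exact map_conj_mono hTK n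
  obtain ⟨k, hk, hkT⟩ := exists_conj_le_in hT hTi h1 (hT.map _)
  rw [map_conj_map_conj] at hkT
  exact ⟨k, hk, map_conj_le_of_le_normalizer' hkT⟩
where
  map_conj_le_of_le_normalizer' {A : Subgroup G} {g : G}
      (hA : A.map (MulAut.conj g).toMonoidHom ≤ A) : A.map (MulAut.conj g).toMonoidHom = A :=
    Subgroup.eq_of_le_of_card_ge hA (by rw [card_map_conj])

/-- The intersection of a Sylow subgroup of `N` with a normal subgroup of `N`. -/
theorem sylow_inf {N R K : Subgroup G} (hR : IsPGroup p R) (hRN : R ≤ N)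
    (hRi : ¬ p ∣ R.relIndex N) (hKN : K ≤ N)
    (hK : ∀ n ∈ N, ∀ k ∈ K, n * k * n⁻¹ ∈ K) : ¬ p ∣ (R ⊓ K).relIndex K := by
  -- a Sylow subgroup of `K` is conjugate into `R`
  obtain ⟨T, -, hTK, hT, hTi⟩ := exists_sylow_in (p := p) (N := K) (D := ⊥) bot_le
    (IsPGroup.of_bot)
  obtain ⟨n, hn, hnT⟩ := exists_conj_le_in hR hRi (hTK.trans hKN) hT
  have h1 : T.map (MulAut.conj n).toMonoidHom ≤ R ⊓ K := by
    refine le_inf hnT ?_
    rintro _ ⟨t, ht, rfl⟩
    exact hK n hn t (hTK ht)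
  have h2 : Nat.card T ∣ Nat.card (R ⊓ K : Subgroup G) := by
    rw [← card_map_conj T n]
    exact Subgroup.card_dvd_of_le h1
  intro h3
  apply hTi
  have h4 : Nat.card T * T.relIndex K = Nat.card K := by
    rw [← relIndex_bot_left, ← relIndex_bot_left]
    exact relIndex_mul_relIndex _ _ _ bot_le hTK
  have h5 : Nat.card (R ⊓ K : Subgroup G) * (R ⊓ K).relIndex K = Nat.card K := by
    rw [← relIndex_bot_left, ← relIndex_bot_left]
    exact relIndex_mul_relIndex _ _ _ bot_le inf_le_right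
  obtain ⟨a, ha⟩ := h2
  rw [ha, ← h4, mul_assoc] at h5
  have h6 : a * (R ⊓ K).relIndex K = T.relIndex K :=
    Nat.eq_of_mul_eq_mul_left Nat.card_pos h5
  rw [← h6]
  exact h3.mul_left _

end Cfsg.Agent.LFourB.RelExt
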