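import Mathlib
import Cfsg.Agent.LFourB.RelExt
import Cfsg.Agent.Lib.PSL2Inv

/-!
# The element of order three type of `C(z)` in type B1

`sl_three`: in `SL(2,F)` the elements of order four of a quaternion group of order 8 are permuted cyclically.
`delta`: the diagonal version in `K₁ K₂`, commuting with an involution `y` swapping `K₁` and `K₂`.
`exists_norm_lift`: lifting to the normaliser of a 2-subgroup modulo an odd kernel.
-/

set_option autoImplicit false

namespace Cfsg.Agent.LFourB.KDelta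

open Subgroup

section SL

variable {F : Type*} [Field F]

/-- In `SL(2,F)` the elements `A`, `B` of order four with `A B = - B A` are moved cyclically `A → B → A B`. -/
theorem sl_three (h2 : (2 : F) ≠ 0) {A B : Matrix.SpecialLinearGroup (Fin 2) F} (hA : A * A = -1) (hB : B * B = -1)
    (hAB : A * B = -(B * A)) :
    ∃ k : Matrix.SpecialLinearGroup (Fin 2) F, k * A * k⁻¹ = B ∧ k * B * k⁻¹ = A * B := by
  have tr0 : ∀ C : Matrix (Fin 2) (Fin 2) F, C * C = -1 → C.det = 1 →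
      C 1 1 = - C 0 0 ∧ C 0 0 * C 0 0 + C 0 1 * C 1 0 = -1 := by
    intro C hC e3
    have e1 := congrFun (congrFun hC 0) 0
    have e2 := congrFun (congrFun hC 1) 1
    rw [Matrix.det_fin_two] at e3
    simp only [Matrix.mul_apply, Fin.sum_univ_two, Matrix.neg_apply, Matrix.one_apply_eq] at e1 e2
    have e4 : (C 0 0 + C 1 1) * (C 0 0 + C 1 1) = 0 := by linear_combination e1 + e2 + 2 * e3
    have e5 : C 0 0 + C 1 1 = 0 := mul_self_eq_zero.1 e4
    exact ⟨by linear_combination e5, e1⟩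
  obtain ⟨a, hda⟩ := A
  obtain ⟨b, hdb⟩ := B
  have ha : a * a = -1 := congrArg Subtype.val hA
  have hb : b * b = -1 := congrArg Subtype.val hB
  have hab : a * b = -(b * a) := congrArg Subtype.val hAB
  obtain ⟨a1, a2⟩ := tr0 a ha hda
  obtain ⟨b1, b2⟩ := tr0 b hb hdb
  have c1 := congrFun (congrFun hab 0) 0
  simp only [Matrix.mul_apply, Fin.sum_univ_two, Matrix.neg_apply] at c1
  have hdet : (1 + a + b + a * b).det = 4 := by
    rw [Matrix.det_fin_two]
    simp only [Matrix.add_apply, Matrix.mul_apply, Fin.sum_univ_two, Matrix.one_apply_eq]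
    have h01 : (1 : Matrix (Fin 2) (Fin 2) F) 0 1 = 0 := rfl
    have h10 : (1 : Matrix (Fin 2) (Fin 2) F) 1 0 = 0 := rfl
    rw [h01, h10, a1, b1]
    generalize a 0 0 = p at *
    generalize a 0 1 = q at *
    generalize a 1 0 = r at *
    generalize b 0 0 = s at *
    generalize b 0 1 = t at *
    generalize b 1 0 = v at *
    clear hA hB hAB ha hb hab hda hdb a1 b1 h01 h10 tr0
    grind
  have h4 : (4 : F) ≠ 0 := by
    intro h4
    apply h2
    have : (2 : F) * 2 = 0 := by linear_combination h4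
    exact mul_self_eq_zero.1 this
  have hk : ((2 : F)⁻¹ • (1 + a + b + a * b)).det = 1 := by
    rw [Matrix.det_smul, hdet, Fintype.card_fin]
    field_simp
    norm_num
  have k1 : (1 + a + b + a * b) * a = b * (1 + a + b + a * b) := by
    have e1 : a * b * a = b := by
      rw [hab, neg_mul, mul_assoc, ha, mul_neg, mul_one, neg_neg]
    have e2 : b * (a * b) = a := by
      rw [hab, mul_neg, ← mul_assoc, hb, neg_mul, one_mul, neg_neg]
    have e3 : b * a = -(a * b) := by rw [hab, neg_neg]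
    calc (1 + a + b + a * b) * a = a + a * a + b * a + a * b * a := by noncomm_ring
      _ = b + b * a + b * b + b * (a * b) := by rw [e1, e2, ha, hb]; abel
      _ = _ := by noncomm_ring
  have k2 : (1 + a + b + a * b) * b = (a * b) * (1 + a + b + a * b) := by
    have e1 : a * b * a = b := by
      rw [hab, neg_mul, mul_assoc, ha, mul_neg, mul_one, neg_neg]
    have e4 : a * b * b = -a := by rw [mul_assoc, hb, mul_neg, mul_one]
    have e5 : a * b * (a * b) = -1 := by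
      rw [← mul_assoc, e1, hb]
    calc (1 + a + b + a * b) * b = b + a * b + b * b + a * b * b := by noncomm_ring
      _ = a * b + a * b * a + a * b * b + a * b * (a * b) := by rw [e1, e4, e5, hb]; abel
      _ = _ := by noncomm_ring
  refine ⟨⟨(2 : F)⁻¹ • (1 + a + b + a * b), hk⟩, mul_inv_eq_iff_eq_mul.2 (Subtype.ext ?_),
    mul_inv_eq_iff_eq_mul.2 (Subtype.ext ?_)⟩
  · change (2 : F)⁻¹ • (1 + a + b + a * b) * a = b * ((2 : F)⁻¹ • (1 + a + b + a * b))
    rw [smul_mul_assoc, mul_smul_comm, k1]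
  · change (2 : F)⁻¹ • (1 + a + b + a * b) * b = a * b * ((2 : F)⁻¹ • (1 + a + b + a * b))
    rw [smul_mul_assoc, mul_smul_comm, k2]

end SL

section Lift

variable {Y X : Type*} [Group Y] [Finite Y] [Group X]

/-- Elements normalising a 2-subgroup modulo the odd kernel of `p` lift to the normaliser. -/
theorem exists_norm_lift (p : Y →* X) (hk : Odd (Nat.card p.ker)) {A : Subgroup Y} (hA : IsPGroup 2 A) {d : Y}
    (hd : ∀ a ∈ A, ∃ b ∈ A, p (d * a * d⁻¹) = p b) : ∃ δ ∈ normalizer (A : Set Y), p δ = p d := by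
  have : Fact (Nat.Prime 2) := ⟨Nat.prime_two⟩
  have h1 : (A ⊔ p.ker).map (MulAut.conj d).toMonoidHom ≤ A ⊔ p.ker := by
    rw [Subgroup.map_sup]
    refine sup_le ?_ ?_
    · rintro _ ⟨a, ha, rfl⟩
      obtain ⟨b, hb, e⟩ := hd a ha
      have h2 : b⁻¹ * (d * a * d⁻¹) ∈ p.ker := by
        rw [MonoidHom.mem_ker, map_mul, e, map_inv, inv_mul_cancel]
      have h3 := mul_mem ((le_sup_left : A ≤ A ⊔ p.ker) hb) ((le_sup_right : p.ker ≤ A ⊔ p.ker) h2)
      rw [mul_inv_cancel_left] at h3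
      exact h3
    · rintro _ ⟨a, ha, rfl⟩
      exact (le_sup_right : p.ker ≤ A ⊔ p.ker) (p.normal_ker.conj_mem a ha d)
  have h2 : (A ⊔ p.ker).map (MulAut.conj d).toMonoidHom = A ⊔ p.ker :=
    Subgroup.eq_of_le_of_card_ge h1 (le_of_eq (Subgroup.card_map_of_injective (MulAut.conj d).injective).symm)
  have h3 : ¬ 2 ∣ A.relIndex (A ⊔ p.ker) := by
    have e1 : Nat.card A * A.relIndex (A ⊔ p.ker) = Nat.card ↥(A ⊔ p.ker) := by
      rw [← relIndex_bot_left, ← relIndex_bot_left]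
      exact relIndex_mul_relIndex _ _ _ bot_le le_sup_left
    have e2 : Nat.card p.ker * p.ker.relIndex (A ⊔ p.ker) = Nat.card ↥(A ⊔ p.ker) := by
      rw [← relIndex_bot_left, ← relIndex_bot_left]
      exact relIndex_mul_relIndex _ _ _ bot_le le_sup_right
    have e3 : p.ker.relIndex (A ⊔ p.ker) = p.ker.relIndex A := by
      rw [sup_comm]
      exact Subgroup.relIndex_sup_left _ _
    have e4 : p.ker.relIndex A ∣ Nat.card A := Subgroup.relIndex_dvd_card _ _
    obtain ⟨c, hc⟩ := e4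
    rw [e3] at e2
    rw [← e2, hc] at e1
    have h0 : 0 < p.ker.relIndex A := Nat.pos_of_ne_zero (by
      intro h0
      rw [h0, zero_mul] at hc
      exact absurd hc Nat.card_pos.ne')
    have e5 : c * A.relIndex (A ⊔ p.ker) = Nat.card p.ker := by
      apply Nat.eq_of_mul_eq_mul_left h0
      rw [← mul_assoc, e1, mul_comm]
    intro h4
    have h5 : 2 ∣ Nat.card p.ker := by
      rw [← e5]
      exact h4.mul_left _
    exact (Nat.not_even_iff_odd.2 hk) (even_iff_two_dvd.2 h5)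
  obtain ⟨k, hk', e⟩ := RelExt.frattini (p := 2) hA le_sup_left h3 h2
  rw [← SetLike.mem_coe, Subgroup.mul_normal] at hk'
  obtain ⟨a, ha, n, hn, rfl⟩ := hk'
  have hn' : p n = 1 := hn
  have e6 : a * n * d ∈ normalizer (A : Set Y) := by
    rw [mem_normalizer_iff]
    intro x
    constructor
    · intro hx
      have : (MulAut.conj (a * n * d)).toMonoidHom x ∈ A.map (MulAut.conj (a * n * d)).toMonoidHom := mem_map_of_mem _ hx
      rw [e] at this
      exact this
    · intro hx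
      have hx' : (MulAut.conj (a * n * d)).toMonoidHom x ∈ A.map (MulAut.conj (a * n * d)).toMonoidHom := by
        rw [e]; exact hx
      obtain ⟨y, hy, e7⟩ := hx'
      have := (MulAut.conj (a * n * d)).injective e7
      rwa [← this]
  have ha' : a ∈ normalizer (A : Set Y) := le_normalizer ha
  refine ⟨a⁻¹ * (a * n * d), mul_mem (inv_mem ha') e6, ?_⟩
  rw [map_mul, map_mul, map_mul, hn', mul_one, map_inv, inv_mul_cancel_left]

end Lift

section Diag

variable {X : Type*} [Group X] {F : Type*} [Field F] {K₁ K₂ : Subgroup X}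

/-- The element cycling three elements of order four. -/
theorem three (h2 : (2 : F) ≠ 0) (e₁ : K₁ ≃* Matrix.SpecialLinearGroup (Fin 2) F) {z a b : X} (hz : z ∈ K₁)
    (hzz : z * z = 1) (hz1 : z ≠ 1) (ha : a ∈ K₁) (hb : b ∈ K₁) (haa : a * a = z) (hbb : b * b = z)
    (hab : a * b * a⁻¹ = b⁻¹) : ∃ k ∈ K₁, k * a * k⁻¹ = b ∧ k * b * k⁻¹ = a * b := by
  have hez : e₁ ⟨z, hz⟩ = -1 := by
    have h1 : e₁ ⟨z, hz⟩ * e₁ ⟨z, hz⟩ = 1 := by
      rw [← map_mul, ← map_one e₁]
      congr 1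
      exact Subtype.ext hzz
    rcases Cfsg.Agent.Lib.PSL2Inv.sq_eq_one h2 h1 with h | h
    · exact absurd (congrArg Subtype.val ((map_eq_one_iff e₁ e₁.injective).1 h)) hz1
    · exact h
  have hA : e₁ ⟨a, ha⟩ * e₁ ⟨a, ha⟩ = -1 := by
    rw [← map_mul, ← hez]
    congr 1
    exact Subtype.ext haa
  have hB : e₁ ⟨b, hb⟩ * e₁ ⟨b, hb⟩ = -1 := by
    rw [← map_mul, ← hez]
    congr 1
    exact Subtype.ext hbb
  have hAB : e₁ ⟨a, ha⟩ * e₁ ⟨b, hb⟩ = -(e₁ ⟨b, hb⟩ * e₁ ⟨a, ha⟩) := by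
    have h1 : a * b = b⁻¹ * a := by rw [← hab]; group
    have h3 : b⁻¹ = z * b := by
      rw [inv_eq_iff_mul_eq_one]
      have : b * (z * b) = b * b * b * b := by rw [← hbb]; group
      rw [this, mul_assoc (b * b), hbb, hzz]
    have h4 : (⟨a, ha⟩ * ⟨b, hb⟩ : K₁) = ⟨z, hz⟩ * (⟨b, hb⟩ * ⟨a, ha⟩) := by
      apply Subtype.ext
      change a * b = z * (b * a)
      rw [h1, h3, mul_assoc]
    rw [← map_mul, h4, map_mul, hez, map_mul]
    simp
  obtain ⟨k, h1, h3⟩ := sl_three h2 hA hB hAB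
  obtain ⟨k, rfl⟩ := e₁.surjective k
  refine ⟨k, k.2, ?_, ?_⟩
  · rw [← map_mul, ← map_inv, ← map_mul] at h1
    exact congrArg Subtype.val (e₁.injective h1)
  · rw [← map_mul, ← map_inv, ← map_mul, ← map_mul] at h3
    exact congrArg Subtype.val (e₁.injective h3)

/-- The diagonal element. -/
theorem delta (h2 : (2 : F) ≠ 0) (e₁ : K₁ ≃* Matrix.SpecialLinearGroup (Fin 2) F)
    (hc : ∀ a ∈ K₁, ∀ b ∈ K₂, a * b = b * a) {z a b y : X} (hz : z ∈ K₁) (hzz : z * z = 1) (hz1 : z ≠ 1)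
    (ha : a ∈ K₁) (hb : b ∈ K₁) (haa : a * a = z) (hbb : b * b = z) (hab : a * b * a⁻¹ = b⁻¹)
    (hyy : y * y = 1) (hy1 : ∀ a ∈ K₁, y * a * y⁻¹ ∈ K₂) :
    ∃ d, d * y = y * d ∧ d * (a * (y * a * y⁻¹)) * d⁻¹ = b * (y * b * y⁻¹) ∧
      d * (b * (y * b * y⁻¹)) * d⁻¹ = (a * (y * a * y⁻¹)) * (b * (y * b * y⁻¹)) := by
  obtain ⟨k, hk, k1, k2⟩ := three h2 e₁ hz hzz hz1 ha hb haa hbb hab
  have hyi : y⁻¹ = y := inv_eq_of_mul_eq_one_left hyy
  -- the action of `k * (y * k * y⁻¹)` on `K₁ K₂`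
  have key : ∀ c ∈ K₁, k * (y * k * y⁻¹) * (c * (y * c * y⁻¹)) * (k * (y * k * y⁻¹))⁻¹ =
      (k * c * k⁻¹) * (y * (k * c * k⁻¹) * y⁻¹) := by
    intro c hcK
    have c1 : Commute c (y * k * y⁻¹) := hc c hcK _ (hy1 k hk)
    have c2 : Commute k (y * k * y⁻¹) := hc k hk _ (hy1 k hk)
    have c3 : Commute k (y * c * y⁻¹) := hc k hk _ (hy1 c hcK)
    have c4 : Commute k (y * (k * c * k⁻¹) * y⁻¹) := hc k hk _ (hy1 _ (mul_mem (mul_mem hk hcK) (inv_mem hk)))
    have e1 : y * (k * c * k⁻¹) * y⁻¹ = (y * k * y⁻¹) * (y * c * y⁻¹) * (y * k * y⁻¹)⁻¹ := by group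
    calc k * (y * k * y⁻¹) * (c * (y * c * y⁻¹)) * (k * (y * k * y⁻¹))⁻¹
        = k * ((y * k * y⁻¹) * c) * (y * c * y⁻¹) * (y * k * y⁻¹)⁻¹ * k⁻¹ := by group
      _ = k * (c * (y * k * y⁻¹)) * (y * c * y⁻¹) * (y * k * y⁻¹)⁻¹ * k⁻¹ := by rw [c1.eq]
      _ = k * c * ((y * k * y⁻¹) * (y * c * y⁻¹) * (y * k * y⁻¹)⁻¹) * k⁻¹ := by group
      _ = k * c * (y * (k * c * k⁻¹) * y⁻¹) * k⁻¹ := by rw [e1]
      _ = k * c * ((y * (k * c * k⁻¹) * y⁻¹) * k⁻¹) := by group
      _ = k * c * (k⁻¹ * (y * (k * c * k⁻¹) * y⁻¹)) := by rw [c4.inv_left.eq]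
      _ = _ := by group
  refine ⟨k * (y * k * y⁻¹), ?_, ?_, ?_⟩
  · have c2 : Commute k (y * k * y⁻¹) := hc k hk _ (hy1 k hk)
    have e1 : k * (y * k * y⁻¹) * y = k * (y * k) := by group
    have e2 : y * (k * (y * k * y⁻¹)) = y * ((y * k * y⁻¹) * k) := by rw [c2.eq]
    have e3 : y * ((y * k * y⁻¹) * k) = (y * y) * k * y⁻¹ * k := by group
    rw [e1, e2, e3, hyy, one_mul, hyi, mul_assoc]
  · rw [key a ha, k1]
  · rw [key b hb, k2]
    have c3 : Commute b (y * a * y⁻¹) := hc b hb _ (hy1 a ha)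
    calc a * b * (y * (a * b) * y⁻¹) = a * (b * (y * a * y⁻¹)) * (y * b * y⁻¹) := by group
      _ = a * ((y * a * y⁻¹) * b) * (y * b * y⁻¹) := by rw [c3.eq]
      _ = _ := by group

end Diag

end Cfsg.Agent.LFourB.KDelta
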