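import Cfsg.Agent.LFourB.KPair
import Cfsg.Agent.LFourB.KDelta
import Cfsg.Agent.LFourB.KLoc
import Cfsg.Agent.LFourB.ProdBOneMain

/-!
# The symplectic data of type B1

`E = ⟨z1, z2, x, y⟩` with commuting involutions `x` over `sg`, `y` over `w`, and `H = ⟨z1, z2, x⟩`: the structures
`KLoc.Loc` and `KForm.Orb`.
-/

set_option autoImplicit false
set_option linter.unusedSectionVars false

namespace Cfsg.Agent.LFourB.KInstB

open Subgroup Cfsg.Agent.LFourB.FusA Cfsg.Agent.LFourB.EF Cfsg.Agent.LFourB.KPair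
open Cfsg.Agent.LFourA.CzCt Cfsg.Agent.LFourA.KlQuot Cfsg.Agent.LFourB.ProdCent
open Cfsg.Agent.LFourB.KLoc Cfsg.Agent.LFourB.KForm
open Cfsg.Agent.LFourB.KTrans (EE HH Conf)

variable {G : Type*} [Group G] [Finite G] {S : Sylow 2 G} {m : ℕ} {f : R m → R m → R m → G} {u w x y : G}
  {X : Type*} [Group X] {p : ↥(centralizer ({z1 f} : Set G)) →* X} {K₁ K₂ : Subgroup X}

/-- conjugation by elements of `N(E) ∩ C(z)` -/
def Rc (E : Subgroup G) (z a b : G) : Prop := ∃ g ∈ normalizer (E : Set G), g * z = z * g ∧ g * a * g⁻¹ = b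

omit [Finite G] in
theorem Rc.trans {E : Subgroup G} {z a b c : G} (h1 : Rc E z a b) (h2 : Rc E z b c) : Rc E z a c := by
  obtain ⟨g, hg, hgz, rfl⟩ := h1
  obtain ⟨g', hg', hgz', rfl⟩ := h2
  refine ⟨g' * g, mul_mem hg' hg, ?_, by group⟩
  rw [mul_assoc, hgz, ← mul_assoc, hgz', mul_assoc]

omit [Finite G] in
theorem Rc.symm {E : Subgroup G} {z a b : G} (h1 : Rc E z a b) : Rc E z b a := by
  obtain ⟨g, hg, hgz, rfl⟩ := h1
  refine ⟨g⁻¹, inv_mem hg, ?_, by group⟩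
  have : Commute g z := hgz
  exact this.inv_left.eq

/-- conjugation by elements of `N(E)` -/
def Tc (E : Subgroup G) (a b : G) : Prop := ∃ g ∈ normalizer (E : Set G), g * a * g⁻¹ = b

omit [Finite G] in
theorem Tc.trans {E : Subgroup G} {a b c : G} (h1 : Tc E a b) (h2 : Tc E b c) : Tc E a c := by
  obtain ⟨g, hg, rfl⟩ := h1
  obtain ⟨g', hg', rfl⟩ := h2
  exact ⟨g' * g, mul_mem hg' hg, by group⟩

omit [Finite G] in
theorem Tc.symm {E : Subgroup G} {a b : G} (h1 : Tc E a b) : Tc E b a := by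
  obtain ⟨g, hg, rfl⟩ := h1
  exact ⟨g⁻¹, inv_mem hg, by group⟩

omit [Finite G] in
theorem Rc.t {E : Subgroup G} {z a b : G} (h1 : Rc E z a b) : Tc E a b := by
  obtain ⟨g, hg, -, e⟩ := h1
  exact ⟨g, hg, e⟩

section

variable (h : BOne (S : Subgroup G) m f u w)
  (hcz : CZP (z1 f) p K₁ K₂ (S : Subgroup G) (Qone f u) (Qtwo f u w))
include h hcz

theorem quo : Quo (z1 f) p := ⟨hcz.surj, hcz.ker⟩

/-- `p` is injective on `S`. -/
theorem p_inj {a b : G} (ha : a ∈ (S : Subgroup G)) (hb : b ∈ (S : Subgroup G)) (ha' : a ∈ centralizer ({z1 f} : Set G))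
    (hb' : b ∈ centralizer ({z1 f} : Set G)) (e : p ⟨a, ha'⟩ = p ⟨b, hb'⟩) : a = b := by
  have h1 : a⁻¹ * b ∈ centralizer ({z1 f} : Set G) := mul_mem (inv_mem ha') hb'
  have h2 : p ⟨a⁻¹ * b, h1⟩ = 1 := by
    have h3 : (⟨a⁻¹ * b, h1⟩ : centralizer ({z1 f} : Set G)) = ⟨a, ha'⟩⁻¹ * ⟨b, hb'⟩ := rfl
    rw [h3, map_mul, map_inv, e, inv_mul_cancel]
  obtain ⟨k, hk⟩ := S.2 ⟨a⁻¹ * b, mul_mem (inv_mem ha) hb⟩
  have h3 : (a⁻¹ * b) ^ 2 ^ k = 1 := congrArg Subtype.val hk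
  have h4 := eq_one_of_two (quo h hcz) h1 h2 h3
  exact (inv_mul_eq_one.1 h4)

theorem self_central (g : X) : g * p (self (z1 f)) = p (self (z1 f)) * g := by
  obtain ⟨g, rfl⟩ := hcz.surj g
  rw [← map_mul, ← map_mul]
  congr 1
  exact Subtype.ext (mem_centralizer_singleton_iff.1 g.2)

theorem h1_cent : h1 f ∈ centralizer ({z1 f} : Set G) := h.S_le_centralizer (h.f_mem_S BOne.goodh1)

theorem zz : p (self (z1 f)) * p (self (z1 f)) = 1 := by
  rw [← map_mul, ← map_one p]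
  congr 1
  exact Subtype.ext (z1_sq h)

theorem z_ne : p (self (z1 f)) ≠ 1 := by
  intro e
  rw [← map_one p] at e
  have hz : z1 f ∈ (S : Subgroup G) := h.f_mem_S BOne.good1
  exact z1_ne h (p_inj h hcz hz (one_mem _) (h.S_le_centralizer hz) (one_mem _) e)

theorem ph_sq : p ⟨h1 f, h1_cent h hcz⟩ * p ⟨h1 f, h1_cent h hcz⟩ = p (self (z1 f)) := by
  rw [← map_mul]
  congr 1
  exact Subtype.ext (h1_sq h)

theorem ph_mem : p ⟨h1 f, h1_cent h hcz⟩ ∈ K₁ := by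
  obtain ⟨h3, h4⟩ := mem_up.1 (hcz.q₁ (h1_mem h))
  exact h4

/-- there is no conjugate of `h1` in `K₁ ∩ K₂` -/
theorem no_conj {g : X} (h1' : g * p ⟨h1 f, h1_cent h hcz⟩ * g⁻¹ ∈ K₁) (h2' : g * p ⟨h1 f, h1_cent h hcz⟩ * g⁻¹ ∈ K₂) :
    False := by
  have hs := ph_sq h hcz
  rcases hcz.inf _ h1' h2' with h3 | h3
  · have h4 : p ⟨h1 f, h1_cent h hcz⟩ = 1 := by
      have : p ⟨h1 f, h1_cent h hcz⟩ = g⁻¹ * (g * p ⟨h1 f, h1_cent h hcz⟩ * g⁻¹) * g := by group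
      rw [this, h3]; group
    rw [h4, one_mul] at hs
    exact z_ne h hcz hs.symm
  · have h4 : p ⟨h1 f, h1_cent h hcz⟩ = p (self (z1 f)) := by
      have : p ⟨h1 f, h1_cent h hcz⟩ = g⁻¹ * (g * p ⟨h1 f, h1_cent h hcz⟩ * g⁻¹) * g := by group
      rw [this, h3, self_central h hcz]; group
    rw [h4, zz h hcz] at hs
    exact z_ne h hcz hs.symm

/-- Elements of `S` swapping `Qone` and `Qtwo` swap `K₁` and `K₂`. -/
theorem swaps {s : G} (hs : s ∈ centralizer ({z1 f} : Set G)) (hs1 : ∀ a ∈ Qone f u, s * a * s⁻¹ ∈ Qtwo f u w) :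
    (∀ a ∈ K₁, p ⟨s, hs⟩ * a * (p ⟨s, hs⟩)⁻¹ ∈ K₂) ∧ ∀ a ∈ K₂, p ⟨s, hs⟩ * a * (p ⟨s, hs⟩)⁻¹ ∈ K₁ := by
  rcases hcz.norm (p ⟨s, hs⟩) with h1 | h1
  · exfalso
    have h2 := h1.1 _ (ph_mem h hcz)
    obtain ⟨h3, h4⟩ := mem_up.1 (hcz.q₂ (hs1 _ (h1_mem h)))
    refine no_conj h hcz h2 ?_
    have e : (⟨s * LFourB.h1 f * s⁻¹, h3⟩ : centralizer ({z1 f} : Set G)) = ⟨s, hs⟩ * ⟨LFourB.h1 f, h1_cent h hcz⟩ * ⟨s, hs⟩⁻¹ :=
      rfl
    rw [e, map_mul, map_mul, map_inv] at h4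
    exact h4
  · exact h1

section Pair

variable (hp : IsPr f u w x y)
include hp

omit hcz in
theorem y_Qone : ∀ a ∈ Qone f u, y * a * y⁻¹ ∈ Qtwo f u w := by
  obtain ⟨p, q, r, hg, rfl⟩ := hp.oy
  exact BOne.conj_mul_mem h.w_Qone (h.tor_Qtwo (h.f_mem_Tor hg))

omit hcz in
theorem y_Qtwo : ∀ a ∈ Qtwo f u w, y * a * y⁻¹ ∈ Qone f u := by
  obtain ⟨p, q, r, hg, rfl⟩ := hp.oy
  exact BOne.conj_mul_mem h.w_Qtwo (h.tor_Qone (h.f_mem_Tor hg))

omit hcz in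
theorem EE_cent : EE f x y ≤ centralizer ({z1 f} : Set G) := (EE_le h hp).trans h.S_le_centralizer

/-- **The local structure.** -/
theorem loc {F : Type*} [Field F] (hl : CZPL (z1 f) F p K₁ K₂ (S : Subgroup G) (Qone f u) (Qtwo f u w)) :
    Loc (z1 f) F p K₁ K₂ (EE f x y) (HH f x) where
  surj := hcz.surj
  ker := hcz.ker
  comm := hcz.comm
  z₁ := hcz.z₁
  z₂ := hcz.z₂
  norm := hcz.norm
  cent := by
    intro g hg h1 h2
    obtain ⟨s, hs, -, -, rfl⟩ := hcz.cent g h1 h2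
    -- `p s` has odd order and `s` is a 2-element
    obtain ⟨k, hk⟩ := S.2 ⟨s, hs⟩
    have h3 : (s : G) ^ 2 ^ k = 1 := congrArg Subtype.val hk
    have h4 : p s ^ 2 ^ k = 1 := by
      rw [← map_pow, ← map_one p]
      congr 1
      exact Subtype.ext h3
    have h5 := orderOf_dvd_of_pow_eq_one h4
    have h6 : (orderOf (p s)).Coprime (2 ^ k) := Nat.Coprime.pow_right _ (Nat.coprime_two_right.2 hg)
    exact orderOf_eq_one_iff.1 (Nat.Coprime.eq_one_of_dvd h6 h5)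
  e₁ := hl.e₁
  e₂ := hl.e₂
  le := EE_cent h hp
  swap := by
    intro b hb hbH hbc
    obtain ⟨c, hc, e⟩ := exists_w h hp hb hbH
    refine swaps h hcz hbc ?_
    rw [e]
    exact BOne.conj_mul_mem h.w_Qone (h.TVp_conj hc).2
  inner := by
    intro b hb hb1 hbz hbc
    -- a decomposition in `S`
    have key : ∃ i ∈ Qone f u, ∃ j ∈ Qtwo f u w, i * i = z1 f ∧ j * j = z1 f ∧ b = i * j := by
      obtain ⟨c, hc, e⟩ := (mem_HH h hp.ox hp.xx).1 hb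
      rcases e with rfl | rfl
      · rcases hc with rfl | rfl | rfl | rfl
        · exact absurd rfl hb1
        · exact absurd rfl hbz
        · exact ⟨_, h1_mem h, _, h2_mem h, h1_sq h, h2_sq h, (h1_h2 h).symm⟩
        · have e1 : z1 f * h1 f = h1 f * z1 f := (h.z1_comm (h.f_mem_S BOne.goodh1)).symm
          refine ⟨z1 f * h1 f, mul_mem ?_ (h1_mem h), _, h2_mem h, ?_, h2_sq h, ?_⟩
          · rw [← h1_sq h]; exact mul_mem (h1_mem h) (h1_mem h)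
          · calc z1 f * LFourB.h1 f * (z1 f * LFourB.h1 f) = (z1 f * (LFourB.h1 f * z1 f)) * LFourB.h1 f := by group
              _ = (z1 f * z1 f) * (LFourB.h1 f * LFourB.h1 f) := by rw [← e1]; group
              _ = z1 f := by rw [z1_sq h, one_mul, h1_sq h]
          · rw [mul_assoc, h1_h2 h]
      · have hox : Ov f (sg u w) (c * x) := by
          obtain ⟨p, r, hg, -, -, rfl⟩ := h.e_Z2_coord hc
          obtain ⟨p', q', r', hg', rfl⟩ := hp.ox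
          exact ⟨p + p', p + q', r + r', hg.add hg', by rw [← mul_assoc, h.f_mul _ _ _ _ _ _ hg hg']⟩
        obtain ⟨i, j, e⟩ := exists_iq h hox (EE_sq h hp (HH_le h hp hb))
        exact ⟨_, iq_mem h i, _, jq_mem h j, iq_sq h i, jq_sq h j, e⟩
    obtain ⟨i, hi, j, hj, hi2, hj2, rfl⟩ := key
    obtain ⟨hi', hi3⟩ := mem_up.1 (hcz.q₁ hi)
    obtain ⟨hj', hj3⟩ := mem_up.1 (hcz.q₂ hj)
    refine ⟨_, hi3, _, hj3, ?_, ?_, ?_⟩
    · rw [← map_mul]
      congr 1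
      exact Subtype.ext hi2
    · rw [← map_mul]
      congr 1
      exact Subtype.ext hj2
    · rw [← map_mul]
      rfl

/-- **The element `δ`** of `N(E) ∩ C(z1)`. -/
theorem exists_delta {F : Type*} [Field F] (h2 : (2 : F) ≠ 0) (e₁ : K₁ ≃* Matrix.SpecialLinearGroup (Fin 2) F) :
    ∃ d ∈ normalizer (EE f x y : Set G), d * z1 f = z1 f * d ∧ d * y * d⁻¹ = y ∧
      ∃ b₁ b₂, (b₁ = z2 f ∨ b₁ = z1 f * z2 f) ∧ (b₂ = x ∨ b₂ = z1 f * x) ∧ d * b₁ * d⁻¹ = b₂ ∧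
        d * b₂ * d⁻¹ = b₁ * b₂ := by
  obtain ⟨i, j, hx⟩ := exists_iq h hp.ox hp.xx
  have hy1 := y_Qone h hp
  have hy2 := y_Qtwo h hp
  have hyS := y_mem_S h hp
  have hyc : y ∈ centralizer ({z1 f} : Set G) := h.S_le_centralizer hyS
  have hk1 := swap_eq h hy1 hy2 (cy h hp (Z2_z' _ _)).symm (h1_mem h) (h2_mem h) (h1_h2 h).symm
  have hk2 := swap_eq h hy1 hy2 hp.xy.symm (iq_mem h i) (jq_mem h j) hx
  set b₁ := h1 f * (y * h1 f * y⁻¹) with hb₁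
  set b₂ := iq f u i * (y * iq f u i * y⁻¹) with hb₂
  have hh1c := h1_cent h hcz
  obtain ⟨hic, hiK⟩ := mem_up.1 (hcz.q₁ (iq_mem h i))
  -- the element of `X`
  obtain ⟨d, hdy, hd1, hd2⟩ := KDelta.delta h2 e₁ hcz.comm hcz.z₁ (zz h hcz) (z_ne h hcz) (ph_mem h hcz) hiK
    (ph_sq h hcz) (by
      rw [← map_mul]
      congr 1
      exact Subtype.ext (iq_sq h i)) (by
      rw [← map_mul, ← map_inv, ← map_mul, ← map_inv]
      congr 1
      exact Subtype.ext (h1_iq h i)) (y := p ⟨y, hyc⟩) (by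
      rw [← map_mul, ← map_one p]
      congr 1
      exact Subtype.ext hp.yy) (swaps h hcz hyc hy1).1
  obtain ⟨d, rfl⟩ := hcz.surj d
  have hE := EE_cent h hp
  have hb₁E : b₁ ∈ EE f x y := by
    rcases hk1 with e | e <;> rw [e]
    · exact Z2_mem_EE h hp (Z2_z' _ _)
    · exact Z2_mem_EE h hp (Z2_zz' _ _)
  have hb₂E : b₂ ∈ EE f x y := by
    rcases hk2 with e | e <;> rw [e]
    · exact x_mem
    · exact mul_mem (Z2_mem_EE h hp (Z2_z _ _)) x_mem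
  have p1 : p (d * ⟨b₁, hE hb₁E⟩ * d⁻¹) = p ⟨b₂, hE hb₂E⟩ := by
    simp only [← map_mul, ← map_inv] at hd1
    exact hd1
  have p2 : p (d * ⟨b₂, hE hb₂E⟩ * d⁻¹) = p ⟨b₁ * b₂, hE (mul_mem hb₁E hb₂E)⟩ := by
    simp only [← map_mul, ← map_inv] at hd2
    exact hd2
  have p3 : p (d * ⟨y, hyc⟩ * d⁻¹) = p ⟨y, hyc⟩ := by
    rw [map_mul, map_mul, map_inv, hdy, mul_inv_cancel_right]
  -- the lift
  have hker : Odd (Nat.card p.ker) := ker_odd (quo h hcz)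
  have hA : IsPGroup 2 ((EE f x y).subgroupOf (centralizer ({z1 f} : Set G))) := by
    intro a
    refine ⟨1, ?_⟩
    apply Subtype.ext
    apply Subtype.ext
    change ((a : centralizer ({z1 f} : Set G)) : G) ^ 2 ^ 1 = 1
    rw [pow_one, pow_two]
    exact EE_sq h hp a.2
  obtain ⟨δ, hδ, hδp⟩ := KDelta.exists_norm_lift p hker hA (d := d) (by
    -- it is enough to consider generators
    let B : Subgroup ↥(centralizer ({z1 f} : Set G)) :=
      (((EE f x y).subgroupOf (centralizer ({z1 f} : Set G))).map p).comap (p.comp (MulAut.conj d).toMonoidHom)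
    have hB : ∀ a (ha : a ∈ centralizer ({z1 f} : Set G)) b (hb : b ∈ EE f x y),
        p (d * ⟨a, ha⟩ * d⁻¹) = p ⟨b, hE hb⟩ → (⟨a, ha⟩ : centralizer ({z1 f} : Set G)) ∈ B := by
      intro a ha b hb e
      exact ⟨⟨b, hE hb⟩, hb, e.symm⟩
    have hz1E : z1 f ∈ EE f x y := Z2_mem_EE h hp (Z2_z _ _)
    have q0 : z1 f ∈ B.map (centralizer ({z1 f} : Set G)).subtype := by
      refine ⟨⟨z1 f, hE hz1E⟩, hB _ _ _ hz1E ?_, rfl⟩
      congr 1
      rw [mul_inv_eq_iff_eq_mul]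
      exact Subtype.ext (mem_centralizer_singleton_iff.1 d.2)
    have q1 : b₁ ∈ B.map (centralizer ({z1 f} : Set G)).subtype := ⟨⟨b₁, hE hb₁E⟩, hB _ _ _ hb₂E p1, rfl⟩
    have q2 : b₂ ∈ B.map (centralizer ({z1 f} : Set G)).subtype :=
      ⟨⟨b₂, hE hb₂E⟩, hB _ _ _ (mul_mem hb₁E hb₂E) p2, rfl⟩
    have q3 : y ∈ B.map (centralizer ({z1 f} : Set G)).subtype := ⟨⟨y, hyc⟩, hB _ _ _ y_mem p3, rfl⟩
    have q4 : EE f x y ≤ B.map (centralizer ({z1 f} : Set G)).subtype := by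
      rw [EE, closure_le]
      rintro a (rfl | rfl | rfl | rfl)
      · exact q0
      · rcases hk1 with e | e
        · rw [← e]; exact q1
        · have : z2 f = z1 f * b₁ := by rw [e, ← mul_assoc, z1_sq h, one_mul]
          rw [this]; exact mul_mem q0 q1
      · rcases hk2 with e | e
        · exact e ▸ q2
        · have : a = z1 f * b₂ := by rw [e, ← mul_assoc, z1_sq h, one_mul]
          rw [this]; exact mul_mem q0 q2
      · exact q3
    intro a ha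
    obtain ⟨c, hc, e⟩ := q4 ha
    have e' : c = a := Subtype.ext e
    rw [e'] at hc
    obtain ⟨b, hb, e2⟩ := hc
    exact ⟨b, hb, e2.symm⟩)
  have hδc : (δ : G) * z1 f = z1 f * δ := mem_centralizer_singleton_iff.1 δ.2
  have hδE : (δ : G) ∈ normalizer (EE f x y : Set G) := by
    rw [mem_normalizer_iff]
    intro a
    constructor
    · intro ha
      exact (mem_normalizer_iff.1 hδ ⟨a, hE ha⟩).1 ha
    · intro ha
      have h3 : a ∈ centralizer ({z1 f} : Set G) := by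
        have h4 := mul_mem (mul_mem (inv_mem δ.2) (hE ha)) δ.2
        have h5 : (δ : G)⁻¹ * (δ * a * (δ : G)⁻¹) * δ = a := by group
        rwa [h5] at h4
      exact (mem_normalizer_iff.1 hδ ⟨a, h3⟩).2 ha
  -- the action on `E` is determined by `p`
  have key : ∀ a b (ha : a ∈ EE f x y) (hb : b ∈ EE f x y), p (d * ⟨a, hE ha⟩ * d⁻¹) = p ⟨b, hE hb⟩ →
      (δ : G) * a * (δ : G)⁻¹ = b := by
    intro a b ha hb e
    have h3 : (δ : G) * a * (δ : G)⁻¹ ∈ EE f x y := (mem_normalizer_iff.1 hδE a).1 ha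
    refine p_inj h hcz (EE_le h hp h3) (EE_le h hp hb) (hE h3) (hE hb) ?_
    rw [← e, map_mul, map_mul, map_inv, ← hδp, ← map_inv, ← map_mul, ← map_mul]
    rfl
  refine ⟨δ, hδE, hδc, key _ _ y_mem y_mem p3, b₁, b₂, hk1, hk2, key _ _ hb₁E hb₂E p1,
    key _ _ hb₂E (mul_mem hb₁E hb₂E) p2⟩

/-- `N(E) ∩ C(z1)` normalises `H`. -/
theorem norm_H {F : Type*} [Field F] (hl : CZPL (z1 f) F p K₁ K₂ (S : Subgroup G) (Qone f u) (Qtwo f u w))
    {g : G} (hg : g ∈ normalizer (EE f x y : Set G)) (hgz : g * z1 f = z1 f * g) {a : G} (ha : a ∈ HH f x) :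
    g * a * g⁻¹ ∈ HH f x := by
  by_contra hb
  have L := loc h hcz hp hl
  have hE := EE_cent h hp
  have haE := HH_le h hp ha
  have hbE : g * a * g⁻¹ ∈ EE f x y := (mem_normalizer_iff.1 hg a).1 haE
  have hgc : g ∈ centralizer ({z1 f} : Set G) := mem_centralizer_singleton_iff.2 hgz
  have hsw := (L.swap _ hbE hb (hE hbE)).1
  have e0 : p ⟨g * a * g⁻¹, hE hbE⟩ = p ⟨g, hgc⟩ * p ⟨a, hE haE⟩ * (p ⟨g, hgc⟩)⁻¹ := by
    rw [← map_inv, ← map_mul, ← map_mul]; rfl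
  -- `a` normalises `K₁` and `K₂`
  have hn : (∀ c ∈ K₁, p ⟨a, hE haE⟩ * c * (p ⟨a, hE haE⟩)⁻¹ ∈ K₁) ∧
      ∀ c ∈ K₂, p ⟨a, hE haE⟩ * c * (p ⟨a, hE haE⟩)⁻¹ ∈ K₂ := by
    rcases hcz.norm (p ⟨a, hE haE⟩) with h1 | h1
    · exact h1
    · exfalso
      by_cases ha1 : a = 1
      · have h3 : p ⟨a, hE haE⟩ = 1 := by
          rw [← map_one p]; congr 1; exact Subtype.ext ha1
        refine no_conj h hcz (g := 1) ?_ ?_
        · rw [one_mul, inv_one, mul_one]; exact ph_mem h hcz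
        · have := h1.1 _ (ph_mem h hcz)
          rwa [h3] at this
      by_cases haz : a = z1 f
      · have h3 : p ⟨a, hE haE⟩ = p (self (z1 f)) := by
          congr 1; exact Subtype.ext haz
        have h4 := h1.1 _ (ph_mem h hcz)
        refine no_conj h hcz (g := p (self (z1 f))) ?_ (h3 ▸ h4)
        rw [← self_central h hcz, mul_inv_cancel_right]
        exact ph_mem h hcz
      · obtain ⟨c₁, hc₁, c₂, hc₂, -, -, e⟩ := L.inner a ha ha1 haz (hE haE)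
        have h4 := h1.1 _ (ph_mem h hcz)
        refine no_conj h hcz ?_ h4
        have e1 : p ⟨a, hE haE⟩ * p ⟨LFourB.h1 f, h1_cent h hcz⟩ * (p ⟨a, hE haE⟩)⁻¹ =
            c₁ * p ⟨LFourB.h1 f, h1_cent h hcz⟩ * c₁⁻¹ := by
          have e2 : Commute (p ⟨LFourB.h1 f, h1_cent h hcz⟩) c₂ := hcz.comm _ (ph_mem h hcz) _ hc₂
          rw [e]
          calc c₁ * c₂ * p ⟨LFourB.h1 f, h1_cent h hcz⟩ * (c₁ * c₂)⁻¹ =
              c₁ * (c₂ * p ⟨LFourB.h1 f, h1_cent h hcz⟩) * c₂⁻¹ * c₁⁻¹ := by group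
            _ = _ := by rw [← e2.eq]; group
        rw [e1]
        exact mul_mem (mul_mem hc₁ (ph_mem h hcz)) (inv_mem hc₁)
  -- an element of `K₁` in both
  have key : ∀ c ∈ K₁, (p ⟨g, hgc⟩)⁻¹ * c * p ⟨g, hgc⟩ ∈ K₁ ∨ (p ⟨g, hgc⟩)⁻¹ * c * p ⟨g, hgc⟩ ∈ K₂ := by
    intro c hc
    rcases hcz.norm (p ⟨g, hgc⟩)⁻¹ with h1 | h1
    · left; have := h1.1 c hc; rwa [inv_inv] at this
    · right; have := h1.1 c hc; rwa [inv_inv] at this
  have hph := ph_mem h hcz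
  have hbb := hsw _ hph
  refine no_conj h hcz ?_ hbb
  rw [e0]
  have e5 : ∀ k c : X, k * p ⟨a, hE haE⟩ * k⁻¹ * c * (k * p ⟨a, hE haE⟩ * k⁻¹)⁻¹ =
      k * (p ⟨a, hE haE⟩ * (k⁻¹ * c * k) * (p ⟨a, hE haE⟩)⁻¹) * k⁻¹ := fun k c => by group
  rw [e5]
  rcases hcz.norm (p ⟨g, hgc⟩) with h1 | h1
  · rcases hcz.norm (p ⟨g, hgc⟩)⁻¹ with h3 | h3
    · refine h1.1 _ (hn.1 _ ?_)
      have := h3.1 _ hph; rwa [inv_inv] at this
    · exfalso
      have h4 := h3.1 _ hph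
      rw [inv_inv] at h4
      have h5 := h1.2 _ h4
      have e6 : p ⟨g, hgc⟩ * ((p ⟨g, hgc⟩)⁻¹ * p ⟨LFourB.h1 f, h1_cent h hcz⟩ * p ⟨g, hgc⟩) * (p ⟨g, hgc⟩)⁻¹ =
          1 * p ⟨LFourB.h1 f, h1_cent h hcz⟩ * 1⁻¹ := by group
      rw [e6] at h5
      refine no_conj h hcz (g := 1) ?_ h5
      rw [one_mul, inv_one, mul_one]; exact hph
  · rcases hcz.norm (p ⟨g, hgc⟩)⁻¹ with h3 | h3
    · exfalso
      have h4 := h3.1 _ hph
      rw [inv_inv] at h4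
      have h5 := h1.1 _ h4
      have e6 : p ⟨g, hgc⟩ * ((p ⟨g, hgc⟩)⁻¹ * p ⟨LFourB.h1 f, h1_cent h hcz⟩ * p ⟨g, hgc⟩) * (p ⟨g, hgc⟩)⁻¹ =
          1 * p ⟨LFourB.h1 f, h1_cent h hcz⟩ * 1⁻¹ := by group
      rw [e6] at h5
      refine no_conj h hcz (g := 1) ?_ h5
      rw [one_mul, inv_one, mul_one]; exact hph
    · refine h1.2 _ (hn.2 _ ?_)
      have := h3.1 _ hph; rwa [inv_inv] at this

end Pair

omit hcz in
theorem Z2_cases {a b : G} (ha : Z2 (z1 f) (z2 f) a) (ha1 : a ≠ 1) (haz : a ≠ z1 f)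
    (hb : b = z2 f ∨ b = z1 f * z2 f) : a = b ∨ a = z1 f * b := by
  have hz : z1 f * (z1 f * z2 f) = z2 f := by rw [← mul_assoc, z1_sq h, one_mul]
  rcases ha with rfl | rfl | rfl | rfl
  · exact absurd rfl ha1
  · exact absurd rfl haz
  · rcases hb with rfl | rfl
    · exact Or.inl rfl
    · exact Or.inr hz.symm
  · rcases hb with rfl | rfl
    · exact Or.inr rfl
    · exact Or.inl rfl

/-- **The orbits.** -/
theorem orb {F : Type*} [Field F] (hl : CZPL (z1 f) F p K₁ K₂ (S : Subgroup G) (Qone f u) (Qtwo f u w))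
    (h2 : (2 : F) ≠ 0) {n : G} (hc : Conf (S : Subgroup G) m f u w n x y) : Orb (z1 f) (EE f x y) (HH f x) := by
  have hp : IsPr f u w x y := ⟨hc.x_ov, hc.y_ov, hc.x_x, hc.y_y, hc.x_y⟩
  obtain ⟨e₁⟩ := hl.e₁
  obtain ⟨d, hd, hdz, hdy, b₁, b₂, hb₁, hb₂, hd1, hd2⟩ := exists_delta h hcz hp h2 e₁
  have hz1 := Z2_z (z1 f) (z2 f)
  have hz2 := Z2_z' (z1 f) (z2 f)
  have hz12 := Z2_zz' (z1 f) (z2 f)
  have hb₁Z : Z2 (z1 f) (z2 f) b₁ := by rcases hb₁ with rfl | rfl; exacts [hz2, hz12]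
  have hb₂x : ∃ c, Z2 (z1 f) (z2 f) c ∧ b₂ = c * x := by
    rcases hb₂ with rfl | rfl
    · exact ⟨1, Z2_one _ _, (one_mul _).symm⟩
    · exact ⟨_, hz1, rfl⟩
  -- torus
  have tr : ∀ a b c c' : G, a ∉ Tor f → a ∈ EE f x y → Z2 (z1 f) (z2 f) c → Z2 (z1 f) (z2 f) c' →
      a = c * b → Rc (EE f x y) (z1 f) a (c' * b) := by
    intro a b c c' haT haE hc hc' e
    obtain ⟨t, ht, htn, e1⟩ := tor_tr h hp haE haT (Z2_mul h hc' hc)
    refine ⟨t, htn, h.Tor_comm ht (Z2_mem_Tor h hz1), ?_⟩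
    rw [e1, e, mul_assoc, ← mul_assoc c, Z2_sq h hc, one_mul]
  have hT : ∀ c b, Z2 (z1 f) (z2 f) c → b ∉ Tor f → c * b ∉ Tor f := by
    intro c b hc hb hcb
    exact hb (((Tor f).mul_mem_cancel_left (Z2_mem_Tor h hc)).1 hcb)
  have hxT := x_notin_Tor h hp
  have hyT := y_notin_Tor h hp
  have hxyT := xy_notin_Tor h hp
  have hxE : x ∈ EE f x y := x_mem
  have hyE : y ∈ EE f x y := y_mem
  have hZE : ∀ {c}, Z2 (z1 f) (z2 f) c → c ∈ EE f x y := fun hc => Z2_mem_EE h hp hc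
  have rd : ∀ {a b : G}, d * a * d⁻¹ = b → Rc (EE f x y) (z1 f) a b := fun e => ⟨d, hd, hdz, e⟩
  obtain ⟨c', hc', hb₂x⟩ := hb₂x
  -- cosets of `x`
  have rx : ∀ c, Z2 (z1 f) (z2 f) c → Rc (EE f x y) (z1 f) (c * x) b₂ := by
    intro c hcc
    rw [hb₂x]
    exact tr _ x c c' (hT _ _ hcc hxT) (mul_mem (hZE hcc) hxE) hcc hc' rfl
  have to_b2 : ∀ a ∈ HH f x, a ≠ 1 → a ≠ z1 f → Rc (EE f x y) (z1 f) a b₂ := by
    intro a ha ha1 haz
    obtain ⟨c, hcc, rfl | rfl⟩ := (mem_HH h hp.ox hp.xx).1 ha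
    · rcases Z2_cases h hcc ha1 haz hb₁ with e | e
      · rw [e]; exact rd hd1
      · refine (rd (b := z1 f * b₂) ?_).trans ?_
        · rw [e, ← hd1]
          calc d * (z1 f * b₁) * d⁻¹ = (d * z1 f) * b₁ * d⁻¹ := by group
            _ = z1 f * (d * b₁ * d⁻¹) := by rw [hdz]; group
        · rw [hb₂x, ← mul_assoc, ← hb₂x]
          exact rx _ (Z2_mul h hz1 hc')
    · exact rx c hcc
  have ry : ∀ c, Z2 (z1 f) (z2 f) c → Rc (EE f x y) (z1 f) (c * y) y := by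
    intro c hcc
    have := tr _ y c 1 (hT _ _ hcc hyT) (mul_mem (hZE hcc) hyE) hcc (Z2_one _ _) rfl
    rwa [one_mul] at this
  have rxy : ∀ c, Z2 (z1 f) (z2 f) c → Rc (EE f x y) (z1 f) (c * (x * y)) y := by
    intro c hcc
    refine (tr _ (x * y) c c' (hT _ _ hcc hxyT) (mul_mem (hZE hcc) (mul_mem hxE hyE)) hcc hc' rfl).trans ?_
    rw [← mul_assoc, ← hb₂x]
    have h3 : Rc (EE f x y) (z1 f) (b₁ * y) (b₂ * y) := rd (by
      calc d * (b₁ * y) * d⁻¹ = (d * b₁ * d⁻¹) * (d * y * d⁻¹) := by group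
        _ = _ := by rw [hd1, hdy])
    exact h3.symm.trans (ry _ hb₁Z)
  have tn : ∀ {a b : G}, n * a * n⁻¹ = b → Tc (EE f x y) a b := fun e => ⟨n, hc.n_E, e⟩
  have t2 : Tc (EE f x y) (z2 f) (z1 f) := (tn hc.n_z2).trans (tn hc.n_z3)
  have t3 : Tc (EE f x y) (z1 f * z2 f) (z1 f) := by
    rw [h.e_z3_eq]
    exact tn hc.n_z3
  have tb₁ : Tc (EE f x y) b₁ (z1 f) := by
    rcases hb₁ with rfl | rfl
    · exact t2
    · exact t3
  have tb₂ : Tc (EE f x y) b₂ (z1 f) := (rd hd1).t.symm.trans tb₁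
  have tx : Tc (EE f x y) x (z1 f) := by
    have := (rx 1 (Z2_one _ _)).t.trans tb₂
    rwa [one_mul] at this
  have ty : Tc (EE f x y) y (z1 f) := (tn hc.n_x).symm.trans tx
  refine ⟨elem h hp, card_EE h hp, HH_le h hp, card_HH h hp, Z2_mem_HH hz1, z1_ne h, ?_, ?_, ?_, ?_⟩
  · intro a ha ha1
    obtain ⟨c, hcc, rfl | rfl | rfl | rfl⟩ := (mem_EE h hp).1 ha
    · rcases hcc with rfl | rfl | rfl | rfl
      · exact absurd rfl ha1
      · exact ⟨1, one_mem _, by group⟩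
      · exact t2
      · exact t3
    · exact (rx c hcc).t.trans tb₂
    · exact (ry c hcc).t.trans ty
    · exact (rxy c hcc).t.trans ty
  · intro g hg hgz a ha
    exact norm_H h hcz hp hl hg hgz ha
  · intro a ha ha1 haz b hb hb1 hbz
    exact (to_b2 a ha ha1 haz).trans (to_b2 b hb hb1 hbz).symm
  · intro a ha haH b hb hbH
    have k : ∀ a ∈ EE f x y, a ∉ HH f x → Rc (EE f x y) (z1 f) a y := by
      intro a ha haH
      obtain ⟨c, hcc, rfl | rfl⟩ := not_mem_HH h hp ha haH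
      · exact ry c hcc
      · exact rxy c hcc
    exact (k a ha haH).trans (k b hb hbH).symm

end

omit [Finite G] in
theorem isPr_of_conf {P : Subgroup G} {n : G} (hc : Conf P m f u w n x y) : IsPr f u w x y :=
  ⟨hc.x_ov, hc.y_ov, hc.x_x, hc.y_y, hc.x_y⟩

/-- **The instance of `Loc`** for type B1. -/
theorem locB (h : BOne (S : Subgroup G) m f u w) {F : Type*} [Field F]
    (hl : CZPL (z1 f) F p K₁ K₂ (S : Subgroup G) (Qone f u) (Qtwo f u w)) {n : G}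
    (hc : Conf (S : Subgroup G) m f u w n x y) : Loc (z1 f) F p K₁ K₂ (EE f x y) (HH f x) :=
  loc h hl.toCZP (isPr_of_conf hc) hl

/-- **The instance of `Orb`** for type B1. -/
theorem orbB (h : BOne (S : Subgroup G) m f u w) {F : Type*} [Field F] (h2 : (2 : F) ≠ 0)
    (hl : CZPL (z1 f) F p K₁ K₂ (S : Subgroup G) (Qone f u) (Qtwo f u w)) {n : G}
    (hc : Conf (S : Subgroup G) m f u w n x y) : Orb (z1 f) (EE f x y) (HH f x) :=
  orb h hl.toCZP hl h2 hc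

end Cfsg.Agent.LFourB.KInstB
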