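import Cfsg.Agent.LFourB.KTransN
import Cfsg.Agent.LFourB.KInstB
import Cfsg.Agent.LFourB.KEnd
import Cfsg.Agent.LFourB.ClBGlue
import Cfsg.Agent.LFourB.BOneFacts

/-!
# S0510, type B1: the completion `W` is trivial, so the swaps invert `O(C(z1))`
-/

set_option autoImplicit false
set_option linter.unusedSectionVars false

namespace Cfsg.Agent.LFourB.KEndB

open Subgroup Cfsg Cfsg.Agent.LFourB Cfsg.Agent.LFourB.KTrans Cfsg.Agent.LFourB.ProdCent
open Cfsg.Agent.LFourA.CzCt Cfsg.Agent.LFourA.KlQuot Cfsg.Agent.LFourB.KLoc Cfsg.Agent.LFourB.KForm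
open Cfsg.Agent.Lib.SymFrame
open Cfsg.Agent.StandardComponent (CentCore.core_le CentCore.core_odd CentCore.core_conj_mem)

variable {G X : Type*} [Group G] [Group X] [Finite G]
  {P : Sylow 2 G} {m : ℕ} {f : R m → R m → R m → G} {u w : G}
  {p : ↥(centralizer ({z1 f} : Set G)) →* X} {K₁ K₂ : Subgroup X} {F : Type*} [Field F] [Fintype F] {n x y : G}

theorem up_conj {g : G} (hg : g ∈ centralizer ({z1 f} : Set G)) {K K' : Subgroup X}
    (h : ∀ a ∈ K, p ⟨g, hg⟩ * a * (p ⟨g, hg⟩)⁻¹ ∈ K') : ∀ a ∈ up p K, g * a * g⁻¹ ∈ up p K' := by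
  intro a ha
  obtain ⟨h1, h2⟩ := mem_up.1 ha
  refine mem_up.2 ⟨mul_mem (mul_mem hg h1) (inv_mem hg), ?_⟩
  have h3 := h _ h2
  rw [← map_inv, ← map_mul, ← map_mul] at h3
  exact h3

/-- **`C(z1), N(T) ≤ M`.** -/
theorem cent_norm_le (h : BOne (P : Subgroup G) m f u w)
    (hl : CZPL (z1 f) F p K₁ K₂ (P : Subgroup G) (Qone f u) (Qtwo f u w))
    (hc : Conf (P : Subgroup G) m f u w n x y) {M : Subgroup G} (hn : n ∈ M) (hE : EE f x y ≤ M)
    (hK : K₁ ≤ dn p M ∧ K₂ ≤ dn p M)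
    (hodd : ∀ K : Subgroup G, ¬ 2 ∣ Nat.card K → (∀ b ∈ EE f x y, ∀ a ∈ K, b * a * b⁻¹ ∈ K) → K ≤ M) :
    centralizer ({z1 f} : Set G) ≤ M ∧ normalizer (Tor f : Set G) ≤ M := by
  have hPC : (P : Subgroup G) ≤ centralizer ({z1 f} : Set G) := h.S_le_centralizer
  have hEP : EE f x y ≤ (P : Subgroup G) := hc.fa.e16.le
  have hEC : EE f x y ≤ centralizer ({z1 f} : Set G) := hEP.trans hPC
  have hO : centralizerPPrimeCore 2 (z1 f) ≤ M := by
    refine hodd _ ?_ ?_
    · have h1 := CentCore.core_odd (G := G) (z1 f)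
      exact fun h3 => (Nat.not_even_iff_odd.mpr h1) (even_iff_two_dvd.mpr h3)
    · intro b hb a ha
      exact CentCore.core_conj_mem (mem_centralizer_singleton_iff.mp (hEC hb)) ha
  have hq : Quo (z1 f) p := ⟨hl.surj, hl.ker⟩
  have hU1 : up p K₁ ≤ M := up_le_of_dn hq hO hK.1
  have hU2 : up p K₂ ≤ M := up_le_of_dn hq hO hK.2
  have hy : y ∈ M := hE (subset_closure (Or.inr (Or.inr (Or.inr rfl))))
  have e1 : ∀ a : R m, f (2 * a) 0 (-a) ∈ M := fun a =>
    hU1 (hl.q₁ (subset_closure (Or.inl ⟨a, rfl⟩)))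
  have e2 : ∀ a : R m, f 0 (2 * a) a ∈ M := fun a =>
    hU2 (hl.q₂ (subset_closure (Or.inl ⟨a, rfl⟩)))
  have h0 : ∀ a b : R m, f (2 * a) (2 * b) (b - a) ∈ M := by
    intro a b
    have h1 := mul_mem (e1 a) (e2 b)
    rw [h.f_mul _ _ _ _ _ _ (BOne.goodq1 a) (BOne.goodq2 b)] at h1
    have h2 : 2 * a + 0 = 2 * a := by ring
    have h3 : 0 + 2 * b = 2 * b := by ring
    have h4 : -a + b = b - a := by ring
    rwa [h2, h3, h4] at h1
  have hu : u * x1 f ∈ M := hU1 (hl.q₁ (subset_closure (Or.inr rfl)))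
  have hPM := hc.P_le h hn hy h0 hu
  have hC : centralizer ({z1 f} : Set G) ≤ M := by
    refine cent_le h (U1 := up p K₁) (U2 := up p K₂) (E := EE f x y) ?_ ?_ (up_le p K₁) (up_le p K₂) hl.q₁ hl.q₂
      hl.s₁ hl.s₂ hU1 hU2 hPM hEP hodd
    · intro g hg
      rcases hl.norm (p ⟨g, hg⟩) with ⟨h1, h2⟩ | ⟨h1, h2⟩
      · exact Or.inl ⟨up_conj hg h1, up_conj hg h2⟩
      · exact Or.inr ⟨up_conj hg h1, up_conj hg h2⟩
    · intro g hg ho
      have h3 : Odd (orderOf (p ⟨g, hg⟩)) := by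
        refine Odd.of_dvd_nat ?_ (orderOf_map_dvd p _)
        rwa [Subgroup.orderOf_mk]
      obtain ⟨h1, h2⟩ := hl.odd _ h3
      exact ⟨up_conj hg h1, up_conj hg h2⟩
  refine ⟨hC, hc.norm_tor_le h hn hPM ((centralizer_le ?_).trans hC)⟩
  rw [Set.singleton_subset_iff]
  exact h.f_mem_Tor BOne.good1

theorem eq_bot_of_odd [IsSimpleGroup G] {W : Subgroup G} (hW : ¬ 2 ∣ Nat.card W) (h2 : 2 ∣ Nat.card G)
    (hN : normalizer (W : Set G) = ⊤) : W = ⊥ := by
  have hn : W.Normal := normalizer_eq_top_iff.1 hN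
  rcases hn.eq_bot_or_eq_top with h1 | h1
  · exact h1
  · exfalso
    apply hW
    rw [h1, card_top]
    exact h2

theorem two_dvd (h : BOne (P : Subgroup G) m f u w) (hc : Conf (P : Subgroup G) m f u w n x y) :
    2 ∣ Nat.card G := by
  have h1 : Nat.card (EE f x y) ∣ Nat.card G := card_subgroup_dvd_card _
  rw [hc.fa.e16.card] at h1
  exact dvd_trans (by norm_num) h1

/-- **The swaps invert `O(C(z1))`.** -/
theorem inv_core [IsSimpleGroup G] (h : BOne (P : Subgroup G) m f u w)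
    (hl : CZPL (z1 f) F p K₁ K₂ (P : Subgroup G) (Qone f u) (Qtwo f u w))
    (hc : Conf (P : Subgroup G) m f u w n x y) (h2 : (2 : F) ≠ 0)
    (h8 : (Fintype.card F % 8 = 1 ∨ Fintype.card F % 8 = 7))
    (hcl : ∀ M : Subgroup G, centralizer ({z1 f} : Set G) ≤ M → normalizer (Tor f : Set G) ≤ M → M = ⊤)
    {b : G} (hb : b ∈ EE f x y) (hbH : b ∉ HH f x) {a : G} (ha : a ∈ centralizerPPrimeCore 2 (z1 f)) :
    b * a * b⁻¹ = a⁻¹ := by
  have l := KInstB.locB h hl hc
  have o := KInstB.orbB h h2 hl hc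
  have hF1 : 1 < Fintype.card F := Fintype.one_lt_card
  by_cases h11 : 11 ≤ Fintype.card F
  · obtain ⟨W, hW⟩ := l.exists_completion o h2
    have hWE : normalizer (EE f x y : Set G) ≤ normalizer (W : Set G) :=
      hW.norm _ le_rfl (by rw [hW.card]; norm_num)
    obtain ⟨h3, h4⟩ := cent_norm_le h hl hc (hWE hc.n_E) (le_normalizer.trans hWE) (l.le_dn o h2 (by omega) (by
      intro b hb hbH
      refine l.diag_mem_two o h2 h11 hb hbH ?_
      intro v hv hv1 hvz x' hxz hxv hxb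
      refine KClose.mem_of_comm (hW.norm (closure {z1 f, v, b}) ?_ (KClose.card_zvb o hv hv1 hvz hbH)) ?_
      · rw [closure_le]
        rintro c (rfl | rfl | hc')
        · exact o.z_memE
        · exact o.le hv
        · rw [Set.mem_singleton_iff.mp hc']; exact hb
      · rintro c (rfl | rfl | hc')
        · exact hxz
        · exact hxv
        · rw [Set.mem_singleton_iff.mp hc']; exact hxb)) hW.le_normalizer
    have h5 := eq_bot_of_odd hW.odd (two_dvd h hc) (hcl _ h3 h4)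
    subst h5
    exact l.inv_core o h2 hW hb hbH ha
  · have hF : ∃ a : ℕ, (Nat.card F % 4 = 1 ∧ Nat.card F - 1 = 2 ^ a) ∨ (Nat.card F % 4 = 3 ∧ Nat.card F + 1 = 2 ^ a) := by
      refine ⟨3, ?_⟩
      rw [Nat.card_eq_fintype_card]
      rcases h8 with h8 | h8
      · left; omega
      · right; omega
    obtain ⟨W, hW⟩ := l.exists_completion_one o h2 hF
    have hE16 : Nat.card (EE f x y) = 16 := hc.fa.e16.card
    have hWE : normalizer (EE f x y : Set G) ≤ normalizer (W : Set G) :=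
      hW.norm _ le_rfl (by rw [hE16]; norm_num)
    obtain ⟨h3, h4⟩ := cent_norm_le h hl hc (hWE hc.n_E) (le_normalizer.trans hWE) (l.le_dn o h2 (by omega) (by
      intro b hb hbH
      refine l.diag_mem_one o hb hbH ?_
      intro x' hxz hxb
      refine KClose.mem_of_comm (hW.norm (closure {z1 f, b}) (KClose.card_zb_le o hb) (KClose.card_zv o ?_ ?_)) ?_
      · rintro rfl
        exact hbH (one_mem _)
      · rintro rfl
        exact hbH o.z_mem
      · rintro c (rfl | hc')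
        · exact hxz
        · rw [Set.mem_singleton_iff.mp hc']; exact hxb)) hW.le_normalizer
    have h5 := eq_bot_of_odd hW.odd (two_dvd h hc) (hcl _ h3 h4)
    have h6 := hW.core_le o.z_memE o.z_ne ha
    rw [h5, mem_bot] at h6
    rw [h6]
    group

end Cfsg.Agent.LFourB.KEndB
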