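import Cfsg.Agent.LFourB.StepSixFive
import Cfsg.Agent.LFourB.KForm
import Cfsg.Agent.LFourB.KLoc

/-!
# The `B5` instance of the input of `KForm` and `KLoc`: `E = V1`, `H = V1 ⊓ Q` and `E = V2`, `H = V2 ⊓ Q`
-/

set_option autoImplicit false


namespace Cfsg.Agent.LFourB.KInst

open Subgroup Cfsg.Agent.LFourB K4 M7 StepSixModel StepSixOut StepSixInst
open Cfsg.Agent.LFourA.CzCt
open MSevenFa MSevenFb MSevenFd MSevenFf
open Cfsg.Agent.SignalizersComponents.RelSylow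
open Cfsg.Agent.SylowL5.Weak

universe u

theorem W1_le_Q : ∀ m : M7, m ∈ W1 → m ∈ M7.Q := by decide +kernel
theorem mem_V1_inv : ∀ m : M7, m ∈ V1 → m * m = 1 := by decide +kernel
theorem z_mem_W1 : z ∈ W1 := by decide
theorem W1_pr : ∀ m : M7, m ∈ W1 → pr m.a = true := by decide +kernel
theorem conj_W : ∀ m : M7, m ∈ V1 → m ∉ W1 → pr m.a = false := by decide +kernel
theorem V1_out : ∀ m : M7, m ∈ V1 → m ∉ W1 → tU m = false := by decide +kernel

instance : DecidablePred (· ∈ V2 ⊓ M7.Q) := fun x => inferInstanceAs (Decidable (x ∈ V2 ∧ x ∈ M7.Q))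

theorem swap_W1 (m : M7) : swap m ∈ W1 ↔ m ∈ V2 ⊓ M7.Q := by
  unfold W1
  rw [Subgroup.mem_inf, Subgroup.mem_inf, swap_mem_V1, swap_mem_Q]
theorem V2_out (m : M7) (hm : m ∈ V2) (hm' : m ∉ V2 ⊓ M7.Q) : tU m = false := by
  have h1 : ∀ m : M7, m ∈ V2 → m ∉ M7.Q → tU m = false := by decide +kernel
  exact h1 m hm (fun h => hm' (Subgroup.mem_inf.2 ⟨hm, h⟩))
theorem Q_sq : ∀ m : M7, m ∈ M7.Q → m * m = 1 → m ≠ 1 → m ≠ z →
    p1 m * p1 m = z ∧ (p1 m)⁻¹ * m * ((p1 m)⁻¹ * m) = z := by decide +kernel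

theorem card_W1 : Nat.card W1 = 8 := by
  rw [StepSixModel.card_filter W1 (p := (· ∈ W1)) (fun _ => Iff.rfl)]; decide +kernel

section

variable {G : Type u} [Group G] [Finite G] {S : Sylow 2 G} {φ : M7 →* G}

omit [Finite G] in
theorem mem_norm {g : G} {A : Subgroup G} : g ∈ normalizer (A : Set G) ↔ cj g A = A := cj_eq_iff.symm

theorem orb (F : Fus S φ) (hτ : ¬ Tau φ) : KForm.Orb (φ z) (V1.map φ) (W1.map φ) where
  elem := by
    constructor
    · constructor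
      constructor
      rintro ⟨_, a, ha, rfl⟩ ⟨_, b, hb, rfl⟩
      apply Subtype.ext
      change φ a * φ b = φ b * φ a
      rw [← map_mul, ← map_mul, StepSixModel.V1_comm a ha b hb]
    · rintro _ ⟨a, ha, rfl⟩
      rw [pow_two, ← map_mul, mem_V1_inv a ha, map_one]
  card := by rw [Subgroup.card_map_of_injective F.emb.inj, StepSixModel.card_V1]
  le := Subgroup.map_mono W1_le_V1
  cardH := by rw [Subgroup.card_map_of_injective F.emb.inj, card_W1]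
  z_mem := F.emb.mem_map.2 z_mem_W1
  z_ne := by
    intro h
    exact z_ne (F.emb.inj (by rw [h, map_one]))
  trans := by
    rintro _ ⟨m, hm, rfl⟩ hm1
    obtain ⟨n, -, hn, e⟩ := F.all1 m hm (fun h => hm1 (by rw [h, map_one]))
    exact ⟨n⁻¹, inv_mem (mem_norm.2 hn), by rw [← e]; group⟩
  norm := by
    rintro g hg hgz _ ⟨m, hm, rfl⟩
    obtain ⟨n, hn, e⟩ : g * φ m * g⁻¹ ∈ V1.map φ := mem_of_cj (mem_norm.1 hg) (F.emb.mem_map.2 (W1_le_V1 hm))
    rw [← e]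
    refine F.emb.mem_map.2 ?_
    by_contra hnW
    obtain ⟨s, hs⟩ := exists_conj_x2 n hn (conj_W n hn hnW)
    have h1 : (φ s * g)⁻¹ * φ x2 * (φ s * g)⁻¹⁻¹ = φ m := by
      rw [← hs]
      calc (φ s * g)⁻¹ * φ (s * n * s⁻¹) * (φ s * g)⁻¹⁻¹ = g⁻¹ * φ n * g := by
            simp only [map_mul, map_inv]; group
        _ = φ m := by rw [e]; group
    have h2 := F.sep1 hτ (g := (φ s * g)⁻¹) (inv_mem (mul_mem (S_le_H F.emb (F.emb.mem s))
      (mem_centralizer_singleton_iff.2 hgz))) h1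
    rw [W1_pr m hm] at h2
    exact absurd h2.2 (by decide)
  trans₁ := by
    rintro _ ⟨a, ha, rfl⟩ ha1 haz _ ⟨b, hb, rfl⟩ hb1 hbz
    obtain ⟨u, hu, huV, -, hua⟩ := W_trans F.emb F.q ha (fun h => ha1 (by rw [h, map_one])) (fun h => haz (by rw [h]))
    obtain ⟨v, hv, hvV, -, hvb⟩ := W_trans F.emb F.q hb (fun h => hb1 (by rw [h, map_one])) (fun h => hbz (by rw [h]))
    refine ⟨v * u⁻¹, mul_mem (mem_norm.2 hvV) (inv_mem (mem_norm.2 huV)),
      mem_centralizer_singleton_iff.1 (mul_mem hv (inv_mem hu)), ?_⟩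
    rw [← hua, ← hvb]; group
  trans₂ := by
    rintro _ ⟨a, ha, rfl⟩ ha1 _ ⟨b, hb, rfl⟩ hb1
    obtain ⟨s, hs⟩ := exists_conj_x2 a ha (conj_W a ha (fun h => ha1 (F.emb.mem_map.2 h)))
    obtain ⟨t, ht⟩ := exists_conj_x2 b hb (conj_W b hb (fun h => hb1 (F.emb.mem_map.2 h)))
    refine ⟨φ (t⁻¹ * s), mem_norm.2 (cj_eq_iff.2 (norm_of F.emb V1_conj (F.emb.mem _))),
      mem_centralizer_singleton_iff.1 (S_le_H F.emb (F.emb.mem _)), ?_⟩
    rw [← map_mul, ← map_inv, ← map_mul]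
    congr 1
    calc t⁻¹ * s * a * (t⁻¹ * s)⁻¹ = t⁻¹ * (s * a * s⁻¹) * t := by group
      _ = b := by rw [hs, ← ht]; group

/-- the fusion data with `V1` and `V2` interchanged, pattern (a2) or (b2) -/
theorem fus_swap (F : Fus S φ) (hG : ∀ H : Subgroup G, H.index ≠ 2) (hQ : Q2 φ) : Fus S (φ.comp swap.toMonoidHom) := by
  refine fus_of F.emb.comp_swap hG ?_ hQ
  obtain ⟨n, -, -, e⟩ := F.norm
  refine ⟨n⁻¹, ?_, ?_⟩
  · change n⁻¹ * φ (swap z) * n⁻¹⁻¹ ∈ (S : Subgroup G)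
    rw [swap_z, ← e]
    have h1 : n⁻¹ * (n * φ ze * n⁻¹) * n⁻¹⁻¹ = φ ze := by group
    rw [h1]
    exact F.emb.mem ze
  · change n⁻¹ * φ (swap z) * n⁻¹⁻¹ ≠ φ (swap z)
    rw [swap_z]
    intro h
    have h1 : φ z = φ ze := by
      have h2 : n⁻¹ * φ z * n⁻¹⁻¹ = φ ze := by rw [← e]; group
      rw [← h, h2]
    exact absurd (F.emb.inj h1) (by decide)

omit [Finite G] in
theorem W1_comp_swap : W1.map (φ.comp swap.toMonoidHom) = (V2 ⊓ M7.Q).map φ := by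
  ext g
  constructor
  · rintro ⟨m, hm, rfl⟩
    exact ⟨swap m, by
      rw [← swap_swap m] at hm
      exact (swap_W1 _).1 hm, rfl⟩
  · rintro ⟨m, hm, rfl⟩
    exact ⟨swap m, (swap_W1 m).2 hm, by change φ (swap (swap m)) = φ m; rw [swap_swap]⟩

theorem orb_two (F : Fus S φ) (hG : ∀ H : Subgroup G, H.index ≠ 2) (hτ : ¬ Tau φ) (hQ : Q2 φ) :
    KForm.Orb (φ z) (V2.map φ) ((V2 ⊓ M7.Q).map φ) := by
  have h1 := orb (fus_swap F hG hQ) (Fus.not_tau_swap hτ)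
  rw [Emb7.V1_comp_swap, W1_comp_swap] at h1
  exact h1

omit [Finite G] in
theorem res_z : res φ z = self (φ z) := rfl

omit [Finite G] in
theorem up_res {X : Type*} [Group X] {p : centralizer ({φ z} : Set G) →* X} {K : Subgroup X} {m : M7}
    (h : φ m ∈ up p K) : p (res φ m) ∈ K := by
  obtain ⟨_, h1⟩ := mem_up.1 h
  exact h1

omit [Finite G] in
theorem res_eq {m : M7} (hb : φ m ∈ centralizer ({φ z} : Set G)) : (⟨φ m, hb⟩ : centralizer ({φ z} : Set G)) = res φ m :=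
  rfl

omit [Finite G] in
theorem inner {X : Type*} [Group X] {p : centralizer ({φ z} : Set G) →* X} {K₁ K₂ : Subgroup X}
    (hS : SPos φ p K₁ K₂) {m : M7} (hm : m ∈ M7.Q) (hm2 : m * m = 1) (hm1 : m ≠ 1) (hmz : m ≠ z) :
    ∃ x₁ ∈ K₁, ∃ x₂ ∈ K₂, x₁ * x₁ = p (self (φ z)) ∧ x₂ * x₂ = p (self (φ z)) ∧ p (res φ m) = x₁ * x₂ := by
  obtain ⟨h1, h2⟩ := Q_split m hm
  obtain ⟨h3, h4⟩ := Q_sq m hm hm2 hm1 hmz
  refine ⟨p (res φ (p1 m)), up_res (hS.q₁ _ h1), p (res φ ((p1 m)⁻¹ * m)), up_res (hS.q₂ _ h2), ?_, ?_, ?_⟩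
  · rw [← map_mul, ← map_mul, h3, res_z]
  · rw [← map_mul, ← map_mul, h4, res_z]
  · rw [← map_mul, ← map_mul, mul_inv_cancel_left]

theorem loc {X : Type*} [Group X] {p : centralizer ({φ z} : Set G) →* X} {K₁ K₂ : Subgroup X} {F : Type*} [Field F]
    [Fintype F] (h : Emb7 (S : Subgroup G) φ) (hC : CZL (φ z) F p K₁ K₂) (hS : SPos φ p K₁ K₂) :
    KLoc.Loc (φ z) F p K₁ K₂ (V1.map φ) (W1.map φ) where
  surj := hC.surj
  ker := hC.ker
  comm := hC.comm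
  z₁ := hC.z₁
  z₂ := hC.z₂
  norm := hC.norm
  cent g hg h1 h2 := by
    rcases hC.cent g h1 h2 with e | e
    · exact e
    · exfalso
      have h3 : g * g = 1 := by
        rw [e, ← map_mul, ← map_one p]
        congr 1
        apply Subtype.ext
        change φ z * φ z = 1
        rw [← map_mul, z_sq, map_one]
      have h4 : orderOf g ∣ 2 := orderOf_dvd_of_pow_eq_one (by rw [pow_two, h3])
      have h5 : orderOf g = 1 := by
        rcases (Nat.dvd_prime Nat.prime_two).1 h4 with h6 | h6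
        · exact h6
        · rw [h6] at hg; exact absurd hg (by decide)
      have h6 : p (res φ z) = p (res φ 1) := by
        rw [res_z, ← e, orderOf_eq_one_iff.1 h5, map_one, map_one]
      exact absurd (StepSixFive.inj h hC h6) (by decide)
  e₁ := hC.e₁
  e₂ := hC.e₂
  le := by
    rintro _ ⟨m, hm, rfl⟩
    exact mem_cent φ m
  swap := by
    rintro _ ⟨m, hm, rfl⟩ hH hb
    rw [res_eq]
    have h1 := hS.swap m (V1_out m hm (fun h2 => hH (h.mem_map.2 h2)))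
    exact ⟨fun x hx => (h1 x).1 hx, fun x hx => (h1 x).2 hx⟩
  inner := by
    rintro _ ⟨m, hm, rfl⟩ hm1 hmz hb
    rw [res_eq]
    exact inner hS (W1_le_Q m hm) (mem_V1_inv m (W1_le_V1 hm)) (fun e => hm1 (by rw [e, map_one]))
      (fun e => hmz (by rw [e]))

theorem mem_V2_inv : ∀ m : M7, m ∈ V2 → m * m = 1 := by decide +kernel

theorem loc_two {X : Type*} [Group X] {p : centralizer ({φ z} : Set G) →* X} {K₁ K₂ : Subgroup X} {F : Type*} [Field F]
    [Fintype F] (h : Emb7 (S : Subgroup G) φ) (hC : CZL (φ z) F p K₁ K₂) (hS : SPos φ p K₁ K₂) :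
    KLoc.Loc (φ z) F p K₁ K₂ (V2.map φ) ((V2 ⊓ M7.Q).map φ) where
  surj := hC.surj
  ker := hC.ker
  comm := hC.comm
  z₁ := hC.z₁
  z₂ := hC.z₂
  norm := hC.norm
  cent := (loc h hC hS).cent
  e₁ := hC.e₁
  e₂ := hC.e₂
  le := by
    rintro _ ⟨m, hm, rfl⟩
    exact mem_cent φ m
  swap := by
    rintro _ ⟨m, hm, rfl⟩ hH hb
    rw [res_eq]
    have h1 := hS.swap m (V2_out m hm (fun h2 => hH (h.mem_map.2 h2)))
    exact ⟨fun x hx => (h1 x).1 hx, fun x hx => (h1 x).2 hx⟩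
  inner := by
    rintro _ ⟨m, hm, rfl⟩ hm1 hmz hb
    rw [res_eq]
    obtain ⟨hm2, hmQ⟩ := Subgroup.mem_inf.1 hm
    exact inner hS hmQ (mem_V2_inv m hm2) (fun e => hm1 (by rw [e, map_one]))
      (fun e => hmz (by rw [e]))

end

end Cfsg.Agent.LFourB.KInst
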