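import Cfsg.Agent.LFourB.KTransN
import Cfsg.Agent.LFourB.KEnd

/-!
# S0510, type B1: the core of `C(z1)`

From the frame (`Loc`, `Orb` for `E = ⟨z1, z2, x, y⟩`), the position of the Sylow group (`CZPL`) and the closing:
`E \ H` inverts `O(C(z1))`, `O(C(z1))` is abelian and centralised by the components; it is trivial for `|F| ≤ 9`.
-/

set_option autoImplicit false

namespace Cfsg.Agent.LFourB.KOneEnd

open Subgroup Cfsg Cfsg.Agent.LFourB FusA EF KTrans
open Cfsg.Agent.LFourA.CzCt Cfsg.Agent.LFourA.KlQuot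
open Cfsg.Agent.Lib.SymFrame
open Cfsg.Agent.LFourB.KForm Cfsg.Agent.LFourB.KLoc Cfsg.Agent.LFourB.KClose ProdCent

universe u

variable {G : Type u} [Group G] [Finite G] {P : Sylow 2 G} {m : ℕ} {f : R m → R m → R m → G} {u w n x y : G}
  {X : Type*} [Group X] {p : ↥(centralizer ({z1 f} : Set G)) →* X} {K₁ K₂ : Subgroup X} {F : Type*} [Field F]

theorem core_odd (a : G) : ¬ 2 ∣ Nat.card (centralizerPPrimeCore 2 a) := by
  have h1 := Cfsg.Agent.StandardComponent.CentCore.core_odd (G := G) a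
  exact fun h3 => (Nat.not_even_iff_odd.mpr h1) (even_iff_two_dvd.mpr h3)

theorem two_ne [Fintype F] (hF : Odd (Fintype.card F)) : (2 : F) ≠ 0 := by
  refine Ring.two_ne_zero fun hc => ?_
  exact (Nat.not_even_iff_odd.2 hF) (Nat.even_iff.2 (FiniteField.even_card_of_char_two hc))

/-- a normal subgroup of odd order of the simple group `G` is trivial -/
theorem eq_bot [IsSimpleGroup G] (h : BOne (P : Subgroup G) m f u w) {W : Subgroup G} (hW : ¬ 2 ∣ Nat.card W)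
    (hn : normalizer (W : Set G) = ⊤) : W = ⊥ := by
  have hN : W.Normal := Subgroup.normalizer_eq_top_iff.1 hn
  rcases hN.eq_bot_or_eq_top with h1 | h1
  · exact h1
  · exfalso
    apply hW
    rw [h1, Subgroup.card_top]
    have h2 : 2 ∣ Nat.card (P : Subgroup G) := by
      rw [h.card_S]; exact dvd_pow_self 2 (by omega)
    exact h2.trans (Subgroup.card_subgroup_dvd_card _)

/-- Tor and P in `M`, given the components. -/
theorem P_le_of_K (h : BOne (P : Subgroup G) m f u w) (c : Conf (P : Subgroup G) m f u w n x y)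
    (hC : CZPL (z1 f) F p K₁ K₂ (P : Subgroup G) (Qone f u) (Qtwo f u w)) {M : Subgroup G}
    (hU1 : up p K₁ ≤ M) (hU2 : up p K₂ ≤ M) (hE : normalizer (EE f x y : Set G) ≤ M) : (P : Subgroup G) ≤ M := by
  have hyE : y ∈ EE f x y := subset_closure (Or.inr (Or.inr (Or.inr rfl)))
  have hQ1 : Qone f u ≤ M := hC.q₁.trans hU1
  have hQ2 : Qtwo f u w ≤ M := hC.q₂.trans hU2
  refine c.P_le h (hE c.n_E) (hE (le_normalizer hyE)) ?_ (hQ1 h.gen2)
  intro a b
  have h1 := mul_mem (hQ1 (h.gen1 a)) (hQ2 (subset_closure (Or.inl ⟨b, rfl⟩) : f 0 (2 * b) b ∈ Qtwo f u w))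
  rw [h.f_mul _ _ _ _ _ _ (BOne.goodq1 a) (BOne.goodq2 b)] at h1
  have e1 : 2 * a + 0 = 2 * a := by ring
  have e2 : 0 + 2 * b = 2 * b := by ring
  have e3 : -a + b = b - a := by ring
  rwa [e1, e2, e3] at h1

/-- `C(z1) ≤ M`, given the components and the odd `E`-invariant subgroups -/
theorem cent_le_of_K (h : BOne (P : Subgroup G) m f u w) (c : Conf (P : Subgroup G) m f u w n x y)
    (hC : CZPL (z1 f) F p K₁ K₂ (P : Subgroup G) (Qone f u) (Qtwo f u w)) {M : Subgroup G}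
    (hU1 : up p K₁ ≤ M) (hU2 : up p K₂ ≤ M) (hE : normalizer (EE f x y : Set G) ≤ M)
    (hodd : ∀ K : Subgroup G, ¬ 2 ∣ Nat.card K → (∀ b ∈ EE f x y, ∀ x ∈ K, b * x * b⁻¹ ∈ K) → K ≤ M) :
    centralizer ({z1 f} : Set G) ≤ M := by
  have key : ∀ (g : G) (hg : g ∈ centralizer ({z1 f} : Set G)) (K K' : Subgroup X),
      (∀ x ∈ K, p ⟨g, hg⟩ * x * (p ⟨g, hg⟩)⁻¹ ∈ K') → ∀ x ∈ up p K, g * x * g⁻¹ ∈ up p K' := by
    intro g hg K K' hK x hx
    obtain ⟨h1, h2⟩ := mem_up.1 hx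
    refine mem_up.2 ⟨mul_mem (mul_mem hg h1) (inv_mem hg), ?_⟩
    have h3 := hK _ h2
    rwa [← map_inv, ← map_mul, ← map_mul] at h3
  refine cent_le h (U1 := up p K₁) (U2 := up p K₂) (E := EE f x y) ?_ ?_ (up_le p K₁) (up_le p K₂) hC.q₁ hC.q₂ hC.s₁
    hC.s₂ hU1 hU2 (P_le_of_K h c hC hU1 hU2 hE) c.fa.e16.le hodd
  · intro g hg
    rcases hC.norm (p ⟨g, hg⟩) with ⟨h1, h2⟩ | ⟨h1, h2⟩
    · exact Or.inl ⟨key g hg _ _ h1, key g hg _ _ h2⟩
    · exact Or.inr ⟨key g hg _ _ h1, key g hg _ _ h2⟩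
  · intro g hg ho
    have ho' : Odd (orderOf (p ⟨g, hg⟩)) := by
      have h1 : orderOf (p ⟨g, hg⟩) ∣ orderOf g := by
        have h2 := orderOf_map_dvd p (⟨g, hg⟩ : ↥(centralizer ({z1 f} : Set G)))
        rwa [← Subgroup.orderOf_coe] at h2
      exact Odd.of_dvd_nat ho h1
    obtain ⟨h1, h2⟩ := hC.odd _ ho'
    exact ⟨key g hg _ _ h1, key g hg _ _ h2⟩

/-- `N(T) ≤ M` -/
theorem norm_le_of_cent (h : BOne (P : Subgroup G) m f u w) (c : Conf (P : Subgroup G) m f u w n x y)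
    {M : Subgroup G} (hE : normalizer (EE f x y : Set G) ≤ M) (hz : centralizer ({z1 f} : Set G) ≤ M) :
    normalizer (Tor f : Set G) ≤ M := by
  refine c.norm_tor_le h (hE c.n_E) (h.S_le_centralizer.trans hz) ?_
  refine le_trans ?_ hz
  intro g hg
  exact mem_centralizer_singleton_iff.2 (mem_centralizer_iff.1 hg _ h.e_z1_mem_T).symm

section main

variable [Fintype F]

/-- `C(z1) ≤ N(W)`, `|F| ≥ 11` -/
theorem norm_two (h : BOne (P : Subgroup G) m f u w) (c : Conf (P : Subgroup G) m f u w n x y)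
    (hC : CZPL (z1 f) F p K₁ K₂ (P : Subgroup G) (Qone f u) (Qtwo f u w))
    (L : Loc (z1 f) F p K₁ K₂ (EE f x y) (HH f x)) (o : Orb (z1 f) (EE f x y) (HH f x)) (h2 : (2 : F) ≠ 0)
    (h11 : 11 ≤ Fintype.card F) {W : Subgroup G} (hW : Completion (EE f x y) W) :
    centralizer ({z1 f} : Set G) ≤ normalizer (W : Set G) := by
  have hO : centralizerPPrimeCore 2 (z1 f) ≤ normalizer (W : Set G) := by
    refine hW.le_normalizer _ (core_odd _) ?_
    intro b hb x hx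
    exact Cfsg.Agent.StandardComponent.CentCore.core_conj_mem (mem_centralizer_singleton_iff.mp (L.le hb)) hx
  have hK := L.le_dn o h2 (M := normalizer (W : Set G)) (by omega) (by
    intro b hb hbH
    refine L.diag_mem_two o h2 h11 hb hbH ?_
    intro v hv hv1 hvz x hxz hxv hxb
    refine mem_of_comm (hW.norm (closure {z1 f, v, b}) ?_ (card_zvb o hv hv1 hvz hbH)) ?_
    · rw [closure_le]
      rintro y (rfl | rfl | hy)
      · exact o.z_memE
      · exact o.le hv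
      · rw [Set.mem_singleton_iff.mp hy]; exact hb
    · rintro y (rfl | rfl | hy)
      · exact hxz
      · exact hxv
      · rw [Set.mem_singleton_iff.mp hy]; exact hxb)
  exact cent_le_of_K h c hC (up_le_of_dn L.quo hO hK.1) (up_le_of_dn L.quo hO hK.2)
    (hW.norm _ le_rfl (by rw [hW.card]; norm_num)) (fun K hK hKE => hW.le_normalizer K hK hKE)

/-- the closing hypothesis -/
def Closed (f : R m → R m → R m → G) : Prop :=
  ∀ M : Subgroup G, centralizer ({z1 f} : Set G) ≤ M → normalizer (Tor f : Set G) ≤ M → M = ⊤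

variable [IsSimpleGroup G]

/-- `|F| ≥ 11` -/
theorem completion (h : BOne (P : Subgroup G) m f u w) (c : Conf (P : Subgroup G) m f u w n x y)
    (hC : CZPL (z1 f) F p K₁ K₂ (P : Subgroup G) (Qone f u) (Qtwo f u w))
    (L : Loc (z1 f) F p K₁ K₂ (EE f x y) (HH f x)) (o : Orb (z1 f) (EE f x y) (HH f x)) (hcl : Closed f)
    (h2 : (2 : F) ≠ 0) (h11 : 11 ≤ Fintype.card F) : Completion (EE f x y) (⊥ : Subgroup G) := by
  obtain ⟨W, hW⟩ := L.exists_completion o h2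
  have h1 := norm_two h c hC L o h2 h11 hW
  have h3 := norm_le_of_cent h c (hW.norm _ le_rfl (by rw [hW.card]; norm_num)) h1
  have h4 := eq_bot h hW.odd (hcl _ h1 h3)
  rwa [h4] at hW

/-- `q - ε` a power of 2 -/
theorem completion_one (h : BOne (P : Subgroup G) m f u w) (c : Conf (P : Subgroup G) m f u w n x y)
    (L : Loc (z1 f) F p K₁ K₂ (EE f x y) (HH f x)) (o : Orb (z1 f) (EE f x y) (HH f x)) (hcl : Closed f)
    (h2 : (2 : F) ≠ 0) (h3 : 3 < Fintype.card F)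
    (hF : ∃ a : ℕ, (Nat.card F % 4 = 1 ∧ Nat.card F - 1 = 2 ^ a) ∨ (Nat.card F % 4 = 3 ∧ Nat.card F + 1 = 2 ^ a)) :
    CompletionOne (EE f x y) (⊥ : Subgroup G) := by
  obtain ⟨W, hW⟩ := L.exists_completion_one o h2 hF
  have h1 := L.centralizer_le_one o h2 h3 hW
  have h4 := norm_le_of_cent h c (hW.norm _ le_rfl (by rw [c.fa.e16.card]; norm_num)) h1
  have h5 := eq_bot h hW.odd (hcl _ h1 h4)
  rwa [h5] at hW

/-- **`O(C(z1)) = 1`** if `q - ε` is a power of 2 -/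
theorem core_eq_bot_of (h : BOne (P : Subgroup G) m f u w) (c : Conf (P : Subgroup G) m f u w n x y)
    (L : Loc (z1 f) F p K₁ K₂ (EE f x y) (HH f x)) (o : Orb (z1 f) (EE f x y) (HH f x)) (hcl : Closed f)
    (h2 : (2 : F) ≠ 0) (h3 : 3 < Fintype.card F)
    (hF : ∃ a : ℕ, (Nat.card F % 4 = 1 ∧ Nat.card F - 1 = 2 ^ a) ∨ (Nat.card F % 4 = 3 ∧ Nat.card F + 1 = 2 ^ a)) :
    centralizerPPrimeCore 2 (z1 f) = ⊥ := by
  have h1 := completion_one h c L o hcl h2 h3 hF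
  rw [← h1.cent (z1 f) o.z_memE o.z_ne]
  exact bot_inf_eq _

theorem hF_of (h3 : 3 < Fintype.card F) (hodd : Odd (Fintype.card F)) (h9 : Fintype.card F ≤ 9) :
    ∃ a : ℕ, (Nat.card F % 4 = 1 ∧ Nat.card F - 1 = 2 ^ a) ∨ (Nat.card F % 4 = 3 ∧ Nat.card F + 1 = 2 ^ a) := by
  rw [Nat.card_eq_fintype_card]
  obtain ⟨k, hk⟩ := hodd
  have hcases : Fintype.card F = 5 ∨ Fintype.card F = 7 ∨ Fintype.card F = 9 := by omega
  rcases hcases with h | h | h
  · exact ⟨2, Or.inl (by rw [h]; norm_num)⟩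
  · exact ⟨3, Or.inr (by rw [h]; norm_num)⟩
  · exact ⟨3, Or.inl (by rw [h]; norm_num)⟩

/-- **`O(C(z1)) = 1`** for `|F| ≤ 9` -/
theorem core_eq_bot (h : BOne (P : Subgroup G) m f u w) (c : Conf (P : Subgroup G) m f u w n x y)
    (L : Loc (z1 f) F p K₁ K₂ (EE f x y) (HH f x)) (o : Orb (z1 f) (EE f x y) (HH f x)) (hcl : Closed f)
    (hodd : Odd (Fintype.card F)) (h3 : 3 < Fintype.card F) (h9 : Fintype.card F ≤ 9) :
    centralizerPPrimeCore 2 (z1 f) = ⊥ :=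
  core_eq_bot_of h c L o hcl (two_ne hodd) h3 (hF_of h3 hodd h9)

/-- **`E \ H` inverts `O(C(z1))`** -/
theorem core_inv (h : BOne (P : Subgroup G) m f u w) (c : Conf (P : Subgroup G) m f u w n x y)
    (hC : CZPL (z1 f) F p K₁ K₂ (P : Subgroup G) (Qone f u) (Qtwo f u w))
    (L : Loc (z1 f) F p K₁ K₂ (EE f x y) (HH f x)) (o : Orb (z1 f) (EE f x y) (HH f x)) (hcl : Closed f)
    (hodd : Odd (Fintype.card F)) (h3 : 3 < Fintype.card F) :
    ∀ b ∈ EE f x y, b ∉ HH f x → ∀ a ∈ centralizerPPrimeCore 2 (z1 f), b * a * b⁻¹ = a⁻¹ := by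
  intro b hb hbH a ha
  rcases Nat.lt_or_ge 9 (Fintype.card F) with h9 | h9
  · have h11 : 11 ≤ Fintype.card F := by obtain ⟨k, hk⟩ := hodd; omega
    exact L.inv_core o (two_ne hodd) (completion h c hC L o hcl (two_ne hodd) h11) hb hbH ha
  · rw [core_eq_bot h c L o hcl hodd h3 h9] at ha
    rw [mem_bot.1 ha]; group

/-- `y` inverts `O(C(z1))` -/
theorem core_inv_y (h : BOne (P : Subgroup G) m f u w) (c : Conf (P : Subgroup G) m f u w n x y)
    (hC : CZPL (z1 f) F p K₁ K₂ (P : Subgroup G) (Qone f u) (Qtwo f u w))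
    (L : Loc (z1 f) F p K₁ K₂ (EE f x y) (HH f x)) (o : Orb (z1 f) (EE f x y) (HH f x)) (hcl : Closed f)
    (hodd : Odd (Fintype.card F)) (h3 : 3 < Fintype.card F) :
    ∀ a ∈ centralizerPPrimeCore 2 (z1 f), y * a * y⁻¹ = a⁻¹ := by
  refine core_inv h c hC L o hcl hodd h3 y (subset_closure (Or.inr (Or.inr (Or.inr rfl)))) ?_
  intro hy
  obtain ⟨d, hd, h1⟩ := (c.fa.mem_H y).1 hy
  have hdT : d ∈ Tor f := Z2_mem h.e_sf hd
  rcases h1 with h1 | h1
  · exact h.e_not_Tor_w c.y_ov (h1 ▸ hdT)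
  · have h5 : Ov f (sg u w) y := by
      obtain ⟨p', q', r', hg', e⟩ := c.x_ov
      obtain ⟨p'', q'', r'', hg'', e'⟩ := h.mem_Tor.1 hdT
      refine ⟨_, _, _, hg''.add hg', ?_⟩
      rw [h1, e, e', ← mul_assoc, h.f_mul _ _ _ _ _ _ hg'' hg']
    have hyP := h.e_mem_S_of_Ov h.w_mem c.y_ov
    have h6 := (h.e_pi_of_Ov h.sg_mem hyP h5).symm.trans (h.e_pi_of_Ov h.w_mem hyP c.y_ov)
    rw [h.e_pi_sg, h.e_pi_w'] at h6
    exact absurd h6 (by decide)

/-- `O(C(z1))` is abelian -/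
theorem core_comm (h : BOne (P : Subgroup G) m f u w) (c : Conf (P : Subgroup G) m f u w n x y)
    (hC : CZPL (z1 f) F p K₁ K₂ (P : Subgroup G) (Qone f u) (Qtwo f u w))
    (L : Loc (z1 f) F p K₁ K₂ (EE f x y) (HH f x)) (o : Orb (z1 f) (EE f x y) (HH f x)) (hcl : Closed f)
    (hodd : Odd (Fintype.card F)) (h3 : 3 < Fintype.card F) :
    ∀ a ∈ centralizerPPrimeCore 2 (z1 f), ∀ b ∈ centralizerPPrimeCore 2 (z1 f), a * b = b * a := by
  intro a ha b hb
  rcases Nat.lt_or_ge 9 (Fintype.card F) with h9 | h9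
  · have h11 : 11 ≤ Fintype.card F := by obtain ⟨k, hk⟩ := hodd; omega
    exact L.core_comm o (two_ne hodd) (completion h c hC L o hcl (two_ne hodd) h11) ha hb
  · rw [core_eq_bot h c L o hcl hodd h3 h9] at ha
    rw [mem_bot.1 ha]; group

/-- the components centralise `O(C(z1))` -/
theorem core_cent (h : BOne (P : Subgroup G) m f u w) (c : Conf (P : Subgroup G) m f u w n x y)
    (hC : CZPL (z1 f) F p K₁ K₂ (P : Subgroup G) (Qone f u) (Qtwo f u w))
    (L : Loc (z1 f) F p K₁ K₂ (EE f x y) (HH f x)) (o : Orb (z1 f) (EE f x y) (HH f x)) (hcl : Closed f)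
    (hodd : Odd (Fintype.card F)) (h3 : 3 < Fintype.card F) {g : G}
    (hg : g ∈ centralizer ({z1 f} : Set G)) (hgK : p ⟨g, hg⟩ ∈ K₁ ∨ p ⟨g, hg⟩ ∈ K₂) :
    ∀ a ∈ centralizerPPrimeCore 2 (z1 f), g * a = a * g := by
  intro a ha
  rcases Nat.lt_or_ge 9 (Fintype.card F) with h9 | h9
  · have h11 : 11 ≤ Fintype.card F := by obtain ⟨k, hk⟩ := hodd; omega
    exact L.core_cent o (two_ne hodd) (by omega) (completion h c hC L o hcl (two_ne hodd) h11) hg hgK a ha
  · rw [core_eq_bot h c L o hcl hodd h3 h9] at ha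
    rw [mem_bot.1 ha]; group

end main

end Cfsg.Agent.LFourB.KOneEnd
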