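import Cfsg.Agent.LFourB.KTransE
import Cfsg.Agent.LFourB.ProdBOneTwo

/-!
# The elementary abelian subgroups of order 16 over `V` in type `PSL 4 q`, `q = 1 mod 8`

`x` over `sg` and `y` over `w` are commuting involutions, `EE f x y = ⟨z1, z2, x, y⟩` and `HH f x = ⟨z1, z2, x⟩`.
-/

set_option autoImplicit false
set_option linter.unusedSectionVars false

namespace Cfsg.Agent.LFourB.KPair

open Subgroup Cfsg.Agent.LFourB.FusA Cfsg.Agent.LFourB.EF
open Cfsg.Agent.LFourB.KTrans (EE HH)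

variable {G : Type*} [Group G] {S : Subgroup G} {m : ℕ} {f : R m → R m → R m → G} {u w x y : G}

/-- `x` and `y` are commuting involutions over `sg` and `w`. -/
structure IsPr (f : R m → R m → R m → G) (u w x y : G) : Prop where
  ox : Ov f (sg u w) x
  oy : Ov f w y
  xx : x * x = 1
  yy : y * y = 1
  xy : x * y = y * x

theorem Z2_mul (h : BOne S m f u w) {a b : G} (ha : Z2 (z1 f) (z2 f) a) (hb : Z2 (z1 f) (z2 f) b) :
    Z2 (z1 f) (z2 f) (a * b) := h.e_Zg.mul_mem (x := a) (y := b) ha hb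

theorem Z2_sq (h : BOne S m f u w) {c : G} (hc : Z2 (z1 f) (z2 f) c) : c * c = 1 := by
  obtain ⟨p, r, hgd, hp, hr, rfl⟩ := h.e_Z2_coord hc
  exact (h.e_sq_f_iff hgd).2 ⟨hp, hp, hr⟩

theorem Z2_comm (h : BOne S m f u w) {a b : G} (ha : Z2 (z1 f) (z2 f) a) (hb : Z2 (z1 f) (z2 f) b) :
    a * b = b * a := h.Tor_comm (h.e_Zg_le ha) (h.e_Zg_le hb)

theorem Z2_mem_Tor (h : BOne S m f u w) {a : G} (ha : Z2 (z1 f) (z2 f) a) : a ∈ Tor f := h.e_Zg_le ha

section Pair

variable (h : BOne S m f u w) (hp : IsPr f u w x y)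
include h hp

theorem cx {c : G} (hc : Z2 (z1 f) (z2 f) c) : c * x = x * c := h.e_Z2_comm hc (Or.inl hp.ox)

theorem cy {c : G} (hc : Z2 (z1 f) (z2 f) c) : c * y = y * c := h.e_Z2_comm hc (Or.inr (Or.inl hp.oy))

/-- the product is over `sgw` -/
theorem oxy : Ov f (sgw u w) (x * y) := by
  obtain ⟨p, q, r, hg, rfl⟩ := hp.ox
  obtain ⟨p', q', r', hg', rfl⟩ := hp.oy
  refine ⟨p + -p', q + -q', r + (r' + p' - q'), hg.add hg'.actsg, ?_⟩
  rw [mul_assoc, ← mul_assoc (sg u w), h.sg_f hg', mul_assoc (f (-p') (-q') (r' + p' - q')), ← mul_assoc (f p q r),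
    h.f_mul _ _ _ _ _ _ hg hg'.actsg]
  rfl

theorem cxy {c : G} (hc : Z2 (z1 f) (z2 f) c) : c * (x * y) = x * y * c :=
  h.e_Z2_comm hc (Or.inr (Or.inr (oxy h hp)))

/-- The subgroup as a set. -/
theorem mem_EE {g : G} : g ∈ EE f x y ↔
    ∃ c, Z2 (z1 f) (z2 f) c ∧ (g = c ∨ g = c * x ∨ g = c * y ∨ g = c * (x * y)) := by
  constructor
  · intro hg
    refine closure_induction (p := fun g _ => ∃ c, Z2 (z1 f) (z2 f) c ∧ (g = c ∨ g = c * x ∨ g = c * y ∨ g = c * (x * y)))
      ?_ ⟨1, Z2_one _ _, Or.inl rfl⟩ ?_ ?_ hg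
    · rintro a (rfl | rfl | rfl | rfl)
      · exact ⟨_, Z2_z _ _, Or.inl rfl⟩
      · exact ⟨_, Z2_z' _ _, Or.inl rfl⟩
      · exact ⟨1, Z2_one _ _, Or.inr (Or.inl (one_mul _).symm)⟩
      · exact ⟨1, Z2_one _ _, Or.inr (Or.inr (Or.inl (one_mul _).symm))⟩
    · rintro a b - - ⟨c, hc, ha⟩ ⟨d, hd, hb⟩
      refine ⟨c * d, Z2_mul h hc hd, ?_⟩
      have c1 : Commute d x := cx h hp hd
      have c2 : Commute d y := cy h hp hd
      have c3 : Commute d (x * y) := cxy h hp hd
      have c4 : Commute x y := hp.xy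
      rcases ha with rfl | rfl | rfl | rfl <;> rcases hb with rfl | rfl | rfl | rfl
      · left; rfl
      · right; left; rw [mul_assoc]
      · right; right; left; rw [mul_assoc]
      · right; right; right; rw [mul_assoc]
      · right; left; rw [mul_assoc, ← c1.eq, ← mul_assoc]
      · left
        calc c * x * (d * x) = c * (x * d) * x := by group
          _ = c * d * (x * x) := by rw [← c1.eq]; group
          _ = c * d := by rw [hp.xx, mul_one]
      · right; right; right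
        calc c * x * (d * y) = c * (x * d) * y := by group
          _ = c * d * (x * y) := by rw [← c1.eq]; group
      · right; right; left
        calc c * x * (d * (x * y)) = c * (x * d) * x * y := by group
          _ = c * d * (x * x) * y := by rw [← c1.eq]; group
          _ = c * d * y := by rw [hp.xx, mul_one]
      · right; right; left; rw [mul_assoc, ← c2.eq, ← mul_assoc]
      · right; right; right
        calc c * y * (d * x) = c * (y * d) * x := by group
          _ = c * d * (y * x) := by rw [← c2.eq]; group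
          _ = c * d * (x * y) := by rw [hp.xy]
      · left
        calc c * y * (d * y) = c * (y * d) * y := by group
          _ = c * d * (y * y) := by rw [← c2.eq]; group
          _ = c * d := by rw [hp.yy, mul_one]
      · right; left
        calc c * y * (d * (x * y)) = c * (y * d) * (x * y) := by group
          _ = c * d * (y * x) * y := by rw [← c2.eq]; group
          _ = c * d * x * (y * y) := by rw [← hp.xy]; group
          _ = c * d * x := by rw [hp.yy, mul_one]
      · right; right; right; rw [mul_assoc, ← c3.eq, ← mul_assoc]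
      · right; right; left
        calc c * (x * y) * (d * x) = c * (x * y * d) * x := by group
          _ = c * d * x * (y * x) := by rw [← c3.eq]; group
          _ = c * d * (x * x) * y := by rw [← hp.xy]; group
          _ = c * d * y := by rw [hp.xx, mul_one]
      · right; left
        calc c * (x * y) * (d * y) = c * (x * y * d) * y := by group
          _ = c * d * x * (y * y) := by rw [← c3.eq]; group
          _ = c * d * x := by rw [hp.yy, mul_one]
      · left
        calc c * (x * y) * (d * (x * y)) = c * (x * y * d) * x * y := by group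
          _ = c * d * x * (y * x) * y := by rw [← c3.eq]; group
          _ = c * d * (x * x) * (y * y) := by rw [← hp.xy]; group
          _ = c * d := by rw [hp.xx, hp.yy, mul_one, mul_one]
    · rintro a - ⟨c, hc, ha⟩
      have hci : c⁻¹ = c := inv_eq_of_mul_eq_one_left (Z2_sq h hc)
      have hxi : x⁻¹ = x := inv_eq_of_mul_eq_one_left hp.xx
      have hyi : y⁻¹ = y := inv_eq_of_mul_eq_one_left hp.yy
      refine ⟨c, hc, ?_⟩
      rcases ha with rfl | rfl | rfl | rfl
      · left; exact hci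
      · right; left; rw [mul_inv_rev, hci, hxi, cx h hp hc]
      · right; right; left; rw [mul_inv_rev, hci, hyi, cy h hp hc]
      · right; right; right; rw [mul_inv_rev, mul_inv_rev, hci, hyi, hxi, ← hp.xy, cxy h hp hc]
  · rintro ⟨c, hc, hg⟩
    have h1 : z1 f ∈ EE f x y := subset_closure (by simp)
    have h2 : z2 f ∈ EE f x y := subset_closure (by simp)
    have h3 : x ∈ EE f x y := subset_closure (by simp)
    have h4 : y ∈ EE f x y := subset_closure (by simp)
    have h5 : c ∈ EE f x y := by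
      rcases hc with rfl | rfl | rfl | rfl
      · exact one_mem _
      · exact h1
      · exact h2
      · exact mul_mem h1 h2
    rcases hg with rfl | rfl | rfl | rfl
    · exact h5
    · exact mul_mem h5 h3
    · exact mul_mem h5 h4
    · exact mul_mem h5 (mul_mem h3 h4)

omit hp in
/-- The subgroup as a set. -/
theorem mem_HH (hx : Ov f (sg u w) x) (hxx : x * x = 1) {g : G} : g ∈ HH f x ↔
    ∃ c, Z2 (z1 f) (z2 f) c ∧ (g = c ∨ g = c * x) := by
  have hc : ∀ {c : G}, Z2 (z1 f) (z2 f) c → c * x = x * c := fun hc => h.e_Z2_comm hc (Or.inl hx)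
  constructor
  · intro hg
    refine closure_induction (p := fun g _ => ∃ c, Z2 (z1 f) (z2 f) c ∧ (g = c ∨ g = c * x))
      ?_ ⟨1, Z2_one _ _, Or.inl rfl⟩ ?_ ?_ hg
    · rintro a (rfl | rfl | rfl)
      · exact ⟨_, Z2_z _ _, Or.inl rfl⟩
      · exact ⟨_, Z2_z' _ _, Or.inl rfl⟩
      · exact ⟨1, Z2_one _ _, Or.inr (one_mul _).symm⟩
    · rintro a b - - ⟨c, hcc, ha⟩ ⟨d, hd, hb⟩
      refine ⟨c * d, Z2_mul h hcc hd, ?_⟩
      have c1 : Commute d x := hc hd
      rcases ha with rfl | rfl <;> rcases hb with rfl | rfl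
      · left; rfl
      · right; rw [mul_assoc]
      · right; rw [mul_assoc, ← c1.eq, ← mul_assoc]
      · left
        calc c * x * (d * x) = c * (x * d) * x := by group
          _ = c * d * (x * x) := by rw [← c1.eq]; group
          _ = c * d := by rw [hxx, mul_one]
    · rintro a - ⟨c, hcc, ha⟩
      have hci : c⁻¹ = c := inv_eq_of_mul_eq_one_left (Z2_sq h hcc)
      have hxi : x⁻¹ = x := inv_eq_of_mul_eq_one_left hxx
      refine ⟨c, hcc, ?_⟩
      rcases ha with rfl | rfl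
      · left; exact hci
      · right; rw [mul_inv_rev, hci, hxi, hc hcc]
  · rintro ⟨c, hc, hg⟩
    have h1 : z1 f ∈ HH f x := subset_closure (by simp)
    have h2 : z2 f ∈ HH f x := subset_closure (by simp)
    have h3 : x ∈ HH f x := subset_closure (by simp)
    have h5 : c ∈ HH f x := by
      rcases hc with rfl | rfl | rfl | rfl
      · exact one_mem _
      · exact h1
      · exact h2
      · exact mul_mem h1 h2
    rcases hg with rfl | rfl
    · exact h5
    · exact mul_mem h5 h3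

theorem x_notin_Tor : x ∉ Tor f := h.e_not_Tor_sg hp.ox

theorem y_notin_Tor : y ∉ Tor f := h.e_not_Tor_w hp.oy

theorem xy_notin_Tor : x * y ∉ Tor f := h.e_not_Tor_sgw (oxy h hp)

theorem x_mem_S : x ∈ S := h.e_mem_S_of_Ov h.sg_mem hp.ox

theorem y_mem_S : y ∈ S := h.e_mem_S_of_Ov h.w_mem hp.oy

/-- `y` is not in `HH`. -/
theorem y_notin : y ∉ HH f x := by
  intro hy
  obtain ⟨c, hc, h1 | h1⟩ := (mem_HH h hp.ox hp.xx).1 hy
  · exact y_notin_Tor h hp (h1 ▸ Z2_mem_Tor h hc)
  · apply xy_notin_Tor h hp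
    rw [h1, ← mul_assoc, ← cx h hp hc, mul_assoc, hp.xx, mul_one]
    exact Z2_mem_Tor h hc

theorem HH_le : HH f x ≤ EE f x y := closure_mono (by
  rintro a (rfl | rfl | rfl) <;> simp)

omit h hp in
theorem x_mem_HH : x ∈ HH f x := subset_closure (by simp)

omit h hp in
theorem x_mem : x ∈ EE f x y := subset_closure (by simp)

omit h hp in
theorem y_mem : y ∈ EE f x y := subset_closure (by simp)

omit h hp in
theorem Z2_mem_HH {c : G} (hc : Z2 (z1 f) (z2 f) c) : c ∈ HH f x := by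
  have h1 : z1 f ∈ HH f x := subset_closure (by simp)
  have h2 : z2 f ∈ HH f x := subset_closure (by simp)
  rcases hc with rfl | rfl | rfl | rfl
  · exact one_mem _
  · exact h1
  · exact h2
  · exact mul_mem h1 h2

theorem Z2_mem_EE {c : G} (hc : Z2 (z1 f) (z2 f) c) : c ∈ EE f x y := HH_le h hp (Z2_mem_HH hc)

theorem HH_eq : HH f x = h.e_Zg ⊔ zpowers x := by
  ext g
  rw [mem_HH h hp.ox hp.xx, mem_sup_zpowers hp.xx (fun c hc => by
    have : c * x = x * c := cx h hp hc
    rw [← this, mul_assoc, hp.xx, mul_one]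
    exact hc)]
  rfl

theorem card_HH : Nat.card (HH f x) = 8 := by
  rw [HH_eq h hp, EF.card_sup_zpowers hp.xx (fun c hc => by
    have : c * x = x * c := cx h hp hc
    rw [← this, mul_assoc, hp.xx, mul_one]
    exact hc) (fun hh => x_notin_Tor h hp (h.e_Zg_le hh)), h.e_card_Zg]

theorem EE_eq : EE f x y = HH f x ⊔ zpowers y := by
  apply le_antisymm
  · rw [EE, closure_le]
    rintro a (rfl | rfl | rfl | rfl)
    · exact (le_sup_left : HH f x ≤ _) (subset_closure (by simp))
    · exact (le_sup_left : HH f x ≤ _) (subset_closure (by simp))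
    · exact (le_sup_left : HH f a ≤ _) (subset_closure (by simp))
    · exact (le_sup_right : zpowers a ≤ _) (mem_zpowers a)
  · refine sup_le (HH_le h hp) ?_
    rw [zpowers_le]
    exact y_mem

/-- `EE` is commutative. -/
theorem EE_comm {a b : G} (ha : a ∈ EE f x y) (hb : b ∈ EE f x y) : a * b = b * a := by
  have hgen : ∀ c ∈ ({z1 f, z2 f, x, y} : Set G), ∀ d ∈ ({z1 f, z2 f, x, y} : Set G), c * d = d * c := by
    have e12 : z1 f * z2 f = z2 f * z1 f := Z2_comm h (Z2_z _ _) (Z2_z' _ _)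
    have e1x := cx h hp (Z2_z (z1 f) (z2 f))
    have e1y := cy h hp (Z2_z (z1 f) (z2 f))
    have e2x := cx h hp (Z2_z' (z1 f) (z2 f))
    have e2y := cy h hp (Z2_z' (z1 f) (z2 f))
    rintro c (rfl | rfl | rfl | rfl) d (rfl | rfl | rfl | rfl) <;>
      first | rfl | exact e12 | exact e12.symm | exact e1x | exact e1x.symm | exact e1y | exact e1y.symm |
        exact e2x | exact e2x.symm | exact e2y | exact e2y.symm | exact hp.xy | exact hp.xy.symm
  have h1 : EE f x y ≤ centralizer ({z1 f, z2 f, x, y} : Set G) := by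
    rw [EE, closure_le]
    intro c hc d hd
    exact hgen d hd c hc
  have h2 : EE f x y ≤ centralizer (EE f x y : Set G) := by
    conv_lhs => rw [EE]
    rw [closure_le]
    intro c hc d hd
    exact (h1 hd c hc).symm
  exact (h2 ha b hb).symm

theorem EE_sq {a : G} (ha : a ∈ EE f x y) : a * a = 1 := by
  obtain ⟨c, hc, rfl | rfl | rfl | rfl⟩ := (mem_EE h hp).1 ha
  · exact Z2_sq h hc
  · calc c * x * (c * x) = c * (x * c) * x := by group
      _ = (c * c) * (x * x) := by rw [← cx h hp hc]; group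
      _ = 1 := by rw [Z2_sq h hc, hp.xx, one_mul]
  · calc c * y * (c * y) = c * (y * c) * y := by group
      _ = (c * c) * (y * y) := by rw [← cy h hp hc]; group
      _ = 1 := by rw [Z2_sq h hc, hp.yy, one_mul]
  · calc c * (x * y) * (c * (x * y)) = c * (x * y * c) * (x * y) := by group
      _ = (c * c) * (x * (y * x) * y) := by rw [← cxy h hp hc]; group
      _ = (c * c) * ((x * x) * (y * y)) := by rw [← hp.xy]; group
      _ = 1 := by rw [Z2_sq h hc, hp.xx, hp.yy, one_mul, one_mul]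

theorem card_EE : Nat.card (EE f x y) = 16 := by
  rw [EE_eq h hp, EF.card_sup_zpowers hp.yy (fun c hc => by
    have : c * y = y * c := EE_comm h hp (HH_le h hp hc) y_mem
    rw [← this, mul_assoc, hp.yy, mul_one]
    exact hc) (y_notin h hp), card_HH h hp]

theorem EE_le : EE f x y ≤ S := by
  rw [EE, closure_le]
  rintro a (rfl | rfl | rfl | rfl)
  · exact h.Tor_le (Z2_mem_Tor h (Z2_z _ _))
  · exact h.Tor_le (Z2_mem_Tor h (Z2_z' _ _))
  · exact x_mem_S h hp
  · exact y_mem_S h hp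

theorem e16 : E16 S (EE f x y) := ⟨EE_le h hp, card_EE h hp, fun _ ha => EE_sq h hp ha⟩

theorem elem [Finite G] : Cfsg.IsElementaryAbelian 2 (EE f x y) := by
  refine ⟨⟨⟨fun a b => ?_⟩⟩, fun a ha => by rw [pow_two]; exact EE_sq h hp ha⟩
  exact Subtype.ext (EE_comm h hp a.2 b.2)

/-- the elements outside `HH` -/
theorem not_mem_HH {a : G} (ha : a ∈ EE f x y) (haH : a ∉ HH f x) :
    ∃ c, Z2 (z1 f) (z2 f) c ∧ (a = c * y ∨ a = c * (x * y)) := by
  obtain ⟨c, hc, rfl | rfl | rfl | rfl⟩ := (mem_EE h hp).1 ha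
  · exact absurd (Z2_mem_HH hc) haH
  · exact absurd (mul_mem (Z2_mem_HH hc) x_mem_HH) haH
  · exact ⟨c, hc, Or.inl rfl⟩
  · exact ⟨c, hc, Or.inr rfl⟩

/-- elements outside `HH` are outside `T V'` -/
theorem exists_w {a : G} (ha : a ∈ EE f x y) (haH : a ∉ HH f x) : ∃ b ∈ TVp f u w, a = b * w := by
  obtain ⟨c, hc, rfl | rfl⟩ := not_mem_HH h hp ha haH
  · obtain ⟨p, q, r, hg, rfl⟩ := hp.oy
    exact ⟨c * f p q r, (le_sup_left : Tor f ≤ _) (mul_mem (Z2_mem_Tor h hc) (h.f_mem_Tor hg)), by rw [mul_assoc]⟩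
  · obtain ⟨p, q, r, hg, e⟩ := oxy h hp
    have hu : u ∈ TVp f u w := (le_sup_right : _ ≤ TVp f u w) (Subgroup.subset_closure (by simp))
    have hub : ub u w ∈ TVp f u w := (le_sup_right : _ ≤ TVp f u w) (Subgroup.subset_closure (by simp))
    refine ⟨c * f p q r * (u * ub u w), mul_mem ((le_sup_left : Tor f ≤ _)
      (mul_mem (Z2_mem_Tor h hc) (h.f_mem_Tor hg))) (mul_mem hu hub), ?_⟩
    rw [e, sgw]
    group

/-- The torus is transitive on the cosets of `⟨z1, z2⟩` outside the torus. -/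
theorem tor_tr [Finite G] {a : G} (ha : a ∈ EE f x y) (haT : a ∉ Tor f) {c : G} (hc : Z2 (z1 f) (z2 f) c) :
    ∃ t ∈ Tor f, t ∈ normalizer (EE f x y : Set G) ∧ t * a * t⁻¹ = c * a := by
  obtain ⟨t, ht, e⟩ := h.e_sf.e_tr _ (e16 h hp) a ha haT c hc
  refine ⟨t, h.e_sf.TT_le ht, ?_, e⟩
  have h1 : ∀ t ∈ Ttwo f, ∀ b ∈ EE f x y, t * b * t⁻¹ ∈ EE f x y := by
    intro t ht b hb
    obtain ⟨c, hc, e⟩ := h.e_sf.e_TT _ (e16 h hp) t ht b hb
    rw [e]
    exact mul_mem (Z2_mem_EE h hp hc) hb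
  rw [mem_normalizer_iff]
  intro b
  refine ⟨h1 t ht b, fun hb => ?_⟩
  have h2 := h1 t⁻¹ (inv_mem ht) _ hb
  have h3 : t⁻¹ * (t * b * t⁻¹) * t⁻¹⁻¹ = b := by group
  rwa [h3] at h2

end Pair

/-! ### Involutions over `sg` are products of two elements of order four -/

section Inner

/-- elements of order four of `Qone` outside the torus -/
def iq (f : R m → R m → R m → G) (u : G) (c : R m) : G := f (2 * c) 0 (-c) * (u * x1 f)

variable (h : BOne S m f u w)
include h

theorem iq_sq (c : R m) : iq f u c * iq f u c = z1 f := by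
  have e : iq f u c * iq f u c = f (2 * c) 0 (-c) * (u * x1 f * f (2 * c) 0 (-c)) * (u * x1 f) := by
    rw [iq]; group
  have e2 : f (2 * c) 0 (-c) * (f (2 * -c) 0 (- -c) * (u * x1 f)) * (u * x1 f) =
      (f (2 * c) 0 (-c) * f (2 * -c) 0 (- -c)) * (u * x1 f * (u * x1 f)) := by group
  rw [e, h.v_mul, e2, h.q_mul, add_neg_cancel, mul_zero, neg_zero, h.f_zero, one_mul, h.v_mul_v]
  rfl

theorem iq_mem (c : R m) : iq f u c ∈ Qone f u := mul_mem (h.gen1 c) h.gen2

theorem jq_mem (c : R m) : w * iq f u c * w⁻¹ ∈ Qtwo f u w := h.w_Qone _ (iq_mem h c)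

theorem z1_w : w * z1 f = z1 f * w := by
  rw [z1, h.w_f _ _ _ BOne.good1, neg_N]

theorem jq_sq (c : R m) : w * iq f u c * w⁻¹ * (w * iq f u c * w⁻¹) = z1 f := by
  have e : w * iq f u c * w⁻¹ * (w * iq f u c * w⁻¹) = w * (iq f u c * iq f u c) * w⁻¹ := by group
  rw [e, iq_sq h, z1_w h, mul_inv_cancel_right]

theorem h1_sq : h1 f * h1 f = z1 f := by
  rw [LFourB.h1, h.f_mul _ _ _ _ _ _ BOne.goodh1 BOne.goodh1, z1]
  congr 1
  · exact N_add_N
  · ring
  · linear_combination -two_mul_M (m := m) + neg_N (m := m)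

theorem h2_sq : h2 f * h2 f = z1 f := by
  rw [LFourB.h2, h.f_mul _ _ _ _ _ _ BOne.goodh2 BOne.goodh2, z1]
  congr 1
  · ring
  · exact N_add_N
  · exact M_add_M

theorem h1_h2 : h1 f * h2 f = z2 f := by
  rw [LFourB.h1, LFourB.h2, h.f_mul _ _ _ _ _ _ BOne.goodh1 BOne.goodh2, z2]
  congr 1 <;> ring

theorem h1_mem : h1 f ∈ Qone f u := by
  have := h.gen1 (M m)
  rwa [two_mul_M] at this

theorem h2_mem : h2 f ∈ Qtwo f u w := by
  have h1 : f 0 (2 * M m) (M m) ∈ Qtwo f u w := Subgroup.subset_closure (Or.inl ⟨M m, rfl⟩)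
  rwa [two_mul_M] at h1

/-- `h1` inverts the elements of `Qone` outside the torus. -/
theorem h1_iq (c : R m) : h1 f * iq f u c * (h1 f)⁻¹ = (iq f u c)⁻¹ := by
  have e0 : h1 f = f (2 * M m) 0 (-M m) := by rw [two_mul_M]; rfl
  have e1 : h1 f * iq f u c = iq f u (M m + c) := by
    rw [iq, ← mul_assoc, e0, h.q_mul, iq]
  have e2 : (iq f u c)⁻¹ * h1 f = iq f u (M m + c) := by
    rw [inv_mul_eq_iff_eq_mul]
    have e : iq f u c * iq f u (M m + c) = f (2 * c) 0 (-c) * (u * x1 f * f (2 * (M m + c)) 0 (-(M m + c))) * (u * x1 f) := by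
      rw [iq, iq]; group
    have e2 : f (2 * c) 0 (-c) * (f (2 * -(M m + c)) 0 (- -(M m + c)) * (u * x1 f)) * (u * x1 f) =
      (f (2 * c) 0 (-c) * f (2 * -(M m + c)) 0 (- -(M m + c))) * (u * x1 f * (u * x1 f)) := by group
    rw [e, h.v_mul, e2, h.q_mul, h.v_mul_v, h.f_mul _ _ _ _ _ _ (BOne.goodq1 _) BOne.good1, LFourB.h1]
    congr 1
    · linear_combination two_mul_M (m := m) + two_mul_N (m := m)
    · ring
    · linear_combination -two_mul_M (m := m) - two_mul_N (m := m)
  rw [e1, ← e2, mul_inv_cancel_right]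

/-- Involutions over `sg` are products of elements of order four. -/
theorem exists_iq {x : G} (hx : Ov f (sg u w) x) (hxx : x * x = 1) :
    ∃ c d, x = iq f u c * (w * iq f u d * w⁻¹) := by
  obtain ⟨p, q, r, hg, rfl⟩ := hx
  have h1 : 2 * r + p - q = 0 := (h.e_sq_sg_iff hg).1 hxx
  obtain ⟨e, he⟩ := id hg
  have h2 : ∃ b, q = 2 * b := by
    have h3 : 2 * (q - 2 * e) = 0 := by linear_combination he - h1
    rcases eq_of_two_mul h3 with h4 | h4
    · exact ⟨e, by linear_combination h4⟩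
    · exact ⟨e + M m, by linear_combination h4 - two_mul_M (m := m)⟩
  obtain ⟨b, rfl⟩ := h2
  refine ⟨b - r + M m, b + M m, ?_⟩
  have hv : w * (u * x1 f) * w⁻¹ = ub u w * x3 f := h.w_v
  have e1 : w * iq f u (b + M m) * w⁻¹ = f 0 (2 * (b + M m)) (b + M m) * (ub u w * x3 f) := by
    have e2 : w * iq f u (b + M m) * w⁻¹ = (w * f (2 * (b + M m)) 0 (-(b + M m)) * w⁻¹) * (w * (u * x1 f) * w⁻¹) := by
      rw [iq]; group
    rw [e2, hv, h.w_f _ _ _ (BOne.goodq1 _), mul_inv_cancel_right, neg_neg]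
  have gb : Good 0 (2 * (b + M m)) (b + M m) := BOne.goodq2 _
  have gc : Good (2 * (b - r + M m)) 0 (-(b - r + M m)) := BOne.goodq1 _
  have e3 : u * x1 f * f 0 (2 * (b + M m)) (b + M m) = f 0 (2 * (b + M m)) (b + M m) * (u * x1 f) := by
    rw [mul_assoc, x1, h.f_comm BOne.goodx1 gb, ← mul_assoc, h.u_f _ _ _ gb, neg_zero, add_zero, mul_assoc]
  have e4 : u * x1 f * (ub u w * x3 f) = z2 f * sg u w := by
    have e5 : u * x1 f * (ub u w * x3 f) = u * (x1 f * ub u w) * x3 f := by group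
    have e6 : x1 f * x3 f = z2 f := by
      rw [x1, x3, h.f_mul _ _ _ _ _ _ BOne.goodx1 BOne.goodx3, z2]
      congr 1 <;> ring
    have e7 : sg u w * z2 f = z2 f * sg u w := by
      rw [z2, h.sg_f BOne.good2, neg_N]
      congr 2
      ring
    rw [e5, ← h.ub_x1, ← e7, ← e6, sg]
    group
  rw [e1, iq]
  calc f p (2 * b) r * sg u w = f (2 * (b - r + M m)) 0 (-(b - r + M m)) * f 0 (2 * (b + M m)) (b + M m) * z2 f * sg u w := by
        congr 1
        rw [h.f_mul _ _ _ _ _ _ gc gb, z2, h.f_mul _ _ _ _ _ _ (gc.add gb) BOne.good2]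
        congr 1
        · linear_combination h1 - two_mul_M (m := m) - two_mul_N (m := m)
        · linear_combination -two_mul_M (m := m) - two_mul_N (m := m)
        · ring
    _ = f (2 * (b - r + M m)) 0 (-(b - r + M m)) * f 0 (2 * (b + M m)) (b + M m) * (u * x1 f * (ub u w * x3 f)) := by
        rw [e4]; group
    _ = f (2 * (b - r + M m)) 0 (-(b - r + M m)) * (f 0 (2 * (b + M m)) (b + M m) * (u * x1 f)) * (ub u w * x3 f) := by group
    _ = f (2 * (b - r + M m)) 0 (-(b - r + M m)) * (u * x1 f * f 0 (2 * (b + M m)) (b + M m)) * (ub u w * x3 f) := by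
        rw [e3]
    _ = _ := by group

/-- `Qone` and `Qtwo` commute. -/
theorem Q_comm {a b : G} (ha : a ∈ Qone f u) (hb : b ∈ Qtwo f u w) : a * b = b * a := by
  obtain ⟨x, rfl⟩ := h.mem_Qone.1 ha
  obtain ⟨y, rfl⟩ := h.mem_Qtwo.1 hb
  exact h.q_comm x y

/-- The common elements. -/
theorem Q_inf {a : G} (ha : a ∈ Qone f u) (hb : a ∈ Qtwo f u w) : a = 1 ∨ a = z1 f := by
  obtain ⟨x, rfl⟩ := h.mem_Qone.1 ha
  obtain ⟨y, e⟩ := h.mem_Qtwo.1 hb
  rcases h.qone_eq_qtwo e with ⟨rfl, -⟩ | ⟨rfl, -⟩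
  · exact Or.inl h.qone_one
  · exact Or.inr h.qone_z

theorem z1_sq : z1 f * z1 f = 1 := h.z1_mul_z1

theorem z1_ne : z1 f ≠ 1 := by
  intro e
  rw [z1, h.f_eq_one_iff BOne.good1] at e
  exact N_ne_zero e.2.2

/-- `i * i ^ y` for `b = i * j` commuting with a swapping involution `y`. -/
theorem swap_eq {y b i j : G} (hy1 : ∀ a ∈ Qone f u, y * a * y⁻¹ ∈ Qtwo f u w)
    (hy2 : ∀ a ∈ Qtwo f u w, y * a * y⁻¹ ∈ Qone f u) (hb : y * b = b * y) (hi : i ∈ Qone f u) (hj : j ∈ Qtwo f u w)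
    (e : b = i * j) : i * (y * i * y⁻¹) = b ∨ i * (y * i * y⁻¹) = z1 f * b := by
  have h1 := hy1 i hi
  have h3 := hy2 j hj
  have e1 : (y * j * y⁻¹)⁻¹ * i = (y * i * y⁻¹) * j⁻¹ := by
    have e2 : i * j = (y * i * y⁻¹) * (y * j * y⁻¹) := by
      calc i * j = y * b * y⁻¹ := by rw [hb, mul_inv_cancel_right, e]
        _ = _ := by rw [e]; group
    have e3 : (y * i * y⁻¹) * (y * j * y⁻¹) = (y * j * y⁻¹) * (y * i * y⁻¹) := (Q_comm h h3 h1).symm
    have e4 : i * j = j * i := Q_comm h hi hj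
    calc (y * j * y⁻¹)⁻¹ * i = (y * j * y⁻¹)⁻¹ * (i * j) * j⁻¹ := by group
      _ = (y * j * y⁻¹)⁻¹ * ((y * j * y⁻¹) * (y * i * y⁻¹)) * j⁻¹ := by rw [e2, e3]
      _ = _ := by group
  have h5 : (y * i * y⁻¹) * j⁻¹ ∈ Qone f u := by
    rw [← e1]
    exact mul_mem (inv_mem h3) hi
  rcases Q_inf h h5 (mul_mem h1 (inv_mem hj)) with h6 | h6
  · left
    rw [e, mul_inv_eq_one.1 h6]
  · right
    rw [mul_inv_eq_iff_eq_mul] at h6
    have hz : i * z1 f = z1 f * i := by
      obtain ⟨x, rfl⟩ := h.mem_Qone.1 hi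
      rw [← h.qone_z, ← h.qone_mul, ← h.qone_mul]
      congr 1
      exact (Cfsg.Agent.SylowSp4.Coord.z_comm x).symm
    rw [h6, e, ← mul_assoc, hz, mul_assoc]

end Inner

end Cfsg.Agent.LFourB.KPair
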