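import Mathlib
import Cfsg.Prelude.Def_CaseTheorems
import Cfsg.Agent.Lib.Cores
import Cfsg.Agent.GTwoFour.Tools
import Cfsg.Agent.StdL2.G23Aut

/-!
# S0510, type `|S| = 2 ^ 7`: the group `K = H / O(H)⟨z⟩`

`K` is a finite group with `O(K) = 1` and a Sylow 2-subgroup `T` of order 64 whose centre has order 2,
`E` an elementary abelian subgroup of order 8 of `T`, normal in `T`, `C_T(E) = E`, `N_K(E)` transitive on
`E ∖ 1`.  Then either `E` is normal in `K` or `K` has a simple normal subgroup `N` containing `T` such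
that `N ∩ N_K(E)` is transitive on `E ∖ 1`.
-/

set_option autoImplicit false

open Cfsg Subgroup
open Cfsg.Agent.StdL2.G23Aut (Oct img mem_img card_img_mul)

namespace Cfsg.Agent.LFourB.KTenCore

variable {K : Type*} [Group K]

/-- The configuration. -/
structure Cfg (T : Sylow 2 K) (E : Subgroup K) (ζ : K) : Prop where
  card_T : Nat.card (T : Subgroup K) = 64
  le_T : E ≤ (T : Subgroup K)
  oct : Oct E
  normal_T : (T : Subgroup K) ≤ normalizer (E : Set K)
  self : ∀ t ∈ (T : Subgroup K), (∀ e ∈ E, t * e = e * t) → t ∈ E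
  trans : ∀ u ∈ E, u ≠ 1 → ∀ v ∈ E, v ≠ 1 → ∃ k ∈ normalizer (E : Set K), k * u * k⁻¹ = v
  cent : ∀ x ∈ (T : Subgroup K), (∀ t ∈ (T : Subgroup K), x * t = t * x) → x = 1 ∨ x = ζ
  core : oddCore K = ⊥

section general

variable [Finite K]

/-- The intersection of a Sylow subgroup with a normal subgroup. -/
theorem exists_sylow_normal (T : Sylow 2 K) (N : Subgroup K) (hN : N.Normal) :
    ∃ P : Sylow 2 N, (P : Subgroup N) = (T : Subgroup K).subgroupOf N := by
  have h2 : Fact (Nat.Prime 2) := ⟨Nat.prime_two⟩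
  refine ⟨⟨(T : Subgroup K).subgroupOf N, ?_, ?_⟩, rfl⟩
  · exact T.isPGroup'.comap_of_injective N.subtype N.subtype_injective
  · intro Q hQ hle
    have h3 : IsPGroup 2 (Q.map N.subtype) := hQ.map N.subtype
    obtain ⟨g, hg⟩ := h3.exists_le_sylow
    obtain ⟨k, hk⟩ := MulAction.exists_smul_eq K g T
    have h4 : ∀ x ∈ Q, k * (x : K) * k⁻¹ ∈ (T : Subgroup K) := by
      intro x hx
      rw [← hk]
      refine ⟨(x : K), hg (mem_map_of_mem _ hx), rfl⟩
    have h5 : Nat.card Q ≤ Nat.card ((T : Subgroup K).subgroupOf N) := by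
      refine Nat.card_le_card_of_injective
        (fun x : Q => (⟨⟨k * ((x : N) : K) * k⁻¹, hN.conj_mem _ (x : N).2 k⟩, h4 x x.2⟩ :
          (T : Subgroup K).subgroupOf N)) ?_
      intro x y hxy
      have h6 := congrArg (fun w : (T : Subgroup K).subgroupOf N => ((w : N) : K)) hxy
      exact Subtype.ext (Subtype.ext (mul_left_cancel (mul_right_cancel h6)))
    exact (eq_of_le_of_card_ge hle h5).symm

/-- A normal subgroup of a group without core which avoids a Sylow 2-subgroup is trivial. -/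
theorem eq_bot_of_inf {X : Type*} [Group X] [Finite X] (hO : oddCore X = ⊥) (T : Sylow 2 X)
    (M : Subgroup X) (hM : M.Normal) (h : ∀ x ∈ M, x ∈ (T : Subgroup X) → x = 1) : M = ⊥ := by
  have h2 : Fact (Nat.Prime 2) := ⟨Nat.prime_two⟩
  obtain ⟨P, hP⟩ := exists_sylow_normal T M hM
  have h3 : (P : Subgroup M) = ⊥ := by
    rw [eq_bot_iff, hP]
    intro x hx
    exact Subtype.ext (h x x.2 hx)
  have h4 : ¬ 2 ∣ Nat.card M := by
    intro h5
    have h6 := P.dvd_card_of_dvd_card h5
    rw [h3, Subgroup.card_bot] at h6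
    norm_num at h6
  rw [eq_bot_iff, ← hO]
  exact Lib.Cores.le_pPrimeCore hM ((Nat.Prime.coprime_iff_not_dvd Nat.prime_two).2 h4).symm

end general

namespace Cfg

variable {T : Sylow 2 K} {E : Subgroup K} {ζ : K} [Finite K]

omit [Finite K] in
theorem E_ne_bot (h : Cfg T E ζ) : E ≠ ⊥ := by
  intro hE
  have := h.oct.card
  rw [hE, Subgroup.card_bot] at this
  norm_num at this

/-- A subgroup normalised by `T` and meeting `T` contains `ζ`. -/
theorem zeta_mem (h : Cfg T E ζ) {M : Subgroup K} (hM : ∀ t ∈ (T : Subgroup K), ∀ x ∈ M, t * x * t⁻¹ ∈ M)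
    {x : K} (hx : x ∈ M) (hxT : x ∈ (T : Subgroup K)) (hx1 : x ≠ 1) : ζ ∈ M ∧ ζ ≠ 1 := by
  have h2 : Fact (Nat.Prime 2) := ⟨Nat.prime_two⟩
  have hn : (M.subgroupOf (T : Subgroup K)).Normal := by
    constructor
    intro m hm t
    exact hM t t.2 m hm
  have hne : M.subgroupOf (T : Subgroup K) ≠ ⊥ := by
    intro hb
    have h3 : (⟨x, hxT⟩ : (T : Subgroup K)) ∈ M.subgroupOf (T : Subgroup K) := hx
    rw [hb, mem_bot] at h3
    exact hx1 (congrArg Subtype.val h3)
  obtain ⟨c, hc, hcc, hc1⟩ := GTwoFour.Tools.exists_mem_center_of_normal T.isPGroup' _ hne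
  have h3 : (c : K) = 1 ∨ (c : K) = ζ := by
    apply h.cent c c.2
    intro t ht
    have := congrArg Subtype.val ((mem_center_iff.1 hcc) ⟨t, ht⟩)
    exact this.symm
  rcases h3 with h3 | h3
  · exact absurd (Subtype.ext h3) hc1
  · rw [← h3]
    exact ⟨hc, fun h4 => hc1 (Subtype.ext h4)⟩

theorem zeta (h : Cfg T E ζ) : ζ ∈ E ∧ ζ ≠ 1 := by
  obtain ⟨⟨x, hx⟩, hx1⟩ := Subgroup.ne_bot_iff_exists_ne_one.1 h.E_ne_bot
  exact h.zeta_mem (fun t ht x hx => (mem_normalizer_iff.1 (h.normal_T ht) x).1 hx) hx (h.le_T hx)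
    (fun h1 => hx1 (Subtype.ext h1))

omit [Finite K] in
theorem T_inf_cent (h : Cfg T E ζ) : (T : Subgroup K) ⊓ centralizer (E : Set K) = E := by
  apply le_antisymm
  · rintro x ⟨hx, hxc⟩
    exact h.self x hx fun e he => (mem_centralizer_iff.1 hxc e he).symm
  · intro x hx
    exact ⟨h.le_T hx, mem_centralizer_iff.2 fun e he => h.oct.comm he hx⟩

/-- `N_K(E)` induces all automorphisms of `E`. -/
theorem img_top (h : Cfg T E ζ) : img (normalizer (E : Set K)) E = ⊤ := by
  have hfin := h.oct.finite_aut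
  apply h.oct.eq_top
  · have h1 := card_img_mul (K := (T : Subgroup K)) h.normal_T
    rw [h.T_inf_cent, h.card_T, h.oct.card] at h1
    have h3 : Nat.card (img (T : Subgroup K) E) = 8 := by omega
    rw [← h3]
    apply card_dvd_of_le
    intro φ hφ
    obtain ⟨k, hk, hkE, hkv⟩ := mem_img.1 hφ
    exact mem_img.2 ⟨k, hkE, hkE, hkv⟩
  · have h1 : MulAction.orbit (img (normalizer (E : Set K)) E) (⟨ζ, h.zeta.1⟩ : E) = {1}ᶜ := by
      ext v
      rw [Set.mem_compl_iff, Set.mem_singleton_iff]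
      constructor
      · rintro ⟨φ, hφ⟩ hv
        have h2 : (φ : MulAut E) ⟨ζ, h.zeta.1⟩ = 1 := hφ.trans hv
        rw [map_eq_one_iff _ (φ : MulAut E).injective] at h2
        exact h.zeta.2 (congrArg Subtype.val h2)
      · intro hv
        obtain ⟨k, hk, hkv⟩ := h.trans ζ h.zeta.1 h.zeta.2 v v.2 (fun h3 => hv (Subtype.ext h3))
        refine ⟨⟨E.normalizerMonoidHom ⟨k, hk⟩, mem_img.2 ⟨k, hk, hk, fun w => rfl⟩⟩, ?_⟩
        exact Subtype.ext hkv
    have h2 := MulAction.index_stabilizer (img (normalizer (E : Set K)) E) (⟨ζ, h.zeta.1⟩ : E)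
    rw [h1, Set.ncard_compl, Set.ncard_singleton, h.oct.card] at h2
    rw [show (7 : ℕ) = 8 - 1 from rfl, ← h2]
    exact Subgroup.index_dvd_card _

theorem img_normal (h : Cfg T E ζ) (N : Subgroup K) (hN : N.Normal) : (img N E).Normal := by
  constructor
  intro φ hφ ψ
  obtain ⟨n, hn, hnE, hnv⟩ := mem_img.1 hφ
  have hψ : ψ ∈ img (normalizer (E : Set K)) E := by rw [h.img_top]; trivial
  obtain ⟨k, hk, hkE, hkv⟩ := mem_img.1 hψ
  refine mem_img.2 ⟨k * n * k⁻¹, hN.conj_mem n hn k, mul_mem (mul_mem hkE hnE) (inv_mem hkE), ?_⟩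
  intro v
  have h1 : k * ((ψ⁻¹ v : E) : K) * k⁻¹ = v := by
    rw [hkv, MulAut.apply_inv_self]
  have h2 : k * ((φ (ψ⁻¹ v) : E) : K) * k⁻¹ = ((ψ * φ * ψ⁻¹) v : E) := by
    rw [hkv]
    rfl
  rw [← h2, ← hnv]
  nth_rewrite 1 [← h1]
  group

/-- **The dichotomy.** -/
theorem dichotomy (h : Cfg T E ζ) : E.Normal ∨ ∃ N : Subgroup K, N.Normal ∧ IsSimpleGroup N ∧
    (T : Subgroup K) ≤ N ∧ ∀ u ∈ E, u ≠ 1 → ∀ v ∈ E, v ≠ 1 → ∃ n ∈ N, n * u * n⁻¹ = v := by
  have h2 : Fact (Nat.Prime 2) := ⟨Nat.prime_two⟩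
  have hfin := h.oct.finite_aut
  obtain ⟨hζE, hζ1⟩ := h.zeta
  set N : Subgroup K := normalClosure {ζ} with hN
  have hNn : N.Normal := normalClosure_normal
  have hζN : ζ ∈ N := subset_normalClosure rfl
  have hEN : E ≤ N := by
    intro e he
    by_cases he1 : e = 1
    · rw [he1]
      exact one_mem _
    · obtain ⟨k, -, hk⟩ := h.trans ζ hζE hζ1 e he he1
      rw [← hk]
      exact hNn.conj_mem _ hζN _
  have hcoreN : oddCore N = ⊥ := by
    have h1 := Lib.Cores.map_subtype_pPrimeCore 2 hNn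
    have h3 : N ⊓ pPrimeCore 2 K = ⊥ := by
      have := h.core
      rw [oddCore] at this
      rw [this, inf_bot_eq]
    rw [h3] at h1
    exact (Subgroup.map_eq_bot_iff_of_injective _ N.subtype_injective).1 h1
  obtain ⟨P, hP⟩ := exists_sylow_normal T N hNn
  rcases h.oct.normal _ (h.img_normal N hNn) with hB | hB
  · left
    have htriv : ∀ x ∈ N, x ∈ normalizer (E : Set K) → ∀ e ∈ E, x * e = e * x := by
      intro x hx hxE e he
      have h3 : E.normalizerMonoidHom ⟨x, hxE⟩ ∈ img N E := mem_img.2 ⟨x, hx, hxE, fun w => rfl⟩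
      rw [hB, mem_bot] at h3
      have h4 := congrArg (fun φ : MulAut E => ((φ ⟨e, he⟩ : E) : K)) h3
      have h5 : x * e * x⁻¹ = e := h4
      exact mul_inv_eq_iff_eq_mul.1 h5
    have hPE : (P : Subgroup N) = E.subgroupOf N := by
      rw [hP]
      apply le_antisymm
      · intro x hx
        exact h.self x hx (htriv x x.2 (h.normal_T hx))
      · intro x hx
        exact h.le_T hx
    have hnc : normalizer ((P : Subgroup N) : Set N) ≤ centralizer ((P : Subgroup N) : Set N) := by
      intro x hx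
      rw [mem_centralizer_iff]
      have hxE : (x : K) ∈ normalizer (E : Set K) := by
        rw [mem_normalizer_iff]
        intro e
        constructor
        · intro he
          have h3 := (mem_normalizer_iff.1 hx ⟨e, hEN he⟩).1 (by rw [hPE]; exact he)
          rw [hPE] at h3
          exact h3
        · intro he
          have h3 := (mem_normalizer_iff.1 (inv_mem hx) ⟨(x : K) * e * (x : K)⁻¹, hEN he⟩).1
            (by rw [hPE]; exact he)
          rw [hPE] at h3
          have h4 : (x : K)⁻¹ * ((x : K) * e * (x : K)⁻¹) * ((x : K)⁻¹)⁻¹ ∈ E := h3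
          have h5 : (x : K)⁻¹ * ((x : K) * e * (x : K)⁻¹) * ((x : K)⁻¹)⁻¹ = e := by group
          rwa [h5] at h4
      intro y hy
      rw [hPE] at hy
      exact Subtype.ext (htriv x x.2 hxE y hy).symm
    have hcomp := MonoidHom.ker_transferSylow_isComplement' P hnc
    have hK := MonoidHom.not_dvd_card_ker_transferSylow P hnc
    have h3 : (MonoidHom.transferSylow P hnc).ker ≤ pPrimeCore 2 N :=
      Lib.Cores.le_pPrimeCore inferInstance ((Nat.Prime.coprime_iff_not_dvd Nat.prime_two).2 hK).symm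
    rw [show pPrimeCore 2 N = ⊥ from hcoreN, le_bot_iff] at h3
    rw [h3] at hcomp
    have h4 : (P : Subgroup N) = ⊤ := Subgroup.isComplement'_bot_left.1 hcomp
    have h5 : N ≤ E := by
      intro x hx
      have h6 : (⟨x, hx⟩ : N) ∈ (P : Subgroup N) := by rw [h4]; trivial
      rw [hPE] at h6
      exact h6
    rw [le_antisymm hEN h5]
    exact hNn
  · right
    -- the order of `N`
    have h3 : img (N ⊓ normalizer (E : Set K)) E = ⊤ := by
      rw [← hB]
      apply le_antisymm
      · intro φ hφ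
        obtain ⟨k, hk, hkE, hkv⟩ := mem_img.1 hφ
        exact mem_img.2 ⟨k, hk.1, hkE, hkv⟩
      · intro φ hφ
        obtain ⟨k, hk, hkE, hkv⟩ := mem_img.1 hφ
        exact mem_img.2 ⟨k, ⟨hk, hkE⟩, hkE, hkv⟩
    have h4 := card_img_mul (K := N ⊓ normalizer (E : Set K)) (V := E) inf_le_right
    rw [h3, Subgroup.card_top, h.oct.card_aut] at h4
    have h5 : 8 ∣ Nat.card (N ⊓ normalizer (E : Set K) ⊓ centralizer (E : Set K) : Subgroup K) := by
      rw [← h.oct.card]
      apply card_dvd_of_le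
      intro x hx
      refine ⟨⟨hEN hx, le_normalizer hx⟩, ?_⟩
      exact mem_centralizer_iff.2 fun e he => h.oct.comm he hx
    have h6 : 2 ^ 6 ∣ Nat.card N := by
      refine dvd_trans ?_ (card_dvd_of_le (inf_le_left : N ⊓ normalizer (E : Set K) ≤ N))
      rw [← h4]
      obtain ⟨c, hc⟩ := h5
      rw [hc]
      exact ⟨21 * c, by ring⟩
    have h7 := P.pow_dvd_card_of_pow_dvd_card h6
    have hTN : (T : Subgroup K) ≤ N := by
      have h8 : 64 ≤ Nat.card ((T : Subgroup K) ⊓ N : Subgroup K) := by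
        rw [← subgroupOf_map_subtype, ← hP, Subgroup.card_map_of_injective N.subtype_injective]
        exact Nat.le_of_dvd Nat.card_pos h7
      have h9 : (T : Subgroup K) ⊓ N = T := by
        apply eq_of_le_of_card_ge inf_le_left
        rw [h.card_T]
        exact h8
      rw [← h9]
      exact inf_le_right
    refine ⟨N, hNn, ?_, hTN, ?_⟩
    · have hnt : Nontrivial N := ⟨⟨⟨ζ, hζN⟩, 1, fun h8 => hζ1 (congrArg Subtype.val h8)⟩⟩
      -- nontrivial normal subgroups of `N` contain `ζ`
      have hmain : ∀ M : Subgroup N, M.Normal → M ≠ ⊥ → (⟨ζ, hζN⟩ : N) ∈ M := by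
        intro M hM hM1
        by_contra hcon
        apply hM1
        apply eq_bot_of_inf hcoreN P M hM
        intro x hx hxP
        by_contra hx1
        rw [hP] at hxP
        have h8 := h.zeta_mem (M := M.map N.subtype) (by
          rintro t ht _ ⟨y, hy, rfl⟩
          exact ⟨(⟨t, hTN ht⟩ : N) * y * (⟨t, hTN ht⟩ : N)⁻¹, hM.conj_mem y hy _, rfl⟩)
          (mem_map_of_mem _ hx) hxP (fun h9 => hx1 (Subtype.ext h9))
        obtain ⟨y, hy, hyζ⟩ := h8.1
        apply hcon
        have h9 : y = ⟨ζ, hζN⟩ := Subtype.ext hyζ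
        rw [← h9]
        exact hy
      refine ⟨fun M hM => ?_⟩
      by_cases hM1 : M = ⊥
      · exact Or.inl hM1
      right
      -- the conjugates of `M`
      have hall : ∀ g : K, g * ζ * g⁻¹ ∈ M.map N.subtype := by
        intro g
        let c : N ≃* N := MulAut.conjNormal g
        have hc : ∀ x : N, ((c x : N) : K) = g * x * g⁻¹ := fun x => MulAut.conjNormal_apply g x
        have h8 : (M.comap c.toMonoidHom).Normal := hM.comap _
        have h9 : M.comap c.toMonoidHom ≠ ⊥ := by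
          intro hb
          apply hM1
          rw [eq_bot_iff]
          intro x hx
          have h10 : c.symm x ∈ M.comap c.toMonoidHom := by
            rw [mem_comap]
            show c (c.symm x) ∈ M
            rw [MulEquiv.apply_symm_apply]
            exact hx
          rw [hb, mem_bot] at h10
          rw [mem_bot]
          have h11 := congrArg c h10
          rwa [MulEquiv.apply_symm_apply, map_one] at h11
        have h10 := hmain _ h8 h9
        rw [mem_comap] at h10
        exact ⟨c ⟨ζ, hζN⟩, h10, hc _⟩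
      have hMn : (M.map N.subtype) = N := by
        apply le_antisymm (map_subtype_le M)
        intro x hx
        have h8 : x ∈ normalClosure {ζ} := hx
        rw [normalClosure] at h8
        refine (closure_le _).2 ?_ h8
        intro y hy
        obtain ⟨a, ha, hya⟩ := Group.mem_conjugatesOfSet_iff.1 hy
        rw [Set.mem_singleton_iff] at ha
        subst ha
        obtain ⟨g, hg⟩ := isConj_iff.1 hya
        rw [← hg]
        exact hall g
      rw [eq_top_iff]
      intro x _
      have h8 : (x : K) ∈ M.map N.subtype := by rw [hMn]; exact x.2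
      obtain ⟨y, hy, hyx⟩ := h8
      have h9 : y = x := Subtype.ext hyx
      rw [← h9]
      exact hy
    · intro u hu hu1 v hv hv1
      obtain ⟨k, hk, hkv⟩ := h.trans u hu hu1 v hv hv1
      have h8 : E.normalizerMonoidHom ⟨k, hk⟩ ∈ img N E := by rw [hB]; trivial
      obtain ⟨n, hn, hnE, hnv⟩ := mem_img.1 h8
      refine ⟨n, hn, ?_⟩
      have h9 := hnv ⟨u, hu⟩
      rw [← hkv]
      exact h9

end Cfg

end Cfsg.Agent.LFourB.KTenCore
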