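import Mathlib
import Cfsg.Prelude.Def_CaseTheorems
import Cfsg.Prelude.Def_SporadicB
import Cfsg.Prelude.Def_Local
import Cfsg.Agent.Lib.PComponents
import Cfsg.Agent.Intrinsic.Basic
import Cfsg.Agent.SignalizersComponents.IntrinsicFinal
import Cfsg.Agent.GH.Defs

/-!
# Nonsplit double covers from a central involution, and the 2-component over it

* `nonsplit`: `g : M → N` surjective onto a nonabelian simple group with kernel `⟨z⟩` of order 2, `z` in
  the derived subgroup of `M`: then `M` is quasisimple with centre `⟨z⟩` and not split over it;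
* `hasAltCover_of`: `z` an involution of `G`, `H = C_G(z)`, `f : H → K` surjective with kernel
  `O(H)⟨z⟩`, `N ⊴ K`, `N ≅ A_n`, `z` a commutator of elements of the preimage of `N`: then `HasAltCover G`.
-/

set_option autoImplicit false

open Cfsg Subgroup

namespace Cfsg.Agent.LFourB.KTenCover

section cover

variable {M N : Type*} [Group M] [Group N]

theorem nonsplit [Finite M] [IsSimpleGroup N] (hna : ∃ a b : N, a * b ≠ b * a) {g : M →* N}
    (hg : Function.Surjective g) {z : M} (hz1 : z ≠ 1) (hzc : ∀ m, m * z = z * m)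
    (hker : ∀ m, g m = 1 ↔ m = 1 ∨ m = z) (hD : z ∈ commutator M) :
    IsQuasisimple M ∧ Nat.card (center M) = 2 ∧ Nonempty (M ⧸ center M ≃* N) ∧
      ∀ L : Subgroup M, ¬ (center M).IsComplement' L := by
  have hcN : center N = ⊥ := by
    rcases (inferInstance : (center N).Normal).eq_bot_or_eq_top with h | h
    · exact h
    · obtain ⟨a, b, hab⟩ := hna
      have h1 : b ∈ center N := by rw [h]; trivial
      exact absurd (mem_center_iff.1 h1 a) hab
  have hperfN : commutator N = ⊤ := by
    rcases (inferInstance : (commutator N).Normal).eq_bot_or_eq_top with h | h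
    · rw [commutator_eq_bot_iff_center_eq_top, hcN] at h
      obtain ⟨a, b, hab⟩ := hna
      have h1 : ∀ x : N, x = 1 := fun x => by
        have h2 : x ∈ (⊥ : Subgroup N) := by rw [h]; trivial
        exact mem_bot.1 h2
      exact absurd ((h1 _).trans (h1 _).symm) hab
    · exact h
  have hperf : commutator M = ⊤ := by
    rw [eq_top_iff]
    intro m _
    have h1 : g m ∈ (commutator M).map g := by
      have h2 : (commutator M).map g = commutator N := by
        rw [_root_.commutator_def, map_commutator, ← MonoidHom.range_eq_map, MonoidHom.range_eq_top.2 hg,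
          ← _root_.commutator_def]
      rw [h2, hperfN]
      trivial
    obtain ⟨d, hd, hdm⟩ := h1
    have h2 : g (m * d⁻¹) = 1 := by rw [map_mul, map_inv, hdm, mul_inv_cancel]
    have h3 : m = (m * d⁻¹) * d := by group
    rw [h3]
    refine mul_mem ?_ hd
    rcases (hker _).1 h2 with h4 | h4
    · rw [h4]; exact one_mem _
    · rw [h4]; exact hD
  have hcen : ∀ m, m ∈ center M ↔ m = 1 ∨ m = z := by
    intro m
    constructor
    · intro hm
      rw [← hker]
      have h1 : g m ∈ center N := by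
        rw [mem_center_iff]
        intro n
        obtain ⟨x, rfl⟩ := hg n
        rw [← map_mul, ← map_mul, mem_center_iff.1 hm x]
      rw [hcN, mem_bot] at h1
      exact h1
    · rintro (rfl | rfl)
      · exact one_mem _
      · exact mem_center_iff.2 hzc
  have hkc : g.ker = center M := by
    ext m
    rw [MonoidHom.mem_ker, hker, hcen]
  have hcard : Nat.card (center M) = 2 := by
    rw [Nat.card_eq_two_iff]
    refine ⟨⟨1, one_mem _⟩, ⟨z, (hcen z).2 (Or.inr rfl)⟩, ?_, ?_⟩
    · intro h4
      exact hz1 (congrArg Subtype.val h4).symm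
    · rw [Set.eq_univ_iff_forall]
      intro x
      rcases (hcen _).1 x.2 with h5 | h5
      · left
        exact Subtype.ext h5
      · right
        exact Subtype.ext h5
  have e : M ⧸ center M ≃* N :=
    (QuotientGroup.quotientMulEquivOfEq hkc.symm).trans (QuotientGroup.quotientKerEquivOfSurjective g hg)
  have hnt : Nontrivial (M ⧸ center M) := e.toEquiv.nontrivial
  refine ⟨⟨⟨hperf⟩, IsSimpleGroup.isSimpleGroup_of_surjective e.symm.toMonoidHom e.symm.surjective⟩,
    hcard, ⟨e⟩, ?_⟩
  intro L hL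
  have h1 : L.index = 2 := by rw [hL.index_eq_card, hcard]
  have h2 : L.Normal := normal_of_index_eq_two h1
  have h3 : commutator M ≤ L := by
    have h4 : IsMulCommutative (M ⧸ L) := by
      have h5 : Nat.card (M ⧸ L) = 2 := by rw [← index_eq_card, h1]
      have := isCyclic_of_prime_card (hp := ⟨Nat.prime_two⟩) h5
      exact IsCyclic.isMulCommutative
    exact (Normal.quotient_commutative_iff_commutator_le).1 h4
  rw [hperf] at h3
  rw [top_le_iff.1 h3, index_top] at h1
  norm_num at h1

end cover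

section comp

open Cfsg.Agent.GH.Defs Cfsg.Agent.Intrinsic.Basic
open Cfsg.Agent.Lib (PComponents.pElem)
open scoped commutatorElement

variable {G : Type*} [Group G] [Finite G] {t : G}

/-- `z` an involution of `G`, `X = C_G(z)`, `F : X → K` surjective with kernel `O(X)⟨z⟩`, `N ⊴ K`,
`N ≅ A_n`, `z` a commutator of 2-elements of the preimage of `N`. -/
theorem hasAltCover_of {X : Subgroup G} (hX : X = centralizer ({t} : Set G)) (htX : t ∈ X)
    (ht : orderOf t = 2) {K : Type*} [Group K] {F : X →* K} (hF : Function.Surjective F)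
    (hker : ∀ x, F x = 1 ↔ x ∈ oddCore X ∨ x * ⟨t, htX⟩ ∈ oddCore X)
    {N : Subgroup K} (hN : N.Normal) [IsSimpleGroup N] (hna : ∃ a b : N, a * b ≠ b * a) {n : ℕ}
    (hn : 8 ≤ n) (e : N ≃* alternatingGroup (Fin n)) {a b : X}
    (ha : ∃ k, a ^ 2 ^ k = 1) (hb : ∃ k, b ^ 2 ^ k = 1) (haN : F a ∈ N) (hbN : F b ∈ N)
    (hab : ⁅a, b⁆ = ⟨t, htX⟩) : HasAltCover G := by
  have h2 : Fact (Nat.Prime 2) := ⟨Nat.prime_two⟩
  set tX : X := ⟨t, htX⟩ with htXd
  have hcent : ∀ x : G, x ∈ X → x * t = t * x := by
    intro x hx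
    rw [hX] at hx
    exact mem_centralizer_singleton_iff.1 hx
  have htt : tX * tX = 1 := Subtype.ext (by
    have := pow_orderOf_eq_one t
    rw [ht, pow_two] at this
    exact this)
  have htc : ∀ x : X, x * tX = tX * x := fun x => Subtype.ext (hcent x x.2)
  have htO : tX ∉ oddCore X := by
    intro h1
    have h3 : orderOf (⟨tX, h1⟩ : oddCore X) = 2 := by
      rw [← orderOf_injective (oddCore X).subtype (oddCore X).subtype_injective,
        ← orderOf_injective X.subtype X.subtype_injective]
      exact ht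
    have h4 := orderOf_dvd_natCard (⟨tX, h1⟩ : oddCore X)
    rw [h3] at h4
    exact (Nat.Prime.coprime_iff_not_dvd Nat.prime_two).1 (Lib.Cores.pPrimeCore_coprime (G := X) 2).symm h4
  let q : X →* X ⧸ oddCore X := QuotientGroup.mk' (oddCore X)
  have hq : Function.Surjective q := QuotientGroup.mk'_surjective _
  have hOF : oddCore X ≤ F.ker := fun x hx => (hker x).2 (Or.inl hx)
  let f : X ⧸ oddCore X →* K := QuotientGroup.lift (oddCore X) F hOF
  have hfq : ∀ x, f (q x) = F x := fun x => rfl
  have hqt : ∀ x, q x = q (tX) ↔ x * tX ∈ oddCore X := by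
    intro x
    constructor
    · intro h1
      have h3 : q (x * tX) = 1 := by rw [map_mul, h1, ← map_mul, htt, map_one]
      exact (QuotientGroup.eq_one_iff _).1 h3
    · intro h1
      have h3 : q (x * tX) = 1 := (QuotientGroup.eq_one_iff _).2 h1
      rw [map_mul] at h3
      have h4 : q (tX) * q (tX) = 1 := by rw [← map_mul, htt, map_one]
      exact mul_right_cancel (h3.trans h4.symm)
  have hkerf : ∀ y, f y = 1 ↔ y = 1 ∨ y = q (tX) := by
    intro y
    obtain ⟨x, rfl⟩ := hq y
    rw [hfq, hker, hqt]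
    exact or_congr (QuotientGroup.eq_one_iff x).symm Iff.rfl
  have hf : Function.Surjective f := fun k => by
    obtain ⟨x, hx⟩ := hF k
    exact ⟨q x, hx⟩
  -- the component
  let M : Subgroup (X ⧸ oddCore X) := N.comap f
  have hMn : M.Normal := hN.comap f
  have htF : F (tX) = 1 := (hker _).2 (Or.inr (by rw [htt]; exact one_mem _))
  have htM : q (tX) ∈ M := by
    show f (q (tX)) ∈ N
    rw [hfq, htF]
    exact one_mem _
  let g : M →* N := (f.comp M.subtype).codRestrict N (fun m => m.2)
  have hgv : ∀ m : M, ((g m : N) : K) = f m := fun m => rfl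
  have hg : Function.Surjective g := by
    intro x
    obtain ⟨y, hy⟩ := hf x
    exact ⟨⟨y, by show f y ∈ N; rw [hy]; exact x.2⟩, Subtype.ext hy⟩
  have hMq := nonsplit hna hg (z := ⟨q (tX), htM⟩)
    (by
      intro h1
      have h3 : q (tX) = 1 := congrArg Subtype.val h1
      exact htO ((QuotientGroup.eq_one_iff _).1 h3))
    (by
      intro m
      obtain ⟨x, hx⟩ := hq (m : X ⧸ oddCore X)
      apply Subtype.ext
      show (m : X ⧸ oddCore X) * q (tX) = q (tX) * m
      rw [← hx, ← map_mul, ← map_mul, htc])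
    (by
      intro m
      rw [← Subtype.coe_inj, hgv]
      show f m = 1 ↔ _
      rw [hkerf]
      exact or_congr ⟨fun h => Subtype.ext h, fun h => congrArg Subtype.val h⟩
        ⟨fun h => Subtype.ext h, fun h => congrArg Subtype.val h⟩)
    (by
      have h1 : (⟨q (tX), htM⟩ : M) = ⁅(⟨q a, haN⟩ : M), (⟨q b, hbN⟩ : M)⁆ := by
        apply Subtype.ext
        show q (tX) = ⁅q a, q b⁆
        rw [← map_commutatorElement, hab]
      rw [h1]
      exact commutator_mem_commutator (mem_top _) (mem_top _))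
  have hMc : IsComponent M := ⟨hMn.isSubnormal, hMq.1⟩
  obtain ⟨hK0, hK0m⟩ := Lib.PComponents.isPComponent_pElem_comap (p := 2) hMc
  set K0 : Subgroup X := Lib.PComponents.pElem 2 (M.comap (QuotientGroup.mk' (pPrimeCore 2 X))) with hK0d
  have hmemK0 : ∀ x : X, F x ∈ N → (∃ k, x ^ 2 ^ k = 1) → x ∈ K0 := by
    rintro x hx ⟨k, hk⟩
    exact Lib.PComponents.mem_pElem (Y := M.comap (QuotientGroup.mk' (pPrimeCore 2 X))) hx hk
  have htK0 : tX ∈ K0 := hmemK0 _ (by rw [htF]; exact one_mem _) ⟨1, by rw [pow_one, pow_two, htt]⟩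
  let L : Subgroup G := K0.map X.subtype
  have hL : IsComp X L := isComp_of_subtype hK0
  have hLX : ∀ l : L, (l : G) ∈ X := fun l => hL.le l.2
  have hLK : ∀ l : L, (⟨l, hLX l⟩ : X) ∈ K0 := by
    rintro ⟨_, x, hx, rfl⟩
    exact hx
  have hKF : ∀ x ∈ K0, F x ∈ N := by
    intro x hx
    have h1 : q x ∈ K0.map q := mem_map_of_mem _ hx
    have h3 : K0.map q = M := hK0m
    rw [h3] at h1
    exact h1
  have hcoreL : ∀ l : L, l ∈ oddCore L ↔ (⟨l, hLX l⟩ : X) ∈ oddCore X := by
    intro l
    rw [Cfsg.Agent.SignalizersComponents.IntrinsicFinal.mem_oddCore_iff hL.tc l]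
    constructor
    · rintro ⟨x, hx, hxl⟩
      have h3 : x = ⟨l, hLX l⟩ := Subtype.ext hxl
      rw [← h3]
      exact hx
    · intro h1
      exact ⟨_, h1, rfl⟩
  let κ : L →* N :=
    { toFun := fun l => ⟨F ⟨l, hLX l⟩, hKF _ (hLK l)⟩
      map_one' := Subtype.ext (map_one F)
      map_mul' := fun x y => Subtype.ext (map_mul F ⟨x, hLX x⟩ ⟨y, hLX y⟩) }
  have hκ : ∀ l : L, ((κ l : N) : K) = F ⟨l, hLX l⟩ := fun _ => rfl
  have hOκ : oddCore L ≤ κ.ker := by
    intro l hl
    rw [MonoidHom.mem_ker]
    apply Subtype.ext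
    rw [hκ]
    exact (hker _).2 (Or.inl ((hcoreL l).1 hl))
  let g' : Bar L →* N := QuotientGroup.lift (oddCore L) κ hOκ
  have hg'v : ∀ l : L, g' (QuotientGroup.mk' _ l) = κ l := fun _ => rfl
  have hg' : Function.Surjective g' := by
    intro x
    obtain ⟨m, hm⟩ := hg x
    have h1 : (m : X ⧸ oddCore X) ∈ K0.map q := by
      have h3 : K0.map q = M := hK0m
      rw [h3]
      exact m.2
    obtain ⟨y, hy, hym⟩ := h1
    refine ⟨QuotientGroup.mk' _ ⟨y, mem_map_of_mem _ hy⟩, ?_⟩
    rw [hg'v]
    apply Subtype.ext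
    rw [hκ, ← hm, hgv, ← hym, hfq]
  have htL : t ∈ L := ⟨tX, htK0, rfl⟩
  let tL : L := ⟨t, htL⟩
  have hbar : ∀ l l' : L, (QuotientGroup.mk' (oddCore L) l = QuotientGroup.mk' (oddCore L) l') ↔
      l * l'⁻¹ ∈ oddCore L := by
    intro l l'
    rw [← QuotientGroup.eq_one_iff (l * l'⁻¹), ← QuotientGroup.mk'_apply, map_mul, map_inv, mul_inv_eq_one]
  have htLinv : tL⁻¹ = tL := by
    apply inv_eq_of_mul_eq_one_left
    have h1 : t * t = 1 := congrArg Subtype.val htt
    exact Subtype.ext h1
  have hfin := nonsplit hna hg' (z := QuotientGroup.mk' _ tL)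
    (by
      intro h1
      exact htO ((hcoreL tL).1 ((QuotientGroup.eq_one_iff _).1 h1)))
    (by
      intro m
      obtain ⟨l, rfl⟩ := QuotientGroup.mk'_surjective _ m
      rw [← map_mul, ← map_mul]
      congr 1
      exact Subtype.ext (hcent l (hLX l)))
    (by
      intro m
      obtain ⟨l, rfl⟩ := QuotientGroup.mk'_surjective _ m
      rw [hg'v, ← Subtype.coe_inj, hκ]
      show F _ = 1 ↔ _
      rw [hker, hbar, htLinv, hcoreL]
      refine or_congr ?_ Iff.rfl
      rw [← hcoreL]
      exact (QuotientGroup.eq_one_iff l).symm)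
    (by
      have h1 : QuotientGroup.mk' (oddCore L) tL =
          ⁅QuotientGroup.mk' (oddCore L) ⟨a, mem_map_of_mem _ (hmemK0 a haN ha)⟩,
            QuotientGroup.mk' (oddCore L) ⟨b, mem_map_of_mem _ (hmemK0 b hbN hb)⟩⁆ := by
        rw [← map_commutatorElement]
        congr 1
        exact Subtype.ext (congrArg Subtype.val hab).symm
      rw [h1]
      exact commutator_mem_commutator (mem_top _) (mem_top _))
  subst hX
  exact ⟨n, t, L, hn, ⟨ht, hL⟩, htL, hfin.2.1, ⟨hfin.2.2.1.some.trans e⟩, hfin.2.2.2⟩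

end comp

end Cfsg.Agent.LFourB.KTenCover
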