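import Cfsg.Agent.LFourB.KTenMain
import Cfsg.Agent.GH.AltOut

/-!
# S0510, type `|S| = 2 ^ 7`: from `HasAltCover G` to the order of `McL`
-/

set_option autoImplicit false

open Cfsg Subgroup

universe u

namespace Cfsg.Agent.LFourB.KTenEnd

open M7
open Cfsg.Agent.GH.Defs (HasAltCover)

variable {G : Type u} [Group G] [Finite G]

theorem not_dvd {S : Sylow 2 G} {φ : M7 →* G} (hφ : Emb7 (S : Subgroup G) φ) : ¬ 2 ^ 8 ∣ Nat.card G := by
  have h2 : Fact (Nat.Prime 2) := ⟨Nat.prime_two⟩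
  intro h
  have h1 := S.pow_dvd_card_of_pow_dvd_card h
  rw [hφ.card] at h1
  norm_num at h1

theorem not_comm {S : Sylow 2 G} {φ : M7 →* G} (hφ : Emb7 (S : Subgroup G) φ) : ¬ IsMulCommutative G := by
  intro h
  have h1 : φ (x1 * y1) = φ (y1 * x1) := by
    rw [map_mul, map_mul]
    exact h.is_comm.comm _ _
  have h3 := hφ.inj h1
  revert h3
  decide

theorem core_eq_bot [IsSimpleGroup G] {S : Sylow 2 G} {φ : M7 →* G} (hφ : Emb7 (S : Subgroup G) φ) :
    oddCore G = ⊥ := by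
  have h2 : Fact (Nat.Prime 2) := ⟨Nat.prime_two⟩
  rcases (inferInstance : (oddCore G).Normal).eq_bot_or_eq_top with h | h
  · exact h
  · exfalso
    have h1 := Lib.Cores.pPrimeCore_coprime (G := G) 2
    rw [show pPrimeCore 2 G = ⊤ from h, Subgroup.card_top] at h1
    have h3 : 2 ∣ Nat.card G := by
      refine dvd_trans ?_ (S : Subgroup G).card_subgroup_dvd_card
      rw [hφ.card]
      norm_num
    exact (Nat.Prime.coprime_iff_not_dvd Nat.prime_two).1 h1.symm h3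

/-- **The end of case (b2).** -/
theorem isMcL_of_hasAltCover [IsSimpleGroup G] {S : Sylow 2 G} {φ : M7 →* G}
    (hφ : Emb7 (S : Subgroup G) φ) (h1738 : GH.AltOut.St1738 G)
    (hMcL : Spor.IsoMcL G → Nat.card G = 898128000)
    (hLy : Spor.IsoLy G → Nat.card G = 51765179004000000) (h : HasAltCover G) : IsMcL G := by
  rcases GH.AltOut.mcl_or_ly (not_comm hφ) (core_eq_bot hφ) h1738 h with h1 | h1
  · exact ⟨inferInstance, hMcL h1⟩
  · exfalso
    apply not_dvd hφ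
    rw [hLy h1]
    norm_num

/-- **Case (b2)**, complete. -/
theorem isMcL (h509 : KTenMain.H509.{u}) [IsSimpleGroup G] {S : Sylow 2 G} {φ : M7 →* G}
    (hφ : Emb7 (S : Subgroup G) φ) (h1738 : GH.AltOut.St1738 G)
    (hMcL : Spor.IsoMcL G → Nat.card G = 898128000)
    (hLy : Spor.IsoLy G → Nat.card G = 51765179004000000)
    (htr1 : ∀ u v : M7, u ∈ V1 → KTenModel.eqz u 1 = false → v ∈ V1 → KTenModel.eqz v 1 = false →
      ∃ h : G, h * φ z = φ z * h ∧ h ∈ normalizer ((V1.map φ : Subgroup G) : Set G) ∧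
        (h * φ u * h⁻¹ = φ v ∨ h * φ u * h⁻¹ = φ (v * z)))
    (htr2 : ∀ u v : M7, u ∈ V2 → KTenModel.eqz u 1 = false → v ∈ V2 → KTenModel.eqz v 1 = false →
      ∃ h : G, h * φ z = φ z * h ∧ h ∈ normalizer ((V2.map φ : Subgroup G) : Set G) ∧
        (h * φ u * h⁻¹ = φ v ∨ h * φ u * h⁻¹ = φ (v * z))) : IsMcL G :=
  isMcL_of_hasAltCover hφ h1738 hMcL hLy (KTenMain.hasAltCover h509 hφ htr1 htr2)

end Cfsg.Agent.LFourB.KTenEnd
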