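import Cfsg.Agent.LFourB.KTenModel
import Cfsg.Agent.LFourB.KTenCover
import Cfsg.Agent.SylowL5.LiftQuot

/-!
# S0510, type `|S| = 2 ^ 7`, case (b2) (the branch of `McL`)

* `exists_simple`: the group `K = C_G(z) / O(C_G(z))⟨z⟩` has a normal subgroup `A_8` or `A_9` containing
  a Sylow 2-subgroup (S0509 is a hypothesis);
* `hasAltCover`: hence `G` has a 2-component `2.A_n` in `C_G(z)`, `n = 8` or `9`, containing `z`.
-/

set_option autoImplicit false

open Cfsg Subgroup

universe u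

namespace Cfsg.Agent.LFourB.KTenMain

open M7 K4
open Cfsg.Agent.GH.Defs (TypeSp4 SylOf HasAltCover)
open Cfsg.Agent.LFourB.KTenCore Cfsg.Agent.LFourB.KTenModel
open Cfsg.Agent.StdL2.G23Aut (Oct)
open scoped commutatorElement

/-- S0509. -/
def H509 : Prop :=
  ∀ (N : Type u) [Group N] [Finite N] [IsSimpleGroup N] (F : Type) [Field F] [Fintype F],
    Odd (Fintype.card F) → ∀ (S : Sylow 2 N) (P : Sylow 2 (Cfsg.PSp 2 F)),
    Nonempty ((S : Subgroup N) ≃* (P : Subgroup (Cfsg.PSp 2 F))) →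
    (∃ (K : Type) (_ : Field K) (_ : Fintype K), Odd (Fintype.card K) ∧ Nonempty (N ≃* Cfsg.PSp 2 K)) ∨
      Nonempty (N ≃* alternatingGroup (Fin 8)) ∨ Nonempty (N ≃* alternatingGroup (Fin 9))

/-- The conclusion on `K`. -/
def Good {K : Type u} [Group K] (T : Subgroup K) : Prop :=
  ∃ N : Subgroup K, N.Normal ∧ IsSimpleGroup N ∧ T ≤ N ∧ ∃ n, (n = 8 ∨ n = 9) ∧
    Nonempty (N ≃* alternatingGroup (Fin n))

/-- The dichotomy for `K`. -/
theorem normal_or_good (h509 : H509.{u}) {K : Type u} [Group K] [Finite K] {π : M7 →* K} (T : Sylow 2 K)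
    (h : KerZ π) (hr : π.range = (T : Subgroup K)) (hO : oddCore K = ⊥)
    (htr : ∀ u v : M7, u ∈ V1 → eqz u 1 = false → v ∈ V1 → eqz v 1 = false →
      ∃ k ∈ normalizer ((V1.map π : Subgroup K) : Set K), k * π u * k⁻¹ = π v) :
    (V1.map π).Normal ∨ Good (T : Subgroup K) := by
  have hcfg := cfg_of T h hr hO htr
  rcases hcfg.dichotomy with hE | ⟨N, hN, hNs, hTN, hconj⟩
  · exact Or.inl hE
  right
  obtain ⟨F, _, _, hF, P, ⟨e⟩⟩ : TypeSp4 (T : Subgroup K) := by
    rw [← hr]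
    exact typeSp4 (kerZ_rangeRestrict h) π.rangeRestrict_surjective
  obtain ⟨PN, hPN⟩ := exists_sylow_normal T N hN
  have e' : (PN : Subgroup N) ≃* (P : Subgroup (Cfsg.PSp 2 F)) :=
    ((MulEquiv.subgroupCongr hPN).trans (subgroupOfEquivOfLe hTN)).trans e
  rcases h509 N F hF PN P ⟨e'⟩ with ⟨F', _, _, hF', ⟨e1⟩⟩ | e1 | e1
  · exfalso
    have h2 : (2 : F') ≠ 0 := (ClassicalGeometry.PSL2Basic.two_ne_zero_iff_odd F').2 hF'
    have hEN : V1.map π ≤ N := hcfg.le_T.trans hTN
    have hEN' : ∀ x : Cfsg.PSp 2 F', x ∈ ((V1.map π).subgroupOf N).map e1.toMonoidHom ↔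
        ((e1.symm x : N) : K) ∈ V1.map π := by
      intro x
      constructor
      · rintro ⟨y, hy, rfl⟩
        show ((e1.symm (e1 y) : N) : K) ∈ _
        rw [MulEquiv.symm_apply_apply]
        exact hy
      · intro hx
        exact ⟨e1.symm x, hx, e1.apply_symm_apply x⟩
    apply PSpOct.false_of_oct h2 (((V1.map π).subgroupOf N).map e1.toMonoidHom)
    · constructor
      · rw [Subgroup.card_map_of_injective (f := e1.toMonoidHom) e1.injective, ← hcfg.oct.card]
        exact Nat.card_congr (subgroupOfEquivOfLe hEN).toEquiv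
      · intro x hx
        have h3 := hcfg.oct.sq _ ((hEN' x).1 hx)
        have h4 : e1.symm x * e1.symm x = 1 := Subtype.ext h3
        rw [← map_mul] at h4
        exact (map_eq_one_iff e1.symm e1.symm.injective).1 h4
    · intro u hu hu1 v hv hv1
      have hne : ∀ x : Cfsg.PSp 2 F', x ≠ 1 → ((e1.symm x : N) : K) ≠ 1 := by
        intro x hx h3
        apply hx
        have h4 : e1.symm x = 1 := Subtype.ext h3
        exact (map_eq_one_iff e1.symm e1.symm.injective).1 h4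
      obtain ⟨m, hm, hmv⟩ := hconj _ ((hEN' u).1 hu) (hne u hu1) _ ((hEN' v).1 hv) (hne v hv1)
      refine ⟨e1 ⟨m, hm⟩, ?_⟩
      have h3 : (⟨m, hm⟩ : N) * e1.symm u * (⟨m, hm⟩ : N)⁻¹ = e1.symm v := Subtype.ext hmv
      have h4 := congrArg e1 h3
      rw [map_mul, map_mul, map_inv, MulEquiv.apply_symm_apply, MulEquiv.apply_symm_apply] at h4
      exact h4
  · exact ⟨N, hN, hNs, hTN, 8, Or.inl rfl, e1⟩
  · exact ⟨N, hN, hNs, hTN, 9, Or.inr rfl, e1⟩

theorem swap_z : swap z = z := by decide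
theorem swap_V1 : ∀ x : M7, swap x ∈ V2 ↔ x ∈ V1 := by decide +kernel
theorem map_swap : V1.map swap.toMonoidHom = V2 := by
  ext x
  constructor
  · rintro ⟨y, hy, rfl⟩
    exact (swap_V1 y).2 hy
  · intro hx
    refine ⟨swap x, ?_, sw_sw x⟩
    have h1 : swap (swap x) ∈ V2 := by
      rw [show swap (swap x) = x from sw_sw x]
      exact hx
    exact (swap_V1 _).1 h1
theorem eqz_swap : ∀ x : M7, eqz (swap x) 1 = eqz x 1 := by decide +kernel
theorem x1_V2 : ∀ x : M7, x ∈ V2 → eqz x1 x = false := by decide +kernel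
theorem comm_x1_y1 : ⁅x1, y1⁆ = z := by decide +kernel
theorem ze_mem : ze ∈ V1 ∧ ze ∈ V2 ∧ eqz ze 1 = false ∧ x1 ∈ V1 ∧ eqz x1 1 = false ∧
    eqz (r1 * q1) (q1 * r1) = false := by decide +kernel

/-- Case (b2). -/
theorem good (h509 : H509.{u}) {K : Type u} [Group K] [Finite K] {π : M7 →* K} (T : Sylow 2 K)
    (h : KerZ π) (hr : π.range = (T : Subgroup K)) (hO : oddCore K = ⊥)
    (htr1 : ∀ u v : M7, u ∈ V1 → eqz u 1 = false → v ∈ V1 → eqz v 1 = false →
      ∃ k ∈ normalizer ((V1.map π : Subgroup K) : Set K), k * π u * k⁻¹ = π v)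
    (htr2 : ∀ u v : M7, u ∈ V2 → eqz u 1 = false → v ∈ V2 → eqz v 1 = false →
      ∃ k ∈ normalizer ((V2.map π : Subgroup K) : Set K), k * π u * k⁻¹ = π v) :
    Good (T : Subgroup K) := by
  rcases normal_or_good h509 T h hr hO htr1 with h1 | h1
  swap
  · exact h1
  have hm : V1.map (π.comp swap.toMonoidHom) = V2.map π := by
    rw [← Subgroup.map_map, map_swap]
  have h2 : (V1.map (π.comp swap.toMonoidHom)).Normal ∨ Good (T : Subgroup K) := by
    refine normal_or_good h509 T ?_ ?_ hO ?_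
    · intro x
      show π (swap x) = 1 ↔ _
      rw [h]
      constructor
      · rintro (h3 | h3)
        · left
          exact (map_eq_one_iff swap swap.injective).1 h3
        · right
          apply swap.injective
          rw [h3, swap_z]
      · rintro (rfl | rfl)
        · exact Or.inl (map_one _)
        · exact Or.inr swap_z
    · rw [MonoidHom.range_comp, MonoidHom.range_eq_top.2 swap.surjective, ← MonoidHom.range_eq_map, hr]
    · intro u v hu hu1 hv hv1
      rw [hm]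
      exact htr2 (swap u) (swap v) ((swap_V1 u).2 hu) (by rw [eqz_swap]; exact hu1)
        ((swap_V1 v).2 hv) (by rw [eqz_swap]; exact hv1)
  rcases h2 with h2 | h2
  swap
  · exact h2
  exfalso
  rw [hm] at h2
  obtain ⟨hz1, hz2, hz3, hx1, hx2, -⟩ := ze_mem
  obtain ⟨k, hk, hkx⟩ := htr1 ze x1 hz1 hz3 hx1 hx2
  have h3 : π x1 ∈ V2.map π := by
    rw [← hkx]
    exact h2.conj_mem _ (mem_map_of_mem _ hz2) k
  obtain ⟨y, hy, hyx⟩ := h3
  have h4 := (map_eq_iff h).1 hyx.symm
  rw [x1_V2 y hy] at h4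
  exact absurd h4 (by decide)

/-! ### The quotient `C_G(z) / O(C_G(z))⟨z⟩` -/

section quot

variable {X : Type u} [Group X] [Finite X]

theorem inf_core_eq_one (S : Sylow 2 X) {x : X} (hx : x ∈ (S : Subgroup X)) (hxO : x ∈ oddCore X) :
    x = 1 := by
  have h2 : Fact (Nat.Prime 2) := ⟨Nat.prime_two⟩
  have hdis : Disjoint (S : Subgroup X) (pPrimeCore 2 X) := by
    apply Subgroup.disjoint_of_coprime_natCard
    obtain ⟨n, hn⟩ := IsPGroup.iff_card.mp S.isPGroup'
    rw [hn]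
    exact (Lib.Cores.pPrimeCore_coprime (G := X) 2).symm.pow_left n
  exact Subgroup.mem_bot.1 (hdis.le_bot ⟨hx, hxO⟩)

/-- `K = X / O(X)⟨z⟩` for a central involution `z`. -/
theorem exists_quot {φ : M7 →* X} (hz : ∀ x, x * φ z = φ z * x) :
    ∃ (K : Type u) (_ : Group K) (_ : Finite K) (F : X →* K), Function.Surjective F ∧
      (∀ x, F x = 1 ↔ x ∈ oddCore X ∨ x * φ z ∈ oddCore X) ∧ oddCore K = ⊥ := by
  have h2 : Fact (Nat.Prime 2) := ⟨Nat.prime_two⟩
  let q : X →* X ⧸ oddCore X := QuotientGroup.mk' (oddCore X)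
  have hq : Function.Surjective q := QuotientGroup.mk'_surjective _
  have hzz : φ z * φ z = 1 := by
    rw [← map_mul, show z * z = 1 by decide, map_one]
  have hqz : q (φ z) * q (φ z) = 1 := by rw [← map_mul, hzz, map_one]
  let Z : Subgroup (X ⧸ oddCore X) := zpowers (q (φ z))
  have hZ : ∀ y, y ∈ Z ↔ y = 1 ∨ y = q (φ z) := by
    intro y
    constructor
    · intro hy
      obtain ⟨k, rfl⟩ := mem_zpowers_iff.1 hy
      rcases Int.even_or_odd' k with ⟨c, rfl | rfl⟩
      · left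
        rw [zpow_mul, zpow_two, hqz, one_zpow]
      · right
        rw [zpow_add, zpow_mul, zpow_two, hqz, one_zpow, one_mul, zpow_one]
    · rintro (rfl | rfl)
      · exact one_mem _
      · exact mem_zpowers _
  have hZc : ∀ y ∈ Z, ∀ x : X ⧸ oddCore X, y * x = x * y := by
    intro y hy x
    rcases (hZ y).1 hy with rfl | rfl
    · rw [one_mul, mul_one]
    · obtain ⟨w, rfl⟩ := hq x
      rw [← map_mul, ← map_mul, hz]
  have hZn : Z.Normal := ⟨fun y hy x => by rw [← hZc y hy x, mul_inv_cancel_right]; exact hy⟩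
  have hZ2 : IsPGroup 2 Z := by
    intro y
    refine ⟨1, Subtype.ext ?_⟩
    show (y : X ⧸ oddCore X) ^ 2 ^ 1 = 1
    rcases (hZ y).1 y.2 with h | h
    · rw [h, one_pow]
    · rw [h, pow_one, pow_two, hqz]
  refine ⟨(X ⧸ oddCore X) ⧸ Z, inferInstance, inferInstance, (QuotientGroup.mk' Z).comp q,
    (QuotientGroup.mk'_surjective Z).comp hq, ?_, ?_⟩
  · intro x
    show QuotientGroup.mk' Z (q x) = 1 ↔ _
    rw [QuotientGroup.mk'_apply, QuotientGroup.eq_one_iff, hZ]
    refine or_congr (QuotientGroup.eq_one_iff x) ?_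
    constructor
    · intro h1
      have h3 : q (x * φ z) = 1 := by rw [map_mul, h1, hqz]
      exact (QuotientGroup.eq_one_iff _).1 h3
    · intro h1
      have h3 : q (x * φ z) = 1 := (QuotientGroup.eq_one_iff _).2 h1
      rw [map_mul] at h3
      exact mul_right_cancel (h3.trans hqz.symm)
  · have h1 := SylowL5.LiftQuot.comap_core_le (Y := X ⧸ oddCore X) (Z := Z) hZc hZ2
    rw [Lib.PComponents.pPrimeCore_quotient_eq_bot 2, bot_sup_eq] at h1
    rw [eq_bot_iff]
    intro k hk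
    obtain ⟨y, rfl⟩ := QuotientGroup.mk'_surjective Z k
    have h3 : y ∈ Z := h1 hk
    rw [mem_bot, QuotientGroup.mk'_apply, QuotientGroup.eq_one_iff]
    exact h3

theorem kerZ_of {S : Sylow 2 X} {φ : M7 →* X} (hφ : Emb7 (S : Subgroup X) φ) {K : Type*} [Group K]
    {F : X →* K} (hker : ∀ x, F x = 1 ↔ x ∈ oddCore X ∨ x * φ z ∈ oddCore X) : KerZ (F.comp φ) := by
  intro x
  show F (φ x) = 1 ↔ _
  have h3 : ∀ y : M7, φ y ∈ oddCore X → y = 1 := by
    intro y hy
    have h4 := inf_core_eq_one S (hφ.mem y) hy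
    exact (map_eq_one_iff φ hφ.inj).1 h4
  have hzz : z * z = 1 := by decide
  rw [hker, ← map_mul]
  constructor
  · rintro (h1 | h1)
    · exact Or.inl (h3 x h1)
    · right
      have h4 := h3 _ h1
      exact mul_right_cancel (h4.trans hzz.symm)
  · rintro (rfl | rfl)
    · left
      rw [map_one]
      exact one_mem _
    · right
      rw [hzz, map_one]
      exact one_mem _

omit [Finite X] in
theorem trans_of {φ : M7 →* X} {K : Type*} [Group K] {F : X →* K} {V : Subgroup M7}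
    (hker : ∀ x, F x = 1 ↔ x ∈ oddCore X ∨ x * φ z ∈ oddCore X) {u v : M7}
    (h : ∃ h ∈ normalizer ((V.map φ : Subgroup X) : Set X),
      h * φ u * h⁻¹ = φ v ∨ h * φ u * h⁻¹ = φ (v * z)) :
    ∃ k ∈ normalizer ((V.map (F.comp φ) : Subgroup K) : Set K), k * F (φ u) * k⁻¹ = F (φ v) := by
  obtain ⟨x, hx, hxu⟩ := h
  have hzz : z * z = 1 := by decide
  have hFz : F (φ z) = 1 := by
    rw [hker]
    right
    rw [← map_mul, hzz, map_one]
    exact one_mem _
  refine ⟨F x, ?_, ?_⟩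
  · have hgen : ∀ y ∈ normalizer ((V.map φ : Subgroup X) : Set X), ∀ g : K,
        g ∈ V.map (F.comp φ) → F y * g * (F y)⁻¹ ∈ V.map (F.comp φ) := by
      rintro y hy _ ⟨w, hw, rfl⟩
      obtain ⟨w', hw', hww⟩ := (mem_normalizer_iff.1 hy (φ w)).1 (mem_map_of_mem _ hw)
      refine ⟨w', hw', ?_⟩
      show F (φ w') = F y * F (φ w) * (F y)⁻¹
      rw [hww, map_mul, map_mul, map_inv]
    rw [mem_normalizer_iff]
    intro g
    constructor
    · exact hgen x hx g
    · intro hg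
      have h1 := hgen x⁻¹ (inv_mem hx) _ hg
      have h3 : F x⁻¹ * (F x * g * (F x)⁻¹) * (F x⁻¹)⁻¹ = g := by
        rw [map_inv]
        group
      rwa [h3] at h1
  · rw [← map_inv, ← map_mul, ← map_mul]
    rcases hxu with h1 | h1
    · rw [h1]
    · rw [h1, map_mul, map_mul, hFz, mul_one]

end quot

/-- **Case (b2)**: `C_G(z)` has a 2-component `2.A_8` or `2.A_9` containing `z`. -/
theorem hasAltCover (h509 : H509.{u}) {G : Type u} [Group G] [Finite G] {S : Sylow 2 G} {φ : M7 →* G}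
    (hφ : Emb7 (S : Subgroup G) φ)
    (htr1 : ∀ u v : M7, u ∈ V1 → eqz u 1 = false → v ∈ V1 → eqz v 1 = false →
      ∃ h : G, h * φ z = φ z * h ∧ h ∈ normalizer ((V1.map φ : Subgroup G) : Set G) ∧
        (h * φ u * h⁻¹ = φ v ∨ h * φ u * h⁻¹ = φ (v * z)))
    (htr2 : ∀ u v : M7, u ∈ V2 → eqz u 1 = false → v ∈ V2 → eqz v 1 = false →
      ∃ h : G, h * φ z = φ z * h ∧ h ∈ normalizer ((V2.map φ : Subgroup G) : Set G) ∧
        (h * φ u * h⁻¹ = φ v ∨ h * φ u * h⁻¹ = φ (v * z))) : HasAltCover G := by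
  have h2 : Fact (Nat.Prime 2) := ⟨Nat.prime_two⟩
  have hzc : ∀ x : M7, φ x * φ z = φ z * φ x := fun x => by rw [← map_mul, ← map_mul, z_comm]
  have hmem : ∀ x : M7, φ x ∈ centralizer ({φ z} : Set G) := fun x =>
    mem_centralizer_singleton_iff.2 (hzc x)
  have hSX : (S : Subgroup G) ≤ centralizer ({φ z} : Set G) := by
    rw [← hφ.range]
    rintro _ ⟨x, rfl⟩
    exact hmem x
  let φX : M7 →* centralizer ({φ z} : Set G) := φ.codRestrict _ hmem
  have hφX : ∀ x, ((φX x : centralizer ({φ z} : Set G)) : G) = φ x := fun _ => rfl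
  let SX : Sylow 2 (centralizer ({φ z} : Set G)) := S.subtype hSX
  have hEX : Emb7 (SX : Subgroup (centralizer ({φ z} : Set G))) φX := by
    constructor
    · intro x y hxy
      exact hφ.inj (congrArg Subtype.val hxy)
    · ext y
      constructor
      · rintro ⟨x, rfl⟩
        exact hφ.mem x
      · intro hy
        obtain ⟨x, hx⟩ := hφ.exists_eq (g := (y : G)) hy
        exact ⟨x, Subtype.ext hx⟩
  obtain ⟨K, _, _, F, hF, hker, hO⟩ := exists_quot (φ := φX) (fun x =>
    Subtype.ext (mem_centralizer_singleton_iff.1 x.2))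
  have hkz := kerZ_of hEX hker
  let T : Sylow 2 K := SX.mapSurjective hF
  have hr : (F.comp φX).range = (T : Subgroup K) := by
    rw [MonoidHom.range_comp, hEX.range]
    rfl
  -- transitivity
  have hnorm : ∀ V : Subgroup M7, ∀ h : G, ∀ hc : h ∈ centralizer ({φ z} : Set G),
      h ∈ normalizer ((V.map φ : Subgroup G) : Set G) →
      (⟨h, hc⟩ : centralizer ({φ z} : Set G)) ∈ normalizer ((V.map φX : Subgroup _) : Set _) := by
    intro V h hc hn
    have hiff : ∀ g : centralizer ({φ z} : Set G), g ∈ V.map φX ↔ (g : G) ∈ V.map φ := by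
      intro g
      constructor
      · rintro ⟨x, hx, rfl⟩
        exact ⟨x, hx, rfl⟩
      · rintro ⟨x, hx, hxg⟩
        exact ⟨x, hx, Subtype.ext hxg⟩
    rw [mem_normalizer_iff]
    intro g
    rw [hiff, hiff]
    exact mem_normalizer_iff.1 hn g
  have htr : ∀ V : Subgroup M7,
      (∀ u v : M7, u ∈ V → eqz u 1 = false → v ∈ V → eqz v 1 = false →
        ∃ h : G, h * φ z = φ z * h ∧ h ∈ normalizer ((V.map φ : Subgroup G) : Set G) ∧
          (h * φ u * h⁻¹ = φ v ∨ h * φ u * h⁻¹ = φ (v * z))) →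
      ∀ u v : M7, u ∈ V → eqz u 1 = false → v ∈ V → eqz v 1 = false →
        ∃ k ∈ normalizer ((V.map (F.comp φX) : Subgroup K) : Set K), k * F (φX u) * k⁻¹ = F (φX v) := by
    intro V hV u v hu hu1 hv hv1
    obtain ⟨h, hc, hn, huv⟩ := hV u v hu hu1 hv hv1
    refine trans_of hker ⟨⟨h, mem_centralizer_singleton_iff.2 hc⟩, hnorm V h _ hn, ?_⟩
    rcases huv with h1 | h1
    · exact Or.inl (Subtype.ext h1)
    · exact Or.inr (Subtype.ext h1)
  obtain ⟨N, hN, hNs, hTN, n, hn, ⟨e⟩⟩ := good h509 T hkz hr hO (htr V1 htr1) (htr V2 htr2)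
  have hπN : ∀ x : M7, F (φX x) ∈ N := fun x => hTN (by
    rw [← hr]
    exact ⟨x, rfl⟩)
  have hpow : ∀ x : M7, ∃ k, φX x ^ 2 ^ k = 1 := by
    intro x
    obtain ⟨k, hk⟩ := SX.isPGroup' ⟨φX x, hEX.mem x⟩
    exact ⟨k, congrArg Subtype.val hk⟩
  have hord : orderOf (φ z) = 2 := by
    rw [orderOf_injective φ hφ.inj]
    exact orderOf_eq_prime (by decide) (by decide)
  refine KTenCover.hasAltCover_of (X := centralizer ({φ z} : Set G)) rfl (hmem z) hord hF hker hN
    ⟨⟨_, hπN r1⟩, ⟨_, hπN q1⟩, ?_⟩ (n := n) (by rcases hn with rfl | rfl <;> norm_num) e (hpow x1) (hpow y1)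
    (hπN x1) (hπN y1) ?_
  · intro h1
    have h3 : (F.comp φX) (r1 * q1) = (F.comp φX) (q1 * r1) := by
      rw [map_mul, map_mul]
      exact congrArg Subtype.val h1
    have h4 := (map_eq_iff hkz).1 h3
    rw [ze_mem.2.2.2.2.2] at h4
    exact absurd h4 (by decide)
  · rw [← map_commutatorElement, comm_x1_y1]
    rfl

end Cfsg.Agent.LFourB.KTenMain
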