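import Mathlib
import Cfsg.Prelude.Def_Classical
import Cfsg.Agent.LieClassical.SympCenter
import Cfsg.Agent.StdL2.G23Aut

/-!
# `PSp_4(F)`, `F` odd, has no elementary abelian subgroup of order 8 with all involutions conjugate
-/

set_option autoImplicit false

open Matrix Subgroup
open Cfsg.Agent.StdL2.G23Aut (Oct)

namespace Cfsg.Agent.LFourB.PSpOct

section mat

variable {F : Type*} [Field F] {n : Type*} [Fintype n] [DecidableEq n]

/-- Three nonzero orthogonal projections of a symplectic space of dimension four. -/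
theorem false_of_three (hn : Fintype.card n < 6) {Jm : Matrix n n F} (hJT : Jmᵀ = -Jm) (hJJ : Jm * Jm = -1)
    (h2 : (2 : F) ≠ 0) {P : Fin 3 → Matrix n n F} (hT : ∀ i, (P i)ᵀ * Jm = Jm * P i)
    (h0 : ∀ i j, i ≠ j → P i * P j = 0) (h4 : ∀ i, P i * P i = (4 : F) • P i) (hne : ∀ i, P i ≠ 0) :
    False := by
  have h40 : (4 : F) ≠ 0 := by
    have : (4 : F) = 2 * 2 := by norm_num
    rw [this]
    exact mul_ne_zero h2 h2
  -- the form
  have hskew : ∀ x y : n → F, x ⬝ᵥ (Jm *ᵥ y) = -(y ⬝ᵥ (Jm *ᵥ x)) := by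
    intro x y
    rw [dotProduct_mulVec, ← mulVec_transpose, hJT, neg_mulVec, neg_dotProduct, dotProduct_comm]
  have halt : ∀ x : n → F, x ⬝ᵥ (Jm *ᵥ x) = 0 := by
    intro x
    have h1 := hskew x x
    have h3 : 2 * (x ⬝ᵥ (Jm *ᵥ x)) = 0 := by linear_combination h1
    exact (mul_eq_zero.1 h3).resolve_left h2
  have hadj : ∀ i (x y : n → F), x ⬝ᵥ (Jm *ᵥ (P i *ᵥ y)) = (P i *ᵥ x) ⬝ᵥ (Jm *ᵥ y) := by
    intro i x y
    rw [mulVec_mulVec, ← hT i, ← mulVec_mulVec, dotProduct_mulVec, vecMul_transpose]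
  have horth : ∀ i j, i ≠ j → ∀ x y : n → F, (P i *ᵥ x) ⬝ᵥ (Jm *ᵥ (P j *ᵥ y)) = 0 := by
    intro i j hij x y
    rw [hadj, mulVec_mulVec, h0 j i (Ne.symm hij), zero_mulVec, zero_dotProduct]
  -- hyperbolic pairs
  have hex : ∀ i, ∃ a b : n → F, (P i *ᵥ a) ⬝ᵥ (Jm *ᵥ (P i *ᵥ b)) ≠ 0 := by
    intro i
    obtain ⟨a, ha⟩ : ∃ a : n → F, P i *ᵥ a ≠ 0 := by
      by_contra hcon
      push Not at hcon
      apply hne i
      exact Matrix.ext_of_mulVec_single fun j => by rw [hcon, zero_mulVec]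
    obtain ⟨k, hk⟩ := Function.ne_iff.1 ha
    refine ⟨a, -(Jm *ᵥ Pi.single k 1), ?_⟩
    rw [hadj, mulVec_mulVec, h4, smul_mulVec, smul_dotProduct]
    apply smul_ne_zero h40
    rw [mulVec_neg, mulVec_mulVec, hJJ, neg_mulVec, one_mulVec, neg_neg, dotProduct_single, mul_one]
    exact hk
  choose a b hab using hex
  have hli : LinearIndependent F (Sum.elim (fun i : Fin 3 => P i *ᵥ a i) (fun i : Fin 3 => P i *ᵥ b i)) := by
    rw [Fintype.linearIndependent_iff]
    intro g hg
    rw [Fintype.sum_sum_type] at hg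
    simp only [Sum.elim_inl, Sum.elim_inr] at hg
    rintro (j | j)
    · have h1 := congrArg (fun v => v ⬝ᵥ (Jm *ᵥ (P j *ᵥ b j))) hg
      simp only [add_dotProduct, sum_dotProduct, smul_dotProduct, zero_dotProduct] at h1
      rw [Finset.sum_eq_single j (fun i _ hij => by rw [horth i j hij, smul_zero]) (by simp),
        Finset.sum_eq_zero (fun i _ => by
          by_cases hij : i = j
          · subst hij; rw [halt, smul_zero]
          · rw [horth i j hij, smul_zero]), add_zero, smul_eq_mul] at h1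
      exact (mul_eq_zero.1 h1).resolve_right (hab j)
    · have h1 := congrArg (fun v => v ⬝ᵥ (Jm *ᵥ (P j *ᵥ a j))) hg
      simp only [add_dotProduct, sum_dotProduct, smul_dotProduct, zero_dotProduct] at h1
      rw [Finset.sum_eq_zero (fun i _ => by
          by_cases hij : i = j
          · subst hij; rw [halt, smul_zero]
          · rw [horth i j hij, smul_zero]),
        Finset.sum_eq_single j (fun i _ hij => by rw [horth i j hij, smul_zero]) (by simp),
        zero_add, smul_eq_mul, hskew] at h1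
      exact (mul_eq_zero.1 h1).resolve_right (neg_ne_zero.2 (hab j))
  have h6 := hli.fintype_card_le_finrank
  rw [Module.finrank_fintype_fun_eq_card, Fintype.card_sum, Fintype.card_fin] at h6
  omega

/-- Two commuting symplectic involutions of a symplectic space of dimension four. -/
theorem eq_of_comm (hn : Fintype.card n < 6) {Jm : Matrix n n F} (hJT : Jmᵀ = -Jm) (hJJ : Jm * Jm = -1)
    (h2 : (2 : F) ≠ 0) {s t : Matrix n n F} (hs : sᵀ * Jm = Jm * s) (ht : tᵀ * Jm = Jm * t)
    (hss : s * s = 1) (htt : t * t = 1) (hst : s * t = t * s) (hs1 : s ≠ 1) (hs2 : s ≠ -1) :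
    t = 1 ∨ t = -1 ∨ t = s ∨ t = -s := by
  by_contra hcon
  push Not at hcon
  obtain ⟨ht1, ht2, ht3, ht4⟩ := hcon
  have h2z : ∀ X : Matrix n n F, X + X = 0 → X = 0 := by
    intro X hX
    rw [← two_smul F X] at hX
    exact (smul_eq_zero.1 hX).resolve_left h2
  let P : Fin 4 → Matrix n n F :=
    ![(1 + s) * (1 + t), (1 + s) * (1 - t), (1 - s) * (1 + t), (1 - s) * (1 - t)]
  have e01 : P 0 = 0 → P 1 = 0 → False := by
    intro h0 h1
    apply hs2
    have h3 : (1 + s) + (1 + s) = P 0 + P 1 := by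
      show _ = (1 + s) * (1 + t) + (1 + s) * (1 - t)
      noncomm_ring
    rw [h0, h1, add_zero] at h3
    exact (neg_eq_of_add_eq_zero_right (h2z _ h3)).symm
  have e23 : P 2 = 0 → P 3 = 0 → False := by
    intro h0 h1
    apply hs1
    have h3 : (1 - s) + (1 - s) = P 2 + P 3 := by
      show _ = (1 - s) * (1 + t) + (1 - s) * (1 - t)
      noncomm_ring
    rw [h0, h1, add_zero] at h3
    exact (sub_eq_zero.1 (h2z _ h3)).symm
  have e02 : P 0 = 0 → P 2 = 0 → False := by
    intro h0 h1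
    apply ht2
    have h3 : (1 + t) + (1 + t) = P 0 + P 2 := by
      show _ = (1 + s) * (1 + t) + (1 - s) * (1 + t)
      noncomm_ring
    rw [h0, h1, add_zero] at h3
    exact (neg_eq_of_add_eq_zero_right (h2z _ h3)).symm
  have e13 : P 1 = 0 → P 3 = 0 → False := by
    intro h0 h1
    apply ht1
    have h3 : (1 - t) + (1 - t) = P 1 + P 3 := by
      show _ = (1 + s) * (1 - t) + (1 - s) * (1 - t)
      noncomm_ring
    rw [h0, h1, add_zero] at h3
    exact (sub_eq_zero.1 (h2z _ h3)).symm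
  have e03 : P 0 = 0 → P 3 = 0 → False := by
    intro h0 h1
    apply ht4
    have h3 : (1 + s * t) + (1 + s * t) = P 0 + P 3 := by
      show _ = (1 + s) * (1 + t) + (1 - s) * (1 - t)
      noncomm_ring
    rw [h0, h1, add_zero] at h3
    have h5 : s * t = -1 := (neg_eq_of_add_eq_zero_right (h2z _ h3)).symm
    calc t = s * (s * t) := by rw [← mul_assoc, hss, one_mul]
      _ = -s := by rw [h5, mul_neg, mul_one]
  have e12 : P 1 = 0 → P 2 = 0 → False := by
    intro h0 h1
    apply ht3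
    have h3 : (1 - s * t) + (1 - s * t) = P 1 + P 2 := by
      show _ = (1 + s) * (1 - t) + (1 - s) * (1 + t)
      noncomm_ring
    rw [h0, h1, add_zero] at h3
    have h5 : s * t = 1 := (sub_eq_zero.1 (h2z _ h3)).symm
    calc t = s * (s * t) := by rw [← mul_assoc, hss, one_mul]
      _ = s := by rw [h5, mul_one]
  obtain ⟨k, hk⟩ : ∃ k, ∀ i, i ≠ k → P i ≠ 0 := by
    by_cases h0 : P 0 = 0
    · refine ⟨0, fun i hi h => ?_⟩
      fin_cases i
      · exact hi rfl
      · exact e01 h0 h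
      · exact e02 h0 h
      · exact e03 h0 h
    by_cases h1 : P 1 = 0
    · refine ⟨1, fun i hi h => ?_⟩
      fin_cases i
      · exact h0 h
      · exact hi rfl
      · exact e12 h1 h
      · exact e13 h1 h
    by_cases h3 : P 2 = 0
    · refine ⟨2, fun i hi h => ?_⟩
      fin_cases i
      · exact h0 h
      · exact h1 h
      · exact hi rfl
      · exact e23 h3 h
    · refine ⟨3, fun i hi h => ?_⟩
      fin_cases i
      · exact h0 h
      · exact h1 h
      · exact h3 h
      · exact hi rfl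
  have hT : ∀ i, (P i)ᵀ * Jm = Jm * P i := by
    have ha : ∀ X Y : Matrix n n F, Xᵀ * Jm = Jm * X → Yᵀ * Jm = Jm * Y → X * Y = Y * X →
        (X * Y)ᵀ * Jm = Jm * (X * Y) := by
      intro X Y hX hY hXY
      rw [transpose_mul, Matrix.mul_assoc, hX, ← Matrix.mul_assoc, hY, Matrix.mul_assoc, hXY]
    have h1s : (1 + s)ᵀ * Jm = Jm * (1 + s) := by
      rw [transpose_add, transpose_one, Matrix.add_mul, hs, Matrix.mul_add, Matrix.one_mul, Matrix.mul_one]
    have h1t : (1 + t)ᵀ * Jm = Jm * (1 + t) := by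
      rw [transpose_add, transpose_one, Matrix.add_mul, ht, Matrix.mul_add, Matrix.one_mul, Matrix.mul_one]
    have h1s' : (1 - s)ᵀ * Jm = Jm * (1 - s) := by
      rw [transpose_sub, transpose_one, Matrix.sub_mul, hs, Matrix.mul_sub, Matrix.one_mul, Matrix.mul_one]
    have h1t' : (1 - t)ᵀ * Jm = Jm * (1 - t) := by
      rw [transpose_sub, transpose_one, Matrix.sub_mul, ht, Matrix.mul_sub, Matrix.one_mul, Matrix.mul_one]
    intro i
    fin_cases i
    · refine ha _ _ h1s h1t ?_
      simp only [add_mul, mul_add, one_mul, mul_one, hst]; abel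
    · refine ha _ _ h1s h1t' ?_
      simp only [add_mul, mul_add, sub_mul, mul_sub, one_mul, mul_one, hst]; abel
    · refine ha _ _ h1s' h1t ?_
      simp only [add_mul, mul_add, sub_mul, mul_sub, one_mul, mul_one, hst]; abel
    · refine ha _ _ h1s' h1t' ?_
      simp only [add_mul, mul_add, sub_mul, mul_sub, one_mul, mul_one, hst]; abel
  have hstt : ∀ X : Matrix n n F, t * (s * X) = s * (t * X) := by
    intro X
    rw [← mul_assoc, ← hst, mul_assoc]
  have hss' : ∀ X : Matrix n n F, s * (s * X) = X := by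
    intro X
    rw [← mul_assoc, hss, one_mul]
  have htt' : ∀ X : Matrix n n F, t * (t * X) = X := by
    intro X
    rw [← mul_assoc, htt, one_mul]
  have h0 : ∀ i j, i ≠ j → P i * P j = 0 := by
    intro i j hij
    fin_cases i <;> fin_cases j <;> first
      | exact absurd rfl hij
      | (simp [P, add_mul, mul_add, sub_mul, mul_sub, mul_assoc, hss, htt, ← hst, hss', htt', hstt]
         try abel)
  have h4 : ∀ i, P i * P i = (4 : F) • P i := by
    intro i
    have h5 : ∀ X : Matrix n n F, (4 : F) • X = X + X + X + X := by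
      intro X
      rw [show (4 : F) = 1 + 1 + 1 + 1 by norm_num, add_smul, add_smul, add_smul, one_smul]
    rw [h5]
    fin_cases i <;>
      (simp [P, add_mul, mul_add, sub_mul, mul_sub, mul_assoc, hss, htt, ← hst, hss', htt', hstt]
       try abel)
  exact false_of_three hn hJT hJJ h2 (P := fun i => P (k.succAbove i)) (fun i => hT _)
    (fun i j hij => h0 _ _ fun h => hij (Fin.succAbove_right_injective h)) (fun i => h4 _)
    (fun i => hk _ (Fin.succAbove_ne k i))

end mat

section grp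

variable {F : Type*} [Field F]

/-- The projection. -/
abbrev pr (F : Type*) [Field F] : symplecticGroup (Fin 2) F →* Cfsg.PSp 2 F :=
  QuotientGroup.mk' (center (symplecticGroup (Fin 2) F))

theorem eq_or_neg {A B : symplecticGroup (Fin 2) F} (h : pr F A = pr F B) : B.1 = A.1 ∨ B.1 = -A.1 := by
  have h1 : A⁻¹ * B ∈ center (symplecticGroup (Fin 2) F) := (QuotientGroup.eq).1 h
  obtain ⟨a, ha⟩ := (LieClassical.SympCenter.mem_center_iff 2 _).1 h1
  have h2 : a * a = 1 := LieClassical.SympCenter.sq_eq_one_of_smul_mem (m := 2) (by norm_num) (ha ▸ (A⁻¹ * B).2)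
  have h3 : B = A * (A⁻¹ * B) := by group
  have h4 : B.1 = A.1 * (A⁻¹ * B).1 := congrArg Subtype.val h3
  rw [ha] at h4
  rcases mul_self_eq_one_iff.1 h2 with rfl | rfl
  · left
    rw [h4, one_smul, mul_one]
  · right
    rw [h4, neg_smul, one_smul, mul_neg, mul_one]

theorem pr_eq_one {A : symplecticGroup (Fin 2) F} (h : A.1 = 1 ∨ A.1 = -1) : pr F A = 1 := by
  rw [QuotientGroup.mk'_apply, QuotientGroup.eq_one_iff, LieClassical.SympCenter.mem_center_iff]
  rcases h with h | h
  · exact ⟨1, by rw [h, one_smul]⟩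
  · exact ⟨-1, by rw [h, neg_smul, one_smul]⟩

theorem pr_eq {A B : symplecticGroup (Fin 2) F} (h : B.1 = A.1 ∨ B.1 = -A.1) : pr F A = pr F B := by
  have h1 : (A⁻¹ * B).1 = 1 ∨ (A⁻¹ * B).1 = -1 := by
    have h2 : (A⁻¹ * B).1 = (A⁻¹).1 * B.1 := rfl
    have h3 : (A⁻¹).1 * A.1 = 1 := congrArg Subtype.val (inv_mul_cancel A)
    rw [h2]
    rcases h with h | h
    · left; rw [h, h3]
    · right; rw [h, mul_neg, h3]
  have h4 := pr_eq_one h1
  rw [map_mul, map_inv] at h4
  exact (inv_mul_eq_one.1 h4)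

theorem sq_cases {A : symplecticGroup (Fin 2) F} (h : pr F A * pr F A = 1) :
    A.1 * A.1 = 1 ∨ A.1 * A.1 = -1 := by
  have h1 : pr F 1 = pr F (A * A) := by rw [map_one, map_mul, h]
  exact eq_or_neg h1

theorem conj_sq {A B C : symplecticGroup (Fin 2) F} (h : pr F C * pr F A * (pr F C)⁻¹ = pr F B) :
    (A.1 * A.1 = 1 → B.1 * B.1 = 1) ∧ (A.1 * A.1 = -1 → B.1 * B.1 = -1) := by
  rw [← map_inv, ← map_mul, ← map_mul] at h
  have h1 : C.1 * (C⁻¹).1 = 1 := congrArg Subtype.val (mul_inv_cancel C)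
  have h2 : (C⁻¹).1 * C.1 = 1 := congrArg Subtype.val (inv_mul_cancel C)
  have h3 : B.1 * B.1 = C.1 * (A.1 * A.1) * (C⁻¹).1 := by
    have h4 : (C * A * C⁻¹).1 = C.1 * A.1 * (C⁻¹).1 := rfl
    have h5 : B.1 * B.1 = (C * A * C⁻¹).1 * (C * A * C⁻¹).1 := by
      rcases eq_or_neg h with h | h
      · rw [h]
      · rw [h, neg_mul_neg]
    rw [h5, h4]
    calc C.1 * A.1 * (C⁻¹).1 * (C.1 * A.1 * (C⁻¹).1)
        = C.1 * A.1 * ((C⁻¹).1 * C.1) * A.1 * (C⁻¹).1 := by simp only [mul_assoc]
      _ = C.1 * (A.1 * A.1) * (C⁻¹).1 := by rw [h2, mul_one]; simp only [mul_assoc]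
  constructor
  · intro h4
    rw [h3, h4, mul_one, h1]
  · intro h4
    rw [h3, h4, mul_neg, mul_one, neg_mul, h1]

theorem adj {A : symplecticGroup (Fin 2) F} (h : A.1 * A.1 = 1) :
    (A.1)ᵀ * J (Fin 2) F = J (Fin 2) F * A.1 := by
  have h1 := SymplecticGroup.mem_iff'.1 A.2
  calc (A.1)ᵀ * J (Fin 2) F = (A.1)ᵀ * J (Fin 2) F * (A.1 * A.1) := by rw [h, mul_one]
    _ = ((A.1)ᵀ * J (Fin 2) F * A.1) * A.1 := by simp only [mul_assoc]
    _ = J (Fin 2) F * A.1 := by rw [h1]

/-- **`PSp_4(F)`, `F` odd, has no elementary abelian subgroup of order 8 whose involutions are all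
conjugate.** -/
theorem false_of_oct [Finite F] (h2 : (2 : F) ≠ 0) (E : Subgroup (Cfsg.PSp 2 F)) (hE : Oct E)
    (hconj : ∀ u ∈ E, u ≠ 1 → ∀ v ∈ E, v ≠ 1 → ∃ g, g * u * g⁻¹ = v) : False := by
  classical
  have hf1 : Finite (symplecticGroup (Fin 2) F) := Subtype.finite
  have hf2 : Finite (Cfsg.PSp 2 F) := Quotient.finite _
  have hsurj : Function.Surjective (pr F) := QuotientGroup.mk'_surjective _
  choose L hL using hsurj
  obtain ⟨u, hu, hu1'⟩ := hE.exists_mem {1} (by simp)
  have hu1 : u ≠ 1 := by simpa using hu1'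
  have hsq : ∀ v ∈ E, (L v).1 * (L v).1 = 1 ∨ (L v).1 * (L v).1 = -1 := by
    intro v hv
    apply sq_cases
    rw [hL, hE.sq v hv]
  have hcv : ∀ v ∈ E, v ≠ 1 → ((L u).1 * (L u).1 = 1 → (L v).1 * (L v).1 = 1) ∧
      ((L u).1 * (L u).1 = -1 → (L v).1 * (L v).1 = -1) := by
    intro v hv hv1
    obtain ⟨g, hg⟩ := hconj u hu hu1 v hv hv1
    apply conj_sq (C := L g)
    rw [hL, hL, hL, hg]
  -- squares of products
  have hprod : ∀ a b : Cfsg.PSp 2 F, (L a).1 * (L b).1 * ((L a).1 * (L b).1) = (L (a * b)).1 * (L (a * b)).1 := by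
    intro a b
    have h3 : pr F (L a * L b) = pr F (L (a * b)) := by rw [map_mul, hL, hL, hL]
    have h4 : (L a * L b).1 = (L a).1 * (L b).1 := rfl
    rw [← h4]
    rcases eq_or_neg h3 with h5 | h5
    · rw [h5]
    · rw [h5, neg_mul_neg]
  rcases hsq u hu with h3 | h3
  · -- everything lifts to involutions
    have hall : ∀ v ∈ E, (L v).1 * (L v).1 = 1 := by
      intro v hv
      by_cases hv1 : v = 1
      · subst hv1
        have h4 : pr F (L 1) = pr F 1 := by rw [hL, map_one]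
        rcases eq_or_neg h4.symm with h5 | h5
        · rw [h5]; exact mul_one _
        · rw [h5, neg_mul_neg]; exact mul_one _
      · exact (hcv v hv hv1).1 h3
    obtain ⟨v, hv, hv'⟩ := hE.exists_mem {1, u} (lt_of_le_of_lt (Finset.card_le_two) (by norm_num))
    simp only [Finset.mem_insert, Finset.mem_singleton, not_or] at hv'
    have h5 : (L u).1 * (L v).1 * ((L u).1 * (L v).1) = 1 := by
      rw [hprod]
      exact hall _ (mul_mem hu hv)
    have h6 : (L u).1 * (L v).1 = (L v).1 * (L u).1 := by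
      calc (L u).1 * (L v).1 = (L u).1 * ((L u).1 * (L v).1 * ((L u).1 * (L v).1)) * (L v).1 := by
            rw [h5, mul_one]
        _ = ((L u).1 * (L u).1) * ((L v).1 * (L u).1) * ((L v).1 * (L v).1) := by simp only [mul_assoc]
        _ = (L v).1 * (L u).1 := by rw [h3, hall v hv, one_mul, mul_one]
    have h7 : ∀ w ∈ E, w ≠ 1 → (L w).1 ≠ 1 ∧ (L w).1 ≠ -1 := by
      intro w hw hw1
      constructor
      · intro h8
        exact hw1 (by rw [← hL w]; exact pr_eq_one (Or.inl h8))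
      · intro h8
        exact hw1 (by rw [← hL w]; exact pr_eq_one (Or.inr h8))
    rcases eq_of_comm (by simp) (J_transpose (Fin 2) F) (J_squared (Fin 2) F) h2 (adj h3) (adj (hall v hv)) h3
      (hall v hv) h6 (h7 u hu hu1).1 (h7 u hu hu1).2 with h8 | h8 | h8 | h8
    · exact (h7 v hv hv'.1).1 h8
    · exact (h7 v hv hv'.1).2 h8
    · have h9 := pr_eq (A := L u) (B := L v) (Or.inl h8)
      rw [hL, hL] at h9
      exact hv'.2 h9.symm
    · have h9 := pr_eq (A := L u) (B := L v) (Or.inr h8)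
      rw [hL, hL] at h9
      exact hv'.2 h9.symm
  · -- all nontrivial elements lift to elements of order four
    have hanti : ∀ a ∈ E, a ≠ 1 → ∀ b ∈ E, b ≠ 1 → a ≠ b → (L a).1 * (L b).1 = -((L b).1 * (L a).1) := by
      intro a ha ha1 b hb hb1 hab
      have hab1 : a * b ≠ 1 := fun h4 => hab (hE.eq_of_mul hb h4)
      have h4 := hprod a b
      rw [(hcv _ (mul_mem ha hb) hab1).2 h3] at h4
      have h5 := (hcv a ha ha1).2 h3
      have h6 := (hcv b hb hb1).2 h3
      have h7 : (L a).1 * ((L a).1 * (L b).1 * ((L a).1 * (L b).1)) * (L b).1 = -((L a).1 * (L b).1) := by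
        rw [h4, mul_neg, mul_one, neg_mul]
      have h8 : (L a).1 * ((L a).1 * (L b).1 * ((L a).1 * (L b).1)) * (L b).1 =
          ((L a).1 * (L a).1) * ((L b).1 * (L a).1) * ((L b).1 * (L b).1) := by simp only [mul_assoc]
      rw [h8, h5, h6, neg_mul, one_mul, mul_neg, mul_one, neg_neg] at h7
      rw [h7, neg_neg]
    obtain ⟨b, c, hB⟩ := hE.exists_bas hu hu1
    have hbc1 : b * c ≠ 1 := fun h4 => hB.wy (hE.eq_of_mul hB.hw h4).symm
    have hubc : u ≠ b * c := by
      intro h4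
      apply hB.wxy
      have h5 := hE.sq b hB.hy
      rw [h4, mul_assoc, hE.comm hB.hw hB.hy, ← mul_assoc, h5, one_mul]
    have h4 := hanti u hu hu1 b hB.hy hB.y1 (Ne.symm hB.yx)
    have h5 := hanti u hu hu1 c hB.hw hB.w1 (Ne.symm hB.wx)
    have h6 := hanti u hu hu1 (b * c) (mul_mem hB.hy hB.hw) hbc1 hubc
    have h7 : pr F (L b * L c) = pr F (L (b * c)) := by rw [map_mul, hL, hL, hL]
    have h8 : (L u).1 * ((L b).1 * (L c).1) = (L b).1 * (L c).1 * (L u).1 := by
      rw [← mul_assoc, h4, neg_mul, mul_assoc, h5, mul_neg, neg_neg, mul_assoc]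
    have h9 : (L u).1 * (L (b * c)).1 = (L (b * c)).1 * (L u).1 := by
      have h10 : (L b * L c).1 = (L b).1 * (L c).1 := rfl
      rcases eq_or_neg h7 with h11 | h11
      · rw [h11, h10, h8]
      · rw [h11, h10, mul_neg, neg_mul, h8]
    rw [h9] at h6
    have h10 : (L (b * c)).1 * (L u).1 = 0 := by
      have h11 : (2 : F) • ((L (b * c)).1 * (L u).1) = 0 := by
        rw [two_smul]
        nth_rewrite 1 [h6]
        rw [neg_add_cancel]
      exact (smul_eq_zero.1 h11).resolve_left h2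
    have h11 : (L (b * c)).1 * (L u).1 * ((L u)⁻¹).1 * ((L (b * c))⁻¹).1 = 1 := by
      have h12 : (L (b * c)) * (L u) * (L u)⁻¹ * (L (b * c))⁻¹ = 1 := by group
      exact congrArg Subtype.val h12
    rw [h10, zero_mul, zero_mul] at h11
    exact zero_ne_one h11

end grp

end Cfsg.Agent.LFourB.PSpOct
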