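import Cfsg.Agent.LFourB.MSevenFa
import Cfsg.Agent.LFourB.KTenCore
import Cfsg.Agent.LFourB.PSpOct
import Cfsg.Agent.GH.Q2.ModelSp4

/-!
# S0510, type `|S| = 2 ^ 7`: the quotient `M7 / ⟨z⟩`

`M7 / ⟨z⟩` is isomorphic to a Sylow 2-subgroup of `PSp_4(F)` for some finite field `F` of odd order, and
an embedding of it as a Sylow 2-subgroup of a group without core gives the configuration of `KTenCore`.
-/

set_option autoImplicit false
set_option Elab.async false

open Subgroup

namespace Cfsg.Agent.LFourB.KTenModel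

open M7 K4
open Cfsg.Agent.GH.Defs (TypeSp4 SylOf)
open Cfsg.Agent.LFourB.KTenCore

/-- Equality modulo `z`. -/
def eqz (x y : M7) : Bool := decide (x = y) || decide (x = y * z)

theorem eqz_iff {x y : M7} : eqz x y = true ↔ x = y ∨ x = y * z := by
  unfold eqz
  rw [Bool.or_eq_true, decide_eq_true_iff, decide_eq_true_iff]

theorem z_comm : ∀ x : M7, x * z = z * x := by decide +kernel

theorem self1 : ∀ s : M7, (∀ v : M7, v ∈ V1 → eqz (s * v) (v * s) = true) → s ∈ V1 := by decide +kernel

theorem cent1 : ∀ s : M7, (∀ t : M7, eqz (s * t) (t * s) = true) → eqz s 1 = true ∨ eqz s ze = true := by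
  decide +kernel

/-- An element of order four modulo `z`. -/
def r1 : M7 := ⟨i, w, o, false⟩
/-- An element of order four modulo `z`. -/
def q1 : M7 := ⟨w, i, o, false⟩
/-- The conjugate of `r1` by `f`. -/
def r2 : M7 := f * r1 * f
/-- The conjugate of `q1` by `f`. -/
def q2 : M7 := f * q1 * f

theorem rel : eqz (ze * ze) 1 ∧ eqz (r1 * r1) ze ∧ eqz (r2 * r2) ze ∧ eqz (q1 * q1) ze ∧ eqz (q2 * q2) ze ∧
    eqz (q1 * r1) (r1⁻¹ * q1) ∧ eqz (q2 * r2) (r2⁻¹ * q2) ∧ eqz (r1 * r2) (r2 * r1) ∧
    eqz (r1 * q2) (q2 * r1) ∧ eqz (q1 * r2) (r2 * q1) ∧ eqz (q1 * q2) (q2 * q1) ∧ eqz (f * f) 1 ∧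
    eqz (f * r1) (r2 * f) ∧ eqz (f * q1) (q2 * f) := by decide +kernel

/-- power with exponent at most three -/
def pw (n : Fin 4) (x : M7) : M7 :=
  match n with
  | 0 => 1
  | 1 => x
  | 2 => x * x
  | 3 => x * x * x

/-- power with exponent at most one -/
def pb (n : Bool) (x : M7) : M7 := bif n then x else 1

theorem gen : ∀ x : M7, ∃ k l : Fin 4, ∃ a b c : Bool,
    eqz x (pw k r1 * pb a q1 * pw l r2 * pb b q2 * pb c f) = true := by decide +kernel

/-! ### Homomorphisms with kernel `⟨z⟩` -/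

/-- The kernel of `π` is `⟨z⟩`. -/
def KerZ {K : Type*} [Group K] (π : M7 →* K) : Prop := ∀ x, π x = 1 ↔ x = 1 ∨ x = z

section mod

variable {K : Type*} [Group K] {π : M7 →* K}

theorem map_eq_iff (h : KerZ π) {x y : M7} : π x = π y ↔ eqz x y = true := by
  rw [eqz_iff, ← mul_inv_eq_one, ← map_inv, ← map_mul, h]
  constructor
  · rintro (h1 | h1)
    · exact Or.inl (mul_inv_eq_one.1 h1)
    · right
      rw [z_comm, ← h1, inv_mul_cancel_right]
  · rintro (h1 | h1)
    · left
      rw [h1, mul_inv_cancel]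
    · right
      rw [h1, z_comm, mul_inv_cancel_right]

theorem z_ne_one : z ≠ 1 := by decide

theorem card_map (h : KerZ π) (A : Subgroup M7) (hz : z ∈ A) : Nat.card (A.map π) * 2 = Nat.card A := by
  have h1 := relIndex_ker (f := π) (K := A)
  have h2 := (π.ker.subgroupOf A).card_mul_index
  have h3 : Nat.card (π.ker.subgroupOf A) = 2 := by
    rw [Nat.card_eq_two_iff]
    refine ⟨⟨1, one_mem _⟩, ⟨⟨z, hz⟩, ?_⟩, ?_, ?_⟩
    · rw [mem_subgroupOf, MonoidHom.mem_ker]
      exact (h z).2 (Or.inr rfl)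
    · intro h4
      exact z_ne_one (congrArg (fun w : π.ker.subgroupOf A => ((w : A) : M7)) h4).symm
    · rw [Set.eq_univ_iff_forall]
      intro x
      have h4 : π ((x : A) : M7) = 1 := x.2
      rcases (h _).1 h4 with h5 | h5
      · left
        exact Subtype.ext (Subtype.ext h5)
      · right
        exact Subtype.ext (Subtype.ext h5)
  rw [h3] at h2
  change Nat.card (A.map π) * 2 = _
  rw [← h1, mul_comm]
  exact h2

theorem card_of_surjective (h : KerZ π) (hs : Function.Surjective π) : Nat.card K = 64 := by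
  have h1 := card_map h ⊤ (mem_top _)
  rw [← MonoidHom.range_eq_map, MonoidHom.range_eq_top.2 hs, Subgroup.card_top, Subgroup.card_top,
    natCard_eq] at h1
  omega

theorem typeSp4 (h : KerZ π) (hs : Function.Surjective π) : TypeSp4 K := by
  have E : ∀ {x y : M7}, eqz x y = true → π x = π y := fun h1 => (map_eq_iff h).2 h1
  obtain ⟨e1, e2, e3, e4, e5, e6, e7, e8, e9, e10, e11, e12, e13, e14⟩ := rel
  refine GH.Q2.ModelSp4.typeSp4 (n := 0) (z := π ze) (r₁ := π r1) (y₁ := π q1) (r₂ := π r2)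
    (y₂ := π q2) (t := π f) ?_ ?_ ?_ ?_
  · constructor
    · rw [← map_mul]; exact (E e1).trans (map_one _)
    · rw [zero_add, pow_one, pow_two, ← map_mul]; exact E e2
    · rw [zero_add, pow_one, pow_two, ← map_mul]; exact E e3
    · rw [← map_mul]; exact E e4
    · rw [← map_mul]; exact E e5
    · rw [← map_inv, ← map_mul, ← map_mul]; exact E e6
    · rw [← map_inv, ← map_mul, ← map_mul]; exact E e7
    · rw [← map_mul, ← map_mul]; exact E e8
    · rw [← map_mul, ← map_mul]; exact E e9
    · rw [← map_mul, ← map_mul]; exact E e10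
    · rw [← map_mul, ← map_mul]; exact E e11
  · constructor
    · rw [← map_mul]; exact (E e12).trans (map_one _)
    · rw [← map_mul, ← map_mul]; exact E e13
    · rw [← map_mul, ← map_mul]; exact E e14
  · rw [eq_top_iff]
    intro g _
    obtain ⟨x, rfl⟩ := hs g
    obtain ⟨k, l, a, b, c, hx⟩ := gen x
    rw [E hx, map_mul, map_mul, map_mul, map_mul]
    have hf : π f ∈ closure ({π f, π q2, π q1, π r2, π r1} : Set K) := subset_closure (by simp)
    have hq2 : π q2 ∈ closure ({π f, π q2, π q1, π r2, π r1} : Set K) := subset_closure (by simp)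
    have hq1 : π q1 ∈ closure ({π f, π q2, π q1, π r2, π r1} : Set K) := subset_closure (by simp)
    have hr2 : π r2 ∈ closure ({π f, π q2, π q1, π r2, π r1} : Set K) := subset_closure (by simp)
    have hr1 : π r1 ∈ closure ({π f, π q2, π q1, π r2, π r1} : Set K) := subset_closure (by simp)
    have hpw : ∀ (C : Subgroup K) (k : Fin 4) (y : M7), π y ∈ C → π (pw k y) ∈ C := by
      intro C k y hy
      fin_cases k
      · show π 1 ∈ C
        rw [map_one]
        exact one_mem _
      · exact hy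
      · show π (y * y) ∈ C
        rw [map_mul]
        exact mul_mem hy hy
      · show π (y * y * y) ∈ C
        rw [map_mul, map_mul]
        exact mul_mem (mul_mem hy hy) hy
    have hpb : ∀ (C : Subgroup K) (k : Bool) (y : M7), π y ∈ C → π (pb k y) ∈ C := by
      intro C k y hy
      cases k
      · show π 1 ∈ C
        rw [map_one]
        exact one_mem _
      · exact hy
    exact mul_mem (mul_mem (mul_mem (mul_mem (hpw _ k _ hr1) (hpb _ a _ hq1)) (hpw _ l _ hr2))
      (hpb _ b _ hq2)) (hpb _ c _ hf)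
  · rw [card_of_surjective h hs]
    norm_num

theorem kerZ_rangeRestrict (h : KerZ π) : KerZ π.rangeRestrict := by
  intro x
  rw [← h x]
  exact ⟨fun h1 => congrArg Subtype.val h1, fun h1 => Subtype.ext h1⟩

/-- The configuration of `KTenCore` from the model. -/
theorem cfg_of [Finite K] (T : Sylow 2 K) (h : KerZ π) (hr : π.range = (T : Subgroup K))
    (hO : oddCore K = ⊥)
    (htr : ∀ u v : M7, u ∈ V1 → eqz u 1 = false → v ∈ V1 → eqz v 1 = false →
      ∃ k ∈ normalizer ((V1.map π : Subgroup K) : Set K), k * π u * k⁻¹ = π v) :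
    Cfg T (V1.map π) (π ze) := by
  have hzV : z ∈ V1 := by decide
  have hmem : ∀ t ∈ (T : Subgroup K), ∃ s, π s = t := by
    intro t ht
    rw [← hr] at ht
    exact ht
  constructor
  · rw [← hr]
    exact card_of_surjective (kerZ_rangeRestrict h) π.rangeRestrict_surjective
  · rintro _ ⟨x, hx, rfl⟩
    rw [← hr]
    exact ⟨x, rfl⟩
  · constructor
    · have h1 := card_map h V1 hzV
      rw [card_V1] at h1
      omega
    · rintro _ ⟨x, hx, rfl⟩
      rw [← map_mul, V1_sq x hx, map_one]
  · intro t ht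
    obtain ⟨s, rfl⟩ := hmem t ht
    rw [mem_normalizer_iff]
    intro g
    constructor
    · rintro ⟨v, hv, rfl⟩
      exact ⟨s * v * s⁻¹, MSevenFa.V1_conj s v hv, by rw [map_mul, map_mul, map_inv]⟩
    · rintro ⟨v, hv, hvg⟩
      refine ⟨s⁻¹ * v * s⁻¹⁻¹, MSevenFa.V1_conj s⁻¹ v hv, ?_⟩
      simp only [map_mul, map_inv, hvg]
      group
  · intro t ht hc
    obtain ⟨s, rfl⟩ := hmem t ht
    refine mem_map_of_mem _ (self1 s fun v hv => ?_)
    rw [← map_eq_iff h, map_mul, map_mul]
    exact hc _ (mem_map_of_mem _ hv)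
  · rintro _ ⟨u, hu, rfl⟩ hu1 _ ⟨v, hv, rfl⟩ hv1
    have hne : ∀ x : M7, π x ≠ 1 → eqz x 1 = false := by
      intro x hx
      rw [Bool.eq_false_iff]
      intro h1
      apply hx
      rw [(map_eq_iff h).2 h1, map_one]
    exact htr u v hu (hne u hu1) hv (hne v hv1)
  · intro x hx hc
    obtain ⟨s, rfl⟩ := hmem x hx
    have h1 := cent1 s fun t => by
      rw [← map_eq_iff h, map_mul, map_mul]
      apply hc
      rw [← hr]
      exact ⟨t, rfl⟩
    rcases h1 with h1 | h1
    · left
      rw [(map_eq_iff h).2 h1, map_one]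
    · right
      exact (map_eq_iff h).2 h1
  · exact hO

end mod

end Cfsg.Agent.LFourB.KTenModel
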