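import Cfsg.Agent.LFourB.EFactI

/-!
# S0510, type B1: a 3-element normalising an elementary abelian group of order 16

`exists_trans`: there are commuting involutions `x ∈ T sg`, `y ∈ T w` and a 3-element `n ∈ N(T)` with
`n : z1 → z2 → z3 → z1`, `n : x → y → x y → x`.
-/

set_option autoImplicit false

namespace Cfsg.Agent.LFourB.KTrans

open Subgroup FusA EF Cfsg.Agent.Transfer.FusionBasic

/-! ### The Klein four-group -/

/-- The elements of the normal four-group of `Perm (Fin 4)`. -/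
def IsV (σ : Equiv.Perm (Fin 4)) : Prop := σ = 1 ∨ (σ * σ = 1 ∧ ∀ i, σ i ≠ i)

instance : DecidablePred IsV := fun σ => by unfold IsV; infer_instance

/-- The 3-cycle `(1 2 3)`. -/
def ro : Equiv.Perm (Fin 4) := Equiv.swap 1 2 * Equiv.swap 2 3

set_option maxRecDepth 100000 in
theorem IsV.mul : ∀ σ τ, IsV σ → IsV τ → IsV (σ * τ) := by decide +kernel
set_option maxRecDepth 100000 in
theorem IsV.inv : ∀ σ, IsV σ → IsV σ⁻¹ := by decide +kernel
set_option maxRecDepth 100000 in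
theorem IsV.conj : ∀ ρ σ, IsV σ → IsV (ρ * σ * ρ⁻¹) := by decide +kernel
theorem isV_one : IsV 1 := Or.inl rfl
set_option maxRecDepth 100000 in
theorem isV_cases : ∀ σ, IsV σ → σ = d8 false false false ∨ σ = d8 true true false ∨ σ = d8 false false true ∨
    σ = d8 true true true := by decide +kernel
theorem isV_sq : ∀ σ, IsV σ → σ * σ = 1 := by
  intro σ hσ
  rcases hσ with rfl | h
  · rfl
  · exact h.1

theorem ro_cube : ro ^ 3 = 1 := by decide
theorem ro_sg : ro * d8 true true false * ro⁻¹ = d8 false false true := by decide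
theorem ro_w : ro * d8 false false true * ro⁻¹ = d8 true true true := by decide
theorem ro_sgw : ro * d8 true true true * ro⁻¹ = d8 true true false := by decide
theorem sg_w : d8 true true false * d8 false false true = d8 true true true := by decide

theorem ro_pow {j : ℕ} (hj : j % 3 = 1) : ro ^ j = ro := by
  have h1 : j = 3 * (j / 3) + 1 := by omega
  rw [h1, pow_add, pow_mul, ro_cube, one_pow, one_mul, pow_one]

/-! ### The pairs -/

section Pairs

variable (m : ℕ)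

/-- The coordinates of the pairs. -/
def AA : AddSubgroup ((R m × R m × R m) × (R m × R m × R m)) where
  carrier := {v | Good v.1.1 v.1.2.1 v.1.2.2 ∧ Good v.2.1 v.2.2.1 v.2.2.2 ∧ 2 * v.1.2.2 + v.1.1 - v.1.2.1 = 0 ∧
    v.2.2.1 = -v.2.1 ∧ v.1.1 - v.1.2.1 = 2 * v.2.1}
  zero_mem' := by
    refine ⟨Good.zero, Good.zero, ?_, ?_, ?_⟩ <;> simp
  add_mem' := by
    rintro ⟨⟨a, b, c⟩, d, e, g⟩ ⟨⟨a', b', c'⟩, d', e', g'⟩ ⟨h1, h2, h3, h4, h5⟩ ⟨k1, k2, k3, k4, k5⟩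
    refine ⟨h1.add k1, h2.add k2, ?_, ?_, ?_⟩
    · change 2 * (c + c') + (a + a') - (b + b') = 0
      linear_combination h3 + k3
    · change e + e' = -(d + d')
      linear_combination h4 + k4
    · change a + a' - (b + b') = 2 * (d + d')
      linear_combination h5 + k5
  neg_mem' := by
    rintro ⟨⟨a, b, c⟩, d, e, g⟩ ⟨h1, h2, h3, h4, h5⟩
    refine ⟨h1.neg, h2.neg, ?_, ?_, ?_⟩
    · change 2 * -c + -a - -b = 0
      linear_combination -h3
    · change -e = - -d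
      linear_combination -h4
    · change -a - -b = 2 * -d
      linear_combination -h5

theorem not_three_dvd : ¬ 3 ∣ Nat.card (AA m) := by
  intro h3
  have h1 : Nat.card (AA m) ∣ Nat.card ((R m × R m × R m) × (R m × R m × R m)) :=
    AddSubgroup.card_addSubgroup_dvd_card (AA m)
  have h2 : Nat.card ((R m × R m × R m) × (R m × R m × R m)) = 2 ^ (6 * (m + 3)) := by
    simp only [Nat.card_prod, card_R]
    ring
  rw [h2] at h1
  have h4 := Nat.Prime.dvd_of_dvd_pow Nat.prime_three (h3.trans h1)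
  omega

end Pairs

variable {G : Type*} [Group G] {m : ℕ} {f : R m → R m → R m → G} {u w : G}

/-- Commuting involutions over `sg` and `w`. -/
def Pr (f : R m → R m → R m → G) (u w : G) (v : G × G) : Prop :=
  Ov f (sg u w) v.1 ∧ Ov f w v.2 ∧ v.1 * v.1 = 1 ∧ v.2 * v.2 = 1 ∧ v.1 * v.2 = v.2 * v.1

section

variable {S : Subgroup G}

theorem pr_iff (h : BOne S m f u w) {p q r p' q' r' : R m} (hg : Good p q r) (hg' : Good p' q' r') :
    Pr f u w (f p q r * sg u w, f p' q' r' * w) ↔ 2 * r + p - q = 0 ∧ q' = -p' ∧ p - q = 2 * p' := by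
  have h1 : f p q r * sg u w * (f p' q' r' * w) = f (p - p') (q - q') (r + r' + p' - q') * (sg u w * w) := by
    rw [mul_assoc, ← mul_assoc (sg u w), h.sg_f hg', mul_assoc (f (-p') (-q') (r' + p' - q')), ← mul_assoc,
      h.f_mul _ _ _ _ _ _ hg hg'.actsg]
    congr 2 <;> ring
  have h2 : f p' q' r' * w * (f p q r * sg u w) = f (p' + q) (q' + p) (r' - r) * (sg u w * w) := by
    rw [mul_assoc, ← mul_assoc w, h.w_f _ _ _ hg, mul_assoc (f q p (-r)), ← mul_assoc,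
      h.f_mul _ _ _ _ _ _ hg' hg.actw, h.w_mul_sg]
    congr 2
    ring
  have hga : Good (p - p') (q - q') (r + r' + p' - q') := by
    have := hg.add hg'.actsg
    have e1 : p + -p' = p - p' := by ring
    have e2 : q + -q' = q - q' := by ring
    have e3 : r + (r' + p' - q') = r + r' + p' - q' := by ring
    rwa [e1, e2, e3] at this
  have hgb : Good (p' + q) (q' + p) (r' - r) := by
    have := hg'.add hg.actw
    have e3 : r' + -r = r' - r := by ring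
    rwa [e3] at this
  constructor
  · rintro ⟨-, -, h3, h4, h5⟩
    have h6 := (h.e_sq_sg_iff hg).1 h3
    have h7 := (h.e_sq_w_iff hg').1 h4
    refine ⟨h6, h7, ?_⟩
    have h8 : f p q r * sg u w * (f p' q' r' * w) = f p' q' r' * w * (f p q r * sg u w) := h5
    rw [h1, h2] at h8
    have h9 := (h.f_eq_iff hga hgb).1 (mul_right_cancel h8)
    linear_combination h9.1
  · rintro ⟨h3, h4, h5⟩
    refine ⟨⟨p, q, r, hg, rfl⟩, ⟨p', q', r', hg', rfl⟩, (h.e_sq_sg_iff hg).2 h3, (h.e_sq_w_iff hg').2 h4, ?_⟩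
    change f p q r * sg u w * (f p' q' r' * w) = f p' q' r' * w * (f p q r * sg u w)
    rw [h1, h2]
    congr 2
    · linear_combination h5
    · linear_combination -h5 - 2 * h4
    · linear_combination h3 - h4 - h5

/-- The number of pairs is prime to 3. -/
theorem not_three_dvd_pr (h : BOne S m f u w) : ¬ 3 ∣ Nat.card {v : G × G // Pr f u w v} := by
  have key : ∀ v : AA m, Pr f u w (f v.1.1.1 v.1.1.2.1 v.1.1.2.2 * sg u w, f v.1.2.1 v.1.2.2.1 v.1.2.2.2 * w) := by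
    rintro ⟨v, h1, h2, h3, h4, h5⟩
    exact (pr_iff h h1 h2).2 ⟨h3, h4, h5⟩
  let F : AA m → {v : G × G // Pr f u w v} := fun v => ⟨_, key v⟩
  have hF : Function.Bijective F := by
    constructor
    · rintro ⟨⟨⟨a, b, c⟩, d, e, g⟩, h1, h2, h3, h4, h5⟩ ⟨⟨⟨a', b', c'⟩, d', e', g'⟩, k1, k2, k3, k4, k5⟩ hab
      have e1 : (f a b c * sg u w, f d e g * w) = (f a' b' c' * sg u w, f d' e' g' * w) := congrArg Subtype.val hab
      rw [Prod.mk.injEq] at e1
      obtain ⟨e2, e3⟩ := e1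
      obtain ⟨rfl, rfl, rfl⟩ := (h.f_eq_iff h1 k1).1 (mul_right_cancel e2)
      obtain ⟨rfl, rfl, rfl⟩ := (h.f_eq_iff h2 k2).1 (mul_right_cancel e3)
      rfl
    · rintro ⟨⟨x, y⟩, hxy⟩
      obtain ⟨⟨p, q, r, hg, hx⟩, ⟨p', q', r', hg', hy⟩, -⟩ := id hxy
      have hx' : x = f p q r * sg u w := hx
      have hy' : y = f p' q' r' * w := hy
      subst hx' hy'
      obtain ⟨h3, h4, h5⟩ := (pr_iff h hg hg').1 hxy
      exact ⟨⟨((p, q, r), (p', q', r')), hg, hg', h3, h4, h5⟩, rfl⟩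
  rw [← Nat.card_eq_of_bijective F hF]
  exact not_three_dvd m

end

/-! ### The action -/

/-- `n` acts on the `X i` as `σ`. -/
def Acts (f : R m → R m → R m → G) (n : G) (σ : Equiv.Perm (Fin 4)) : Prop := ∀ i, n * X f i * n⁻¹ = X f (σ i)

theorem Acts.mul {a b : G} {σ τ : Equiv.Perm (Fin 4)} (ha : Acts f a σ) (hb : Acts f b τ) :
    Acts f (a * b) (σ * τ) := by
  intro i
  rw [Equiv.Perm.mul_apply, ← ha, ← hb]; group

theorem Acts.one : Acts f (1 : G) 1 := fun i => by simp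

theorem Acts.inv {a : G} {σ : Equiv.Perm (Fin 4)} (ha : Acts f a σ) : Acts f a⁻¹ σ⁻¹ := by
  intro i
  have h1 := ha (σ⁻¹ i)
  have h2 : σ (σ⁻¹ i) = i := by simp
  rw [h2] at h1
  rw [← h1]; group

theorem Acts.pow {a : G} {σ : Equiv.Perm (Fin 4)} (ha : Acts f a σ) (j : ℕ) : Acts f (a ^ j) (σ ^ j) := by
  induction j with
  | zero => rw [pow_zero, pow_zero]; exact Acts.one
  | succ j ih => rw [pow_succ, pow_succ]; exact ih.mul ha

/-- The elements of `N(T)` acting as elements of the four-group. -/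
def KV (f : R m → R m → R m → G) : Subgroup G where
  carrier := {n | n ∈ normalizer (Tor f : Set G) ∧ ∃ σ, IsV σ ∧ Acts f n σ}
  mul_mem' := by
    rintro a b ⟨ha, σ, hσ, hσ'⟩ ⟨hb, τ, hτ, hτ'⟩
    exact ⟨mul_mem ha hb, σ * τ, IsV.mul _ _ hσ hτ, hσ'.mul hτ'⟩
  one_mem' := ⟨one_mem _, 1, isV_one, Acts.one⟩
  inv_mem' := by
    rintro a ⟨ha, σ, hσ, hσ'⟩
    exact ⟨inv_mem ha, σ⁻¹, IsV.inv _ hσ, hσ'.inv⟩

theorem KV_le : KV f ≤ normalizer (Tor f : Set G) := fun _ h => h.1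

section

variable [Finite G] {P : Sylow 2 G}

theorem norm_KV (h : BOne (P : Subgroup G) m f u w) : normalizer (Tor f : Set G) ≤ normalizer (KV f : Set G) := by
  intro n hn
  refine mem_normalizer_of_conj_mem ?_
  rintro a ⟨ha, σ, hσ, hσ'⟩
  obtain ⟨τ, hτ⟩ := exists_perm h.e_sf hn
  have hτ' : Acts f n τ := hτ
  exact ⟨mul_mem (mul_mem hn ha) (inv_mem hn), τ * σ * τ⁻¹, IsV.conj _ _ hσ, (hτ'.mul hσ').mul hτ'.inv⟩

omit [Finite G] in
theorem acts_pi (h : BOne (P : Subgroup G) m f u w) (s : (P : Subgroup G)) : Acts f (s : G) (h.pi s) := h.pi_spec s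

theorem P_le (h : BOne (P : Subgroup G) m f u w) : (P : Subgroup G) ≤ normalizer (Tor f : Set G) := by
  intro s hs
  exact mem_normalizer_of_conj_mem fun t ht => h.e_S_norm s hs t ht

theorem mem_KV (h : BOne (P : Subgroup G) m f u w) {s : G} (hs : s ∈ (P : Subgroup G))
    (hV : IsV (h.pi ⟨s, hs⟩)) : s ∈ KV f := ⟨P_le h hs, _, hV, acts_pi h ⟨s, hs⟩⟩

/-- An element of `P` inducing a given element of the four-group. -/
theorem exists_V (h : BOne (P : Subgroup G) m f u w) {σ : Equiv.Perm (Fin 4)} (hσ : IsV σ) :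
    ∃ s ∈ (P : Subgroup G) ⊓ KV f, Acts f s σ := by
  have key : ∀ (s : G) (hs : s ∈ (P : Subgroup G)), h.pi ⟨s, hs⟩ = σ → ∃ s ∈ (P : Subgroup G) ⊓ KV f, Acts f s σ := by
    intro s hs e
    exact ⟨s, ⟨hs, mem_KV h hs (by rw [e]; exact hσ)⟩, by rw [← e]; exact acts_pi h ⟨s, hs⟩⟩
  rcases isV_cases σ hσ with e | e | e | e
  · exact key 1 (one_mem _) (by
      have : (⟨1, one_mem _⟩ : (P : Subgroup G)) = 1 := rfl
      rw [this, map_one, e]; decide)
  · exact key _ h.sg_mem (by rw [h.e_pi_sg, e])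
  · exact key _ h.w_mem (by rw [h.e_pi_w', e])
  · exact key _ h.sgw_mem (by rw [h.e_pi_sgw, e])

/-- **(S1)**: a 3-element of `N(T) ∩ N(T V)` inducing `(1 2 3)`. -/
theorem exists_three (h : BOne (P : Subgroup G) m f u w) (hz : ∃ g : G, g * z1 f * g⁻¹ = z2 f) :
    ∃ n ∈ normalizer (Tor f : Set G), (∃ k, n ^ 3 ^ k = 1) ∧ Acts f n ro ∧
      n ∈ normalizer (((P : Subgroup G) ⊓ KV f : Subgroup G) : Set G) := by
  have hsyl : SylIn 2 ((P : Subgroup G) ⊓ KV f) (KV f) := by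
    have h1 : SylIn 2 (P : Subgroup G) (normalizer (Tor f : Set G)) := by
      refine ⟨P_le h, P.2, fun R hPR _ hR => ?_⟩
      exact P.3 hR hPR
    exact h1.inf KV_le (norm_KV h)
  obtain ⟨n0, hn0, hn0'⟩ := h.fus_perm hz ro
  obtain ⟨k, hk, hkn⟩ := hsyl.frattini (norm_KV h) hn0
  obtain ⟨hkT, σ, hσ, hkσ⟩ := hk
  obtain ⟨s, hs, hsσ⟩ := exists_V h hσ
  have h2 : Acts f (s * (k * n0)) ro := by
    have h3 := hsσ.mul (hkσ.mul (show Acts f n0 ro from hn0'))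
    rwa [← mul_assoc σ, isV_sq σ hσ, one_mul] at h3
  have h3 : s * (k * n0) ∈ normalizer (Tor f : Set G) := mul_mem (P_le h hs.1) (mul_mem hkT hn0)
  have h4 : s * (k * n0) ∈ normalizer (((P : Subgroup G) ⊓ KV f : Subgroup G) : Set G) :=
    mul_mem (le_normalizer hs) hkn
  set n2 := s * (k * n0) with hn2
  obtain ⟨a, b, hb, hab⟩ := Nat.exists_eq_pow_mul_and_not_dvd (n := orderOf n2) (orderOf_pos n2).ne' 3 (by norm_num)
  refine ⟨n2 ^ (b * b), pow_mem h3 _, ⟨a, ?_⟩, ?_, pow_mem h4 _⟩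
  · rw [← pow_mul]
    refine orderOf_dvd_iff_pow_eq_one.1 ?_
    rw [hab]
    exact ⟨b, by ring⟩
  · have h5 := h2.pow (b * b)
    rwa [ro_pow] at h5
    rw [Nat.mul_mod]
    have : b % 3 = 1 ∨ b % 3 = 2 := by omega
    rcases this with e | e <;> rw [e]

omit [Finite G] in
theorem ov_of_acts (h : BOne (P : Subgroup G) m f u w) {s d : G} (hs : s ∈ (P : Subgroup G))
    (hd : d ∈ (P : Subgroup G)) (e : Acts f s (h.pi ⟨d, hd⟩)) : Ov f d s :=
  h.e_over_of_pi hs hd (h.pi_eq e)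

/-- Elements of a coset of `V` are mapped into the corresponding coset. -/
theorem ov_conj (h : BOne (P : Subgroup G) m f u w) {n : G} (hn : Acts f n ro)
    (hnD : n ∈ normalizer (((P : Subgroup G) ⊓ KV f : Subgroup G) : Set G)) {d d' : G} (hd : d ∈ (P : Subgroup G))
    (hd' : d' ∈ (P : Subgroup G)) (hV : IsV (h.pi ⟨d, hd⟩)) (e : ro * h.pi ⟨d, hd⟩ * ro⁻¹ = h.pi ⟨d', hd'⟩) {x : G}
    (hx : Ov f d x) : Ov f d' (n * x * n⁻¹) := by
  have hxP : x ∈ (P : Subgroup G) := h.e_mem_S_of_Ov hd hx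
  have hpx : h.pi ⟨x, hxP⟩ = h.pi ⟨d, hd⟩ := h.e_pi_of_Ov hd hxP hx
  have h1 : x ∈ (P : Subgroup G) ⊓ KV f := ⟨hxP, mem_KV h hxP (by rw [hpx]; exact hV)⟩
  have h2 := (mem_normalizer_iff.1 hnD x).1 h1
  refine ov_of_acts h h2.1 hd' ?_
  rw [← e, ← hpx]
  exact (hn.mul (acts_pi h ⟨x, hxP⟩)).mul hn.inv

/-- The induced map on the pairs. -/
def ph (n : G) (v : G × G) : G × G := (n * (v.1 * v.2) * n⁻¹, n * v.1 * n⁻¹)

theorem pr_ph (h : BOne (P : Subgroup G) m f u w) {n : G} (hn : Acts f n ro)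
    (hnD : n ∈ normalizer (((P : Subgroup G) ⊓ KV f : Subgroup G) : Set G)) {v : G × G} (hv : Pr f u w v) :
    Pr f u w (ph n v) := by
  obtain ⟨x, y⟩ := v
  obtain ⟨h1, h2, h3, h4, h5⟩ := hv
  change Ov f (sg u w) x at h1
  change Ov f w y at h2
  change x * x = 1 at h3
  change y * y = 1 at h4
  change x * y = y * x at h5
  have hxP : x ∈ (P : Subgroup G) := h.e_mem_S_of_Ov h.sg_mem h1
  have hyP : y ∈ (P : Subgroup G) := h.e_mem_S_of_Ov h.w_mem h2
  have h6 : Ov f (sgw u w) (x * y) := by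
    refine h.e_over_of_pi (mul_mem hxP hyP) h.sgw_mem ?_
    have e1 : (⟨x * y, mul_mem hxP hyP⟩ : (P : Subgroup G)) = ⟨x, hxP⟩ * ⟨y, hyP⟩ := rfl
    rw [e1, map_mul, h.e_pi_of_Ov h.sg_mem hxP h1, h.e_pi_of_Ov h.w_mem hyP h2, h.e_pi_sg, h.e_pi_w', h.e_pi_sgw, sg_w]
  refine ⟨?_, ?_, ?_, ?_, ?_⟩
  · refine ov_conj h hn hnD h.sgw_mem h.sg_mem ?_ ?_ h6
    · rw [h.e_pi_sgw]; decide +kernel
    · rw [h.e_pi_sgw, h.e_pi_sg, ro_sgw]
  · refine ov_conj h hn hnD h.sg_mem h.w_mem ?_ ?_ h1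
    · rw [h.e_pi_sg]; decide +kernel
    · rw [h.e_pi_sg, h.e_pi_w', ro_sg]
  · change n * (x * y) * n⁻¹ * (n * (x * y) * n⁻¹) = 1
    calc n * (x * y) * n⁻¹ * (n * (x * y) * n⁻¹) = n * (x * (y * x) * y) * n⁻¹ := by group
      _ = n * ((x * x) * (y * y)) * n⁻¹ := by rw [← h5]; group
      _ = 1 := by rw [h3, h4]; group
  · change n * x * n⁻¹ * (n * x * n⁻¹) = 1
    calc n * x * n⁻¹ * (n * x * n⁻¹) = n * (x * x) * n⁻¹ := by group
      _ = 1 := by rw [h3]; group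
  · change n * (x * y) * n⁻¹ * (n * x * n⁻¹) = n * x * n⁻¹ * (n * (x * y) * n⁻¹)
    calc n * (x * y) * n⁻¹ * (n * x * n⁻¹) = n * (x * (y * x)) * n⁻¹ := by group
      _ = n * x * n⁻¹ * (n * (x * y) * n⁻¹) := by rw [← h5]; group

omit [Finite G] in
theorem ph_three (n : G) {c : G} (hc : c = n * n * n) {v : G × G} (hv : Pr f u w v) :
    ph n (ph n (ph n v)) = (c * v.1 * c⁻¹, c * v.2 * c⁻¹) := by
  subst hc
  obtain ⟨x, y⟩ := v
  obtain ⟨-, -, h3, h4, h5⟩ := hv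
  change x * x = 1 at h3
  change y * y = 1 at h4
  change x * y = y * x at h5
  have e1 : x * y * x = y := by rw [h5, mul_assoc, h3, mul_one]
  have e2 : y * (x * y) = x := by rw [h5, ← mul_assoc, h4, one_mul]
  refine Prod.ext ?_ ?_
  · change n * (n * (n * (x * y) * n⁻¹ * (n * x * n⁻¹)) * n⁻¹ * (n * (n * (x * y) * n⁻¹) * n⁻¹)) * n⁻¹ = _
    calc n * (n * (n * (x * y) * n⁻¹ * (n * x * n⁻¹)) * n⁻¹ * (n * (n * (x * y) * n⁻¹) * n⁻¹)) * n⁻¹
        = n * n * n * ((x * y * x) * (x * y)) * (n * n * n)⁻¹ := by group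
      _ = _ := by rw [e1, e2]
  · change n * (n * (n * (x * y) * n⁻¹ * (n * x * n⁻¹)) * n⁻¹) * n⁻¹ = _
    calc n * (n * (n * (x * y) * n⁻¹ * (n * x * n⁻¹)) * n⁻¹) * n⁻¹ = n * n * n * (x * y * x) * (n * n * n)⁻¹ := by group
      _ = _ := by rw [e1]

/-- A pair permuted cyclically by `n`. -/
theorem exists_pair (h : BOne (P : Subgroup G) m f u w) {n : G} (hn : Acts f n ro) {k : ℕ} (hk : n ^ 3 ^ k = 1)
    (hnD : n ∈ normalizer (((P : Subgroup G) ⊓ KV f : Subgroup G) : Set G)) :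
    ∃ v, Pr f u w v ∧ ph n v = v := by
  have : Fact (Nat.Prime 3) := ⟨Nat.prime_three⟩
  let α := {v : G × G // Pr f u w v}
  let F : α → α := fun v => ⟨ph n v.1, pr_ph h hn hnD v.2⟩
  obtain ⟨c, hc⟩ : ∃ c, c = n * n * n := ⟨_, rfl⟩
  have hF3 : ∀ v : α, (F (F (F v))).1 = (c * v.1.1 * c⁻¹, c * v.1.2 * c⁻¹) :=
    fun v => ph_three n hc v.2
  have hinj : Function.Injective F := by
    intro a b hab
    have h1 : F (F (F a)) = F (F (F b)) := by rw [hab]
    have h2 := congrArg Subtype.val h1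
    rw [hF3, hF3, Prod.mk.injEq] at h2
    exact Subtype.ext (Prod.ext (mul_left_cancel (mul_right_cancel h2.1)) (mul_left_cancel (mul_right_cancel h2.2)))
  let Φ : Equiv.Perm α := Equiv.ofBijective F (Finite.injective_iff_bijective.1 hinj)
  have hΦ3 : ∀ (j : ℕ) (v : α), ((Φ ^ (3 * j)) v).1 = (c ^ j * v.1.1 * (c ^ j)⁻¹, c ^ j * v.1.2 * (c ^ j)⁻¹) := by
    intro j
    induction j with
    | zero => intro v; simp
    | succ j ih =>
      intro v
      have e1 : 3 * (j + 1) = 3 * j + 3 := by ring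
      have e2 : (Φ ^ 3) v = F (F (F v)) := rfl
      rw [e1, pow_add, Equiv.Perm.mul_apply, ih, e2, hF3, pow_succ c]
      refine Prod.ext ?_ ?_
      · change c ^ j * (c * v.1.1 * c⁻¹) * (c ^ j)⁻¹ = c ^ j * c * v.1.1 * (c ^ j * c)⁻¹
        rw [mul_inv_rev]; simp only [mul_assoc]
      · change c ^ j * (c * v.1.2 * c⁻¹) * (c ^ j)⁻¹ = c ^ j * c * v.1.2 * (c ^ j * c)⁻¹
        rw [mul_inv_rev]; simp only [mul_assoc]
  have hΦ : Φ ^ 3 ^ (k + 1) = 1 := by
    have e1 : 3 ^ (k + 1) = 3 * 3 ^ k := by ring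
    have e2 : c ^ 3 ^ k = 1 := by
      have e3 : c = n ^ 3 := by rw [hc, pow_succ, pow_two]
      rw [e3, ← pow_mul, mul_comm, pow_mul, hk, one_pow]
    refine Equiv.ext fun v => Subtype.ext ?_
    rw [e1, hΦ3, e2]
    simp
  have hp : IsPGroup 3 (zpowers Φ) := by
    rintro ⟨g, j, rfl⟩
    refine ⟨k + 1, Subtype.ext ?_⟩
    change (Φ ^ j) ^ 3 ^ (k + 1) = 1
    rw [← zpow_natCast, ← zpow_mul, mul_comm, zpow_mul, zpow_natCast, hΦ, one_zpow]
  obtain ⟨v, hv⟩ := hp.nonempty_fixed_point_of_prime_not_dvd_card α (not_three_dvd_pr h)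
  have h1 : F v = v := hv ⟨Φ, mem_zpowers Φ⟩
  exact ⟨v.1, v.2, congrArg Subtype.val h1⟩

/-- **(S1), (S2)**: a 3-element `n ∈ N(T)` with `z1 → z2 → z3 → z1`, `x → y → x y → x`. -/
theorem exists_trans (h : BOne (P : Subgroup G) m f u w) (hz : ∃ g : G, g * z1 f * g⁻¹ = z2 f) :
    ∃ n x y : G, n ∈ normalizer (Tor f : Set G) ∧ (∃ k, n ^ 3 ^ k = 1) ∧ n * z1 f * n⁻¹ = z2 f ∧
      n * z2 f * n⁻¹ = z3 f ∧ n * z3 f * n⁻¹ = z1 f ∧ Ov f (sg u w) x ∧ Ov f w y ∧ x * x = 1 ∧ y * y = 1 ∧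
      x * y = y * x ∧ n * x * n⁻¹ = y ∧ n * y * n⁻¹ = x * y ∧ n * (x * y) * n⁻¹ = x ∧
      (∀ i, n * X f i * n⁻¹ = X f (ro i)) ∧ n ∈ normalizer (((P : Subgroup G) ⊓ KV f : Subgroup G) : Set G) := by
  obtain ⟨n, hnT, ⟨k, hk⟩, hn, hnD⟩ := exists_three h hz
  obtain ⟨⟨x, y⟩, ⟨h1, h2, h3, h4, h5⟩, hxy⟩ := exists_pair h hn hk hnD
  change Ov f (sg u w) x at h1
  change Ov f w y at h2
  change x * x = 1 at h3
  change y * y = 1 at h4
  change x * y = y * x at h5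
  have e1 : n * (x * y) * n⁻¹ = x := congrArg Prod.fst hxy
  have e2 : n * x * n⁻¹ = y := congrArg Prod.snd hxy
  have e3 : n * y * n⁻¹ = x * y := by
    have e4 : y = x * (x * y) := by rw [← mul_assoc, h3, one_mul]
    calc n * y * n⁻¹ = n * (x * (x * y)) * n⁻¹ := by rw [← e4]
      _ = (n * x * n⁻¹) * (n * (x * y) * n⁻¹) := by group
      _ = x * y := by rw [e1, e2, h5]
  have hN := two_mul_N (m := m)
  have z1e : X f 0 * X f 1 = z1 f := by
    change x1 f * x2 f = z1 f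
    rw [x1, x2, z1, h.f_mul _ _ _ _ _ _ BOne.goodx1 BOne.goodx2]
    congr 1
    · linear_combination hN
    · ring
    · ring
  have z2e : X f 0 * X f 2 = z2 f := by
    change x1 f * x3 f = z2 f
    rw [x1, x3, z2, h.f_mul _ _ _ _ _ _ BOne.goodx1 BOne.goodx3]
    congr 1 <;> ring
  have z3e : X f 0 * X f 3 = z3 f := by
    change x1 f * x4 f = z3 f
    rw [x1, x4, z3, h.f_mul _ _ _ _ _ _ BOne.goodx1 BOne.goodx4]
    congr 1 <;> ring
  have key : ∀ i j, n * (X f i * X f j) * n⁻¹ = X f (ro i) * X f (ro j) := by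
    intro i j
    rw [← hn i, ← hn j]; group
  refine ⟨n, x, y, hnT, ⟨k, hk⟩, ?_, ?_, ?_, h1, h2, h3, h4, h5, e2, e3, e1, hn, hnD⟩
  · rw [← z1e, key, ← z2e]; rfl
  · rw [← z2e, key, ← z3e]; rfl
  · rw [← z3e, key, ← z1e]; rfl

end

end Cfsg.Agent.LFourB.KTrans
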