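import Cfsg.Agent.LFourB.KTrans

/-!
# S0510, type B1: the elementary abelian group `E = ⟨z1, z2, x, y⟩`
-/

set_option autoImplicit false

namespace Cfsg.Agent.LFourB.KTrans

open Subgroup FusA EF Cfsg.Agent.Transfer.FusionBasic

variable {G : Type*} [Group G] {m : ℕ} {f : R m → R m → R m → G} {u w : G}

/-- `E = ⟨z1, z2, x, y⟩` -/
def EE (f : R m → R m → R m → G) (x y : G) : Subgroup G := closure {z1 f, z2 f, x, y}

/-- `H = ⟨z1, z2, x⟩` -/
def HH (f : R m → R m → R m → G) (x : G) : Subgroup G := closure {z1 f, z2 f, x}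

theorem HH_le {x y : G} : HH f x ≤ EE f x y := by
  apply Subgroup.closure_mono
  rintro g (h | h | h)
  · exact Or.inl h
  · exact Or.inr (Or.inl h)
  · exact Or.inr (Or.inr (Or.inl h))

section

variable {S : Subgroup G}

theorem Zg_eq (h : BOne S m f u w) : h.e_Zg = closure {z1 f, z2 f} := by
  apply le_antisymm
  · intro c hc
    have h1 : z1 f ∈ closure {z1 f, z2 f} := subset_closure (Or.inl rfl)
    have h2 : z2 f ∈ closure {z1 f, z2 f} := subset_closure (Or.inr rfl)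
    rcases (hc : Z2 (z1 f) (z2 f) c) with rfl | rfl | rfl | rfl
    · exact one_mem _
    · exact h1
    · exact h2
    · exact mul_mem h1 h2
  · rw [closure_le]
    rintro c (rfl | hc)
    · exact Z2_z _ _
    · rw [Set.mem_singleton_iff.1 hc]
      exact Z2_z' _ _

theorem HH_eq (h : BOne S m f u w) (x : G) : HH f x = h.e_Zg ⊔ zpowers x := by
  rw [Zg_eq h, zpowers_eq_closure, ← Subgroup.closure_union, HH]
  congr 1
  ext g
  simp
  tauto

theorem EE_eq (h : BOne S m f u w) (x y : G) : EE f x y = HH f x ⊔ zpowers y := by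
  rw [HH, zpowers_eq_closure, ← Subgroup.closure_union, EE]
  congr 1
  ext g
  simp
  tauto

/-- The facts about `E`. -/
structure Facts (S : Subgroup G) (f : R m → R m → R m → G) (x y : G) : Prop where
  e16 : E16 S (EE f x y)
  cardH : Nat.card (HH f x) = 8
  mem_H : ∀ g, g ∈ HH f x ↔ ∃ c, Z2 (z1 f) (z2 f) c ∧ (g = c ∨ g = c * x)
  mem_E : ∀ g, g ∈ EE f x y ↔ ∃ c, Z2 (z1 f) (z2 f) c ∧ (g = c ∨ g = c * x ∨ g = c * y ∨ g = c * (x * y))

theorem facts (h : BOne S m f u w) {a b : G} (ha : Ov f (sg u w) a) (hb : Ov f w b) (haa : a * a = 1)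
    (hbb : b * b = 1) (hab : a * b = b * a) : Facts S f a b := by
  have hca : ∀ c ∈ h.e_Zg, c * a = a * c := fun c hc => h.e_Z2_comm hc (Or.inl ha)
  have hcb : ∀ c ∈ h.e_Zg, c * b = b * c := fun c hc => h.e_Z2_comm hc (Or.inr (Or.inl hb))
  have hcsq : ∀ c ∈ h.e_Zg, c * c = 1 := by
    intro c hc
    obtain ⟨p, r, hgd, hp, hr, rfl⟩ := h.e_Z2_coord hc
    exact (h.e_sq_f_iff hgd).2 ⟨hp, hp, hr⟩
  have hn1 : ∀ c ∈ h.e_Zg, a * c * a ∈ h.e_Zg := by
    intro c hc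
    rw [← hca c hc, mul_assoc, haa, mul_one]
    exact hc
  have hmem1 : ∀ g, g ∈ HH f a ↔ ∃ c ∈ h.e_Zg, g = c ∨ g = c * a := fun g => by
    rw [HH_eq h]; exact mem_sup_zpowers haa hn1
  have hb1 : ∀ g ∈ HH f a, g * b = b * g := by
    intro g hg
    obtain ⟨c, hc, rfl | rfl⟩ := (hmem1 g).1 hg
    · exact hcb _ hc
    · rw [mul_assoc, hab, ← mul_assoc, hcb c hc, mul_assoc]
  have hn2 : ∀ g ∈ HH f a, b * g * b ∈ HH f a := by
    intro g hg
    rw [← hb1 g hg, mul_assoc, hbb, mul_one]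
    exact hg
  have hmem2 : ∀ g, g ∈ EE f a b ↔ ∃ c ∈ HH f a, g = c ∨ g = c * b := fun g => by
    rw [EE_eq h]; exact mem_sup_zpowers hbb hn2
  have hsq1 : ∀ g ∈ HH f a, g * g = 1 := by
    intro g hg
    obtain ⟨c, hc, rfl | rfl⟩ := (hmem1 g).1 hg
    · exact hcsq _ hc
    · calc c * a * (c * a) = c * (a * c) * a := by group
        _ = c * (c * a) * a := by rw [hca c hc]
        _ = (c * c) * (a * a) := by group
        _ = 1 := by rw [hcsq c hc, haa, one_mul]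
  have hsq2 : ∀ g ∈ EE f a b, g * g = 1 := by
    intro g hg
    obtain ⟨c, hc, rfl | rfl⟩ := (hmem2 g).1 hg
    · exact hsq1 _ hc
    · calc c * b * (c * b) = c * (b * c) * b := by group
        _ = c * (c * b) * b := by rw [hb1 c hc]
        _ = (c * c) * (b * b) := by group
        _ = 1 := by rw [hsq1 c hc, hbb, one_mul]
  have haZ : a ∉ h.e_Zg := fun hh => h.e_not_Tor_sg ha (h.e_Zg_le hh)
  have haS : a ∈ S := h.e_mem_S_of_Ov h.sg_mem ha
  have hbS : b ∈ S := h.e_mem_S_of_Ov h.w_mem hb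
  have hbZ : b ∉ HH f a := by
    intro hh
    obtain ⟨c, hc, h1 | h1⟩ := (hmem1 b).1 hh
    · exact h.e_not_Tor_w hb (h1 ▸ h.e_Zg_le hc)
    · have h2 : (⟨b, hbS⟩ : S) = ⟨c, h.Tor_le (h.e_Zg_le hc)⟩ * ⟨a, haS⟩ := Subtype.ext h1
      have h3 := congrArg h.pi h2
      rw [map_mul, h.pi_Tor (h.e_Zg_le hc), one_mul, h.e_pi_of_Ov h.w_mem hbS hb, h.e_pi_of_Ov h.sg_mem haS ha,
        h.e_pi_w', h.e_pi_sg] at h3
      revert h3
      decide
  have hH : Nat.card (HH f a) = 8 := by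
    rw [HH_eq h, EF.card_sup_zpowers haa hn1 haZ, h.e_card_Zg]
  refine ⟨⟨?_, ?_, hsq2⟩, hH, hmem1, ?_⟩
  · rw [EE_eq h, HH_eq h]
    refine sup_le (sup_le (h.e_Zg_le.trans h.Tor_le) ?_) ?_
    · rw [zpowers_le]; exact haS
    · rw [zpowers_le]; exact hbS
  · rw [EE_eq h, EF.card_sup_zpowers hbb hn2 hbZ, hH]
  · intro g
    rw [hmem2]
    constructor
    · rintro ⟨d, hd, h1⟩
      obtain ⟨c, hc, h2⟩ := (hmem1 d).1 hd
      refine ⟨c, hc, ?_⟩
      rcases h1 with rfl | rfl <;> rcases h2 with rfl | rfl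
      · exact Or.inl rfl
      · exact Or.inr (Or.inl rfl)
      · exact Or.inr (Or.inr (Or.inl rfl))
      · exact Or.inr (Or.inr (Or.inr (mul_assoc _ _ _)))
    · rintro ⟨c, hc, rfl | rfl | rfl | rfl⟩
      · exact ⟨_, (hmem1 _).2 ⟨_, hc, Or.inl rfl⟩, Or.inl rfl⟩
      · exact ⟨_, (hmem1 _).2 ⟨_, hc, Or.inr rfl⟩, Or.inl rfl⟩
      · exact ⟨_, (hmem1 _).2 ⟨_, hc, Or.inl rfl⟩, Or.inr rfl⟩
      · exact ⟨_, (hmem1 _).2 ⟨_, hc, Or.inr rfl⟩, Or.inr (mul_assoc _ _ _).symm⟩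

end

/-- The configuration: `n` is a 3-element of `N(T)`, `z1 → z2 → z3 → z1`, `x → y → x y → x`. -/
structure Conf (P : Subgroup G) (m : ℕ) (f : R m → R m → R m → G) (u w n x y : G) : Prop where
  n_T : n ∈ normalizer (Tor f : Set G)
  n_three : ∃ k, n ^ 3 ^ k = 1
  n_z1 : n * z1 f * n⁻¹ = z2 f
  n_z2 : n * z2 f * n⁻¹ = z3 f
  n_z3 : n * z3 f * n⁻¹ = z1 f
  x_ov : Ov f (sg u w) x
  y_ov : Ov f w y
  x_x : x * x = 1
  y_y : y * y = 1
  x_y : x * y = y * x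
  n_x : n * x * n⁻¹ = y
  n_y : n * y * n⁻¹ = x * y
  n_xy : n * (x * y) * n⁻¹ = x
  n_X : ∀ i, n * X f i * n⁻¹ = X f (ro i)
  fa : Facts P f x y
  n_E : n ∈ normalizer (EE f x y : Set G)

theorem conj_le_of_gens {n : G} {s : Set G} {K : Subgroup G} (h : ∀ g ∈ s, n * g * n⁻¹ ∈ K) :
    ∀ g ∈ closure s, n * g * n⁻¹ ∈ K := by
  have h1 : closure s ≤ K.comap (MulAut.conj n).toMonoidHom := by
    rw [closure_le]
    intro g hg
    exact h g hg
  exact fun g hg => h1 hg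

theorem exists_conf [Finite G] {P : Sylow 2 G} (h : BOne (P : Subgroup G) m f u w)
    (hz : ∃ g : G, g * z1 f * g⁻¹ = z2 f) : ∃ n x y, Conf (P : Subgroup G) m f u w n x y := by
  obtain ⟨n, x, y, h1, h2, h3, h4, h5, h6, h7, h8, h9, h10, h11, h12, h13, h14, -⟩ := exists_trans h hz
  refine ⟨n, x, y, h1, h2, h3, h4, h5, h6, h7, h8, h9, h10, h11, h12, h13, h14, facts h h6 h7 h8 h9 h10, ?_⟩
  refine mem_normalizer_of_conj_mem (conj_le_of_gens ?_)
  have e1 : z1 f ∈ EE f x y := subset_closure (Or.inl rfl)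
  have e2 : z2 f ∈ EE f x y := subset_closure (Or.inr (Or.inl rfl))
  have e3 : x ∈ EE f x y := subset_closure (Or.inr (Or.inr (Or.inl rfl)))
  have e4 : y ∈ EE f x y := subset_closure (Or.inr (Or.inr (Or.inr rfl)))
  rintro g (rfl | rfl | rfl | hg)
  · rw [h3]; exact e2
  · rw [h4, ← h.e_z3_eq]; exact mul_mem e1 e2
  · rw [h11]; exact e4
  · rw [Set.mem_singleton_iff.1 hg, h12]; exact mul_mem e3 e4

end Cfsg.Agent.LFourB.KTrans
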