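import Cfsg.Agent.LFourB.KTransE

/-!
# S0510, type B1: subgroups containing `n`, `x`, `y` and `T ∩ L1 L2`

`tor_le`: `M` contains the torus; `TV_le`: and `T V`; `norm_tor_le`: `N(T) ≤ M` if `C(T), P ≤ M`.
-/

set_option autoImplicit false

namespace Cfsg.Agent.LFourB.KTrans

open Subgroup FusA EF Cfsg.Agent.Transfer.FusionBasic

variable {G : Type*} [Group G] {m : ℕ} {f : R m → R m → R m → G} {u w : G}

section

variable {S : Subgroup G}

/-- Elements of the torus inverted by `sg`. -/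
theorem inv_sg (h : BOne S m f u w) {t : G} (ht : t ∈ Tor f) {x : G} (hx : Ov f (sg u w) x)
    (hi : x * t * x⁻¹ = t⁻¹) : ∃ a b : R m, t = f (2 * a) (2 * b) (b - a) := by
  obtain ⟨p', q', r', hg', rfl⟩ := hx
  obtain ⟨p, q, r, hg, rfl⟩ := h.mem_Tor.1 ht
  have h1 : sg u w * f p q r * (sg u w)⁻¹ = (f p q r)⁻¹ := by
    have hT : sg u w * f p q r * (sg u w)⁻¹ ∈ Tor f := h.e_S_norm _ h.sg_mem _ ht
    have e1 : f p' q' r' * sg u w * f p q r * (f p' q' r' * sg u w)⁻¹ =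
        f p' q' r' * (sg u w * f p q r * (sg u w)⁻¹) * (f p' q' r')⁻¹ := by group
    rw [e1, h.e_conj_Tor hT (h.f_mem_Tor hg')] at hi
    exact hi
  have h2 : f (-p) (-q) (r + p - q) = f (-p) (-q) (-r) := by
    rw [← h.f_inv hg, ← h1, h.sg_f hg, mul_inv_cancel_right]
  have h3 := ((h.f_eq_iff hg.actsg hg.neg).1 h2).2.2
  obtain ⟨c, hc⟩ := hg
  -- `2 (p + 2 r - 2 c) = 0`
  have h4 : 2 * (p + 2 * r - 2 * c) = 0 := by linear_combination hc + h3
  rcases eq_of_two_mul h4 with h5 | h5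
  · refine ⟨c - r, c, ?_⟩
    congr 1
    · linear_combination h5
    · linear_combination hc - h5
    · ring
  · refine ⟨c - r + M m, c + M m, ?_⟩
    have hM := two_mul_M (m := m)
    have hN := two_mul_N (m := m)
    congr 1
    · linear_combination h5 - hM
    · linear_combination hc - h5 - hM - hN + 0 * h3
    · ring

/-- `f 1 (-1) 0` is inverted by the elements over `w`. -/
theorem inv_w (h : BOne S m f u w) {y : G} (hy : Ov f w y) : y * f 1 (-1) 0 * y⁻¹ = (f 1 (-1) 0)⁻¹ := by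
  obtain ⟨p, q, r, hg, rfl⟩ := hy
  have hg1 : Good (1 : R m) (-1) 0 := ⟨0, by ring⟩
  have h1 : w * f 1 (-1) 0 * w⁻¹ = (f 1 (-1) 0)⁻¹ := by
    rw [h.w_f _ _ _ hg1, mul_inv_cancel_right, h.f_inv hg1, neg_neg]
  have e1 : f p q r * w * f 1 (-1) 0 * (f p q r * w)⁻¹ = f p q r * (w * f 1 (-1) 0 * w⁻¹) * (f p q r)⁻¹ := by group
  rw [e1, h1, h.e_conj_Tor (inv_mem (h.f_mem_Tor hg1)) (h.f_mem_Tor hg)]

/-- The torus is generated by `T ∩ L1 L2` and `f 1 (-1) 0`. -/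
theorem tor_le_of (h : BOne S m f u w) {M : Subgroup G} (h0 : ∀ a b : R m, f (2 * a) (2 * b) (b - a) ∈ M)
    (h1 : f 1 (-1) 0 ∈ M) : Tor f ≤ M := by
  intro g hg
  obtain ⟨p, q, r, ⟨c, hc⟩, rfl⟩ := h.mem_Tor.1 hg
  have hg3 : Good (1 : R m) (-1) 0 := ⟨0, by ring⟩
  have h4 : f 1 (-1) 0 ^ (p - 2 * c + 2 * r).val ∈ M := pow_mem h1 _
  rw [h.f_pow hg3, ZMod.natCast_zmod_val] at h4
  have hg4 : Good ((p - 2 * c + 2 * r) * 1) ((p - 2 * c + 2 * r) * -1) ((p - 2 * c + 2 * r) * 0) := by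
    have := hg3.pow (p - 2 * c + 2 * r).val
    rwa [ZMod.natCast_zmod_val] at this
  have h5 := mul_mem h4 (h0 (c - r) c)
  have hg5 : Good (2 * (c - r)) (2 * c) (c - (c - r)) := ⟨c, by ring⟩
  rw [h.f_mul _ _ _ _ _ _ hg4 hg5] at h5
  have e1 : (p - 2 * c + 2 * r) * 1 + 2 * (c - r) = p := by ring
  have e2 : (p - 2 * c + 2 * r) * -1 + 2 * c = q := by linear_combination -hc
  have e3 : (p - 2 * c + 2 * r) * 0 + (c - (c - r)) = r := by ring
  rwa [e1, e2, e3] at h5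

end

section Conf

variable {P : Subgroup G} {n x y : G}

/-- **The torus**: `T ≤ ⟨n, T ∩ L1 L2⟩`. -/
theorem Conf.tor_le (c : Conf P m f u w n x y) (h : BOne P m f u w) {M : Subgroup G} (hn : n ∈ M)
    (h0 : ∀ a b : R m, f (2 * a) (2 * b) (b - a) ∈ M) : Tor f ≤ M := by
  have hg1 : Good (1 : R m) (-1) 0 := ⟨0, by ring⟩
  have htT : f 1 (-1) 0 ∈ Tor f := h.f_mem_Tor hg1
  refine tor_le_of h h0 ?_
  have h1 : n⁻¹ * f 1 (-1) 0 * n ∈ Tor f := by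
    have := (mem_normalizer_iff.1 (inv_mem c.n_T) _).1 htT
    rwa [inv_inv] at this
  have h2 : x * (n⁻¹ * f 1 (-1) 0 * n) * x⁻¹ = (n⁻¹ * f 1 (-1) 0 * n)⁻¹ := by
    have e1 : x * (n⁻¹ * f 1 (-1) 0 * n) * x⁻¹ = n⁻¹ * ((n * x * n⁻¹) * f 1 (-1) 0 * (n * x * n⁻¹)⁻¹) * n := by group
    rw [e1, c.n_x, inv_w h c.y_ov]; group
  obtain ⟨a, b, hab⟩ := inv_sg h h1 c.x_ov h2
  have h3 : n⁻¹ * f 1 (-1) 0 * n ∈ M := by rw [hab]; exact h0 a b
  have h4 := mul_mem (mul_mem hn h3) (inv_mem hn)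
  have e2 : n * (n⁻¹ * f 1 (-1) 0 * n) * n⁻¹ = f 1 (-1) 0 := by group
  rwa [e2] at h4

theorem ov_mem (h : BOne P m f u w) {M : Subgroup G} (hT : Tor f ≤ M) {d a b : G} (ha : Ov f d a) (hb : Ov f d b)
    (haM : a ∈ M) : b ∈ M := by
  obtain ⟨p, q, r, hg, rfl⟩ := ha
  obtain ⟨p', q', r', hg', rfl⟩ := hb
  have h1 : d ∈ M := (M.mul_mem_cancel_left (hT (h.f_mem_Tor hg))).1 haM
  exact mul_mem (hT (h.f_mem_Tor hg')) h1

theorem Ov.self (h : BOne P m f u w) (d : G) : Ov f d d := ⟨0, 0, 0, Good.zero, by rw [h.f_zero, one_mul]⟩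

theorem Conf.sg_mem_of (c : Conf P m f u w n x y) (h : BOne P m f u w) {M : Subgroup G} (hT : Tor f ≤ M)
    (hx : x ∈ M) : sg u w ∈ M := ov_mem h hT c.x_ov (Ov.self h _) hx

theorem Conf.w_mem_of (c : Conf P m f u w n x y) (h : BOne P m f u w) {M : Subgroup G} (hT : Tor f ≤ M)
    (hy : y ∈ M) : w ∈ M := ov_mem h hT c.y_ov (Ov.self h _) hy

/-- `P ≤ ⟨T, u, w⟩` -/
theorem P_le_of (h : BOne P m f u w) {M : Subgroup G} (hT : Tor f ≤ M) (hu : u ∈ M) (hw : w ∈ M) : P ≤ M := by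
  rw [h.closure_eq, closure_le]
  rintro g (hg | rfl | hg)
  · exact hT hg
  · exact hu
  · rw [Set.mem_singleton_iff.1 hg]; exact hw

/-- **`P ≤ M`**, if `M` contains `n`, `y`, the quaternion groups. -/
theorem Conf.P_le (c : Conf P m f u w n x y) (h : BOne P m f u w) {M : Subgroup G} (hn : n ∈ M) (hy : y ∈ M)
    (h0 : ∀ a b : R m, f (2 * a) (2 * b) (b - a) ∈ M) (hu : u * x1 f ∈ M) : P ≤ M := by
  have hT := c.tor_le h hn h0
  exact P_le_of h hT ((M.mul_mem_cancel_right (hT (h.f_mem_Tor BOne.goodx1))).1 hu) (c.w_mem_of h hT hy)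

end Conf

set_option maxRecDepth 100000 in
theorem perm_cover : ∀ σ : Equiv.Perm (Fin 4), ∃ i j k : Bool, ∃ l : Fin 3, σ = d8 i j k * ro ^ (l : ℕ) := by
  decide +kernel

section

variable [Finite G] {P : Sylow 2 G} {n x y : G}

/-- **`N(T) ≤ ⟨C(T), P, n⟩`** -/
theorem Conf.norm_tor_le (c : Conf (P : Subgroup G) m f u w n x y) (h : BOne (P : Subgroup G) m f u w)
    {M : Subgroup G} (hn : n ∈ M) (hP : (P : Subgroup G) ≤ M) (hC : centralizer (Tor f : Set G) ≤ M) :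
    normalizer (Tor f : Set G) ≤ M := by
  intro g hg
  obtain ⟨σ, hσ⟩ := exists_perm h.e_sf hg
  have hσ' : Acts f g σ := hσ
  obtain ⟨i, j, k, l, hl⟩ := perm_cover σ
  have h1 : Acts f (BOne.rep u w i j k * n ^ (l : ℕ)) σ := by
    have h2 := acts_pi h ⟨BOne.rep u w i j k, h.rep_mem i j k⟩
    rw [h.e_pi_rep'] at h2
    have h3 := h2.mul ((show Acts f n ro from c.n_X).pow (l : ℕ))
    rwa [← hl] at h3
  have h2 : Acts f ((BOne.rep u w i j k * n ^ (l : ℕ))⁻¹ * g) 1 := by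
    have := h1.inv.mul hσ'
    rwa [inv_mul_cancel] at this
  have h3 : (BOne.rep u w i j k * n ^ (l : ℕ)) ∈ normalizer (Tor f : Set G) :=
    mul_mem (KTrans.P_le h (h.rep_mem i j k)) (pow_mem c.n_T _)
  have h4 := h.fus_cent (mul_mem (inv_mem h3) hg) (fun i => by
    have := h2 i
    rw [Equiv.Perm.one_apply] at this
    exact mul_inv_eq_iff_eq_mul.1 this)
  have h5 : (BOne.rep u w i j k * n ^ (l : ℕ))⁻¹ * g ∈ M := hC (mem_centralizer_iff.2 fun t ht => (h4 t ht).symm)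
  have h6 := mul_mem (mul_mem (hP (h.rep_mem i j k)) (pow_mem hn (l : ℕ))) h5
  rwa [mul_inv_cancel_left] at h6

end

end Cfsg.Agent.LFourB.KTrans
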