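import Cfsg.Agent.LFourB.KTransM
import Cfsg.Agent.LFourB.ProdBOneMain
import Cfsg.Agent.Classification.IdU.Gen
import Cfsg.Agent.Classification.RankOneCore

/-!
# S0510, type B1: `C(z1) ≤ M`

If `M` contains the two components `U1`, `U2` of `C(z1)` modulo the core, the Sylow group `P`, and every subgroup of
odd order normalised by `E`, then `C(z1) ≤ M`.
-/

set_option autoImplicit false

namespace Cfsg.Agent.LFourB.KTrans

open Subgroup FusA EF Cfsg.Agent.Transfer.FusionBasic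

variable {G : Type*} [Group G] {m : ℕ} {f : R m → R m → R m → G} {u w : G}

theorem not_dvd_relIndex [Finite G] {p : ℕ} [Fact p.Prime] {S L : Subgroup G} (h : SylIn p S L) :
    ¬ p ∣ S.relIndex L := by
  obtain ⟨T, rfl⟩ := h.exists_sylow
  have h1 : ((T : Subgroup L).map L.subtype).subgroupOf L = (T : Subgroup L) := by
    rw [subgroupOf, comap_map_eq_self_of_injective L.subtype_injective]
  rw [relIndex, h1]
  exact T.not_dvd_index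

/-- `Q1` is generalized quaternion. -/
theorem quat_one {S : Subgroup G} (h : BOne S m f u w) :
    Nonempty (Qone f u ≃* QuaternionGroup (2 ^ (m + 2))) := by
  have h1 := ProdTqq.equivQ1 h.tqq
  rw [h.tqq_Q1] at h1
  exact ⟨h1⟩

/-- `Q2` is generalized quaternion. -/
theorem quat_two {S : Subgroup G} (h : BOne S m f u w) :
    Nonempty (Qtwo f u w ≃* QuaternionGroup (2 ^ (m + 2))) := by
  have h1 := ProdTqq.equivQ1 h.tqq.swap
  have h2 : h.tqq.swap.Q1 = h.tqq.Q2 := rfl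
  rw [h2, h.tqq_Q2] at h1
  exact ⟨h1⟩

section

variable [Finite G] {P : Sylow 2 G}

theorem cent_of_odd {Q : Subgroup G} (hP : Q ≤ (P : Subgroup G)) {k : ℕ}
    (hq : Nonempty (Q ≃* QuaternionGroup (2 ^ (k + 2)))) {g : G} (hg : ∀ x ∈ Q, g * x * g⁻¹ ∈ Q)
    (ho : Odd (orderOf g)) : ∀ x ∈ Q, g * x = x * g := by
  have h1 := Cfsg.Agent.Classification.RankOneCore.mem_centralizer_of_odd (P.2.to_le hP)
    (Or.inr ⟨k + 2, by omega, hq⟩) (mem_normalizer_of_conj_mem hg) ho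
  intro x hx
  exact (mem_centralizer_iff.1 h1 x hx).symm

/-- **`C(z1) ≤ M`.** -/
theorem cent_le (h : BOne (P : Subgroup G) m f u w) {U1 U2 E M : Subgroup G}
    (perm : ∀ g ∈ centralizer ({z1 f} : Set G), ((∀ x ∈ U1, g * x * g⁻¹ ∈ U1) ∧ ∀ x ∈ U2, g * x * g⁻¹ ∈ U2) ∨
      ((∀ x ∈ U1, g * x * g⁻¹ ∈ U2) ∧ ∀ x ∈ U2, g * x * g⁻¹ ∈ U1))
    (odd : ∀ g ∈ centralizer ({z1 f} : Set G), Odd (orderOf g) →
      (∀ x ∈ U1, g * x * g⁻¹ ∈ U1) ∧ ∀ x ∈ U2, g * x * g⁻¹ ∈ U2)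
    (hU1 : U1 ≤ centralizer ({z1 f} : Set G)) (hU2 : U2 ≤ centralizer ({z1 f} : Set G))
    (q1 : Qone f u ≤ U1) (q2 : Qtwo f u w ≤ U2) (s1 : ∀ s ∈ (P : Subgroup G), s ∈ U1 → s ∈ Qone f u)
    (s2 : ∀ s ∈ (P : Subgroup G), s ∈ U2 → s ∈ Qtwo f u w)
    (hM1 : U1 ≤ M) (hM2 : U2 ≤ M) (hMP : (P : Subgroup G) ≤ M) (hE : E ≤ (P : Subgroup G))
    (hodd : ∀ K : Subgroup G, ¬ 2 ∣ Nat.card K → (∀ b ∈ E, ∀ x ∈ K, b * x * b⁻¹ ∈ K) → K ≤ M) :
    centralizer ({z1 f} : Set G) ≤ M := by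
  have hPC : (P : Subgroup G) ≤ centralizer ({z1 f} : Set G) := h.S_le_centralizer
  have hQ1P : Qone f u ≤ (P : Subgroup G) := h.Qone_le
  have hQ2P : Qtwo f u w ≤ (P : Subgroup G) := h.Qtwo_le
  have hsylC : SylIn 2 (P : Subgroup G) (centralizer ({z1 f} : Set G)) :=
    ⟨hPC, P.2, fun R hPR _ hR => P.3 hR hPR⟩
  -- the product `Y`
  set Y := U1 ⊔ U2 with hY
  have hU1Y : U1 ≤ Y := le_sup_left
  have hU2Y : U2 ≤ Y := le_sup_right
  have hYC : Y ≤ centralizer ({z1 f} : Set G) := sup_le hU1 hU2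
  have hYM : Y ≤ M := sup_le hM1 hM2
  have hYn : centralizer ({z1 f} : Set G) ≤ normalizer (Y : Set G) := by
    intro g hg
    refine mem_normalizer_of_conj_mem ?_
    have h1 : Y ≤ Y.comap (MulAut.conj g).toMonoidHom := by
      rcases perm g hg with ⟨h1, h2⟩ | ⟨h1, h2⟩
      · exact sup_le (fun x hx => hU1Y (h1 x hx)) (fun x hx => hU2Y (h2 x hx))
      · exact sup_le (fun x hx => hU2Y (h1 x hx)) (fun x hx => hU1Y (h2 x hx))
    exact fun x hx => h1 hx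
  have hsylY := hsylC.inf hYC hYn
  -- the normaliser `N` of `P ∩ Y`
  set N := centralizer ({z1 f} : Set G) ⊓ normalizer (((P : Subgroup G) ⊓ Y : Subgroup G) : Set G) with hN
  have hPN : (P : Subgroup G) ≤ N := by
    intro s hs
    refine ⟨hPC hs, mem_normalizer_of_conj_mem fun x hx => mem_inf.2 ⟨?_, ?_⟩⟩
    · exact (P : Subgroup G).mul_mem ((P : Subgroup G).mul_mem hs (mem_inf.1 hx).1) ((P : Subgroup G).inv_mem hs)
    · exact (mem_normalizer_iff.1 (hYn (hPC hs)) x).1 (mem_inf.1 hx).2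
  have hsylN : SylIn 2 (P : Subgroup G) N := ⟨hPN, P.2, fun R hPR _ hR => P.3 hR hPR⟩
  have hNP : ∀ g ∈ N, ∀ x ∈ (P : Subgroup G), x ∈ Y → g * x * g⁻¹ ∈ (P : Subgroup G) := by
    intro g hg x hx hxY
    exact ((mem_normalizer_iff.1 hg.2 x).1 ⟨hx, hxY⟩).1
  have hNQ : ∀ g ∈ N, ((∀ x ∈ Qone f u, g * x * g⁻¹ ∈ Qone f u) ∧ ∀ x ∈ Qtwo f u w, g * x * g⁻¹ ∈ Qtwo f u w) ∨
      ((∀ x ∈ Qone f u, g * x * g⁻¹ ∈ Qtwo f u w) ∧ ∀ x ∈ Qtwo f u w, g * x * g⁻¹ ∈ Qone f u) := by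
    intro g hg
    have e1 : ∀ x ∈ Qone f u, g * x * g⁻¹ ∈ (P : Subgroup G) := fun x hx => hNP g hg x (hQ1P hx) (hU1Y (q1 hx))
    have e2 : ∀ x ∈ Qtwo f u w, g * x * g⁻¹ ∈ (P : Subgroup G) := fun x hx => hNP g hg x (hQ2P hx) (hU2Y (q2 hx))
    rcases perm g hg.1 with ⟨h1, h2⟩ | ⟨h1, h2⟩
    · exact Or.inl ⟨fun x hx => s1 _ (e1 x hx) (h1 x (q1 hx)), fun x hx => s2 _ (e2 x hx) (h2 x (q2 hx))⟩
    · exact Or.inr ⟨fun x hx => s2 _ (e1 x hx) (h1 x (q1 hx)), fun x hx => s1 _ (e2 x hx) (h2 x (q2 hx))⟩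
  set D := N ⊓ centralizer ((Qone f u ⊔ Qtwo f u w : Subgroup G) : Set G) with hD
  have hmemD : ∀ g, g ∈ D ↔ g ∈ N ∧ (∀ x ∈ Qone f u, g * x = x * g) ∧ ∀ x ∈ Qtwo f u w, g * x = x * g := by
    intro g
    rw [hD, mem_inf]
    refine and_congr_right fun _ => ?_
    rw [mem_centralizer_iff]
    constructor
    · intro h1
      exact ⟨fun x hx => (h1 x (mem_sup_left hx)).symm, fun x hx => (h1 x (mem_sup_right hx)).symm⟩
    · rintro ⟨h1, h2⟩ x hx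
      have h3 : Qone f u ⊔ Qtwo f u w ≤ centralizer ({g} : Set G) :=
        sup_le (fun x hx => mem_centralizer_singleton_iff.2 (h1 x hx).symm)
          (fun x hx => mem_centralizer_singleton_iff.2 (h2 x hx).symm)
      exact mem_centralizer_singleton_iff.1 (h3 hx)
  have hDN : D ≤ N := inf_le_left
  have hND : N ≤ normalizer (D : Set G) := by
    intro g hg
    refine mem_normalizer_of_conj_mem fun d hd => ?_
    obtain ⟨d0, d1, d2⟩ := (hmemD d).1 hd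
    refine (hmemD _).2 ⟨mul_mem (mul_mem hg d0) (inv_mem hg), ?_, ?_⟩
    · intro x hx
      have hx' : g⁻¹ * x * g⁻¹⁻¹ ∈ Qone f u ∨ g⁻¹ * x * g⁻¹⁻¹ ∈ Qtwo f u w := by
        rcases hNQ g⁻¹ (inv_mem hg) with ⟨h1, -⟩ | ⟨h1, -⟩
        · exact Or.inl (h1 x hx)
        · exact Or.inr (h1 x hx)
      have h3 : d * (g⁻¹ * x * g⁻¹⁻¹) = (g⁻¹ * x * g⁻¹⁻¹) * d := hx'.elim (d1 _) (d2 _)
      calc g * d * g⁻¹ * x = g * (d * (g⁻¹ * x * g⁻¹⁻¹)) * g⁻¹ := by group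
        _ = x * (g * d * g⁻¹) := by rw [h3]; group
    · intro x hx
      have hx' : g⁻¹ * x * g⁻¹⁻¹ ∈ Qone f u ∨ g⁻¹ * x * g⁻¹⁻¹ ∈ Qtwo f u w := by
        rcases hNQ g⁻¹ (inv_mem hg) with ⟨-, h1⟩ | ⟨-, h1⟩
        · exact Or.inr (h1 x hx)
        · exact Or.inl (h1 x hx)
      have h3 : d * (g⁻¹ * x * g⁻¹⁻¹) = (g⁻¹ * x * g⁻¹⁻¹) * d := hx'.elim (d1 _) (d2 _)
      calc g * d * g⁻¹ * x = g * (d * (g⁻¹ * x * g⁻¹⁻¹)) * g⁻¹ := by group
        _ = x * (g * d * g⁻¹) := by rw [h3]; group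
  -- odd elements of `N` lie in `D`
  have hoddD : ∀ g ∈ N, Odd (orderOf g) → g ∈ D := by
    intro g hg ho
    have e1 : ∀ x ∈ Qone f u, g * x * g⁻¹ ∈ Qone f u := fun x hx =>
      s1 _ (hNP g hg x (hQ1P hx) (hU1Y (q1 hx))) ((odd g hg.1 ho).1 x (q1 hx))
    have e2 : ∀ x ∈ Qtwo f u w, g * x * g⁻¹ ∈ Qtwo f u w := fun x hx =>
      s2 _ (hNP g hg x (hQ2P hx) (hU2Y (q2 hx))) ((odd g hg.1 ho).2 x (q2 hx))
    exact (hmemD g).2 ⟨hg, cent_of_odd hQ1P (quat_one h) e1 ho, cent_of_odd hQ2P (quat_two h) e2 ho⟩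
  have hpow : ∀ x ∈ N, ∃ k : ℕ, x ^ 2 ^ k ∈ D := by
    intro x hx
    obtain ⟨k, b, hb, hkb⟩ := Nat.exists_eq_pow_mul_and_not_dvd (n := orderOf x) (orderOf_pos x).ne' 2 (by norm_num)
    refine ⟨k, hoddD _ (pow_mem hx _) ?_⟩
    have h1 : orderOf (x ^ 2 ^ k) = b := by
      rw [orderOf_pow, hkb, Nat.gcd_eq_right (Dvd.intro _ rfl)]
      exact Nat.mul_div_cancel_left _ (by positivity)
    rw [h1]
    exact Nat.odd_iff.2 (by omega)
  -- the cyclic Sylow subgroup of `D`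
  have hsylD := hsylN.inf hDN hND
  have hg2 : Good (0 : R m) 0 2 := ⟨1, by ring⟩
  have hle : (P : Subgroup G) ⊓ D ≤ zpowers (f 0 0 2) := by
    intro s hs
    obtain ⟨-, d1, d2⟩ := (hmemD s).1 hs.2
    obtain ⟨c, rfl⟩ := h.cent_QQ hs.1 d1 d2
    refine mem_zpowers_iff.2 ⟨(c.val : ℤ), ?_⟩
    rw [zpow_natCast, h.f_pow hg2, ZMod.natCast_zmod_val]
    congr 1 <;> ring
  have hcyc : IsCyclic ((P : Subgroup G) ⊓ D : Subgroup G) :=
    isCyclic_of_injective (Subgroup.inclusion hle) (Subgroup.inclusion_injective hle)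
  obtain ⟨O, hOD, hOodd, hO1, hO2, -⟩ := Cfsg.Agent.Classification.IdU.Gen.exists_odd_core D
    ((P : Subgroup G) ⊓ D) hsylD.isPGroup hsylD.le hcyc (not_dvd_relIndex hsylD)
  have hOM : O ≤ M := by
    refine hodd O (fun h2 => (Nat.not_even_iff_odd.2 hOodd) (even_iff_two_dvd.2 h2)) ?_
    intro b hb x hx
    have hbN : b ∈ N := hPN (hE hb)
    have h1 : b * x * b⁻¹ ∈ D := (mem_normalizer_iff.1 (hND hbN) x).1 (hOD hx)
    refine (hO1 _ h1).2 ?_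
    have e1 : b * x * b⁻¹ = MulAut.conj b x := rfl
    rw [e1, MulEquiv.orderOf_eq]
    exact (hO1 _ (hOD hx)).1 hx
  -- the conclusion
  intro g hg
  obtain ⟨y, hy, hyg⟩ := hsylY.frattini hYn hg
  have hyN : y * g ∈ N := ⟨mul_mem (hYC hy) hg, hyg⟩
  obtain ⟨d, hd, s, hs, hds⟩ := hsylN.exists_mul hDN hND hpow hyN
  obtain ⟨o, ho, s', hs', hos⟩ := hO2 d hd
  have h1 : y * g ∈ M := by
    rw [hds, ← hos]
    exact mul_mem (mul_mem (hOM ho) (hMP hs'.1)) (hMP hs)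
  exact (M.mul_mem_cancel_left (hYM hy)).1 h1

end

end Cfsg.Agent.LFourB.KTrans
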