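import Cfsg.Agent.LFourB.StepSixFive
import Cfsg.Agent.LFourR.LiftSL
import Cfsg.Agent.LFourR.SideEx

/-!
# Type B5, case (a2): the subgroups `L₁, L₂ ≃* SL(2,F)` of `C(z)`

`LB φ F L₁ L₂` : `L₁`, `L₂` commute, contain `φ Q1`, `φ Q2`, are permuted by `C(z)` and commute with `O(C(z))`, which is
inverted by the elements of `V1 \ Q`; `C(L₁L₂) = ⟨z⟩ O(C(z))`; 2-elements of `C(L₁)` lie in `L₂`.
`exists_lb` : from `CZL`, `SPos` and the fact that `x2` inverts `O(C(z))`.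
-/

set_option autoImplicit false

namespace Cfsg.Agent.LFourB.LBFive

open Subgroup Cfsg Cfsg.Agent.LFourB M7 StepSixModel StepSixOut
open Cfsg.Agent.LFourA.CzCt Cfsg.Agent.LFourR.LiftSL Cfsg.Agent.LFourR

universe u

/-- The subgroups `L₁`, `L₂` of `C(z)`. -/
structure LB {G : Type*} [Group G] (φ : M7 →* G) (F : Type*) [Field F] (L₁ L₂ : Subgroup G) : Prop where
  iso₁ : Nonempty (L₁ ≃* Matrix.SpecialLinearGroup (Fin 2) F)
  iso₂ : Nonempty (L₂ ≃* Matrix.SpecialLinearGroup (Fin 2) F)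
  comm : ∀ x ∈ L₁, ∀ y ∈ L₂, x * y = y * x
  q₁ : ∀ m ∈ Q1, φ m ∈ L₁
  q₂ : ∀ m ∈ Q2, φ m ∈ L₂
  inf₁ : ∀ m, φ m ∈ L₁ → m ∈ Q1
  inf₂ : ∀ m, φ m ∈ L₂ → m ∈ Q2
  keep : ∀ m, tU m = true → cg (φ m) L₁ = L₁ ∧ cg (φ m) L₂ = L₂
  swap : ∀ m, tU m = false → cg (φ m) L₁ = L₂ ∧ cg (φ m) L₂ = L₁
  perm : ∀ g : G, g * φ z = φ z * g → (cg g L₁ = L₁ ∧ cg g L₂ = L₂) ∨ (cg g L₁ = L₂ ∧ cg g L₂ = L₁)
  cent : ∀ g : G, (∀ x ∈ L₁, g * x = x * g) → (∀ x ∈ L₂, g * x = x * g) →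
    g ∈ centralizerPPrimeCore 2 (φ z) ∨ g * φ z ∈ centralizerPPrimeCore 2 (φ z)
  core₁ : ∀ o ∈ centralizerPPrimeCore 2 (φ z), ∀ x ∈ L₁, o * x = x * o
  core₂ : ∀ o ∈ centralizerPPrimeCore 2 (φ z), ∀ x ∈ L₂, o * x = x * o
  inv : ∀ m ∈ V1, m ∉ Q → ∀ o ∈ centralizerPPrimeCore 2 (φ z), φ m * o * (φ m)⁻¹ = o⁻¹
  two₁ : ∀ (x : G) (k : ℕ), x ^ 2 ^ k = 1 → (∀ a ∈ L₁, x * a = a * x) → x ∈ L₂
  two₂ : ∀ (x : G) (k : ℕ), x ^ 2 ^ k = 1 → (∀ a ∈ L₂, x * a = a * x) → x ∈ L₁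

/-! ### Facts on `M7` -/

theorem Q_mul : ∀ m : M7, m ∈ Q → (∃ a ∈ Q1, ∃ b ∈ Q2, m = a * b) := by
  have h : ∀ m : M7, m ∈ Q → (m ∈ Q1 ∨ m ∈ Q2 ∨ a1⁻¹ * m ∈ Q2 ∨ b1⁻¹ * m ∈ Q2 ∨ (a1 * b1)⁻¹ * m ∈ Q2) := by
    decide +kernel
  intro m hm
  rcases h m hm with h1 | h1 | h1 | h1 | h1
  · exact ⟨m, h1, 1, one_mem _, by rw [mul_one]⟩
  · exact ⟨1, one_mem _, m, h1, by rw [one_mul]⟩
  · exact ⟨a1, a1_mem, _, h1, by group⟩
  · exact ⟨b1, StepSixFive.b1_mem, _, h1, by group⟩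
  · exact ⟨a1 * b1, mul_mem a1_mem StepSixFive.b1_mem, _, h1, by group⟩

theorem V1_x2 : ∀ m : M7, m ∈ V1 → m ∉ Q → x2⁻¹ * m ∈ Q := by decide +kernel

theorem cg_le_of {G : Type*} [Group G] {g : G} {L M : Subgroup G} (h : ∀ x ∈ L, g * x * g⁻¹ ∈ M) : cg g L ≤ M := by
  intro x hx
  have h1 := h _ (mem_cg.1 hx)
  have e : g * (g⁻¹ * x * g) * g⁻¹ = x := by group
  rwa [e] at h1

theorem cg_eq_of {G : Type*} [Group G] {g : G} {L M : Subgroup G} (h : ∀ x ∈ L, g * x * g⁻¹ ∈ M)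
    (h' : ∀ x ∈ M, g⁻¹ * x * g ∈ L) : cg g L = M := by
  apply le_antisymm (cg_le_of h)
  intro x hx
  exact mem_cg.2 (h' x hx)

theorem card_cg {G : Type*} [Group G] (g : G) (L : Subgroup G) : Nat.card (cg g L) = Nat.card L :=
  Subgroup.card_map_of_injective (MulAut.conj g).injective

theorem cg_eq_of_card {G : Type*} [Group G] [Finite G] {g : G} {L M : Subgroup G} (h : ∀ x ∈ L, g * x * g⁻¹ ∈ M)
    (hc : Nat.card L = Nat.card M) : cg g L = M :=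
  Subgroup.eq_of_le_of_card_ge (cg_le_of h) (by rw [card_cg, hc])

section

variable {G : Type u} [Group G] [Finite G] {S : Sylow 2 G} {φ : M7 →* G}
  {X : Type u} [Group X] [Finite X] {p : centralizer ({φ z} : Set G) →* X} {K₁ K₂ : Subgroup X}
  {F : Type*} [Field F] [Fintype F]

omit [Finite G] [Finite X] in
theorem up_conj {g : G} (hg : g ∈ centralizer ({φ z} : Set G)) {K K' : Subgroup X}
    (hk : ∀ x ∈ K, p ⟨g, hg⟩ * x * (p ⟨g, hg⟩)⁻¹ ∈ K') {x : G} (hx : x ∈ up p K) : g * x * g⁻¹ ∈ up p K' := by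
  obtain ⟨h1, h2⟩ := mem_up.1 hx
  refine mem_up.2 ⟨mul_mem (mul_mem hg h1) (inv_mem hg), ?_⟩
  have h3 := hk _ h2
  rw [← map_inv, ← map_mul, ← map_mul] at h3
  exact h3

omit [Finite G] [Finite X] in
theorem dat (hE : Emb7 (S : Subgroup G) φ) (hC : CZL (φ z) F p K₁ K₂) (hS : SPos φ p K₁ K₂)
    (hodd : Odd (Fintype.card F)) (h3 : 3 < Fintype.card F) (h9 : Fintype.card F ≠ 9)
    (hinv : ∀ o ∈ centralizerPPrimeCore 2 (φ z), φ x2 * o * (φ x2)⁻¹ = o⁻¹) :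
    Dat F p K₁ (φ x2) ∧ Dat F p K₂ (φ x2) := by
  have hz1 : φ z ≠ 1 := fun h => z_ne (hE.inj (h.trans (map_one φ).symm))
  have hzz : φ z * φ z = 1 := by rw [← map_mul, z_sq, map_one]
  have hbz : φ x2 * φ z = φ z * φ x2 := by rw [← map_mul, ← map_mul, z_comm]
  have key : ∀ K K' : Subgroup X, (∀ x ∈ K, ∀ y ∈ K', x * y = y * x) →
      (∀ x ∈ K, p (res φ x2) * x * (p (res φ x2))⁻¹ ∈ K') →
      ∀ x ∈ up p K, ∀ y ∈ up p K, x * (φ x2 * y * (φ x2)⁻¹) * x⁻¹ * (φ x2 * y * (φ x2)⁻¹)⁻¹ ∈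
        centralizerPPrimeCore 2 (φ z) := by
    intro K K' hc hs x hx y hy
    obtain ⟨hx1, hx2⟩ := mem_up.1 hx
    obtain ⟨hy1, hy2⟩ := mem_up.1 (up_conj (mem_cent φ x2) hs hy)
    have h1 : p (⟨x, hx1⟩ * ⟨_, hy1⟩ * ⟨x, hx1⟩⁻¹ * ⟨_, hy1⟩⁻¹) = 1 := by
      rw [map_mul, map_mul, map_mul, map_inv, map_inv, hc _ hx2 _ hy2]; group
    exact (hC.ker _).1 h1
  constructor
  · exact { z_ne := hz1, zz := hzz, surj := hC.surj, ker := hC.ker, z₁ := hC.z₁, iso := hC.e₁, odd := hodd, three := h3,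
            nine := fun h => absurd h h9, bz := hbz, inv := hinv,
            swap := key K₁ K₂ hC.comm (fun x hx => (hS.swap x2 tU_x2 x).1 hx) }
  · exact { z_ne := hz1, zz := hzz, surj := hC.surj, ker := hC.ker, z₁ := hC.z₂, iso := hC.e₂, odd := hodd, three := h3,
            nine := fun h => absurd h h9, bz := hbz, inv := hinv,
            swap := key K₂ K₁ (fun x hx y hy => (hC.comm y hy x hx).symm) (fun x hx => (hS.swap x2 tU_x2 x).2 hx) }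

/-- **The subgroups `L₁`, `L₂`.** -/
theorem exists_lb (hE : Emb7 (S : Subgroup G) φ) (hC : CZL (φ z) F p K₁ K₂) (hS : SPos φ p K₁ K₂)
    (hodd : Odd (Fintype.card F)) (h3 : 3 < Fintype.card F) (h9 : Fintype.card F ≠ 9)
    (hinv : ∀ o ∈ centralizerPPrimeCore 2 (φ z), φ x2 * o * (φ x2)⁻¹ = o⁻¹) :
    LB φ F (lof p K₁) (lof p K₂) := by
  obtain ⟨D1, D2⟩ := dat hE hC hS hodd h3 h9 hinv
  have hcard : Nat.card (lof p K₁) = Nat.card (lof p K₂) := by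
    obtain ⟨e1⟩ := D1.iso_lof
    obtain ⟨e2⟩ := D2.iso_lof
    exact Nat.card_congr (e1.trans e2.symm).toEquiv
  have horder : ∀ m : M7, m ^ 2 ^ 3 = 1 := by
    have : ∀ m : M7, m * m * (m * m) * (m * m * (m * m)) = 1 := by decide +kernel
    intro m
    rw [← this m]
    norm_num only
    simp only [pow_succ, pow_zero, one_mul, mul_assoc]
  have cgw : ∀ (g : G) (hg : g ∈ centralizer ({φ z} : Set G)) (K K' : Subgroup X),
      Nat.card (lof p K) = Nat.card (lof p K') → (∀ x ∈ K, p ⟨g, hg⟩ * x * (p ⟨g, hg⟩)⁻¹ ∈ K') →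
      cg g (lof p K) = lof p K' := by
    intro g hg K K' hc hk
    exact cg_eq_of_card (fun x hx => conj_lof (fun y hy => up_conj hg hk hy) hx) hc
  have hcore₁ : ∀ o ∈ centralizerPPrimeCore 2 (φ z), ∀ x ∈ lof p K₁, o * x = x * o := fun o ho x hx => D1.comm_core hx ho
  have hcore₂ : ∀ o ∈ centralizerPPrimeCore 2 (φ z), ∀ x ∈ lof p K₂, o * x = x * o := fun o ho x hx => D2.comm_core hx ho
  have hq₁ : ∀ m ∈ Q1, φ m ∈ lof p K₁ := fun m hm =>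
    D1.mem_of_pow (hS.q₁ m hm) (m := 3) (by rw [← map_pow, horder, map_one])
  have hq₂ : ∀ m ∈ Q2, φ m ∈ lof p K₂ := fun m hm =>
    D2.mem_of_pow (hS.q₂ m hm) (m := 3) (by rw [← map_pow, horder, map_one])
  refine
    { iso₁ := D1.iso_lof
      iso₂ := D2.iso_lof
      comm := fun x hx y hy => comm_lof D1 hC.comm hx hy
      q₁ := hq₁
      q₂ := hq₂
      inf₁ := fun m hm => hS.inf₁ m (lof_le_up p K₁ hm)
      inf₂ := fun m hm => hS.inf₂ m (lof_le_up p K₂ hm)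
      keep := fun m hm => ⟨cgw _ (mem_cent φ m) K₁ K₁ rfl (fun x hx => (hS.keep m hm x).1 hx),
        cgw _ (mem_cent φ m) K₂ K₂ rfl (fun x hx => (hS.keep m hm x).2 hx)⟩
      swap := fun m hm => ⟨cgw _ (mem_cent φ m) K₁ K₂ hcard (fun x hx => (hS.swap m hm x).1 hx),
        cgw _ (mem_cent φ m) K₂ K₁ hcard.symm (fun x hx => (hS.swap m hm x).2 hx)⟩
      perm := ?_
      cent := ?_
      core₁ := hcore₁
      core₂ := hcore₂
      inv := ?_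
      two₁ := ?_
      two₂ := ?_ }
  · intro g hg
    have hg' := mem_centralizer_singleton_iff.2 hg
    rcases hC.norm (p ⟨g, hg'⟩) with ⟨h1, h2⟩ | ⟨h1, h2⟩
    · exact Or.inl ⟨cgw g hg' K₁ K₁ rfl h1, cgw g hg' K₂ K₂ rfl h2⟩
    · exact Or.inr ⟨cgw g hg' K₁ K₂ hcard h1, cgw g hg' K₂ K₁ hcard.symm h2⟩
  · intro g h1 h2
    have hgz : g ∈ centralizer ({φ z} : Set G) := mem_centralizer_singleton_iff.2 (h1 _ D1.z_mem)
    have key : ∀ (K : Subgroup X), (∀ k ∈ K, ∃ l : G, ∃ hl : l ∈ centralizer ({φ z} : Set G), l ∈ lof p K ∧ p ⟨l, hl⟩ = k) →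
        (∀ x ∈ lof p K, g * x = x * g) → ∀ x ∈ K, p ⟨g, hgz⟩ * x = x * p ⟨g, hgz⟩ := by
      intro K hK hx x hxK
      obtain ⟨l, hl, hl', rfl⟩ := hK x hxK
      rw [← map_mul, ← map_mul]
      congr 1
      exact Subtype.ext (hx l hl')
    rcases hC.cent (p ⟨g, hgz⟩) (key K₁ (fun k hk => D1.exists_lof hk) h1) (key K₂ (fun k hk => D2.exists_lof hk) h2)
      with h4 | h4
    · left
      exact (hC.ker _).1 h4
    · right
      have h5 : p (⟨g, hgz⟩ * self (φ z)) = 1 := by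
        rw [map_mul, h4, ← map_mul]
        have : self (φ z) * self (φ z) = 1 := Subtype.ext D1.zz
        rw [this, map_one]
      exact (hC.ker _).1 h5
  · intro m hm hmQ o ho
    obtain ⟨a, ha, b, hb, e⟩ := Q_mul _ (V1_x2 m hm hmQ)
    have e1 : m = x2 * (a * b) := by rw [← e]; group
    have h4 : φ a * φ b * o * (φ a * φ b)⁻¹ = o := by
      have h5 := hcore₁ o ho _ (hq₁ a ha)
      have h6 := hcore₂ o ho _ (hq₂ b hb)
      calc φ a * φ b * o * (φ a * φ b)⁻¹ = φ a * (φ b * o) * (φ b)⁻¹ * (φ a)⁻¹ := by group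
        _ = φ a * (o * φ b) * (φ b)⁻¹ * (φ a)⁻¹ := by rw [h6]
        _ = (φ a * o) * (φ a)⁻¹ := by group
        _ = (o * φ a) * (φ a)⁻¹ := by rw [h5]
        _ = o := by group
    rw [e1, map_mul, map_mul]
    calc φ x2 * (φ a * φ b) * o * (φ x2 * (φ a * φ b))⁻¹
        = φ x2 * (φ a * φ b * o * (φ a * φ b)⁻¹) * (φ x2)⁻¹ := by group
      _ = o⁻¹ := by rw [h4, hinv o ho]
  · intro x k hk hx
    have hxz : x ∈ centralizer ({φ z} : Set G) := mem_centralizer_singleton_iff.2 (hx _ D1.z_mem)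
    have hpk : (p ⟨x, hxz⟩) ^ 2 ^ k = 1 := by
      rw [← map_pow]
      have : (⟨x, hxz⟩ : centralizer ({φ z} : Set G)) ^ 2 ^ k = 1 := Subtype.ext hk
      rw [this, map_one]
    have h4 := (StepSixFive.two hE hC hS hpk).1 (by
      intro a ha
      obtain ⟨l, hl, hl', rfl⟩ := D1.exists_lof ha
      rw [← map_mul, ← map_mul]
      congr 1
      exact Subtype.ext (hx l hl'))
    exact D2.mem_of_pow (mem_up.2 ⟨hxz, h4⟩) hk
  · intro x k hk hx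
    have hxz : x ∈ centralizer ({φ z} : Set G) := mem_centralizer_singleton_iff.2 (hx _ D2.z_mem)
    have hpk : (p ⟨x, hxz⟩) ^ 2 ^ k = 1 := by
      rw [← map_pow]
      have : (⟨x, hxz⟩ : centralizer ({φ z} : Set G)) ^ 2 ^ k = 1 := Subtype.ext hk
      rw [this, map_one]
    have h4 := (StepSixFive.two hE hC hS hpk).2 (by
      intro a ha
      obtain ⟨l, hl, hl', rfl⟩ := D2.exists_lof ha
      rw [← map_mul, ← map_mul]
      congr 1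
      exact Subtype.ext (hx l hl'))
    exact D1.mem_of_pow (mem_up.2 ⟨hxz, h4⟩) hk

end

end Cfsg.Agent.LFourB.LBFive
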