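import Cfsg.Agent.LFourB.MonoSyl

/-!
# Coordinates on a Sylow 2-subgroup of type `PSL_4(q)`, `q = 1 mod 4`

`MB S k f d`: the subgroup `S` of `G` is `A : Dih`, where `A` is the group of the vectors of sum zero in `(ZMod 2^k)^4` modulo
the constant vectors (of order dividing 4), and the dihedral group `Dih` of order 8 permutes the coordinates.
`exists_MB`: a Sylow 2-subgroup isomorphic to one of `PSL_4(F)`, `|F| = 1 mod 4`, has such coordinates.
-/

set_option autoImplicit false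

namespace Cfsg.Agent.LFourB.Mono

open Equiv Matrix

/-- Coordinates on a 2-group of type `PSL_4(q)`, `q = 1 mod 4`. -/
structure MB {G : Type*} [Group G] (S : Subgroup G) (k : ℕ) (f : (Fin 4 → ZMod (2 ^ k)) → G) (d : Perm (Fin 4) → G) :
    Prop where
  hk : 2 ≤ k
  f_add : ∀ a b : Fin 4 → ZMod (2 ^ k), ∑ i, a i = 0 → ∑ i, b i = 0 → f (a + b) = f a * f b
  f_one : ∀ a : Fin 4 → ZMod (2 ^ k), ∑ i, a i = 0 → (f a = 1 ↔ ∀ i, a i = a 0)
  d_mul : ∀ σ ∈ Dih, ∀ τ ∈ Dih, d (σ * τ) = d σ * d τ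
  d_f : ∀ σ ∈ Dih, ∀ a : Fin 4 → ZMod (2 ^ k), ∑ i, a i = 0 → d σ * f a = f (fun i => a (σ⁻¹ i)) * d σ
  uniq : ∀ σ ∈ Dih, ∀ a : Fin 4 → ZMod (2 ^ k), ∑ i, a i = 0 → f a * d σ = 1 → σ = 1
  mem_iff : ∀ g, g ∈ S ↔ ∃ a : Fin 4 → ZMod (2 ^ k), ∑ i, a i = 0 ∧ ∃ σ ∈ Dih, g = f a * d σ

/-! ### The signs -/

/-- The sign vector of the lift of `σ ∈ Dih`. -/
def e2 (σ : Perm (Fin 4)) : Fin 4 → ZMod 2 :=
  let i : ZMod 2 := ((σ⁻¹ 0).val : ZMod 2)
  let j : ZMod 2 := ((σ⁻¹ 2).val : ZMod 2)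
  ![j + i * j, i * j, i, 0]

theorem e2_sum : ∀ σ ∈ Dih, (∑ i, e2 σ i = 0 ↔ Perm.sign σ = 1) := by decide

theorem e2_mul : ∀ σ ∈ Dih, ∀ τ ∈ Dih, ∃ c : ZMod 2, ∀ i, e2 σ i + e2 τ (σ⁻¹ i) = e2 (σ * τ) i + c := by decide

theorem e2_one : e2 1 = 0 := by decide

/-- The map `ZMod 2 → ZMod (2 ^ k)`, `1 ↦ 2 ^ (k - 1)`. -/
def hh (k : ℕ) (x : ZMod 2) : ZMod (2 ^ k) := if x = 0 then 0 else hf k

theorem hh_add {k : ℕ} (hk : 1 ≤ k) (x y : ZMod 2) : hh k (x + y) = hh k x + hh k y := by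
  have h := hf_add_hf hk
  fin_cases x <;> fin_cases y
  · change hh k 0 = hh k 0 + hh k 0; simp [hh]
  · change hh k 1 = hh k 0 + hh k 1; simp [hh]
  · change hh k 1 = hh k 1 + hh k 0; simp [hh]
  · change hh k 0 = hh k 1 + hh k 1
    simp only [hh, if_true, one_ne_zero, if_false]
    exact h.symm

theorem hh_zero (k : ℕ) : hh k 0 = 0 := by simp [hh]

theorem four_hh {k : ℕ} (hk : 1 ≤ k) (x : ZMod 2) : hh k x + hh k x + hh k x + hh k x = 0 := by
  have h : hh k x + hh k x = 0 := by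
    rw [← hh_add hk]
    have : x + x = 0 := by fin_cases x <;> decide
    rw [this, hh_zero]
  rw [h, zero_add, h]

theorem sum_hh {k : ℕ} (hk : 1 ≤ k) {σ : Perm (Fin 4)} (hσ : σ ∈ Dih) : ∑ i, hh k (e2 σ i) = sg k σ := by
  have h1 : ∑ i, hh k (e2 σ i) = hh k (∑ i, e2 σ i) := by
    rw [Fin.sum_univ_four, Fin.sum_univ_four, hh_add hk, hh_add hk, hh_add hk]
  rw [h1]
  unfold sg hh
  by_cases hs : Perm.sign σ = 1
  · rw [if_pos hs, if_pos ((e2_sum σ hσ).2 hs)]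
  · rw [if_neg hs, if_neg (fun h2 => hs ((e2_sum σ hσ).1 h2))]

/-! ### The elements in `SL_4` -/

section SL

variable {F : Type*} [Field F] {k : ℕ} {χ : ZMod (2 ^ k) → F}

/-- The element of `SL_4` with given data. -/
def el (h : IsChar k χ) (a : Fin 4 → ZMod (2 ^ k)) (σ : Perm (Fin 4)) (ha : ∑ i, a i = sg k σ) :
    SpecialLinearGroup (Fin 4) F := ⟨mat χ a σ, (det_mat_eq_one_iff h a σ).2 ha⟩

theorem sg_one (k : ℕ) : sg k 1 = 0 := by simp [sg]

theorem sum_const4 (c : ZMod (2 ^ k)) : ∑ _i : Fin 4, c = c + c + c + c := by rw [Fin.sum_univ_four]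

/-- An element `mat a σ` of `SL_4` is central iff `σ = 1` and `a` is constant. -/
theorem el_mem_center_iff (h : IsChar k χ) (a : Fin 4 → ZMod (2 ^ k)) (σ : Perm (Fin 4)) (ha : ∑ i, a i = sg k σ) :
    el h a σ ha ∈ Subgroup.center (SpecialLinearGroup (Fin 4) F) ↔ σ = 1 ∧ ∀ i, a i = a 0 := by
  rw [Matrix.SpecialLinearGroup.mem_center_iff]
  constructor
  · rintro ⟨r, hr, e⟩
    have e1 : Matrix.scalar (Fin 4) r = mat χ a σ := e
    have h1 : ∀ j, σ j = j := by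
      intro j
      by_contra hne
      have h2 := congrFun (congrFun e1 (σ j)) j
      rw [Matrix.scalar_apply, Matrix.diagonal_apply_ne _ hne] at h2
      unfold mat at h2
      rw [if_pos rfl] at h2
      exact h.ne_zero _ h2.symm
    have hσ : σ = 1 := Equiv.ext h1
    refine ⟨hσ, fun i => ?_⟩
    subst hσ
    apply h.inj
    have h2 : ∀ i, r = χ (a i) := by
      intro i
      have h3 := congrFun (congrFun e1 i) i
      rw [Matrix.scalar_apply, Matrix.diagonal_apply_eq] at h3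
      unfold mat at h3
      rw [if_pos (by simp)] at h3
      exact h3
    rw [← h2 i, ← h2 0]
  · rintro ⟨rfl, hc⟩
    refine ⟨χ (a 0), ?_, ?_⟩
    · have h1 : ∑ i, a i = a 0 + a 0 + a 0 + a 0 := by rw [Fin.sum_univ_four, hc 1, hc 2, hc 3]
      rw [ha, sg_one] at h1
      have h2 : χ (a 0) ^ 4 = χ (a 0 + a 0 + a 0 + a 0) := by
        rw [h.add, h.add, h.add]; ring
      rw [Fintype.card_fin, h2, ← h1, h.zero]
    · change Matrix.scalar (Fin 4) (χ (a 0)) = mat χ a 1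
      ext i j
      rw [Matrix.scalar_apply, Matrix.diagonal_apply]
      unfold mat
      by_cases hij : i = j
      · rw [if_pos hij, if_pos (by simpa using hij), hc i]
      · rw [if_neg hij, if_neg (by simpa using hij)]

theorem el_mul (h : IsChar k χ) {a b c : Fin 4 → ZMod (2 ^ k)} {σ τ : Perm (Fin 4)} (ha : ∑ i, a i = sg k σ)
    (hb : ∑ i, b i = sg k τ) (hc : ∑ i, c i = sg k (σ * τ)) (e : ∀ i, a i + b (σ⁻¹ i) = c i) :
    el h a σ ha * el h b τ hb = el h c (σ * τ) hc := by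
  apply Subtype.ext
  change mat χ a σ * mat χ b τ = mat χ c (σ * τ)
  rw [mat_mul h]
  congr 1
  funext i
  exact e i

/-- Two elements that differ by a constant vector are equal in `PSL_4`. -/
theorem mk_el_eq (h : IsChar k χ) {a b : Fin 4 → ZMod (2 ^ k)} {σ τ : Perm (Fin 4)} (ha : ∑ i, a i = sg k σ)
    (hb : ∑ i, b i = sg k τ) (hst : σ = τ) (c : ZMod (2 ^ k)) (hc : c + c + c + c = 0) (e : ∀ i, a i = b i + c) :
    (QuotientGroup.mk (el h a σ ha) : ProjectiveSpecialLinearGroup (Fin 4) F) = QuotientGroup.mk (el h b τ hb) := by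
  subst hst
  have hcs : ∑ _i : Fin 4, c = sg k 1 := by rw [sum_const4, sg_one, hc]
  have h1 : el h (fun _ => c) 1 hcs ∈ Subgroup.center (SpecialLinearGroup (Fin 4) F) :=
    (el_mem_center_iff h _ _ _).2 ⟨rfl, fun _ => rfl⟩
  have h2 : el h (fun _ => c) 1 hcs * el h b σ hb = el h a σ ha := by
    apply Subtype.ext
    change mat χ _ 1 * mat χ b σ = mat χ a σ
    rw [mat_mul h, one_mul]
    congr 1
    funext i
    simp only [inv_one, Perm.coe_one, id_eq]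
    rw [e i, add_comm]
  rw [← h2]
  apply QuotientGroup.eq.2
  have h3 : (el h (fun _ => c) 1 hcs * el h b σ hb)⁻¹ * el h b σ hb =
      (el h b σ hb)⁻¹ * (el h (fun _ => c) 1 hcs)⁻¹ * el h b σ hb := by group
  rw [h3, Subgroup.mem_center_iff.1 (inv_mem h1) _]
  simpa using h1

theorem mk_el_eq_one_iff (h : IsChar k χ) {a : Fin 4 → ZMod (2 ^ k)} {σ : Perm (Fin 4)} (ha : ∑ i, a i = sg k σ) :
    (QuotientGroup.mk (el h a σ ha) : ProjectiveSpecialLinearGroup (Fin 4) F) = 1 ↔ σ = 1 ∧ ∀ i, a i = a 0 := by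
  rw [← el_mem_center_iff h a σ ha]
  exact QuotientGroup.eq_one_iff _

theorem sum_perm (a : Fin 4 → ZMod (2 ^ k)) (σ : Perm (Fin 4)) : ∑ i, a (σ i) = ∑ i, a i :=
  Equiv.sum_comp σ a

open Classical in
/-- The map `f` in `PSL_4`. -/
noncomputable def f0 (h : IsChar k χ) (a : Fin 4 → ZMod (2 ^ k)) : ProjectiveSpecialLinearGroup (Fin 4) F :=
  if ha : ∑ i, a i = 0 then QuotientGroup.mk (el h a 1 (ha.trans (sg_one k).symm)) else 1

open Classical in
/-- The map `d` in `PSL_4`. -/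
noncomputable def d0 (h : IsChar k χ) (σ : Perm (Fin 4)) : ProjectiveSpecialLinearGroup (Fin 4) F :=
  if hσ : σ ∈ Dih then QuotientGroup.mk (el h (fun i => hh k (e2 σ i)) σ (sum_hh h.hk hσ)) else 1

theorem f0_of (h : IsChar k χ) {a : Fin 4 → ZMod (2 ^ k)} (ha : ∑ i, a i = 0) :
    f0 h a = QuotientGroup.mk (el h a 1 (ha.trans (sg_one k).symm)) := dif_pos ha

theorem d0_of (h : IsChar k χ) {σ : Perm (Fin 4)} (hσ : σ ∈ Dih) :
    d0 h σ = QuotientGroup.mk (el h (fun i => hh k (e2 σ i)) σ (sum_hh h.hk hσ)) := dif_pos hσ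

theorem f0_mul_d0 (h : IsChar k χ) {a : Fin 4 → ZMod (2 ^ k)} (ha : ∑ i, a i = 0) {σ : Perm (Fin 4)} (hσ : σ ∈ Dih)
    {c : Fin 4 → ZMod (2 ^ k)} (hc : ∑ i, c i = sg k σ) (e : ∀ i, c i = a i + hh k (e2 σ i)) :
    f0 h a * d0 h σ = QuotientGroup.mk (el h c σ hc) := by
  rw [f0_of h ha, d0_of h hσ, ← QuotientGroup.mk_mul]
  have hc' : ∑ i, c i = sg k (1 * σ) := by rw [one_mul]; exact hc
  rw [el_mul h (ha.trans (sg_one k).symm) (sum_hh h.hk hσ) hc' (fun i => by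
    simp only [inv_one, Perm.coe_one, id_eq]; exact (e i).symm)]
  exact mk_el_eq h hc' hc (one_mul σ) 0 (by simp) (fun i => by simp)

theorem mb0 (h : IsChar k χ) (hk : 2 ≤ k) :
    MB ((M h).map (QuotientGroup.mk' (Subgroup.center (SpecialLinearGroup (Fin 4) F)))) k (f0 h) (d0 h) where
  hk := hk
  f_add := by
    intro a b ha hb
    have hab : ∑ i, (a + b) i = 0 := by
      simp only [Pi.add_apply]
      rw [Finset.sum_add_distrib, ha, hb, add_zero]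
    rw [f0_of h ha, f0_of h hb, f0_of h hab, ← QuotientGroup.mk_mul]
    have hc' : ∑ i, (a + b) i = sg k (1 * 1) := by rw [one_mul, sg_one]; exact hab
    rw [el_mul h (ha.trans (sg_one k).symm) (hb.trans (sg_one k).symm) hc' (fun i => by simp)]
    exact mk_el_eq h (hab.trans (sg_one k).symm) hc' (one_mul 1).symm 0 (by simp) (fun i => by simp)
  f_one := by
    intro a ha
    rw [f0_of h ha, mk_el_eq_one_iff h (ha.trans (sg_one k).symm)]
    exact ⟨fun h1 => h1.2, fun h1 => ⟨rfl, h1⟩⟩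
  d_mul := by
    intro σ hσ τ hτ
    obtain ⟨c, hc⟩ := e2_mul σ hσ τ hτ
    have hst := Dih.mul_mem hσ hτ
    rw [d0_of h hσ, d0_of h hτ, d0_of h hst, ← QuotientGroup.mk_mul]
    have hs1 : ∑ i, (fun i => hh k (e2 σ i) + hh k (e2 τ (σ⁻¹ i))) i = sg k (σ * τ) := by
      have e1 : ∀ i, hh k (e2 σ i) + hh k (e2 τ (σ⁻¹ i)) = hh k (e2 (σ * τ) i) + hh k c := by
        intro i
        rw [← hh_add h.hk, hc i, hh_add h.hk]
      simp only [e1]
      rw [Finset.sum_add_distrib, sum_hh h.hk hst, sum_const4, four_hh h.hk, add_zero]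
    rw [el_mul h (sum_hh h.hk hσ) (sum_hh h.hk hτ) hs1 (fun i => rfl)]
    refine mk_el_eq h _ _ rfl (hh k c) (four_hh h.hk c) (fun i => ?_) |>.symm
    rw [← hh_add h.hk, hc i, ← hh_add h.hk]
  d_f := by
    intro σ hσ a ha
    have ha' : ∑ i, (fun i => a (σ⁻¹ i)) i = 0 := (sum_perm a σ⁻¹).trans ha
    have hs : ∑ i, (fun i => a (σ⁻¹ i) + hh k (e2 σ i)) i = sg k σ := by
      change ∑ i, (a (σ⁻¹ i) + hh k (e2 σ i)) = sg k σ
      rw [Finset.sum_add_distrib, sum_hh h.hk hσ]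
      have : ∑ i, a (σ⁻¹ i) = 0 := ha'
      rw [this, zero_add]
    rw [f0_mul_d0 h ha' hσ hs (fun i => rfl), f0_of h ha, d0_of h hσ, ← QuotientGroup.mk_mul]
    have hc' : ∑ i, (fun i => a (σ⁻¹ i) + hh k (e2 σ i)) i = sg k (σ * 1) := by rw [mul_one]; exact hs
    rw [el_mul h (sum_hh h.hk hσ) (ha.trans (sg_one k).symm) hc' (fun i => add_comm _ _)]
    exact mk_el_eq h hc' hs (mul_one σ) 0 (by simp) (fun i => by simp)
  uniq := by
    intro σ hσ a ha e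
    have hs : ∑ i, (fun i => a i + hh k (e2 σ i)) i = sg k σ := by
      change ∑ i, (a i + hh k (e2 σ i)) = sg k σ
      rw [Finset.sum_add_distrib, sum_hh h.hk hσ, ha, zero_add]
    rw [f0_mul_d0 h ha hσ hs (fun i => rfl), mk_el_eq_one_iff h hs] at e
    exact e.1
  mem_iff := by
    intro g
    constructor
    · rintro ⟨x, ⟨c, σ, hσ, hx⟩, rfl⟩
      have hc : ∑ i, c i = sg k σ := by
        rw [← det_mat_eq_one_iff h, ← hx]; exact x.2
      have ha : ∑ i, (fun i => c i - hh k (e2 σ i)) i = 0 := by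
        change ∑ i, (c i - hh k (e2 σ i)) = 0
        rw [Finset.sum_sub_distrib, sum_hh h.hk hσ, hc, sub_self]
      refine ⟨fun i => c i - hh k (e2 σ i), ha, σ, hσ, ?_⟩
      rw [f0_mul_d0 h ha hσ hc (fun i => by simp)]
      change QuotientGroup.mk x = QuotientGroup.mk _
      congr 1
      exact Subtype.ext hx
    · rintro ⟨a, ha, σ, hσ, rfl⟩
      have hs : ∑ i, (fun i => a i + hh k (e2 σ i)) i = sg k σ := by
        change ∑ i, (a i + hh k (e2 σ i)) = sg k σ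
        rw [Finset.sum_add_distrib, sum_hh h.hk hσ, ha, zero_add]
      rw [f0_mul_d0 h ha hσ hs (fun i => rfl)]
      exact ⟨el h _ σ hs, ⟨_, σ, hσ, rfl⟩, rfl⟩

end SL

/-! ### Transport -/

section Transport

variable {G H : Type*} [Group G] [Group H] {S : Subgroup G} {T : Subgroup H} {k : ℕ}
  {f : (Fin 4 → ZMod (2 ^ k)) → G} {d : Perm (Fin 4) → G}

theorem MB.f_mem (h : MB S k f d) {a : Fin 4 → ZMod (2 ^ k)} (ha : ∑ i, a i = 0) : f a ∈ S := by
  have h1 : d 1 = 1 := by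
    have := h.d_mul 1 Dih.one_mem 1 Dih.one_mem
    rw [one_mul] at this
    exact mul_eq_left.1 this.symm
  exact (h.mem_iff _).2 ⟨a, ha, 1, Dih.one_mem, by rw [h1, mul_one]⟩

theorem MB.f_zero (h : MB S k f d) : f 0 = 1 := (h.f_one 0 (by simp)).2 (fun _ => rfl)

theorem MB.d_mem (h : MB S k f d) {σ : Perm (Fin 4)} (hσ : σ ∈ Dih) : d σ ∈ S :=
  (h.mem_iff _).2 ⟨0, by simp, σ, hσ, by rw [h.f_zero, one_mul]⟩

open Classical in
/-- Transport of coordinates along an isomorphism. -/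
theorem MB.transport (h : MB S k f d) (φ : S ≃* T) : ∃ (f' : (Fin 4 → ZMod (2 ^ k)) → H) (d' : Perm (Fin 4) → H),
    MB T k f' d' ∧ (∀ a (ha : ∑ i, a i = 0), f' a = φ ⟨f a, h.f_mem ha⟩) ∧
      ∀ σ (hσ : σ ∈ Dih), d' σ = φ ⟨d σ, h.d_mem hσ⟩ := by
  refine ⟨fun a => if ha : ∑ i, a i = 0 then φ ⟨f a, h.f_mem ha⟩ else 1,
    fun σ => if hσ : σ ∈ Dih then φ ⟨d σ, h.d_mem hσ⟩ else 1, ?_, fun a ha => dif_pos ha, fun σ hσ => dif_pos hσ⟩
  have e1 : ∀ a (ha : ∑ i, a i = 0), (if ha : ∑ i, a i = 0 then ((φ ⟨f a, h.f_mem ha⟩ : T) : H) else 1) =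
      φ ⟨f a, h.f_mem ha⟩ := fun a ha => dif_pos ha
  have e2 : ∀ σ (hσ : σ ∈ Dih), (if hσ : σ ∈ Dih then ((φ ⟨d σ, h.d_mem hσ⟩ : T) : H) else 1) =
      φ ⟨d σ, h.d_mem hσ⟩ := fun σ hσ => dif_pos hσ
  refine ⟨h.hk, ?_, ?_, ?_, ?_, ?_, ?_⟩
  · intro a b ha hb
    have hab : ∑ i, (a + b) i = 0 := by
      simp only [Pi.add_apply]
      rw [Finset.sum_add_distrib, ha, hb, add_zero]
    rw [e1 _ ha, e1 _ hb, e1 _ hab, ← Subgroup.coe_mul, ← map_mul]
    congr 2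
    exact Subtype.ext (h.f_add a b ha hb)
  · intro a ha
    rw [e1 _ ha, ← h.f_one a ha, OneMemClass.coe_eq_one, MulEquiv.map_eq_one_iff]
    exact ⟨fun h1 => congrArg Subtype.val h1, fun h1 => Subtype.ext h1⟩
  · intro σ hσ τ hτ
    rw [e2 _ hσ, e2 _ hτ, e2 _ (Dih.mul_mem hσ hτ), ← Subgroup.coe_mul, ← map_mul]
    congr 2
    exact Subtype.ext (h.d_mul σ hσ τ hτ)
  · intro σ hσ a ha
    have ha' : ∑ i, (fun i => a (σ⁻¹ i)) i = 0 := (sum_perm a σ⁻¹).trans ha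
    rw [e2 _ hσ, e1 _ ha, e1 _ ha', ← Subgroup.coe_mul, ← Subgroup.coe_mul, ← map_mul, ← map_mul]
    congr 2
    exact Subtype.ext (h.d_f σ hσ a ha)
  · intro σ hσ a ha e
    rw [e1 _ ha, e2 _ hσ, ← Subgroup.coe_mul, ← map_mul, OneMemClass.coe_eq_one, MulEquiv.map_eq_one_iff] at e
    exact h.uniq σ hσ a ha (congrArg Subtype.val e)
  · intro g
    constructor
    · intro hg
      obtain ⟨⟨x, hx⟩, hxg⟩ := φ.surjective ⟨g, hg⟩
      obtain ⟨a, ha, σ, hσ, e⟩ := (h.mem_iff x).1 hx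
      refine ⟨a, ha, σ, hσ, ?_⟩
      rw [e1 _ ha, e2 _ hσ, ← Subgroup.coe_mul, ← map_mul]
      have h3 : (⟨f a, h.f_mem ha⟩ * ⟨d σ, h.d_mem hσ⟩ : S) = ⟨x, hx⟩ := Subtype.ext e.symm
      rw [h3, hxg]
    · rintro ⟨a, ha, σ, hσ, rfl⟩
      rw [e1 _ ha, e2 _ hσ]
      exact T.mul_mem (φ _).2 (φ _).2

end Transport

/-- A Sylow 2-subgroup isomorphic to one of `PSL_4(F)`, `|F| = 1 mod 4`, has coordinates; `2 ^ k` is the 2-part of
`|F| - 1`. -/
theorem exists_MB {G : Type*} [Group G] [Finite G] {F : Type*} [Field F] [Fintype F] (hF : Fintype.card F % 4 = 1)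
    (S : Sylow 2 G) (P : Sylow 2 (ProjectiveSpecialLinearGroup (Fin 4) F))
    (e : (S : Subgroup G) ≃* (P : Subgroup (ProjectiveSpecialLinearGroup (Fin 4) F))) :
    ∃ (k m : ℕ) (f : (Fin 4 → ZMod (2 ^ k)) → G) (d : Perm (Fin 4) → G), Odd m ∧ Fintype.card F = 1 + 2 ^ k * m ∧
      MB (S : Subgroup G) k f d := by
  classical
  have : Fact (Nat.Prime 2) := ⟨Nat.prime_two⟩
  obtain ⟨k, m, χ, hk, hm, hq, hχ⟩ := exists_char F hF
  obtain ⟨Q, hQ⟩ := exists_sylow hχ hk hm hq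
  have hsurj : Function.Surjective (QuotientGroup.mk' (Subgroup.center (SpecialLinearGroup (Fin 4) F))) :=
    QuotientGroup.mk'_surjective _
  have hfin : Finite (ProjectiveSpecialLinearGroup (Fin 4) F) := Finite.of_surjective _ hsurj
  have hmb := mb0 hχ hk
  have hQ2 : ((Q.mapSurjective hsurj : Sylow 2 (ProjectiveSpecialLinearGroup (Fin 4) F)) :
      Subgroup (ProjectiveSpecialLinearGroup (Fin 4) F)) =
      (M hχ).map (QuotientGroup.mk' (Subgroup.center (SpecialLinearGroup (Fin 4) F))) := by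
    rw [Sylow.coe_mapSurjective, hQ]
  rw [← hQ2] at hmb
  obtain ⟨f, d, hfd, -, -⟩ := hmb.transport ((Sylow.equiv (Q.mapSurjective hsurj) P).trans e.symm)
  exact ⟨k, m, f, d, hm, hq, hfd⟩

end Cfsg.Agent.LFourB.Mono
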