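import Cfsg.Agent.LFourB.MSeven

/-!
# Subgroups and elements of `M7`

The coordinate subgroups `V1 V2 S0 R1 R2 Q Z` of `M7`, the elements `z ze x1 x2 y1 y2 f`, the automorphism `swap` that
interchanges `V1` and `V2`, and `Emb7 S φ` : `φ` is an isomorphism from `M7` onto the subgroup `S` of `G`.
-/

set_option autoImplicit false

namespace Cfsg.Agent.LFourB

namespace K4

/-- membership in the prime field -/
def pr (x : K4) : Bool :=
  match x with
  | o => true
  | i => true
  | w => false
  | v => false

end K4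

namespace M7

open K4

/-- A subgroup of `M7` from a boolean test. -/
def sub (p : M7 → Bool) (h1 : p 1 = true) (hm : ∀ x y, p x = true → p y = true → p (x * y) = true)
    (hi : ∀ x, p x = true → p x⁻¹ = true) : Subgroup M7 where
  carrier := {x | p x = true}
  one_mem' := h1
  mul_mem' := fun {a b} ha hb => hm a b ha hb
  inv_mem' := fun {a} ha => hi a ha

theorem mem_sub {p : M7 → Bool} {h1 hm hi} {x : M7} : x ∈ sub p h1 hm hi ↔ p x = true := Iff.rfl

/-- test for zero -/
def z0 (x : K4) : Bool :=
  match x with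
  | o => true
  | i => false
  | w => false
  | v => false

/-- `{(a, 0, c)}` -/
def tV1 (x : M7) : Bool := z0 x.b && !x.e
/-- `{(0, b, c)}` -/
def tV2 (x : M7) : Bool := z0 x.a && !x.e
/-- `{(a, b, c)}` -/
def tS0 (x : M7) : Bool := !x.e
/-- `a` in the prime field -/
def tR1 (x : M7) : Bool := pr x.a
/-- `b` in the prime field -/
def tR2 (x : M7) : Bool := pr x.b
/-- `a` and `b` in the prime field -/
def tQ (x : M7) : Bool := pr x.a && pr x.b
/-- `{(0, 0, c)}` -/
def tZ (x : M7) : Bool := z0 x.a && z0 x.b && !x.e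

/-- `{(a, 0, c)}`, elementary abelian of order 16 -/
def V1 : Subgroup M7 := sub tV1 (by decide) (by decide +kernel) (by decide +kernel)
/-- `{(0, b, c)}`, elementary abelian of order 16 -/
def V2 : Subgroup M7 := sub tV2 (by decide) (by decide +kernel) (by decide +kernel)
/-- `V1 V2`, of order 64 -/
def S0 : Subgroup M7 := sub tS0 (by decide) (by decide +kernel) (by decide +kernel)
/-- `a` in the prime field, of order 64 -/
def R1 : Subgroup M7 := sub tR1 (by decide) (by decide +kernel) (by decide +kernel)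
/-- `b` in the prime field, of order 64 -/
def R2 : Subgroup M7 := sub tR2 (by decide) (by decide +kernel) (by decide +kernel)
/-- `R1 ⊓ R2`, extraspecial of order 32 -/
def Q : Subgroup M7 := sub tQ (by decide) (by decide +kernel) (by decide +kernel)
/-- `V1 ⊓ V2`, of order 4 -/
def Z : Subgroup M7 := sub tZ (by decide) (by decide +kernel) (by decide +kernel)

instance : DecidablePred (· ∈ V1) := fun x => inferInstanceAs (Decidable (tV1 x = true))
instance : DecidablePred (· ∈ V2) := fun x => inferInstanceAs (Decidable (tV2 x = true))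
instance : DecidablePred (· ∈ S0) := fun x => inferInstanceAs (Decidable (tS0 x = true))
instance : DecidablePred (· ∈ R1) := fun x => inferInstanceAs (Decidable (tR1 x = true))
instance : DecidablePred (· ∈ R2) := fun x => inferInstanceAs (Decidable (tR2 x = true))
instance : DecidablePred (· ∈ Q) := fun x => inferInstanceAs (Decidable (tQ x = true))
instance : DecidablePred (· ∈ Z) := fun x => inferInstanceAs (Decidable (tZ x = true))

/-- the central involution -/
def z : M7 := ⟨o, o, i, false⟩
/-- an involution of `Z` that is not central -/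
def ze : M7 := ⟨o, o, w, false⟩
def x1 : M7 := ⟨i, o, o, false⟩
def x2 : M7 := ⟨w, o, o, false⟩
def y1 : M7 := ⟨o, i, o, false⟩
def y2 : M7 := ⟨o, w, o, false⟩
/-- the field automorphism -/
def f : M7 := ⟨o, o, o, true⟩

/-- the underlying map of `swap` -/
def sw (x : M7) : M7 := ⟨x.b, x.a, x.c + x.a * x.b, x.e⟩

theorem sw_mul (x y : M7) : sw (x * y) = sw x * sw y := by
  ext1
  · rfl
  · rfl
  · simp only [sw, mul_a, mul_b, mul_c, mul_e, fr_add, fr_mul]
    generalize fr x.e y.a = s
    generalize fr x.e y.b = t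
    generalize fr x.e y.c = r
    have h : x.a * t + x.a * t = 0 := add_self _
    calc x.c + r + x.a * t + (x.a + s) * (x.b + t)
        = x.c + x.a * x.b + (r + s * t) + x.b * s + (x.a * t + x.a * t) := by ring
      _ = x.c + x.a * x.b + (r + s * t) + x.b * s := by rw [h, add_zero]
  · rfl

theorem sw_sw (x : M7) : sw (sw x) = x := by
  ext1
  · rfl
  · rfl
  · simp only [sw]
    have h : x.a * x.b + x.a * x.b = 0 := add_self _
    calc x.c + x.a * x.b + x.b * x.a = x.c + (x.a * x.b + x.a * x.b) := by ring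
      _ = x.c := by rw [h, add_zero]
  · rfl

/-- The automorphism of `M7` that interchanges `V1` and `V2`. -/
def swap : M7 ≃* M7 where
  toFun := sw
  invFun := sw
  left_inv := sw_sw
  right_inv := sw_sw
  map_mul' := sw_mul

theorem swap_apply (x : M7) : swap x = sw x := rfl

theorem swap_swap (x : M7) : swap (swap x) = x := sw_sw x
theorem swap_z : swap z = z := rfl
theorem swap_ze : swap ze = ze := rfl
theorem swap_x1 : swap x1 = y1 := rfl
theorem swap_y1 : swap y1 = x1 := rfl
theorem swap_x2 : swap x2 = y2 := rfl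
theorem swap_y2 : swap y2 = x2 := rfl
theorem swap_f : swap f = f := rfl

theorem swap_mem_V1 : ∀ x : M7, swap x ∈ V1 ↔ x ∈ V2 := by decide +kernel
theorem swap_mem_V2 : ∀ x : M7, swap x ∈ V2 ↔ x ∈ V1 := by decide +kernel
theorem swap_mem_R1 : ∀ x : M7, swap x ∈ R1 ↔ x ∈ R2 := by decide +kernel
theorem swap_mem_R2 : ∀ x : M7, swap x ∈ R2 ↔ x ∈ R1 := by decide +kernel
theorem swap_mem_Q : ∀ x : M7, swap x ∈ Q ↔ x ∈ Q := by decide +kernel
theorem swap_mem_S0 : ∀ x : M7, swap x ∈ S0 ↔ x ∈ S0 := by decide +kernel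

end M7

/-- `φ` is an isomorphism from `M7` onto the subgroup `S` of `G`. -/
structure Emb7 {G : Type*} [Group G] (S : Subgroup G) (φ : M7 →* G) : Prop where
  inj : Function.Injective φ
  range : φ.range = S

namespace Emb7

open M7

variable {G : Type*} [Group G] {S : Subgroup G} {φ : M7 →* G}

theorem comp_swap (h : Emb7 S φ) : Emb7 S (φ.comp swap.toMonoidHom) where
  inj := h.inj.comp swap.injective
  range := by
    rw [MonoidHom.range_comp, MonoidHom.range_eq_top.mpr swap.surjective, ← MonoidHom.range_eq_map, h.range]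

theorem mem (h : Emb7 S φ) (x : M7) : φ x ∈ S := by rw [← h.range]; exact ⟨x, rfl⟩

theorem exists_eq (h : Emb7 S φ) {g : G} (hg : g ∈ S) : ∃ x, φ x = g := by
  rw [← h.range] at hg
  exact hg

theorem map_le (h : Emb7 S φ) (K : Subgroup M7) : K.map φ ≤ S := by
  rw [← h.range, MonoidHom.range_eq_map]
  exact Subgroup.map_mono le_top

theorem mem_map (h : Emb7 S φ) {K : Subgroup M7} {x : M7} : φ x ∈ K.map φ ↔ x ∈ K :=
  Subgroup.mem_map_iff_mem h.inj

theorem card_map (h : Emb7 S φ) (K : Subgroup M7) : Nat.card (K.map φ) = Nat.card K :=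
  (Nat.card_congr (K.equivMapOfInjective φ h.inj).toEquiv).symm

theorem card (h : Emb7 S φ) : Nat.card S = 128 := by
  rw [← h.range, MonoidHom.range_eq_map, h.card_map, Subgroup.card_top, natCard_eq]

theorem map_comp_swap {K L : Subgroup M7} (hKL : ∀ x, swap x ∈ K ↔ x ∈ L) :
    K.map (φ.comp swap.toMonoidHom) = L.map φ := by
  ext g
  constructor
  · rintro ⟨x, hx, rfl⟩
    refine ⟨swap x, (hKL _).1 (by rw [swap_swap]; exact hx), rfl⟩
  · rintro ⟨x, hx, rfl⟩
    refine ⟨swap x, (hKL _).2 hx, ?_⟩
    show φ (swap (swap x)) = φ x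
    rw [swap_swap]

theorem V1_comp_swap : V1.map (φ.comp swap.toMonoidHom) = V2.map φ := map_comp_swap swap_mem_V1
theorem V2_comp_swap : V2.map (φ.comp swap.toMonoidHom) = V1.map φ := map_comp_swap swap_mem_V2
theorem R1_comp_swap : R1.map (φ.comp swap.toMonoidHom) = R2.map φ := map_comp_swap swap_mem_R1
theorem R2_comp_swap : R2.map (φ.comp swap.toMonoidHom) = R1.map φ := map_comp_swap swap_mem_R2
theorem Q_comp_swap : Q.map (φ.comp swap.toMonoidHom) = Q.map φ := map_comp_swap swap_mem_Q
theorem S0_comp_swap : S0.map (φ.comp swap.toMonoidHom) = S0.map φ := map_comp_swap swap_mem_S0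

end Emb7

end Cfsg.Agent.LFourB
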