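import Cfsg.Agent.LFourB.MSevenSub

/-!
# Facts on the group `M7` (S0510, piece F-B5)
-/

set_option autoImplicit false

namespace Cfsg.Agent.LFourB

open K4

namespace M7

instance (priority := high) decExists (p : M7 → Prop) [DecidablePred p] : Decidable (∃ x, p x) :=
  decidable_of_iff (∃ a b c : K4, p ⟨a, b, c, false⟩ ∨ p ⟨a, b, c, true⟩)
    ⟨fun ⟨a, b, c, h⟩ => by
      rcases h with h | h
      · exact ⟨_, h⟩
      · exact ⟨_, h⟩,
      fun ⟨⟨a, b, c, e⟩, h⟩ => by
        cases e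
        · exact ⟨a, b, c, Or.inl h⟩
        · exact ⟨a, b, c, Or.inr h⟩⟩

/-! ### Involutions -/

theorem inv_cases : ∀ m : M7, m * m = 1 → m ∈ V1 ∨ m ∈ V2 ∨ ∃ s : M7, s * f * s⁻¹ = m := by
  decide +kernel

theorem V1_cases : ∀ m : M7, m ∈ V1 → m = 1 ∨ m = z ∨ (∃ s : M7, s * ze * s⁻¹ = m) ∨
    (∃ s : M7, s * x1 * s⁻¹ = m) ∨ ∃ s : M7, s * x2 * s⁻¹ = m := by
  decide +kernel

theorem V2_cases : ∀ m : M7, m ∈ V2 → m = 1 ∨ m = z ∨ (∃ s : M7, s * ze * s⁻¹ = m) ∨
    (∃ s : M7, s * y1 * s⁻¹ = m) ∨ ∃ s : M7, s * y2 * s⁻¹ = m := by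
  decide +kernel

theorem ze_conj : ∀ m : M7, (∃ s : M7, s * ze * s⁻¹ = m) ↔ m = ze ∨ m = ze * z := by
  decide +kernel

theorem x1_conj : ∀ m : M7, (∃ s : M7, s * x1 * s⁻¹ = m) ↔
    m.a = .i ∧ m.b = .o ∧ m.e = false := by
  decide +kernel

theorem y1_conj : ∀ m : M7, (∃ s : M7, s * y1 * s⁻¹ = m) ↔
    m.a = .o ∧ m.b = .i ∧ m.e = false := by
  decide +kernel

theorem x2_conj : ∀ m : M7, (∃ s : M7, s * x2 * s⁻¹ = m) ↔
    (m.a = .w ∨ m.a = .v) ∧ m.b = .o ∧ m.e = false := by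
  decide +kernel

theorem y2_conj : ∀ m : M7, (∃ s : M7, s * y2 * s⁻¹ = m) ↔
    (m.b = .w ∨ m.b = .v) ∧ m.a = .o ∧ m.e = false := by
  decide +kernel

theorem V1_sq : ∀ m : M7, m ∈ V1 → m * m = 1 := by decide +kernel
theorem V2_sq : ∀ m : M7, m ∈ V2 → m * m = 1 := by decide +kernel

/-! ### Centralisers -/

theorem cent_z : ∀ m : M7, m * z = z * m := by decide +kernel
theorem cent_ze : ∀ m : M7, m * ze = ze * m ↔ m ∈ S0 := by decide +kernel
theorem cent_x1 : ∀ m : M7, m * x1 = x1 * m ↔ m.b = 0 := by decide +kernel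
theorem cent_y1 : ∀ m : M7, m * y1 = y1 * m ↔ m.a = 0 := by decide +kernel
theorem cent_x2 : ∀ m : M7, m * x2 = x2 * m ↔ m ∈ V1 := by decide +kernel
theorem cent_y2 : ∀ m : M7, m * y2 = y2 * m ↔ m ∈ V2 := by decide +kernel

theorem cent_f : ∀ m : M7, m * f = f * m ↔ K4.sq m.a = m.a ∧ K4.sq m.b = m.b ∧ K4.sq m.c = m.c := by
  decide +kernel

/-! ### Cardinalities -/

theorem card_filter {p : M7 → Prop} [DecidablePred p] (A : Subgroup M7) (h : ∀ m, m ∈ A ↔ p m) :
    Nat.card A = (Finset.univ.filter p).card := by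
  have h1 : Nat.card A = Nat.card {m // p m} := Nat.card_congr (Equiv.subtypeEquivRight h)
  rw [h1, Nat.card_eq_fintype_card, Fintype.card_subtype]

theorem card_le_filter {p : M7 → Prop} [DecidablePred p] (A : Subgroup M7) (h : ∀ m ∈ A, p m) :
    Nat.card A ≤ (Finset.univ.filter p).card := by
  classical
  have h1 : Nat.card A = (Finset.univ.filter (· ∈ A)).card := card_filter A (fun _ => Iff.rfl)
  rw [h1]
  refine Finset.card_le_card fun m hm => ?_
  rw [Finset.mem_filter] at hm ⊢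
  exact ⟨hm.1, h m hm.2⟩

theorem card_Z1 : Nat.card Z1 = 2 := by
  rw [card_filter Z1 mem_Z1]; decide +kernel
theorem card_Z4 : Nat.card Z4 = 4 := by
  rw [card_filter Z4 mem_Z4]; decide +kernel
theorem card_V1 : Nat.card V1 = 16 := by
  rw [card_filter V1 mem_V1]; decide +kernel
theorem card_V2 : Nat.card V2 = 16 := by
  rw [card_filter V2 mem_V2]; decide +kernel
theorem card_S0 : Nat.card S0 = 64 := by
  rw [card_filter S0 mem_S0]; decide +kernel
theorem card_R1 : Nat.card R1 = 64 := by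
  rw [card_filter R1 mem_R1]; decide +kernel
theorem card_R2 : Nat.card R2 = 64 := by
  rw [card_filter R2 mem_R2]; decide +kernel
theorem card_Q : Nat.card Q = 32 := by
  rw [card_filter Q mem_Q]; decide +kernel

/-! ### The elementary abelian subgroups of order 16 -/

theorem sq_one_S0 : ∀ m : M7, m * m = 1 → m.e = false → m ∈ V1 ∨ m ∈ V2 := by decide +kernel

theorem mul_not_sq : ∀ s t : M7, s ∈ V1 → s ∉ V2 → t ∈ V2 → t ∉ V1 → (s * t) * (s * t) ≠ 1 := by
  decide +kernel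

theorem not_comm_x1_y1 : x1 * y1 ≠ y1 * x1 := by decide
theorem comm_x1_f : x1 * f = f * x1 := by decide
theorem comm_y1_f : y1 * f = f * y1 := by decide

theorem card_cent_f : (Finset.univ.filter (fun m : M7 => m * f = f * m)).card = 16 := by
  decide +kernel

/-- `V1` and `V2` are the only elementary abelian subgroups of order 16 of `M7`. -/
theorem E16_unique (A : Subgroup M7) (hA : ∀ a ∈ A, a * a = 1) (hc : 16 ≤ Nat.card A) :
    A = V1 ∨ A = V2 := by
  have hcomm : ∀ a ∈ A, ∀ b ∈ A, a * b = b * a := by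
    intro a ha b hb
    have h1 := hA _ (A.mul_mem ha hb)
    have h2 := hA a ha
    have h3 := hA b hb
    have h4 : a⁻¹ = a := inv_eq_of_mul_eq_one_right h2
    have h5 : b⁻¹ = b := inv_eq_of_mul_eq_one_right h3
    have h6 : (a * b)⁻¹ = a * b := inv_eq_of_mul_eq_one_right h1
    rw [← h6, mul_inv_rev, h4, h5]
  have hS0 : ∀ a ∈ A, a.e = false := by
    by_contra hcon
    push Not at hcon
    obtain ⟨t, ht, hte⟩ := hcon
    have ht' : ∃ s : M7, s * f * s⁻¹ = t := by
      rcases inv_cases t (hA t ht) with h | h | h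
      · exact absurd ((mem_V1 t).1 h).2 hte
      · exact absurd ((mem_V2 t).1 h).2 hte
      · exact h
    obtain ⟨s, hs⟩ := ht'
    -- the conjugate of `A` centralises `f`
    let B : Subgroup M7 := A.map (MulAut.conj s⁻¹).toMonoidHom
    have hBcard : Nat.card B = Nat.card A :=
      Subgroup.card_map_of_injective (MulAut.conj s⁻¹).injective
    have hB : ∀ m ∈ B, m * f = f * m := by
      rintro _ ⟨a, ha, rfl⟩
      have h1 := hcomm a ha t ht
      change s⁻¹ * a * s⁻¹⁻¹ * f = f * (s⁻¹ * a * s⁻¹⁻¹)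
      rw [← hs] at h1
      rw [inv_inv]
      calc s⁻¹ * a * s * f = s⁻¹ * (a * (s * f * s⁻¹)) * s := by group
        _ = s⁻¹ * (s * f * s⁻¹ * a) * s := by rw [h1]
        _ = _ := by group
    classical
    have hsub : (Finset.univ.filter (· ∈ B)) = Finset.univ.filter (fun m : M7 => m * f = f * m) := by
      classical
      refine Finset.eq_of_subset_of_card_le (fun m hm => ?_) ?_
      · rw [Finset.mem_filter] at hm ⊢
        exact ⟨hm.1, hB m hm.2⟩
      · rw [card_cent_f, ← card_filter B (fun _ => Iff.rfl), hBcard]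
        exact hc
    have hx : x1 ∈ B := by
      have : x1 ∈ Finset.univ.filter (fun m : M7 => m * f = f * m) := by
        rw [Finset.mem_filter]
        exact ⟨Finset.mem_univ _, comm_x1_f⟩
      rw [← hsub, Finset.mem_filter] at this
      exact this.2
    have hy : y1 ∈ B := by
      have : y1 ∈ Finset.univ.filter (fun m : M7 => m * f = f * m) := by
        rw [Finset.mem_filter]
        exact ⟨Finset.mem_univ _, comm_y1_f⟩
      rw [← hsub, Finset.mem_filter] at this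
      exact this.2
    obtain ⟨a, ha, hax⟩ := hx
    obtain ⟨b, hb, hby⟩ := hy
    refine not_comm_x1_y1 ?_
    rw [← hax, ← hby, ← map_mul, ← map_mul, hcomm a ha b hb]
  have hU : ∀ a ∈ A, a ∈ V1 ∨ a ∈ V2 := fun a ha => sq_one_S0 a (hA a ha) (hS0 a ha)
  by_cases h1 : A ≤ V1
  · left
    refine Subgroup.eq_of_le_of_card_ge h1 ?_
    rw [card_V1]
    exact hc
  · right
    refine Subgroup.eq_of_le_of_card_ge ?_ ?_
    · intro t ht
      by_contra htV
      obtain ⟨s, hs, hsV⟩ := SetLike.not_le_iff_exists.1 h1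
      have ht1 : t ∈ V1 := (hU t ht).resolve_right htV
      have hs2 : s ∈ V2 := (hU s hs).resolve_left hsV
      exact mul_not_sq t s ht1 htV hs2 hsV (hA _ (A.mul_mem ht hs))
    · rw [card_V2]
      exact hc

/-! ### `Q / ⟨z⟩` is the only elementary abelian subgroup of order 16 of `M7 / ⟨z⟩` -/

theorem card_T : ∀ m : M7, m ∉ Q → m * m ∈ Z1 →
    (Finset.univ.filter (fun n : M7 => n * n ∈ Z1 ∧ m * n * m⁻¹ * n⁻¹ ∈ Z1)).card < 32 := by
  decide +kernel

theorem Q_unique (A : Subgroup M7) (hA : ∀ a ∈ A, a * a ∈ Z1)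
    (hcomm : ∀ a ∈ A, ∀ b ∈ A, a * b * a⁻¹ * b⁻¹ ∈ Z1) (hc : 32 ≤ Nat.card A) : A = Q := by
  refine Subgroup.eq_of_le_of_card_ge ?_ ?_
  · intro m hm
    by_contra hmQ
    have h1 := card_T m hmQ (hA m hm)
    have h2 := card_le_filter A
      (p := fun n : M7 => n * n ∈ Z1 ∧ m * n * m⁻¹ * n⁻¹ ∈ Z1)
      (fun n hn => ⟨hA n hn, hcomm m hm n hn⟩)
    omega
  · rw [card_Q]
    exact hc

end M7

end Cfsg.Agent.LFourB
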