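import Cfsg.Agent.LFourB.MSevenDef
import Cfsg.Agent.LFourB.MSevenFacts
import Cfsg.Agent.SylowL5.Weak
import Cfsg.Agent.SylowL5.Trans

/-!
# The two elementary abelian subgroups of order 16 of `M7` are weakly closed

Cards of the coordinate subgroups, the classes of involutions in `V1`, the two `E16`'s, weak closure and control of fusion.
-/

set_option autoImplicit false

namespace Cfsg.Agent.LFourB.MSevenFa

open K4 M7

theorem V1_comm : ∀ x ∈ V1, ∀ y ∈ V1, x * y = y * x := by decide +kernel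
theorem V2_comm : ∀ x ∈ V2, ∀ y ∈ V2, x * y = y * x := by decide +kernel

theorem V1_conj : ∀ g : M7, ∀ x ∈ V1, g * x * g⁻¹ ∈ V1 := by decide +kernel
theorem V2_conj : ∀ g : M7, ∀ x ∈ V2, g * x * g⁻¹ ∈ V2 := by decide +kernel
theorem S0_conj : ∀ g : M7, ∀ x ∈ S0, g * x * g⁻¹ ∈ S0 := by decide +kernel
theorem R1_conj : ∀ g : M7, ∀ x ∈ R1, g * x * g⁻¹ ∈ R1 := by decide +kernel
theorem R2_conj : ∀ g : M7, ∀ x ∈ R2, g * x * g⁻¹ ∈ R2 := by decide +kernel
theorem Q_conj : ∀ g : M7, ∀ x ∈ Q, g * x * g⁻¹ ∈ Q := by decide +kernel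
theorem Z_conj : ∀ g : M7, ∀ x ∈ Z, g * x * g⁻¹ ∈ Z := by decide +kernel

/-- the involutions outside `S0` are conjugate to `f` -/
theorem exists_conj_f : ∀ x : M7, x * x = 1 → x.e = true → ∃ g : M7, g * x * g⁻¹ = f := by
  have h : ∀ x : M7, x * x = 1 → x.e = true →
      ∃ a b c : K4, (⟨a, b, c, false⟩ : M7) * x * (⟨a, b, c, false⟩ : M7)⁻¹ = f := by decide +kernel
  intro x h1 h2
  obtain ⟨a, b, c, h3⟩ := h x h1 h2
  exact ⟨_, h3⟩

/-! ### In the group `G` -/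

open Subgroup
open Cfsg.Agent.SignalizersComponents.RelSylow
open Cfsg.Agent.SylowL5.Weak

variable {G : Type*} [Group G] {S : Sylow 2 G} {φ : M7 →* G}

theorem norm_of {S : Subgroup G} {φ : M7 →* G} (h : Emb7 S φ) {K : Subgroup M7} (hK : ∀ g : M7, ∀ x ∈ K, g * x * g⁻¹ ∈ K) :
    S ≤ normalizer (K.map φ : Set G) := by
  intro s hs
  obtain ⟨a, rfl⟩ := h.exists_eq hs
  have key : ∀ g : M7, ∀ n, n ∈ K.map φ → φ g * n * (φ g)⁻¹ ∈ K.map φ := by
    rintro g _ ⟨x, hx, rfl⟩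
    refine ⟨g * x * g⁻¹, hK g x hx, ?_⟩
    rw [map_mul, map_mul, map_inv]
  rw [mem_normalizer_iff]
  intro n
  refine ⟨key a n, fun h1 => ?_⟩
  have h2 := key a⁻¹ _ h1
  rw [map_inv] at h2
  have h3 : (φ a)⁻¹ * (φ a * n * (φ a)⁻¹) * (φ a)⁻¹⁻¹ = n := by group
  rwa [h3] at h2

/-- the elementary abelian subgroups of order 16 of `S` -/
theorem eq_of_card_G {S : Subgroup G} {φ : M7 →* G} (h : Emb7 S φ) {A : Subgroup G} (hAS : A ≤ S)
    (hA : ∀ x ∈ A, x * x = 1) (hc : Nat.card A = 16) : A = V1.map φ ∨ A = V2.map φ := by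
  have h1 : (A.comap φ).map φ = A := by
    rw [Subgroup.map_comap_eq, h.range]
    exact inf_eq_right.2 hAS
  have h2 : Nat.card (A.comap φ) = 16 := by rw [← h.card_map, h1, hc]
  have h3 : ∀ x ∈ A.comap φ, x * x = 1 := by
    intro x hx
    apply h.inj
    rw [map_mul, map_one]
    exact hA _ hx
  rcases E16_unique _ h3 h2.ge with h4 | h4
  · left; rw [← h4, h1]
  · right; rw [← h4, h1]

theorem map_ne {S : Subgroup G} {φ : M7 →* G} (h : Emb7 S φ) : V1.map φ ≠ V2.map φ := by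
  intro h1
  have h2 : φ x1 ∈ V1.map φ := h.mem_map.2 (by decide)
  rw [h1, h.mem_map] at h2
  exact absurd h2 (by decide)

theorem sq_map {K : Subgroup M7} (hK : ∀ x ∈ K, x * x = 1) : ∀ x ∈ K.map φ, x * x = 1 := by
  rintro _ ⟨x, hx, rfl⟩
  rw [← map_mul, hK x hx, map_one]

theorem comm_map {K : Subgroup M7} (hK : ∀ x ∈ K, ∀ y ∈ K, x * y = y * x) :
    ∀ x ∈ K.map φ, ∀ y ∈ K.map φ, x * y = y * x := by
  rintro _ ⟨x, hx, rfl⟩ _ ⟨y, hy, rfl⟩
  rw [← map_mul, hK x hx y hy, map_mul]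

theorem sq_cj {A : Subgroup G} (hA : ∀ x ∈ A, x * x = 1) (g : G) : ∀ x ∈ cj g A, x * x = 1 := by
  rintro _ ⟨x, hx, rfl⟩
  rw [← map_mul, hA x hx, map_one]

variable [Finite G]

omit [Finite G] in
/-- a 2-element normalising a maximal 2-subgroup lies in it -/
theorem mem_of_norm {M R : Subgroup G} (hR : IsMaxP 2 M R) {x : G} (hx : x ∈ M)
    (hxR : cj x R = R) {k : ℕ} (hk : x ^ (2 ^ k) = 1) : x ∈ R := by
  have f2 : Fact (Nat.Prime 2) := ⟨Nat.prime_two⟩
  have h1 : IsPGroup 2 (zpowers x) := by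
    intro y
    obtain ⟨n, hn⟩ := Subgroup.mem_zpowers_iff.1 y.2
    refine ⟨k, Subtype.ext ?_⟩
    show (y : G) ^ (2 ^ k) = 1
    rw [← hn, ← zpow_natCast, ← zpow_mul, mul_comm, zpow_mul, zpow_natCast, hk, one_zpow]
  have h2 : zpowers x ≤ normalizer (R : Set G) := by
    rw [zpowers_le]
    exact cj_eq_iff.1 hxR
  have h3 : IsPGroup 2 (zpowers x ⊔ R : Subgroup G) := h1.to_sup_of_normal_right' hR.1 h2
  exact hR.2.2 _ h3 (sup_le (by rwa [zpowers_le]) hR.2.1) le_sup_right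
    (mem_sup_left (mem_zpowers x))

theorem exists_odd_pow (x : G) : ∃ m k : ℕ, Odd m ∧ (x ^ m) ^ (2 ^ k) = 1 := by
  have h0 : orderOf x ≠ 0 := (orderOf_pos x).ne'
  obtain ⟨k, m, hm, hk⟩ := Nat.exists_eq_two_pow_mul_odd h0
  refine ⟨m, k, hm, ?_⟩
  rw [← pow_mul, mul_comm, ← hk, pow_orderOf_eq_one]

/-- two normal subgroups `A ≠ B` of the Sylow subgroup `S`, such that a conjugate of `A` contained in `S` is `A` or `B`,
are not conjugate -/
theorem cj_ne {A B : Subgroup G} (hAS : A ≤ (S : Subgroup G)) (hA : (S : Subgroup G) ≤ normalizer (A : Set G))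
    (hB : (S : Subgroup G) ≤ normalizer (B : Set G)) (hAB : A ≠ B)
    (hcl : ∀ g, cj g A ≤ (S : Subgroup G) → cj g A = A ∨ cj g A = B) (g : G) : cj g A ≠ B := by
  have f2 : Fact (Nat.Prime 2) := ⟨Nat.prime_two⟩
  intro hg
  have hS1 : IsMaxP 2 (normalizer (A : Set G)) (S : Subgroup G) := isMaxP_of_le S hA
  have hS2 : cj g⁻¹ (S : Subgroup G) ≤ normalizer (A : Set G) := by
    rw [cj_le_iff]
    intro s hs
    rw [← cj_eq_iff, cj_mul, cj_mul, inv_inv, hg, cj_eq_iff.2 (hB hs), ← hg, cj_inv_cj]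
  obtain ⟨c, hc, hcR⟩ := hS1.exists_conj_le (isPGroup_cj (g := g⁻¹) hS1.1) hS2
  have hy : cj (c * g⁻¹) (S : Subgroup G) = S := by
    rw [cj_mul]
    exact cj_eq_of_le hcR (by rw [card_cj])
  set y := c * g⁻¹ with hydef
  have hy2 : cj y B = A := by
    rw [hydef, cj_mul, ← hg, cj_inv_cj, cj_eq_iff.2 hc]
  have hy1 : cj y A = B := by
    rcases hcl y (by
        calc cj y A ≤ cj y (S : Subgroup G) := cj_mono hAS
          _ = S := hy) with h3 | h3
    · exact absurd (cj_inj (h3.trans hy2.symm)) hAB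
    · exact h3
  have key : ∀ m : ℕ, cj (y ^ (2 * m)) A = A ∧ cj (y ^ (2 * m + 1)) A = B := by
    intro m
    induction m with
    | zero =>
      refine ⟨by rw [mul_zero, pow_zero, cj_one], by rw [mul_zero, zero_add, pow_one, hy1]⟩
    | succ m ih =>
      have h3 : cj (y ^ (2 * (m + 1))) A = A := by
        have : 2 * (m + 1) = (2 * m + 1) + 1 := by ring
        rw [this, pow_succ', cj_mul, ih.2, hy2]
      refine ⟨h3, ?_⟩
      rw [pow_succ', cj_mul, h3, hy1]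
  obtain ⟨m, k, ⟨j, hj⟩, hk⟩ := exists_odd_pow y
  have hyS : ∀ n : ℕ, cj (y ^ n) (S : Subgroup G) = S := by
    intro n
    induction n with
    | zero => rw [pow_zero, cj_one]
    | succ n ih => rw [pow_succ', cj_mul, ih, hy]
  have h5 : y ^ m ∈ (S : Subgroup G) := mem_of_norm (isMaxP_sylow S) (mem_top _) (hyS m) hk
  have h6 := cj_eq_iff.2 (hA h5)
  rw [hj, (key j).2] at h6
  exact hAB h6.symm

/-- no element fuses `V1` to `V2` -/
theorem cj_V1_ne (h : Emb7 (S : Subgroup G) φ) (g : G) : cj g (V1.map φ) ≠ V2.map φ :=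
  cj_ne (h.map_le _) (norm_of h V1_conj) (norm_of h V2_conj) (map_ne h)
    (fun g hg => eq_of_card_G h hg (sq_cj (sq_map V1_sq) g)
      ((card_cj _ _).trans ((h.card_map _).trans card_V1))) g

theorem cj_V2_ne (h : Emb7 (S : Subgroup G) φ) (g : G) : cj g (V2.map φ) ≠ V1.map φ := by
  intro hg
  apply cj_V1_ne h g⁻¹
  rw [← hg, cj_inv_cj]

theorem weak1 (h : Emb7 (S : Subgroup G) φ) : WeakCl ⊤ (V1.map φ) (S : Subgroup G) := by
  refine ⟨h.map_le _, fun g _ hg => ?_⟩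
  rcases eq_of_card_G h hg (sq_cj (sq_map V1_sq) g)
    ((card_cj _ _).trans ((h.card_map _).trans card_V1)) with h3 | h3
  · exact h3
  · exact absurd h3 (cj_V1_ne h g)

theorem weak2 (h : Emb7 (S : Subgroup G) φ) : WeakCl ⊤ (V2.map φ) (S : Subgroup G) := by
  refine ⟨h.map_le _, fun g _ hg => ?_⟩
  rcases eq_of_card_G h hg (sq_cj (sq_map V2_sq) g)
    ((card_cj _ _).trans ((h.card_map _).trans card_V2)) with h3 | h3
  · exact absurd h3 (cj_V2_ne h g)
  · exact h3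

omit [Finite G] in
theorem WeakCl.mono {C C' A S : Subgroup G} (hA : WeakCl C A S) (hC : C' ≤ C) : WeakCl C' A S :=
  ⟨hA.1, fun g hg h => hA.2 g (hC hg) h⟩

/-- fusion in `V1` with respect to a subgroup `C` containing `S` -/
theorem control1 (h : Emb7 (S : Subgroup G) φ) {C : Subgroup G} (hC : (S : Subgroup G) ≤ C) {x y : M7}
    (hx : x ∈ V1) (hy : y ∈ V1) {g : G} (hg : g ∈ C) (hxy : g * φ x * g⁻¹ = φ y) :
    ∃ n ∈ C, cj n (V1.map φ) = V1.map φ ∧ n * φ x * n⁻¹ = φ y := by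
  obtain ⟨n, hn, hn1, hn2⟩ := exists_normalizer (isMaxP_of_le S hC) (WeakCl.mono (weak1 h) le_top)
    (comm_map V1_comm) ((h.map_le _).trans hC) (h.mem_map.2 hx) hg (by rw [hxy]; exact h.mem_map.2 hy)
  exact ⟨n, hn, hn1, hn2.trans hxy⟩

theorem control2 (h : Emb7 (S : Subgroup G) φ) {C : Subgroup G} (hC : (S : Subgroup G) ≤ C) {x y : M7}
    (hx : x ∈ V2) (hy : y ∈ V2) {g : G} (hg : g ∈ C) (hxy : g * φ x * g⁻¹ = φ y) :
    ∃ n ∈ C, cj n (V2.map φ) = V2.map φ ∧ n * φ x * n⁻¹ = φ y := by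
  obtain ⟨n, hn, hn1, hn2⟩ := exists_normalizer (isMaxP_of_le S hC) (WeakCl.mono (weak2 h) le_top)
    (comm_map V2_comm) ((h.map_le _).trans hC) (h.mem_map.2 hx) hg (by rw [hxy]; exact h.mem_map.2 hy)
  exact ⟨n, hn, hn1, hn2.trans hxy⟩

theorem z_comm : ∀ x : M7, x * z = z * x := by decide +kernel

omit [Finite G] in
theorem S_le_H (h : Emb7 (S : Subgroup G) φ) : (S : Subgroup G) ≤ centralizer {φ z} := by
  intro s hs
  obtain ⟨a, rfl⟩ := h.exists_eq hs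
  rw [mem_centralizer_singleton_iff, ← map_mul, z_comm, map_mul]

end Cfsg.Agent.LFourB.MSevenFa
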