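import Cfsg.Agent.LFourB.MSevenFacts

/-!
# More kernel facts on `M7` (S0510, piece F-B5, step 4)
-/

set_option autoImplicit false

namespace Cfsg.Agent.LFourB.MQ

open M7

/-! ### More kernel facts -/

theorem comm_S0 : ∀ s t : M7, s.e = false → t.e = false → s * s = 1 → t * t = 1 → s * t = t * s →
    (s ∈ V1 ∧ t ∈ V1) ∨ (s ∈ V2 ∧ t ∈ V2) := by decide +kernel

theorem z_eq : z = x1 * y1 * x1⁻¹ * y1⁻¹ := by decide

theorem V1_comm : ∀ s t : M7, s ∈ V1 → t ∈ V1 → s * t = t * s := by decide +kernel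
theorem V2_comm : ∀ s t : M7, s ∈ V2 → t ∈ V2 → s * t = t * s := by decide +kernel

theorem V1_high : ∀ m n : M7, m ∈ V1 → K4.sq m.a ≠ m.a → n * m = m * n → n ∈ V1 := by
  decide +kernel
theorem V2_high : ∀ m n : M7, m ∈ V2 → K4.sq m.b ≠ m.b → n * m = m * n → n ∈ V2 := by
  decide +kernel

theorem Q_sq : ∀ q : M7, q ∈ Q → q * q ∈ Z1 := by decide +kernel
theorem Q_comm : ∀ q r : M7, q ∈ Q → r ∈ Q → q * r * q⁻¹ * r⁻¹ ∈ Z1 := by decide +kernel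
theorem Q_normal : ∀ s q : M7, q ∈ Q → s * q * s⁻¹ ∈ Q := by
  intro s q hq
  have h : Q.Normal := by
    constructor
    intro q hq s
    revert s q
    decide +kernel
  exact h.conj_mem q hq s

theorem Z1_cases : ∀ m : M7, m ∈ Z1 → m = 1 ∨ m = z := by decide +kernel
theorem Z4_cases : ∀ m : M7, m ∈ Z4 → m = 1 ∨ m = z ∨ m = ze ∨ m = ze * z := by decide +kernel

theorem f_type : ∀ t : M7, t ∈ Q → t * t = 1 → t.e = true →
    ∃ s : M7, (s * t * s⁻¹) * t = t * (s * t * s⁻¹) ∧ s * t * s⁻¹ ≠ t ∧ s * t * s⁻¹ ≠ t * z := by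
  decide +kernel

theorem W1_conj : ∀ r : M7, r ∈ V1 → r ∈ Q → r ∉ Z4 → ∃ s : M7, s * r * s⁻¹ = x1 := by
  decide +kernel
theorem W2_conj : ∀ r : M7, r ∈ V2 → r ∈ Q → r ∉ Z4 → ∃ s : M7, s * r * s⁻¹ = y1 := by
  decide +kernel

theorem V1_normal : ∀ s v : M7, v ∈ V1 → s * v * s⁻¹ ∈ V1 := by decide +kernel
theorem V2_normal : ∀ s v : M7, v ∈ V2 → s * v * s⁻¹ ∈ V2 := by decide +kernel

end Cfsg.Agent.LFourB.MQ
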