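import Cfsg.Agent.LFourB.MSevenFa

/-!
# Orbits of the normalizer of `V1` on `V1`

`Orb C φ x y`: an element of `C` normalising `V1` maps `x` to `y`. The possible orbits of `z` (of length 1, 3, 7, 15), and of
`ze` under the centralizer of `z` (of length 2, 6, 14).
-/

set_option autoImplicit false

namespace Cfsg.Agent.LFourB.MSevenFb

open K4 M7 MSevenFa
open Subgroup
open Cfsg.Agent.SignalizersComponents.RelSylow
open Cfsg.Agent.SylowL5.Weak

/-! ### Kernel part -/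

/-- the number of the class of `x ∈ V1 \ {1}` under the Sylow subgroup: `z`, `ze`, `x1`, `x2`. -/
def ty (x : M7) : Fin 4 :=
  match x.a with
  | o => (match x.c with
    | o => 0
    | i => 0
    | w => 1
    | v => 1)
  | i => 2
  | w => 3
  | v => 3

/-- representatives -/
def rep (k : Fin 4) : M7 := ![z, ze, x1, x2] k

theorem rep_mem : ∀ k, rep k ∈ V1 ∧ rep k ≠ 1 ∧ ty (rep k) = k := by decide +kernel

theorem exists_conj_rep (x : M7) (hx : x ∈ V1) (h1 : x ≠ 1) : ∃ g : M7, g * x * g⁻¹ = rep (ty x) := by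
  have h : ∀ x : M7, x ∈ V1 → x ≠ 1 →
      ∃ b : K4, ∃ e : Bool, (⟨o, b, o, e⟩ : M7) * x * (⟨o, b, o, e⟩ : M7)⁻¹ = rep (ty x) := by decide +kernel
  obtain ⟨b, e, h3⟩ := h x hx h1
  exact ⟨_, h3⟩

/-- the union of the classes with `b k = true`. -/
def T (b0 b1 b2 b3 : Bool) (x : M7) : Bool := decide (x ∈ V1) && !(decide (x = 1)) && ![b0, b1, b2, b3] (ty x)

/-- the number of `a` with `a` and `a * v` in the set `T`. -/
def cnt (b0 b1 b2 b3 : Bool) (v : M7) : ℕ :=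
  (Finset.univ.filter (fun a : M7 => T b0 b1 b2 b3 a = true ∧ T b0 b1 b2 b3 (a * v) = true)).card

theorem check : ∀ b0 b1 b2 b3 : Bool,
    (∀ j k : Fin 4, ![b0, b1, b2, b3] j = true → ![b0, b1, b2, b3] k = true →
      cnt b0 b1 b2 b3 (rep j) = cnt b0 b1 b2 b3 (rep k)) →
    (b0 = true → (b3 = true → b2 = true) ∧ (b2 = true → b1 = true)) ∧
      (b0 = false → b1 = true → b3 = true → b2 = true) := by decide +kernel

/-! ### In the group -/

variable {G : Type*} [Group G]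

/-- an element of `C` normalising `V1` maps `x` to `y` -/
def Orb (C : Subgroup G) (φ : M7 →* G) (x y : M7) : Prop :=
  ∃ n ∈ C, cj n (V1.map φ) = V1.map φ ∧ n * φ x * n⁻¹ = φ y

variable {C : Subgroup G} {φ : M7 →* G}

theorem Orb.symm {x y : M7} (h : Orb C φ x y) : Orb C φ y x := by
  obtain ⟨n, hn, h1, h2⟩ := h
  refine ⟨n⁻¹, inv_mem hn, ?_, ?_⟩
  · conv_lhs => rw [← h1]
    rw [cj_inv_cj]
  · rw [← h2]; group

theorem Orb.trans {x y t : M7} (h : Orb C φ x y) (h' : Orb C φ y t) : Orb C φ x t := by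
  obtain ⟨n, hn, h1, h2⟩ := h
  obtain ⟨m, hm, h3, h4⟩ := h'
  refine ⟨m * n, mul_mem hm hn, ?_, ?_⟩
  · rw [cj_mul, h1, h3]
  · rw [← h4, ← h2]; group

theorem Orb.refl (x : M7) : Orb C φ x x :=
  ⟨1, one_mem _, cj_one _, by group⟩

theorem Orb.mono {C' : Subgroup G} (hC : C ≤ C') {x y : M7} (h : Orb C φ x y) : Orb C' φ x y := by
  obtain ⟨n, hn, h1, h2⟩ := h
  exact ⟨n, hC hn, h1, h2⟩

theorem Orb.of_conj {S : Subgroup G} (h : Emb7 S φ) (hC : S ≤ C) {x y g : M7} (hg : g * x * g⁻¹ = y) :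
    Orb C φ x y := by
  refine ⟨φ g, hC (h.mem g), cj_eq_iff.2 (norm_of h V1_conj (h.mem g)), ?_⟩
  rw [← hg, map_mul, map_mul, map_inv]

theorem Orb.mem {S : Subgroup G} (h : Emb7 S φ) {x y : M7} (hx : x ∈ V1) (hxy : Orb C φ x y) : y ∈ V1 := by
  obtain ⟨n, _, h1, h2⟩ := hxy
  rw [← h.mem_map, ← h2, ← h1]
  exact conj_mem_cj (h.mem_map.2 hx)

theorem Orb.ne_one {S : Subgroup G} (h : Emb7 S φ) {x y : M7} (hx : x ≠ 1) (hxy : Orb C φ x y) : y ≠ 1 := by
  rintro rfl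
  obtain ⟨n, _, _, h2⟩ := hxy.symm
  apply hx
  apply h.inj
  rw [← h2, map_one]; group

theorem orb_rep {S : Subgroup G} (h : Emb7 S φ) (hC : S ≤ C) {v0 x : M7} (hx : x ∈ V1) (h1 : x ≠ 1) :
    Orb C φ v0 x ↔ Orb C φ v0 (rep (ty x)) := by
  obtain ⟨g, hg⟩ := exists_conj_rep x hx h1
  have h2 : Orb C φ x (rep (ty x)) := Orb.of_conj h hC hg
  exact ⟨fun h3 => h3.trans h2, fun h3 => h3.trans h2.symm⟩

open Classical in
theorem T_iff {S : Subgroup G} (h : Emb7 S φ) (hC : S ≤ C) {v0 : M7} (hv : v0 ∈ V1) (hv1 : v0 ≠ 1) (x : M7) :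
    T (decide (Orb C φ v0 (rep 0))) (decide (Orb C φ v0 (rep 1))) (decide (Orb C φ v0 (rep 2)))
      (decide (Orb C φ v0 (rep 3))) x = true ↔ Orb C φ v0 x := by
  have hb : ∀ k : Fin 4, ![decide (Orb C φ v0 (rep 0)), decide (Orb C φ v0 (rep 1)), decide (Orb C φ v0 (rep 2)),
      decide (Orb C φ v0 (rep 3))] k = decide (Orb C φ v0 (rep k)) := by
    intro k
    fin_cases k <;> rfl
  unfold T
  rw [hb]
  simp only [Bool.and_eq_true, Bool.not_eq_true', decide_eq_false_iff_not, decide_eq_true_eq]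
  constructor
  · rintro ⟨⟨h1, h2⟩, h3⟩
    exact (orb_rep h hC h1 h2).2 h3
  · intro h1
    have h2 : x ∈ V1 := h1.mem h hv
    have h3 : x ≠ 1 := h1.ne_one h hv1
    exact ⟨⟨h2, h3⟩, (orb_rep h hC h2 h3).1 h1⟩

open Classical in
theorem cnt_le {S : Subgroup G} (h : Emb7 S φ) (hC : S ≤ C) {v0 : M7} (hv : v0 ∈ V1) (hv1 : v0 ≠ 1) {x y : M7}
    (hx : Orb C φ v0 x) (hy : Orb C φ v0 y) :
    cnt (decide (Orb C φ v0 (rep 0))) (decide (Orb C φ v0 (rep 1))) (decide (Orb C φ v0 (rep 2)))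
      (decide (Orb C φ v0 (rep 3))) x ≤
    cnt (decide (Orb C φ v0 (rep 0))) (decide (Orb C φ v0 (rep 1))) (decide (Orb C φ v0 (rep 2)))
      (decide (Orb C φ v0 (rep 3))) y := by
  obtain ⟨n, hn, h1, h2⟩ := hx.symm.trans hy
  have hex : ∀ a : M7, a ∈ V1 → ∃ a' : M7, φ a' = n * φ a * n⁻¹ := by
    intro a ha
    have h3 : n * φ a * n⁻¹ ∈ V1.map φ := by
      rw [← h1]; exact conj_mem_cj (h.mem_map.2 ha)
    obtain ⟨a', _, ha'⟩ := h3
    exact ⟨a', ha'⟩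
  let τ : M7 → M7 := fun a => if ha : ∃ a' : M7, φ a' = n * φ a * n⁻¹ then ha.choose else 1
  have hτ : ∀ a ∈ V1, φ (τ a) = n * φ a * n⁻¹ := by
    intro a ha
    have h3 := hex a ha
    show φ (if ha : ∃ a' : M7, φ a' = n * φ a * n⁻¹ then ha.choose else 1) = _
    rw [dif_pos h3]
    exact h3.choose_spec
  have hτo : ∀ a ∈ V1, Orb C φ a (τ a) := fun a ha => ⟨n, hn, h1, (hτ a ha).symm⟩
  have hxV : x ∈ V1 := hx.mem h hv
  unfold cnt
  apply Finset.card_le_card_of_injOn τ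
  · intro a ha
    simp only [Finset.coe_filter, Finset.mem_univ, true_and, Set.mem_ofPred_eq, T_iff h hC hv hv1] at ha ⊢
    have haV : a ∈ V1 := ha.1.mem h hv
    refine ⟨ha.1.trans (hτo a haV), ?_⟩
    have h3 : τ a * y = τ (a * x) := by
      apply h.inj
      rw [map_mul, hτ a haV, ← h2, hτ _ (V1.mul_mem haV hxV), map_mul]
      group
    rw [h3]
    exact ha.2.trans (hτo _ (V1.mul_mem haV hxV))
  · intro a ha a' ha' h3
    simp only [Finset.coe_filter, Finset.mem_univ, true_and, Set.mem_ofPred_eq, T_iff h hC hv hv1] at ha ha'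
    have haV : a ∈ V1 := ha.1.mem h hv
    have haV' : a' ∈ V1 := ha'.1.mem h hv
    apply h.inj
    have h4 : n * φ a * n⁻¹ = n * φ a' * n⁻¹ := by
      rw [← hτ a haV, ← hτ a' haV', h3]
    exact mul_left_cancel (mul_right_cancel h4)

theorem orb_check {S : Subgroup G} (h : Emb7 S φ) (hC : S ≤ C) {v0 : M7} (hv : v0 ∈ V1) (hv1 : v0 ≠ 1) :
    (Orb C φ v0 z → (Orb C φ v0 x2 → Orb C φ v0 x1) ∧ (Orb C φ v0 x1 → Orb C φ v0 ze)) ∧
      (¬ Orb C φ v0 z → Orb C φ v0 ze → Orb C φ v0 x2 → Orb C φ v0 x1) := by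
  classical
  have hb : ∀ k : Fin 4, ![decide (Orb C φ v0 (rep 0)), decide (Orb C φ v0 (rep 1)), decide (Orb C φ v0 (rep 2)),
      decide (Orb C φ v0 (rep 3))] k = decide (Orb C φ v0 (rep k)) := by
    intro k
    fin_cases k <;> rfl
  have h1 := check (decide (Orb C φ v0 (rep 0))) (decide (Orb C φ v0 (rep 1))) (decide (Orb C φ v0 (rep 2)))
    (decide (Orb C φ v0 (rep 3))) (by
      intro j k hj hk
      rw [hb, decide_eq_true_eq] at hj hk
      exact le_antisymm (cnt_le h hC hv hv1 hj hk) (cnt_le h hC hv hv1 hk hj))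
  simp only [decide_eq_true_eq, decide_eq_false_iff_not] at h1
  exact h1

/-- the orbit of `z` under `N_C(V1)`, `C ≥ S`: `x2 ∈ → x1 ∈ → ze ∈`. -/
theorem orb_z {S : Subgroup G} (h : Emb7 S φ) (hC : S ≤ C) :
    (Orb C φ z x2 → Orb C φ z x1) ∧ (Orb C φ z x1 → Orb C φ z ze) :=
  (orb_check h hC (v0 := z) (by decide) (by decide)).1 (Orb.refl z)

theorem not_orb_z {S : Subgroup G} (h : Emb7 S φ) (hC : C ≤ centralizer {φ z}) {x : M7} (hx : x ≠ z) :
    ¬ Orb C φ x z := by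
  intro h1
  obtain ⟨n, hn, _, h2⟩ := h1.symm
  have h3 := mem_centralizer_singleton_iff.1 (hC hn)
  rw [h3, mul_inv_cancel_right] at h2
  exact hx (h.inj h2).symm

/-- the orbit of `ze` under `N_C(V1)`, `S ≤ C ≤ C(z)`: `x2 ∈ → x1 ∈`. -/
theorem orb_ze {S : Subgroup G} (h : Emb7 S φ) (hC : S ≤ C) (hC' : C ≤ centralizer {φ z}) :
    Orb C φ ze x2 → Orb C φ ze x1 :=
  (orb_check h hC (v0 := ze) (by decide) (by decide)).2 (not_orb_z h hC' (by decide)) (Orb.refl ze)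

/-- if `z` is fused to `ze`, `x1` and `x2` it is fused to every element of `V1 \ {1}`. -/
theorem orb_all {S : Subgroup G} (h : Emb7 S φ) (hC : S ≤ C) {v0 : M7} (h0 : Orb C φ v0 z) (h1 : Orb C φ v0 ze)
    (h2 : Orb C φ v0 x1) (h3 : Orb C φ v0 x2) : ∀ x ∈ V1, x ≠ 1 → Orb C φ v0 x := by
  intro x hx hx1
  rw [orb_rep h hC hx hx1]
  have : ∀ k : Fin 4, Orb C φ v0 (rep k) := by
    intro k
    fin_cases k
    · exact h0
    · exact h1
    · exact h2
    · exact h3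
  exact this _

end Cfsg.Agent.LFourB.MSevenFb
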