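import Cfsg.Agent.LFourB.MSevenFb

/-!
# `z` is moved by the normalizers of `V1` and `V2`; orbits of length `3 + 12` or `15`
-/

set_option autoImplicit false

namespace Cfsg.Agent.LFourB.MSevenFc

open K4 M7 MSevenFa MSevenFb
open Subgroup
open Cfsg.Agent.SignalizersComponents.RelSylow
open Cfsg.Agent.SylowL5.Weak

variable {G : Type*} [Group G] {S : Sylow 2 G} {φ : M7 →* G}

theorem eq_z_of_ty : ∀ x ∈ V1, x ≠ 1 → ty x = 0 → x = z := by decide +kernel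
theorem V1_le_S0 : V1 ≤ S0 := fun x hx => (mem_S0 x).2 ((mem_V1 x).1 hx).2
theorem V2_le_S0 : V2 ≤ S0 := fun x hx => (mem_S0 x).2 ((mem_V2 x).1 hx).2
theorem ty_ne_three : ∀ x ∈ R1, x ∈ V1 → ty x ≠ 3 := by decide +kernel

theorem isPGroup_map (h : Emb7 (S : Subgroup G) φ) (K : Subgroup M7) : IsPGroup 2 (K.map φ) :=
  S.isPGroup'.to_le (h.map_le K)

theorem relIndex_map {S : Subgroup G} (h : Emb7 S φ) {K : Subgroup M7} (hK : Nat.card K = 64) :
    (K.map φ).relIndex S = 2 := by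
  have h1 := Subgroup.relIndex_mul_relIndex (⊥ : Subgroup G) (K.map φ) S bot_le (h.map_le K)
  rw [relIndex_bot_left, relIndex_bot_left, h.card_map, hK, h.card] at h1
  omega

variable [Finite G]

/-- extremal conjugates for `z` -/
theorem exists_ext (h : Emb7 (S : Subgroup G) φ) {P : Subgroup G} (hP : IsPGroup 2 P) {t g : G}
    (hPt : ∀ p ∈ P, p * t = t * p) (hg : g * t * g⁻¹ = φ z) :
    ∃ g' : G, g' * t * g'⁻¹ = φ z ∧ cj g' P ≤ (S : Subgroup G) := by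
  have f2 : Fact (Nat.Prime 2) := ⟨Nat.prime_two⟩
  have hS : IsMaxP 2 (centralizer {φ z}) (S : Subgroup G) := isMaxP_of_le S (S_le_H h)
  have h1 : cj g P ≤ centralizer {φ z} := by
    rw [cj_le_iff]
    intro p hp
    rw [mem_centralizer_singleton_iff, ← hg]
    calc g * p * g⁻¹ * (g * t * g⁻¹) = g * (p * t) * g⁻¹ := by group
      _ = g * (t * p) * g⁻¹ := by rw [hPt p hp]
      _ = g * t * g⁻¹ * (g * p * g⁻¹) := by group
  obtain ⟨c, hc, hcR⟩ := hS.exists_conj_le (isPGroup_cj (g := g) hP) h1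
  refine ⟨c * g, ?_, ?_⟩
  · have h2 := mem_centralizer_singleton_iff.1 hc
    calc c * g * t * (c * g)⁻¹ = c * (g * t * g⁻¹) * c⁻¹ := by group
      _ = φ z := by rw [hg, h2, mul_inv_cancel_right]
  · rw [cj_mul]; exact hcR

theorem cj_V1_of_le (h : Emb7 (S : Subgroup G) φ) {g : G} {K : Subgroup M7} (hK : V1 ≤ K)
    (hg : cj g (K.map φ) ≤ (S : Subgroup G)) : cj g (V1.map φ) = V1.map φ :=
  (weak1 h).2 g (mem_top _) ((cj_mono (map_mono hK)).trans hg)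

theorem cj_V2_of_le (h : Emb7 (S : Subgroup G) φ) {g : G} {K : Subgroup M7} (hK : V2 ≤ K)
    (hg : cj g (K.map φ) ≤ (S : Subgroup G)) : cj g (V2.map φ) = V2.map φ :=
  (weak2 h).2 g (mem_top _) ((cj_mono (map_mono hK)).trans hg)

/-- fusion of `x` to `y`, both in `V1`, takes place in the normalizer of `V1` -/
theorem orb_of_conj (h : Emb7 (S : Subgroup G) φ) {C : Subgroup G} (hC : (S : Subgroup G) ≤ C) {x y : M7}
    (hx : x ∈ V1) (hy : y ∈ V1) {g : G} (hg : g ∈ C) (hxy : g * φ x * g⁻¹ = φ y) : Orb C φ x y :=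
  control1 h hC hx hy hg hxy

/-- if `z` and `ze` are not fused then `z` is not fused to another element of `V1` or `V2` -/
theorem eq_z_of (h : Emb7 (S : Subgroup G) φ) (hn : ¬ Orb ⊤ φ z ze) {g : G} {x : M7}
    (hx : x ∈ V1 ∨ x ∈ V2) (hg : g * φ z * g⁻¹ = φ x) : x = z := by
  have key : ∀ (ψ : M7 →* G), Emb7 (S : Subgroup G) ψ → ¬ Orb ⊤ ψ z ze → ∀ x ∈ V1, g * ψ z * g⁻¹ = ψ x → x = z := by
    intro ψ h hn x hx hg
    have h1 : Orb ⊤ ψ z x := orb_of_conj h le_top (by decide) hx (mem_top g) hg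
    have h2 : x ≠ 1 := h1.ne_one h (by decide)
    obtain ⟨h3, h4⟩ := orb_z (C := ⊤) h le_top
    have h5 : Orb ⊤ ψ z (rep (ty x)) := (orb_rep h le_top hx h2).1 h1
    have h6 : ty x = 0 := by
      have : ∀ k : Fin 4, Orb ⊤ ψ z (rep k) → k = 0 := by
        intro k hk
        fin_cases k
        · rfl
        · exact absurd hk hn
        · exact absurd (h4 hk) hn
        · exact absurd (h4 (h3 hk)) hn
      exact this _ h5
    exact eq_z_of_ty x hx h2 h6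
  rcases hx with hx | hx
  · exact key φ h hn x hx hg
  · have h1 := key _ h.comp_swap (by
      intro h2
      apply hn
      obtain ⟨n, hn1, hn2, hn3⟩ := h2
      exact orb_of_conj h le_top (by decide) (by decide) (mem_top n) hn3) (swap x) ((swap_mem_V1 x).2 hx) (by
        show g * φ (swap z) * g⁻¹ = φ (swap (swap x))
        rw [swap_swap, swap_z, hg])
    rw [← swap_swap x, h1, swap_z]

theorem commutator_e : ∀ x y : M7, (x * y * x⁻¹ * y⁻¹).e = false := by decide +kernel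

/-- STEP 2: `z` is moved by the normalizer of `V1`. -/
theorem orb_z_ze (h : Emb7 (S : Subgroup G) φ)
    (hZ : ∃ g : G, g * φ z * g⁻¹ ∈ (S : Subgroup G) ∧ g * φ z * g⁻¹ ≠ φ z) : Orb ⊤ φ z ze := by
  by_contra hn
  obtain ⟨g, hg, hgz⟩ := hZ
  obtain ⟨m, hm⟩ := h.exists_eq hg
  have hm2 : m * m = 1 := by
    apply h.inj
    rw [map_mul, hm, map_one]
    calc g * φ z * g⁻¹ * (g * φ z * g⁻¹) = g * (φ z * φ z) * g⁻¹ := by group
      _ = g * φ (z * z) * g⁻¹ := by rw [map_mul]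
      _ = 1 := by rw [show z * z = 1 by decide, map_one]; group
  have hmz : m ≠ z := by
    rintro rfl
    exact hgz hm.symm
  have hmV : ¬ (m ∈ V1 ∨ m ∈ V2) := fun h1 => hmz (eq_z_of h hn h1 hm.symm)
  obtain ⟨s, hs⟩ : ∃ s : M7, s * f * s⁻¹ = m := by
    rcases M7.inv_cases m hm2 with h1 | h1 | h1
    · exact absurd (Or.inl h1) hmV
    · exact absurd (Or.inr h1) hmV
    · exact h1
  -- an element fusing `f` to `z`
  have h1 : (g⁻¹ * φ s) * φ f * (g⁻¹ * φ s)⁻¹ = φ z := by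
    calc (g⁻¹ * φ s) * φ f * (g⁻¹ * φ s)⁻¹ = g⁻¹ * (φ s * φ f * (φ s)⁻¹) * g := by group
      _ = g⁻¹ * φ m * g := by rw [← hs, map_mul, map_mul, map_inv]
      _ = φ z := by rw [hm]; group
  let D : Subgroup G := (centralizer {f}).map φ
  obtain ⟨k, hk, hkS⟩ := exists_ext h (P := D) (isPGroup_map h _) (t := φ f) (by
    rintro _ ⟨d, hd, rfl⟩
    rw [← map_mul, mem_centralizer_singleton_iff.1 hd, map_mul]) h1
  have hx : k * φ x1 * k⁻¹ ∈ (S : Subgroup G) :=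
    hkS (conj_mem_cj ⟨x1, mem_centralizer_singleton_iff.2 (by decide), rfl⟩)
  have hy : k * φ y1 * k⁻¹ ∈ (S : Subgroup G) :=
    hkS (conj_mem_cj ⟨y1, mem_centralizer_singleton_iff.2 (by decide), rfl⟩)
  obtain ⟨a, ha⟩ := h.exists_eq hx
  obtain ⟨b, hb⟩ := h.exists_eq hy
  have hz : k * φ z * k⁻¹ = φ (a * b * a⁻¹ * b⁻¹) := by
    rw [map_mul, map_mul, map_mul, map_inv, map_inv, ha, hb, show z = x1 * y1 * x1⁻¹ * y1⁻¹ by decide]
    simp only [map_mul, map_inv]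
    group
  set c := a * b * a⁻¹ * b⁻¹ with hc
  have hc2 : c * c = 1 := by
    apply h.inj
    rw [map_mul, ← hz, map_one]
    calc k * φ z * k⁻¹ * (k * φ z * k⁻¹) = k * φ (z * z) * k⁻¹ := by rw [map_mul]; group
      _ = 1 := by rw [show z * z = 1 by decide, map_one]; group
  have hcV : c ∈ V1 ∨ c ∈ V2 := sq_one_S0 c hc2 (commutator_e a b)
  have h2 := eq_z_of h hn hcV hz
  rw [h2] at hz
  have h3 : φ z = φ f := mul_left_cancel (mul_right_cancel (hz.trans hk.symm))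
  exact absurd (h.inj h3) (by decide)

/-- STEP 3 (transfer): `x2` is fused in the normalizer of `V1` into `R1`. -/
theorem orb_x2 (h : Emb7 (S : Subgroup G) φ) (hG : ∀ H : Subgroup G, H.index ≠ 2) :
    Orb ⊤ φ z x2 ∨ Orb ⊤ φ ze x2 ∨ Orb ⊤ φ x1 x2 := by
  obtain ⟨g, hg1, hg2⟩ := Cfsg.Agent.SylowL5.Trans.exists_conj hG S (R1.map φ) (h.map_le _)
    (relIndex_map h card_R1) (φ x2) (by rw [pow_two, ← map_mul, show x2 * x2 = 1 by decide, map_one])
    (V1.map φ) (isPGroup_map h _) (by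
      rintro _ ⟨d, hd, rfl⟩
      rw [← map_mul, V1_comm d hd x2 (by decide), map_mul])
  have h1 : cj g (V1.map φ) = V1.map φ := (weak1 h).2 g (mem_top _) (cj_le_iff.2 hg1)
  obtain ⟨m, hm, hmg⟩ := hg2
  have h2 : m ∈ V1 := by
    rw [← h.mem_map, hmg, ← h1]
    exact conj_mem_cj (h.mem_map.2 (by decide))
  have h3 : Orb ⊤ φ x2 m := ⟨g, mem_top _, h1, hmg.symm⟩
  have h4 : m ≠ 1 := h3.ne_one h (by decide)
  have h5 := (orb_rep h le_top h2 h4).1 h3
  have h6 : ty m ≠ 3 := ty_ne_three m hm h2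
  have key : ∀ k : Fin 4, k ≠ 3 → Orb ⊤ φ x2 (rep k) → Orb ⊤ φ z x2 ∨ Orb ⊤ φ ze x2 ∨ Orb ⊤ φ x1 x2 := by
    intro k hk hk2
    fin_cases k
    · exact Or.inl hk2.symm
    · exact Or.inr (Or.inl hk2.symm)
    · exact Or.inr (Or.inr hk2.symm)
    · exact absurd rfl hk
  exact key _ h6 h5

/-- STEPS 1-3: the orbits of the normalizer of `V1` on `V1 \ {1}` are of length `15` or `3, 12`. -/
theorem orbits (h : Emb7 (S : Subgroup G) φ) (hG : ∀ H : Subgroup G, H.index ≠ 2)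
    (hZ : ∃ g : G, g * φ z * g⁻¹ ∈ (S : Subgroup G) ∧ g * φ z * g⁻¹ ≠ φ z) :
    Orb ⊤ φ z ze ∧ ((Orb ⊤ φ z x1 ∧ Orb ⊤ φ z x2) ∨
      (¬ Orb ⊤ φ z x1 ∧ ¬ Orb ⊤ φ z x2 ∧ Orb ⊤ φ x1 x2)) := by
  have h1 := orb_z_ze h hZ
  obtain ⟨h3, h4⟩ := orb_z (C := ⊤) h le_top
  refine ⟨h1, ?_⟩
  by_cases h5 : Orb ⊤ φ z x1
  · left
    refine ⟨h5, ?_⟩
    rcases orb_x2 h hG with h6 | h6 | h6
    · exact h6
    · exact h1.trans h6
    · exact h5.trans h6
  · right
    refine ⟨h5, fun h6 => h5 (h3 h6), ?_⟩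
    rcases orb_x2 h hG with h6 | h6 | h6
    · exact absurd (h3 h6) h5
    · exact absurd (h3 (h1.trans h6)) h5
    · exact h6

/-- the normalizer of `S0` fuses `ze` to `z` -/
theorem exists_norm_S0 (h : Emb7 (S : Subgroup G) φ) (h1 : Orb ⊤ φ z ze) :
    ∃ n : G, cj n (V1.map φ) = V1.map φ ∧ cj n (V2.map φ) = V2.map φ ∧ n * φ ze * n⁻¹ = φ z := by
  obtain ⟨g, _, _, hg⟩ := h1.symm
  obtain ⟨n, hn1, hn2⟩ := exists_ext h (P := S0.map φ) (isPGroup_map h _) (t := φ ze) (by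
    rintro _ ⟨d, hd, rfl⟩
    rw [← map_mul, (cent_ze d).2 hd, map_mul]) hg
  exact ⟨n, cj_V1_of_le h (K := S0) V1_le_S0 hn2, cj_V2_of_le h (K := S0) V2_le_S0 hn2, hn1⟩

end Cfsg.Agent.LFourB.MSevenFc
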