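import Cfsg.Agent.LFourB.MSevenFd
import Cfsg.Agent.LFourB.MSevenSigma

/-!
# Fusion in `C(z)`: isolated involutions

If there is no `τ`, `x2` is not fused in `C(z)` to an element of `S` outside its `S`-class.
-/

set_option autoImplicit false

namespace Cfsg.Agent.LFourB.MSevenFe

open K4 M7 MSevenFa MSevenFb MSevenFc MSevenFd
open Subgroup
open Cfsg.Agent.SignalizersComponents.RelSylow
open Cfsg.Agent.SylowL5.Weak

/-! ### Facts on `M7` -/

theorem cent_conj_x2 : ∀ m ∈ V1, pr m.a = false → ∀ x : M7, x * m = m * x → x ∈ V1 := by decide +kernel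

theorem cent_conj_y2 : ∀ m ∈ V2, pr m.b = false → ∀ x ∈ V2, x * m = m * x := by decide +kernel

/-- an involution with abelian centralizer is conjugate to `x2` or `y2` -/
theorem not_comm : ∀ m : M7, m * m = 1 → (m ∈ V1 ∧ pr m.a = false) ∨ (m ∈ V2 ∧ pr m.b = false) ∨
    ((x1 * m = m * x1 ∧ y1 * m = m * y1) ∨ (∃ a b c a' b' : K4, ∃ e : Bool,
      (⟨a, b, o, false⟩ : M7) * m = m * ⟨a, b, o, false⟩ ∧ (⟨a', b', c, e⟩ : M7) * m = m * ⟨a', b', c, e⟩ ∧
        (⟨a, b, o, false⟩ : M7) * ⟨a', b', c, e⟩ ≠ ⟨a', b', c, e⟩ * ⟨a, b, o, false⟩)) := by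
  decide +kernel

theorem ty_three : ∀ m ∈ V1, ty m = 3 → pr m.a = false := by decide +kernel

theorem x1_y1_ne : x1 * y1 ≠ y1 * x1 := by decide

theorem involution_of_conj {G : Type*} [Group G] {S : Subgroup G} {φ : M7 →* G} (h : Emb7 S φ) {x m : M7} (hx : x * x = 1) {g : G}
    (hg : g * φ x * g⁻¹ = φ m) : m * m = 1 := by
  apply h.inj
  rw [map_mul, ← hg, map_one]
  calc g * φ x * g⁻¹ * (g * φ x * g⁻¹) = g * φ (x * x) * g⁻¹ := by rw [map_mul]; group
    _ = 1 := by rw [hx, map_one]; group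

variable {G : Type*} [Group G] [Finite G] {S : Sylow 2 G} {φ : M7 →* G}

/-- if there is no `τ`, the `N(V1) ∩ C(z)`-orbit of `x2` is its `S`-class -/
theorem orb_x2_of_not_tau (h : Emb7 (S : Subgroup G) φ) (hτ : ¬ Tau φ) {m : M7}
    (hm : Orb (centralizer {φ z}) φ x2 m) : m ∈ V1 ∧ pr m.a = false := by
  have hmV : m ∈ V1 := hm.mem h (by decide)
  have hm1 : m ≠ 1 := hm.ne_one h (by decide)
  have h1 := (orb_rep h (S_le_H h) hmV hm1).1 hm
  have h2 : ty m = 3 := by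
    have : ∀ j : Fin 4, Orb (centralizer {φ z}) φ x2 (rep j) → j = 3 := by
      intro j hj
      fin_cases j
      · exact absurd hj (not_orb_z h le_rfl (x := x2) (by decide))
      · exact absurd (exists_tau h hj.symm) hτ
      · exact absurd (tau_of_x1_x2 h hj.symm) hτ
      · rfl
    exact this _ h1
  exact ⟨hmV, ty_three m hmV h2⟩

/-- if there is no `τ`, `x2` is fused in `C(z)` only to its `S`-conjugates. -/
theorem isol (h : Emb7 (S : Subgroup G) φ) (hτ : ¬ Tau φ) {g : G} (hg : g ∈ centralizer {φ z}) {m : M7}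
    (hm : g * φ x2 * g⁻¹ = φ m) : m ∈ V1 ∧ pr m.a = false := by
  have f2 : Fact (Nat.Prime 2) := ⟨Nat.prime_two⟩
  have hS : IsMaxP 2 (centralizer {φ z}) (S : Subgroup G) := isMaxP_of_le S (S_le_H h)
  -- a Sylow subgroup of `C(z, m)` containing `C_S(m)`
  let C : Subgroup G := centralizer {φ z} ⊓ centralizer {φ m}
  have h1 : (centralizer {m}).map φ ≤ C := by
    rintro _ ⟨x, hx, rfl⟩
    refine ⟨S_le_H h (h.mem x), ?_⟩
    show φ x ∈ centralizer {φ m}
    rw [mem_centralizer_singleton_iff, ← map_mul, ← map_mul]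
    exact congrArg φ (mem_centralizer_singleton_iff.1 hx)
  obtain ⟨R, hR, hmR⟩ := exists_isMaxP (isPGroup_map h _) h1
  have h2 : cj g (V1.map φ) ≤ C := by
    rw [cj_le_iff]
    rintro _ ⟨x, hx, rfl⟩
    refine Subgroup.mem_inf.2 ⟨mul_mem (mul_mem hg (S_le_H h (h.mem x))) (inv_mem hg), ?_⟩
    rw [mem_centralizer_singleton_iff, ← hm]
    have h3 : φ x * φ x2 = φ x2 * φ x := by rw [← map_mul, ← map_mul, V1_comm x hx x2 (by decide)]
    calc g * φ x * g⁻¹ * (g * φ x2 * g⁻¹) = g * (φ x * φ x2) * g⁻¹ := by group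
      _ = g * (φ x2 * φ x) * g⁻¹ := by rw [h3]
      _ = g * φ x2 * g⁻¹ * (g * φ x * g⁻¹) := by group
  obtain ⟨c, hc, hcR⟩ := hR.exists_conj_le (isPGroup_cj (g := g) (isPGroup_map h V1)) h2
  obtain ⟨k, hk, hkR⟩ := hS.exists_conj_le hR.1 (hR.2.1.trans inf_le_left)
  have h3 : cj (k * c * g) (V1.map φ) ≤ (S : Subgroup G) := by
    rw [cj_mul, cj_mul]
    exact (cj_mono hcR).trans hkR
  have h4 : cj (k * c * g) (V1.map φ) = V1.map φ := (weak1 h).2 _ (mem_top _) h3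
  have hcm : c * φ m * c⁻¹ = φ m := by
    have : c ∈ centralizer {φ m} := hc.2
    rw [mem_centralizer_singleton_iff.1 this, mul_inv_cancel_right]
  have h5 : k * c * g * φ x2 * (k * c * g)⁻¹ = k * φ m * k⁻¹ := by
    calc k * c * g * φ x2 * (k * c * g)⁻¹ = k * (c * (g * φ x2 * g⁻¹) * c⁻¹) * k⁻¹ := by group
      _ = _ := by rw [hm, hcm]
  obtain ⟨m0, hm0, hm0k⟩ : k * c * g * φ x2 * (k * c * g)⁻¹ ∈ V1.map φ := mem_of_cj h4 (h.mem_map.2 (by decide))
  have h6 : Orb (centralizer {φ z}) φ x2 m0 := ⟨k * c * g, mul_mem (mul_mem hk hc.1) hg, h4, hm0k.symm⟩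
  obtain ⟨_, h7⟩ := orb_x2_of_not_tau h hτ h6
  have hkm : k * φ m * k⁻¹ = φ m0 := h5.symm.trans hm0k.symm
  -- `R` is conjugate to `V1`
  have h8 : cj k R ≤ V1.map φ := by
    intro r hr
    obtain ⟨x, rfl⟩ := h.exists_eq (hkR hr)
    rw [h.mem_map]
    apply cent_conj_x2 m0 hm0 h7
    apply h.inj
    rw [map_mul, map_mul]
    obtain ⟨r', hr', hrr⟩ := hr
    have h9 : r' * φ m = φ m * r' := by
      have : r' ∈ centralizer {φ m} := (hR.2.1 hr').2
      exact mem_centralizer_singleton_iff.1 this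
    have h10 : k * r' * k⁻¹ = φ x := hrr
    rw [← h10, ← hkm]
    calc k * r' * k⁻¹ * (k * φ m * k⁻¹) = k * (r' * φ m) * k⁻¹ := by group
      _ = k * (φ m * r') * k⁻¹ := by rw [h9]
      _ = k * φ m * k⁻¹ * (k * r' * k⁻¹) := by group
  have hRc : ∀ a ∈ R, ∀ b ∈ R, a * b = b * a := by
    intro a ha b hb
    have e1 := comm_map V1_comm _ (h8 (conj_mem_cj ha)) _ (h8 (conj_mem_cj hb))
    have e2 : k * (a * b) * k⁻¹ = k * (b * a) * k⁻¹ := by
      calc k * (a * b) * k⁻¹ = k * a * k⁻¹ * (k * b * k⁻¹) := by group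
        _ = k * b * k⁻¹ * (k * a * k⁻¹) := e1
        _ = k * (b * a) * k⁻¹ := by group
    exact mul_left_cancel (mul_right_cancel e2)
  have hcen : ∀ a b : M7, a * m = m * a → b * m = m * b → a * b = b * a := by
    intro a b ha hb
    apply h.inj
    rw [map_mul, map_mul]
    exact hRc _ (hmR ⟨a, mem_centralizer_singleton_iff.2 ha, rfl⟩) _ (hmR ⟨b, mem_centralizer_singleton_iff.2 hb, rfl⟩)
  rcases not_comm m (involution_of_conj h (by decide) hm) with h9 | h9 | h9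
  · exact h9
  · exfalso
    have h10 : V2.map φ ≤ R := by
      rintro _ ⟨x, hx, rfl⟩
      exact hmR ⟨x, mem_centralizer_singleton_iff.2 (cent_conj_y2 m h9.1 h9.2 x hx), rfl⟩
    apply cj_V2_ne h k
    exact Subgroup.eq_of_le_of_card_ge ((cj_mono h10).trans h8) (by
      rw [card_cj, h.card_map, h.card_map, card_V1, card_V2])
  · exfalso
    rcases h9 with ⟨e1, e2⟩ | ⟨a, b, c, a', b', e, e1, e2, e3⟩
    · exact x1_y1_ne (hcen _ _ e1 e2)
    · exact e3 (hcen _ _ e1 e2)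

end Cfsg.Agent.LFourB.MSevenFe
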