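import Cfsg.Agent.LFourB.MSevenFactsQ
import Cfsg.Agent.LFourB.RelExt
import Cfsg.Agent.SylowSp4.ExtTransfer

/-!
# Fusion in `N(Q)` for groups with Sylow 2-subgroup `M7` (S0510, piece F-B5, step 4)
-/

set_option autoImplicit false

namespace Cfsg.Agent.LFourB.MQ

open Subgroup Cfsg.Agent.Lib.GoldschmidtFusion M7

variable {G : Type*} [Group G]

/-- Weak closure of the image of `V` in `P`. -/
def WC (P : Subgroup G) (φ : M7 →* G) (V : Subgroup M7) : Prop :=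
  ∀ g : G, (V.map φ).map (MulAut.conj g).toMonoidHom ≤ P →
    (V.map φ).map (MulAut.conj g).toMonoidHom = V.map φ

/-- The centraliser of `z`. -/
abbrev Cz (φ : M7 →* G) : Subgroup G := centralizer ({φ z} : Set G)

theorem mem_Cz {φ : M7 →* G} {g : G} : g ∈ Cz φ ↔ g * φ z = φ z * g := by
  rw [mem_centralizer_singleton_iff]

theorem conj_of_mem_Cz {φ : M7 →* G} {g : G} (hg : g ∈ Cz φ) : g * φ z * g⁻¹ = φ z := by
  rw [mem_Cz.1 hg]; group

theorem mem_Cz_of_conj {φ : M7 →* G} {g : G} (hg : g * φ z * g⁻¹ = φ z) : g ∈ Cz φ := by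
  rw [mem_Cz]
  calc g * φ z = g * φ z * g⁻¹ * g := by group
    _ = φ z * g := by rw [hg]

theorem conj_Z1 {φ : M7 →* G} {g : G} (hg : g ∈ Cz φ) {m : M7} (hm : m ∈ Z1) :
    g * φ m * g⁻¹ = φ m := by
  rcases Z1_cases m hm with rfl | rfl
  · simp
  · exact conj_of_mem_Cz hg

theorem image_mem_Cz (φ : M7 →* G) (m : M7) : φ m ∈ Cz φ := by
  rw [mem_Cz, ← map_mul, ← map_mul, cent_z]

theorem le_Cz {P : Subgroup G} {φ : M7 →* G} (h : Emb7 P φ) : P ≤ Cz φ := by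
  intro g hg
  obtain ⟨m, rfl⟩ := h.exists_eq hg
  exact image_mem_Cz φ m

variable [Finite G] {P : Sylow 2 G} {φ : M7 →* G}

theorem not_dvd_Cz (h : Emb7 (P : Subgroup G) φ) : ¬ 2 ∣ (P : Subgroup G).relIndex (Cz φ) := fun hd =>
  P.not_dvd_index (hd.trans (relIndex_dvd_index_of_le (le_Cz h)))

omit [Finite G] in
theorem map_le (h : Emb7 (P : Subgroup G) φ) (V : Subgroup M7) : V.map φ ≤ (P : Subgroup G) := by
  rintro _ ⟨m, -, rfl⟩
  exact h.mem m

omit [Finite G] in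
theorem card_map_eq (h : Emb7 (P : Subgroup G) φ) (V : Subgroup M7) :
    Nat.card (V.map φ) = Nat.card V := Subgroup.card_map_of_injective h.inj

omit [Finite G] in
theorem card_P (h : Emb7 (P : Subgroup G) φ) : Nat.card (P : Subgroup G) = 128 := by
  rw [← h.range, ← natCard_eq]
  exact Nat.card_congr (MonoidHom.ofInjective h.inj).symm.toEquiv

omit [Finite G] in
theorem relIndex_S0 (h : Emb7 (P : Subgroup G) φ) : (S0.map φ).relIndex (P : Subgroup G) = 2 := by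
  have h1 : Nat.card (S0.map φ) * (S0.map φ).relIndex (P : Subgroup G) = Nat.card (P : Subgroup G) := by
    rw [← relIndex_bot_left, ← relIndex_bot_left]
    exact relIndex_mul_relIndex _ _ _ bot_le (map_le h S0)
  rw [card_P h, card_map_eq h, card_S0] at h1
  omega

/-- Transfer: `f` is fused into `S0`. -/
theorem exists_f_conj (h : Emb7 (P : Subgroup G) φ) (hG : ∀ (χ : G →* ℤˣ) (x : G), χ x = 1) :
    ∃ g : G, ∃ u : M7, u.e = false ∧ g * φ f * g⁻¹ = φ u ∧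
      ∀ m : M7, m * f = f * m → ∃ m' : M7, g * φ m * g⁻¹ = φ m' := by
  obtain ⟨g, hg1, hg2⟩ := SylowSp4.ExtTransfer.exists_extremal P (S0.map φ) (map_le h S0) (relIndex_S0 h)
    (φ f) (by rw [← map_mul, show f * f = 1 by decide, map_one]) (fun χ => hG χ _)
    ((centralizer ({f} : Set M7)).map φ) (P.isPGroup'.to_le (map_le h _))
    (by
      rintro _ ⟨m, hm, rfl⟩
      rw [← map_mul, ← map_mul, mem_centralizer_singleton_iff.1 hm])
  obtain ⟨u, hu, hu'⟩ := hg1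
  refine ⟨g, u, (mem_S0 u).1 hu, hu'.symm, ?_⟩
  intro m hm
  obtain ⟨m', hm'⟩ := h.exists_eq (hg2 (φ m) ⟨m, mem_centralizer_singleton_iff.2 hm, rfl⟩)
  exact ⟨m', hm'.symm⟩

/-- Control of fusion in `V`, inside a subgroup. -/
theorem control (h : Emb7 (P : Subgroup G) φ) {V : Subgroup M7} (hV : ∀ s t : M7, s ∈ V → t ∈ V → s * t = t * s)
    (hw : WC (P : Subgroup G) φ V) {k : G} {u v : M7} (hu : u ∈ V) (hv : v ∈ V)
    (hk : k * φ u * k⁻¹ = φ v) :
    ∃ c : G, c * φ v * c⁻¹ = φ v ∧ (V.map φ).map (MulAut.conj (c * k)).toMonoidHom = V.map φ := by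
  obtain ⟨c, hc, hcV⟩ := RelExt.exists_fix (N := ⊤) (R := (P : Subgroup G)) (A := V.map φ) P.isPGroup'
    (fun hd => P.not_dvd_index (by rwa [relIndex_top_right] at hd)) (map_le h V) (fun g _ hg => hw g hg)
    (C := centralizer ({φ v} : Set G)) le_top
    (by
      rintro _ ⟨m, hm, rfl⟩
      rw [mem_centralizer_singleton_iff, ← map_mul, ← map_mul, hV m v hm hv])
    (g := k) (mem_top _)
    (by
      rintro _ ⟨_, ⟨m, hm, rfl⟩, rfl⟩
      rw [mem_centralizer_singleton_iff, ← hk]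
      change k * φ m * k⁻¹ * (k * φ u * k⁻¹) = k * φ u * k⁻¹ * (k * φ m * k⁻¹)
      have h1 : φ m * φ u = φ u * φ m := by rw [← map_mul, ← map_mul, hV m u hm hu]
      calc k * φ m * k⁻¹ * (k * φ u * k⁻¹) = k * (φ m * φ u) * k⁻¹ := by group
        _ = k * (φ u * φ m) * k⁻¹ := by rw [h1]
        _ = _ := by group)
  refine ⟨c, ?_, hcV⟩
  rw [mem_centralizer_singleton_iff.1 hc]; group

/-- `f` is conjugate in `C(z)` to an element of `V1 ∪ V2`. -/
theorem exists_f_conj_Cz (h : Emb7 (P : Subgroup G) φ) (hG : ∀ (χ : G →* ℤˣ) (x : G), χ x = 1)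
    (hw1 : WC (P : Subgroup G) φ V1) (hw2 : WC (P : Subgroup G) φ V2) :
    ∃ k ∈ Cz φ, ∃ w : M7, (w ∈ V1 ∨ w ∈ V2) ∧ k * φ f * k⁻¹ = φ w := by
  obtain ⟨g, u, hu, hgu, hgm⟩ := exists_f_conj h hG
  obtain ⟨a, ha⟩ := hgm x1 comm_x1_f
  obtain ⟨b, hb⟩ := hgm y1 comm_y1_f
  -- the image of `z`
  obtain ⟨v, hv⟩ : ∃ v : M7, v = a * b * a⁻¹ * b⁻¹ := ⟨_, rfl⟩
  have hgz : g * φ z * g⁻¹ = φ v := by
    rw [hv, map_mul, map_mul, map_mul, map_inv, map_inv, ← ha, ← hb, z_eq, map_mul, map_mul, map_mul,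
      map_inv, map_inv]
    group
  have hve : v.e = false := by
    rw [hv, mul_e, mul_e, mul_e, inv_e, inv_e]
    cases a.e <;> cases b.e <;> rfl
  have hinj : ∀ m n : M7, φ m = φ n → m = n := fun m n hmn => h.inj hmn
  have huu : u * u = 1 := by
    apply hinj
    rw [map_mul, ← hgu, map_one]
    calc g * φ f * g⁻¹ * (g * φ f * g⁻¹) = g * φ (f * f) * g⁻¹ := by rw [map_mul]; group
      _ = 1 := by rw [show f * f = 1 by decide, map_one]; group
  have hvv : v * v = 1 := by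
    apply hinj
    rw [map_mul, ← hgz, map_one]
    calc g * φ z * g⁻¹ * (g * φ z * g⁻¹) = g * φ (z * z) * g⁻¹ := by rw [map_mul]; group
      _ = 1 := by rw [show z * z = 1 by decide, map_one]; group
  have huv : u * v = v * u := by
    apply hinj
    rw [map_mul, map_mul, ← hgu, ← hgz]
    calc g * φ f * g⁻¹ * (g * φ z * g⁻¹) = g * φ (f * z) * g⁻¹ := by rw [map_mul]; group
      _ = g * φ (z * f) * g⁻¹ := by rw [cent_z f]
      _ = _ := by rw [map_mul]; group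
  have key : ∀ V : Subgroup M7, (∀ s t : M7, s ∈ V → t ∈ V → s * t = t * s) →
      WC (P : Subgroup G) φ V → z ∈ V → u ∈ V → v ∈ V →
      ∃ k ∈ Cz φ, ∃ w ∈ V, k * φ f * k⁻¹ = φ w := by
    intro V hV hw hz hu hv
    have h1 : g⁻¹ * φ v * g⁻¹⁻¹ = φ z := by rw [← hgz]; group
    obtain ⟨c, hc, hcV⟩ := control h hV hw hv hz h1
    refine ⟨c * g⁻¹ * g, ?_, ?_⟩
    · apply mem_Cz_of_conj
      simpa using hc
    · have h2 : (c * g⁻¹) * φ u * (c * g⁻¹)⁻¹ ∈ V.map φ := by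
        rw [← hcV]
        exact conj_mem_map_conj (mem_map_of_mem φ hu) _
      obtain ⟨w, hw, hw'⟩ := h2
      refine ⟨w, hw, ?_⟩
      rw [hw', ← hgu]
      group
  rcases comm_S0 u v hu hve huu hvv huv with ⟨h1, h2⟩ | ⟨h1, h2⟩
  · obtain ⟨k, hk, w, hw, hkw⟩ := key V1 V1_comm hw1 (by decide) h1 h2
    exact ⟨k, hk, w, Or.inl hw, hkw⟩
  · obtain ⟨k, hk, w, hw, hkw⟩ := key V2 V2_comm hw2 (by decide) h1 h2
    exact ⟨k, hk, w, Or.inr hw, hkw⟩

/-- `f` is conjugate in `C(z)` to an element of `Q ⊓ S0`. -/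
theorem exists_f_conj_Q (h : Emb7 (P : Subgroup G) φ) (hG : ∀ (χ : G →* ℤˣ) (x : G), χ x = 1)
    (hw1 : WC (P : Subgroup G) φ V1) (hw2 : WC (P : Subgroup G) φ V2) :
    ∃ k ∈ Cz φ, ∃ w : M7, w ∈ Q ∧ w.e = false ∧ k * φ f * k⁻¹ = φ w := by
  obtain ⟨k, hk, w, hw, hkw⟩ := exists_f_conj_Cz h hG hw1 hw2
  obtain ⟨n, hn, hnP, hext⟩ := RelExt.exists_extremal (N := Cz φ) (R := (P : Subgroup G)) P.isPGroup' (le_Cz h)
    (not_dvd_Cz h) (h.mem f)
  obtain ⟨e, he⟩ := h.exists_eq hnP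
  have hinj : ∀ m n : M7, φ m = φ n → m = n := fun m n hmn => h.inj hmn
  have hee : e * e = 1 := by
    apply hinj
    rw [map_mul, he, map_one]
    calc n * φ f * n⁻¹ * (n * φ f * n⁻¹) = n * φ (f * f) * n⁻¹ := by rw [map_mul]; group
      _ = 1 := by rw [show f * f = 1 by decide, map_one]; group
  -- the extremal property applied to `w` and to `f`
  obtain ⟨g1, hg1, hg1w, hg1y⟩ := hext (φ w) (h.mem w) ⟨k, hk, hkw⟩
  obtain ⟨g2, hg2, hg2w, hg2y⟩ := hext (φ f) (h.mem f) ⟨1, one_mem _, by group⟩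
  -- `V` containing `w` is mapped to itself, so `e ∈ V1 ∪ V2`
  have keyV : ∀ V : Subgroup M7, (∀ s t : M7, s ∈ V → t ∈ V → s * t = t * s) →
      WC (P : Subgroup G) φ V → w ∈ V → e ∈ V := by
    intro V hV hw hwV
    have h1 : (V.map φ).map (MulAut.conj g1).toMonoidHom ≤ (P : Subgroup G) := by
      rintro _ ⟨_, ⟨m, hm, rfl⟩, rfl⟩
      exact hg1y (φ m) (h.mem m) (by rw [← map_mul, ← map_mul, hV m w hm hwV])
    have h2 := hw g1 h1
    have h3 : g1 * φ w * g1⁻¹ ∈ V.map φ := by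
      rw [← h2]
      exact conj_mem_map_conj (mem_map_of_mem φ hwV) _
    rw [hg1w, ← he] at h3
    obtain ⟨e', he', hee'⟩ := h3
    rwa [← hinj _ _ hee']
  have heV : e ∈ V1 ∨ e ∈ V2 := by
    rcases hw with hw | hw
    · exact Or.inl (keyV V1 V1_comm hw1 hw)
    · exact Or.inr (keyV V2 V2_comm hw2 hw)
  -- if `C(e)` is abelian we get a contradiction
  have keyC : ∀ V : Subgroup M7, (∀ s t : M7, s ∈ V → t ∈ V → s * t = t * s) →
      (∀ m : M7, m * e = e * m → m ∈ V) → False := by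
    intro V hV hC
    have h1 : ∀ m : M7, m * f = f * m → ∃ m' ∈ V, g2 * φ m * g2⁻¹ = φ m' := by
      intro m hm
      obtain ⟨m', hm'⟩ := h.exists_eq (hg2y (φ m) (h.mem m) (by rw [← map_mul, ← map_mul, hm]))
      refine ⟨m', hC m' ?_, hm'.symm⟩
      apply hinj
      rw [map_mul, map_mul, hm', he, ← hg2w]
      calc g2 * φ m * g2⁻¹ * (g2 * φ f * g2⁻¹) = g2 * φ (m * f) * g2⁻¹ := by rw [map_mul]; group
        _ = g2 * φ (f * m) * g2⁻¹ := by rw [hm]
        _ = _ := by rw [map_mul]; group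
    obtain ⟨a, ha, ha'⟩ := h1 x1 comm_x1_f
    obtain ⟨b, hb, hb'⟩ := h1 y1 comm_y1_f
    have h2 := hV a b ha hb
    apply not_comm_x1_y1
    apply hinj
    have h3 : φ x1 = g2⁻¹ * φ a * g2 := by rw [← ha']; group
    have h4 : φ y1 = g2⁻¹ * φ b * g2 := by rw [← hb']; group
    rw [map_mul, map_mul, h3, h4]
    calc g2⁻¹ * φ a * g2 * (g2⁻¹ * φ b * g2) = g2⁻¹ * φ (a * b) * g2 := by rw [map_mul]; group
      _ = g2⁻¹ * φ (b * a) * g2 := by rw [h2]
      _ = _ := by rw [map_mul]; group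
  refine ⟨n, hn, e, ?_, ?_, he.symm⟩
  · rcases heV with h1 | h1
    · rw [mem_Q]
      refine ⟨?_, ?_⟩
      · by_contra h2
        exact keyC V1 V1_comm (fun m hm => V1_high e m h1 h2 hm)
      · rw [((mem_V1 e).1 h1).1]; rfl
    · rw [mem_Q]
      refine ⟨?_, ?_⟩
      · rw [((mem_V2 e).1 h1).1]; rfl
      · by_contra h2
        exact keyC V2 V2_comm (fun m hm => V2_high e m h1 h2 hm)
  · rcases heV with h1 | h1
    · exact ((mem_V1 e).1 h1).2
    · exact ((mem_V2 e).1 h1).2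

omit [Finite G] in
/-- `Q` is weakly closed in `P` with respect to `C(z)`. -/
theorem Q_weak (h : Emb7 (P : Subgroup G) φ) {g : G} (hg : g ∈ Cz φ)
    (hgP : (Q.map φ).map (MulAut.conj g).toMonoidHom ≤ (P : Subgroup G)) :
    (Q.map φ).map (MulAut.conj g).toMonoidHom = Q.map φ := by
  have hinj : ∀ m n : M7, φ m = φ n → m = n := fun m n hmn => h.inj hmn
  let A : Subgroup M7 := ((Q.map φ).map (MulAut.conj g).toMonoidHom).comap φ
  have hA : A.map φ = (Q.map φ).map (MulAut.conj g).toMonoidHom := by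
    apply map_comap_eq_self
    rw [h.range]
    exact hgP
  have hel : ∀ a ∈ A, ∃ q ∈ Q, φ a = g * φ q * g⁻¹ := by
    rintro a ⟨_, ⟨q, hq, rfl⟩, hq'⟩
    exact ⟨q, hq, hq'.symm⟩
  have h1 : A = Q := by
    apply Q_unique
    · intro a ha
      obtain ⟨q, hq, hqa⟩ := hel a ha
      have h2 : a * a = q * q := by
        apply hinj
        rw [map_mul, hqa, ← conj_Z1 hg (Q_sq q hq), map_mul]
        group
      rw [h2]
      exact Q_sq q hq
    · intro a ha b hb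
      obtain ⟨q, hq, hqa⟩ := hel a ha
      obtain ⟨r, hr, hrb⟩ := hel b hb
      have h2 : a * b * a⁻¹ * b⁻¹ = q * r * q⁻¹ * r⁻¹ := by
        apply hinj
        rw [← conj_Z1 hg (Q_comm q r hq hr)]
        simp only [map_mul, map_inv, hqa, hrb]
        group
      rw [h2]
      exact Q_comm q r hq hr
    · have h3 : Nat.card (A.map φ) = Nat.card (Q.map φ) := by
        rw [hA, card_map_conj]
      rw [card_map_eq h, card_map_eq h, card_Q] at h3
      exact h3.ge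
  rw [← hA, h1]

/-- The subgroup of all `c ∈ C(z)` fixing `x` modulo `⟨z⟩`. -/
def Kz (φ : M7 →* G) (x : G) : Subgroup G where
  carrier := {c | c ∈ Cz φ ∧ c * x * c⁻¹ * x⁻¹ ∈ Z1.map φ}
  one_mem' := ⟨one_mem _, by simp⟩
  mul_mem' := by
    rintro c d ⟨hc, hcx⟩ ⟨hd, hdx⟩
    refine ⟨mul_mem hc hd, ?_⟩
    obtain ⟨m, hm, hm'⟩ := hdx
    obtain ⟨n, hn, hn'⟩ := hcx
    have h1 : c * d * x * (c * d)⁻¹ * x⁻¹ = φ m * φ n := by
      rw [hn', ← conj_Z1 hc hm, hm']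
      group
    rw [h1, ← map_mul]
    exact mem_map_of_mem φ (Z1.mul_mem hm hn)
  inv_mem' := by
    rintro c ⟨hc, hcx⟩
    refine ⟨inv_mem hc, ?_⟩
    obtain ⟨n, hn, hn'⟩ := hcx
    have h1 : c⁻¹ * x * c⁻¹⁻¹ * x⁻¹ = φ n⁻¹ := by
      rw [← conj_Z1 (inv_mem hc) (Z1.inv_mem hn), map_inv, hn']
      group
    rw [h1]
    exact mem_map_of_mem φ (Z1.inv_mem hn)

/-- Some element of `N_{C(z)}(Q)` moves `f` into `S0`. -/
theorem exists_norm_Q (h : Emb7 (P : Subgroup G) φ) (hG : ∀ (χ : G →* ℤˣ) (x : G), χ x = 1)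
    (hw1 : WC (P : Subgroup G) φ V1) (hw2 : WC (P : Subgroup G) φ V2) :
    ∃ n ∈ Cz φ, (Q.map φ).map (MulAut.conj n).toMonoidHom = Q.map φ ∧
      ∃ w : M7, w.e = false ∧ n * φ f * n⁻¹ = φ w := by
  obtain ⟨k, hk, w, hwQ, hwe, hkw⟩ := exists_f_conj_Q h hG hw1 hw2
  obtain ⟨c, hc, hcQ⟩ := RelExt.exists_fix (N := Cz φ) (R := (P : Subgroup G)) (A := Q.map φ) P.isPGroup'
    (not_dvd_Cz h) (map_le h Q) (fun g hg hgP => Q_weak h hg hgP)
    (C := Kz φ (φ w)) (fun _ hc => hc.1)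
    (by
      rintro _ ⟨q, hq, rfl⟩
      refine ⟨image_mem_Cz φ q, ?_⟩
      rw [← map_mul, ← map_inv, ← map_mul, ← map_inv, ← map_mul]
      exact mem_map_of_mem φ (Q_comm q w hq hwQ))
    (g := k) hk
    (by
      rintro _ ⟨_, ⟨q, hq, rfl⟩, rfl⟩
      refine ⟨mul_mem (mul_mem hk (image_mem_Cz φ q)) (inv_mem hk), ?_⟩
      have h1 : f ∈ Q := by decide
      have h2 := Q_comm q f hq h1
      have h3 : MulEquiv.toMonoidHom (MulAut.conj k) (φ q) * φ w * (MulEquiv.toMonoidHom (MulAut.conj k) (φ q))⁻¹ * (φ w)⁻¹ =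
          φ (q * f * q⁻¹ * f⁻¹) := by
        rw [← conj_Z1 hk h2, ← hkw]
        change k * φ q * k⁻¹ * (k * φ f * k⁻¹) * (k * φ q * k⁻¹)⁻¹ * (k * φ f * k⁻¹)⁻¹ = _
        simp only [map_mul, map_inv]
        group
      rw [h3]
      exact mem_map_of_mem φ h2)
  refine ⟨c * k, mul_mem hc.1 hk, hcQ, ?_⟩
  obtain ⟨m, hm, hm'⟩ := hc.2
  refine ⟨m * w, ?_, ?_⟩
  · rw [mul_e, hm.2.2.1, hwe]; rfl
  · rw [map_mul, hm', ← hkw]
    group

/-- Some element of `N_{C(z)}(Q)` moves `ze` into `(V1 ∪ V2) \ Z`. -/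
theorem exists_norm_ze (h : Emb7 (P : Subgroup G) φ) (hG : ∀ (χ : G →* ℤˣ) (x : G), χ x = 1)
    (hw1 : WC (P : Subgroup G) φ V1) (hw2 : WC (P : Subgroup G) φ V2) :
    ∃ n ∈ Cz φ, ∃ r : M7, r ∈ Q ∧ r ∉ Z4 ∧ (r ∈ V1 ∨ r ∈ V2) ∧ n * φ ze * n⁻¹ = φ r := by
  have hinj : ∀ m n : M7, φ m = φ n → m = n := fun m n hmn => h.inj hmn
  obtain ⟨n, hn, hnQ, w, hwe, hnw⟩ := exists_norm_Q h hG hw1 hw2
  have hzeQ : ze ∈ Q := by decide
  have himg : ∀ {k : G}, (Q.map φ).map (MulAut.conj k).toMonoidHom = Q.map φ → ∀ q ∈ Q,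
      ∃ t ∈ Q, k * φ q * k⁻¹ = φ t := by
    intro k hk q hq
    have h1 : k * φ q * k⁻¹ ∈ Q.map φ := by
      rw [← hk]
      exact conj_mem_map_conj (mem_map_of_mem φ hq) _
    obtain ⟨t, ht, ht'⟩ := h1
    exact ⟨t, ht, ht'.symm⟩
  obtain ⟨t, ht, hnt⟩ := himg hnQ ze hzeQ
  have hsq : ∀ {k : G} {a b : M7}, k * φ a * k⁻¹ = φ b → a * a = 1 → b * b = 1 := by
    intro k a b hk ha
    apply hinj
    rw [map_mul, ← hk, map_one]
    calc k * φ a * k⁻¹ * (k * φ a * k⁻¹) = k * φ (a * a) * k⁻¹ := by rw [map_mul]; group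
      _ = 1 := by rw [ha, map_one]; group
  have htt : t * t = 1 := hsq hnt (by decide)
  -- `t ∉ Z4`
  have htZ : t ∉ Z4 := by
    intro htZ
    have h1 : w * t = t * w := by
      have h2 : ∀ w t : M7, w.e = false → t ∈ Z4 → w * t = t * w := by decide +kernel
      exact h2 w t hwe htZ
    have h3 : f * ze = ze * f := by
      apply hinj
      have h4 : φ f = n⁻¹ * φ w * n := by rw [← hnw]; group
      have h5 : φ ze = n⁻¹ * φ t * n := by rw [← hnt]; group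
      rw [map_mul, map_mul, h4, h5]
      calc n⁻¹ * φ w * n * (n⁻¹ * φ t * n) = n⁻¹ * φ (w * t) * n := by rw [map_mul]; group
        _ = n⁻¹ * φ (t * w) * n := by rw [h1]
        _ = _ := by rw [map_mul]; group
    exact absurd h3 (by decide)
  by_cases hte : t.e = false
  · have h1 := sq_one_S0 t htt hte
    exact ⟨n, hn, t, ht, htZ, h1, hnt⟩
  · have hte' : t.e = true := by simpa using hte
    obtain ⟨s, hs1, hs2, hs3⟩ := f_type t ht htt hte'
    -- `k = n⁻¹ s n`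
    have hninv : (Q.map φ).map (MulAut.conj n⁻¹).toMonoidHom = Q.map φ := by
      conv_lhs => rw [← hnQ]
      rw [map_conj_map_conj, inv_mul_cancel, map_conj_one]
    obtain ⟨r, hr, hr'⟩ := himg hninv (s * t * s⁻¹) (Q_normal s t ht)
    have hk : (n⁻¹ * φ s * n) * φ ze * (n⁻¹ * φ s * n)⁻¹ = φ r := by
      rw [← hr']
      simp only [map_mul, map_inv]
      rw [← hnt]
      group
    refine ⟨n⁻¹ * φ s * n, mul_mem (mul_mem (inv_mem hn) (image_mem_Cz φ s)) hn, r, hr, ?_, ?_, hk⟩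
    · -- `r ∉ Z4`
      have hr'' : φ (s * t * s⁻¹) = n * φ r * n⁻¹ := by rw [← hr']; group
      intro hrZ
      rcases Z4_cases r hrZ with h1 | h1 | h1 | h1
      · rw [h1, map_one] at hk
        have h2 : φ ze = φ 1 := by
          rw [map_one]
          have h3 : φ ze = (n⁻¹ * φ s * n)⁻¹ * ((n⁻¹ * φ s * n) * φ ze * (n⁻¹ * φ s * n)⁻¹) *
              (n⁻¹ * φ s * n) := by group
          rw [h3, hk]; group
        exact absurd (hinj _ _ h2) (by decide)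
      · rw [h1] at hk
        have h4 : n⁻¹ * φ s * n ∈ Cz φ := mul_mem (mul_mem (inv_mem hn) (image_mem_Cz φ s)) hn
        have h5 := conj_of_mem_Cz h4
        have h2 : φ ze = φ z := mul_left_cancel (mul_right_cancel (hk.trans h5.symm))
        exact absurd (hinj _ _ h2) (by decide)
      · rw [h1, hnt] at hr''
        exact hs2 (hinj _ _ hr'')
      · rw [h1] at hr''
        apply hs3
        apply hinj
        rw [hr'', map_mul φ ze z, map_mul φ t z, ← hnt]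
        have h5 := conj_of_mem_Cz hn
        calc n * (φ ze * φ z) * n⁻¹ = n * φ ze * n⁻¹ * (n * φ z * n⁻¹) := by group
          _ = _ := by rw [h5]
    · -- `r` is an involution commuting with `ze`
      have h1 : r * r = 1 := hsq hk (by decide)
      have h2 : r * ze = ze * r := by
        apply hinj
        have h5 : φ ze = n⁻¹ * φ t * n⁻¹⁻¹ := by rw [← hnt]; group
        rw [map_mul, map_mul, ← hr', h5]
        calc n⁻¹ * φ (s * t * s⁻¹) * n⁻¹⁻¹ * (n⁻¹ * φ t * n⁻¹⁻¹)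
            = n⁻¹ * φ ((s * t * s⁻¹) * t) * n⁻¹⁻¹ := by rw [map_mul φ (s * t * s⁻¹) t]; group
          _ = n⁻¹ * φ (t * (s * t * s⁻¹)) * n⁻¹⁻¹ := by rw [hs1]
          _ = _ := by rw [map_mul φ t]; group
      exact sq_one_S0 r h1 ((mem_S0 r).1 ((cent_ze r).1 h2))

/-- **Step 4.** After the symmetry swapping `V1` and `V2`, `ze` is fused to `x1` in `N(V1) ∩ C(z)`. -/
theorem exists_fuse (h : Emb7 (P : Subgroup G) φ) (hG : ∀ (χ : G →* ℤˣ) (x : G), χ x = 1)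
    (hw1 : WC (P : Subgroup G) φ V1) (hw2 : WC (P : Subgroup G) φ V2) :
    (∃ n ∈ Cz φ, (V1.map φ).map (MulAut.conj n).toMonoidHom = V1.map φ ∧ n * φ ze * n⁻¹ = φ x1) ∨
    (∃ n ∈ Cz φ, (V2.map φ).map (MulAut.conj n).toMonoidHom = V2.map φ ∧ n * φ ze * n⁻¹ = φ y1) := by
  obtain ⟨n, hn, r, hrQ, hrZ, hrV, hnr⟩ := exists_norm_ze h hG hw1 hw2
  have key : ∀ V : Subgroup M7, (∀ s t : M7, s ∈ V → t ∈ V → s * t = t * s) →
      (∀ s v : M7, v ∈ V → s * v * s⁻¹ ∈ V) → z ∈ V → ze ∈ V →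
      WC (P : Subgroup G) φ V → r ∈ V → ∀ x : M7, (∃ s : M7, s * r * s⁻¹ = x) →
      ∃ n ∈ Cz φ, (V.map φ).map (MulAut.conj n).toMonoidHom = V.map φ ∧ n * φ ze * n⁻¹ = φ x := by
    rintro V hV hVn hz hze hw hr x ⟨s, hs⟩
    obtain ⟨c, hc, hcV⟩ := RelExt.exists_fix (N := Cz φ) (R := (P : Subgroup G)) (A := V.map φ) P.isPGroup'
      (not_dvd_Cz h) (map_le h V) (fun g _ hg => hw g hg)
      (C := Cz φ ⊓ centralizer ({φ r} : Set G)) inf_le_left
      (by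
        rintro _ ⟨m, hm, rfl⟩
        refine Subgroup.mem_inf.2 ⟨image_mem_Cz φ m, ?_⟩
        rw [mem_centralizer_singleton_iff, ← map_mul, ← map_mul, hV m r hm hr])
      (g := n) hn
      (by
        rintro _ ⟨_, ⟨m, hm, rfl⟩, rfl⟩
        refine Subgroup.mem_inf.2 ⟨mul_mem (mul_mem hn (image_mem_Cz φ m)) (inv_mem hn), ?_⟩
        rw [mem_centralizer_singleton_iff, ← hnr]
        change n * φ m * n⁻¹ * (n * φ ze * n⁻¹) = n * φ ze * n⁻¹ * (n * φ m * n⁻¹)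
        have h1 : φ m * φ ze = φ ze * φ m := by rw [← map_mul, ← map_mul, hV m ze hm hze]
        calc n * φ m * n⁻¹ * (n * φ ze * n⁻¹) = n * (φ m * φ ze) * n⁻¹ := by group
          _ = n * (φ ze * φ m) * n⁻¹ := by rw [h1]
          _ = _ := by group)
    have hsV : (V.map φ).map (MulAut.conj (φ s)).toMonoidHom = V.map φ := by
      apply Subgroup.eq_of_le_of_card_ge
      · rintro _ ⟨_, ⟨m, hm, rfl⟩, rfl⟩
        change φ s * φ m * (φ s)⁻¹ ∈ _
        rw [← map_mul, ← map_inv, ← map_mul]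
        exact mem_map_of_mem φ (hVn s m hm)
      · rw [card_map_conj]
    refine ⟨φ s * (c * n), mul_mem (image_mem_Cz φ s) (mul_mem hc.1 hn), ?_, ?_⟩
    · rw [← map_conj_map_conj, hcV, hsV]
    · have h1 := mem_centralizer_singleton_iff.1 hc.2
      rw [← hs, map_mul, map_mul, map_inv]
      calc φ s * (c * n) * φ ze * (φ s * (c * n))⁻¹ = φ s * (c * (n * φ ze * n⁻¹) * c⁻¹) * (φ s)⁻¹ := by group
        _ = φ s * (φ r * c * c⁻¹) * (φ s)⁻¹ := by rw [hnr, h1]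
        _ = _ := by group
  rcases hrV with hr | hr
  · exact Or.inl (key V1 V1_comm V1_normal (by decide) (by decide) hw1 hr x1 (W1_conj r hr hrQ hrZ))
  · exact Or.inr (key V2 V2_comm V2_normal (by decide) (by decide) hw2 hr y1 (W2_conj r hr hrQ hrZ))

end Cfsg.Agent.LFourB.MQ
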