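import Cfsg.Agent.LFourB.MSevenDef

/-!
# Membership lemmas for the subgroups of `M7` (S0510, piece F-B5)
-/

set_option autoImplicit false

namespace Cfsg.Agent.LFourB

open K4

namespace K4

theorem sq_fr (e : Bool) (x : K4) : sq (fr e x) = fr e (sq x) := by
  cases e <;> rfl

theorem low_add {x y : K4} (hx : sq x = x) (hy : sq y = y) : sq (x + y) = x + y := by
  rw [sq_add, hx, hy]

theorem low_fr {x : K4} (e : Bool) (hx : sq x = x) : sq (fr e x) = fr e x := by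
  rw [sq_fr, hx]

theorem fr_eq_zero {x : K4} (e : Bool) : fr e x = 0 ↔ x = 0 := by
  cases e
  · rfl
  · revert x; decide

end K4

namespace M7

/-- `⟨z⟩`. -/
def Z1 : Subgroup M7 where
  carrier := {m | m.a = 0 ∧ m.b = 0 ∧ m.e = false ∧ K4.sq m.c = m.c}
  one_mem' := ⟨rfl, rfl, rfl, rfl⟩
  mul_mem' := by
    rintro x y ⟨h1, h2, h3, h4⟩ ⟨k1, k2, k3, k4⟩
    refine ⟨?_, ?_, ?_, ?_⟩
    · rw [mul_a, h1, k1, fr_zero, add_zero]
    · rw [mul_b, h2, k2, fr_zero, add_zero]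
    · rw [mul_e, h3, k3, Bool.xor_false]
    · rw [mul_c, h1, k2, fr_zero, mul_zero, add_zero]
      exact low_add h4 (low_fr _ k4)
  inv_mem' := by
    rintro x ⟨h1, h2, h3, h4⟩
    refine ⟨?_, ?_, ?_, ?_⟩
    · rw [inv_a, h1, fr_zero]
    · rw [inv_b, h2, fr_zero]
    · rw [inv_e, h3]
    · rw [inv_c, h1, zero_mul, add_zero]
      exact low_fr _ h4

/-- The four-group `⟨z, ze⟩`. -/
abbrev Z4 : Subgroup M7 := Z

theorem mem_Z1 (m : M7) : m ∈ Z1 ↔ m.a = 0 ∧ m.b = 0 ∧ m.e = false ∧ K4.sq m.c = m.c := Iff.rfl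
theorem mem_Z4 : ∀ m : M7, m ∈ Z4 ↔ m.a = 0 ∧ m.b = 0 ∧ m.e = false := by decide +kernel
theorem mem_V1 : ∀ m : M7, m ∈ V1 ↔ m.b = 0 ∧ m.e = false := by decide +kernel
theorem mem_V2 : ∀ m : M7, m ∈ V2 ↔ m.a = 0 ∧ m.e = false := by decide +kernel
theorem mem_S0 : ∀ m : M7, m ∈ S0 ↔ m.e = false := by decide +kernel
theorem mem_R1 : ∀ m : M7, m ∈ R1 ↔ K4.sq m.a = m.a := by decide +kernel
theorem mem_R2 : ∀ m : M7, m ∈ R2 ↔ K4.sq m.b = m.b := by decide +kernel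
theorem mem_Q : ∀ m : M7, m ∈ Q ↔ K4.sq m.a = m.a ∧ K4.sq m.b = m.b := by decide +kernel

instance : DecidablePred (· ∈ Z1) := fun m => decidable_of_iff _ (mem_Z1 m).symm

end M7

end Cfsg.Agent.LFourB
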