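import Cfsg.Agent.ClassicalGeometry.PSL2Basic

/-!
# The monomial Sylow 2-subgroup of `SL_4(F)`, `|F| = 1 mod 4`

`χ : ZMod (2 ^ k) → F` is an injective character (`2 ^ k` is the 2-part of `|F| - 1`), `mat χ a σ` the monomial matrix
`diag(χ a_0, .., χ a_3) P_σ`, `Dih` the Sylow 2-subgroup of `Perm (Fin 4)` that preserves `{0,1} | {2,3}`.
-/

set_option autoImplicit false

namespace Cfsg.Agent.LFourB.Mono

open Equiv Matrix

/-- The permutations of `Fin 4` preserving the partition `{0,1} | {2,3}` (dihedral of order 8). -/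
def Dih : Subgroup (Perm (Fin 4)) where
  carrier := {σ | ∀ i j : Fin 4, (i.val / 2 = j.val / 2) ↔ ((σ i).val / 2 = (σ j).val / 2)}
  mul_mem' := by
    intro a b ha hb i j
    exact (hb i j).trans (ha (b i) (b j))
  one_mem' := by intro i j; exact Iff.rfl
  inv_mem' := by
    intro a ha i j
    have := ha (a⁻¹ i) (a⁻¹ j)
    simpa using this.symm

instance : DecidablePred (· ∈ Dih) := fun σ =>
  inferInstanceAs (Decidable (∀ i j : Fin 4, (i.val / 2 = j.val / 2) ↔ ((σ i).val / 2 = (σ j).val / 2)))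

theorem card_Dih : Nat.card Dih = 8 := by
  rw [Nat.card_eq_fintype_card]
  decide

/-- The half turn `2 ^ (k - 1)` of `ZMod (2 ^ k)`. -/
def hf (k : ℕ) : ZMod (2 ^ k) := ((2 ^ (k - 1) : ℕ) : ZMod (2 ^ k))

theorem hf_add_hf {k : ℕ} (hk : 1 ≤ k) : hf k + hf k = 0 := by
  rw [hf, ← Nat.cast_add, ← two_mul, ← pow_succ', Nat.sub_add_cancel hk]
  exact ZMod.natCast_self _

theorem hf_ne_zero {k : ℕ} (hk : 1 ≤ k) : hf k ≠ 0 := by
  rw [hf, Ne, ZMod.natCast_eq_zero_iff]
  intro h
  have h1 := Nat.le_of_dvd (by positivity) h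
  exact absurd (Nat.pow_lt_pow_right (by norm_num : 1 < 2) (by omega : k - 1 < k)) (by omega)

/-- An injective character of `ZMod (2 ^ k)` with values in a field. -/
structure IsChar {F : Type*} [Field F] (k : ℕ) (χ : ZMod (2 ^ k) → F) : Prop where
  hk : 1 ≤ k
  add : ∀ x y, χ (x + y) = χ x * χ y
  zero : χ 0 = 1
  inj : Function.Injective χ

namespace IsChar

variable {F : Type*} [Field F] {k : ℕ} {χ : ZMod (2 ^ k) → F} (h : IsChar k χ)

include h

theorem ne_zero (x : ZMod (2 ^ k)) : χ x ≠ 0 := by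
  intro hx
  have h1 := h.add x (-x)
  rw [add_neg_cancel, h.zero, hx, zero_mul] at h1
  exact one_ne_zero h1

theorem hf : χ (hf k) = -1 := by
  have h1 : χ (Mono.hf k) * χ (Mono.hf k) = 1 := by rw [← h.add, hf_add_hf h.hk, h.zero]
  rcases mul_self_eq_one_iff.1 h1 with h2 | h2
  · exact absurd (h.inj (h2.trans h.zero.symm)) (hf_ne_zero h.hk)
  · exact h2

theorem sum {n : ℕ} (a : Fin n → ZMod (2 ^ k)) : χ (∑ i, a i) = ∏ i, χ (a i) := by
  induction n with
  | zero => simp [h.zero]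
  | succ n ih => rw [Fin.sum_univ_succ, Fin.prod_univ_succ, h.add, ih]

end IsChar

section Mat

variable {F : Type*} [Field F] {k : ℕ} (χ : ZMod (2 ^ k) → F)

/-- The monomial matrix `diag(χ a) P_σ`. -/
def mat (a : Fin 4 → ZMod (2 ^ k)) (σ : Perm (Fin 4)) : Matrix (Fin 4) (Fin 4) F :=
  fun i j => if i = σ j then χ (a i) else 0

variable {χ}

theorem mat_mul (h : IsChar k χ) (a b : Fin 4 → ZMod (2 ^ k)) (σ τ : Perm (Fin 4)) :
    mat χ a σ * mat χ b τ = mat χ (fun i => a i + b (σ⁻¹ i)) (σ * τ) := by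
  ext i j
  rw [Matrix.mul_apply]
  rw [Finset.sum_eq_single (σ⁻¹ i)]
  · unfold mat
    rw [if_pos (by simp)]
    by_cases hi : i = (σ * τ) j
    · have h2 : σ⁻¹ i = τ j := by rw [hi]; simp
      rw [if_pos h2, if_pos hi, h.add]
    · have h2 : ¬ σ⁻¹ i = τ j := by
        intro h2
        apply hi
        rw [Perm.mul_apply, ← h2]; simp
      rw [if_neg h2, if_neg hi, mul_zero]
  · intro l _ hl
    unfold mat
    rw [if_neg, zero_mul]
    intro hi
    apply hl
    rw [hi]; simp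
  · intro hl
    exact absurd (Finset.mem_univ _) hl

theorem mat_one (h : IsChar k χ) : mat χ 0 1 = 1 := by
  ext i j
  unfold mat
  rw [Matrix.one_apply]
  simp [h.zero]

theorem mat_inj (h : IsChar k χ) {a b : Fin 4 → ZMod (2 ^ k)} {σ τ : Perm (Fin 4)}
    (e : mat χ a σ = mat χ b τ) : a = b ∧ σ = τ := by
  have h1 : ∀ j, σ j = τ j := by
    intro j
    by_contra hne
    have h2 := congrFun (congrFun e (σ j)) j
    unfold mat at h2
    rw [if_pos rfl, if_neg hne] at h2
    exact h.ne_zero _ h2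
  have h2 : σ = τ := Equiv.ext h1
  refine ⟨?_, h2⟩
  subst h2
  funext i
  have h3 := congrFun (congrFun e i) (σ⁻¹ i)
  unfold mat at h3
  rw [if_pos (by simp), if_pos (by simp)] at h3
  exact h.inj h3

theorem det_mat (h : IsChar k χ) (a : Fin 4 → ZMod (2 ^ k)) (σ : Perm (Fin 4)) :
    (mat χ a σ).det = χ (∑ i, a i) * (((Perm.sign σ : ℤˣ) : ℤ) : F) := by
  have h1 : mat χ a σ = Matrix.diagonal (fun i => χ (a i)) * (Perm.permMatrix F σ⁻¹) := by
    ext i j
    rw [Matrix.diagonal_mul]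
    unfold mat
    simp only [Perm.permMatrix, PEquiv.toMatrix_apply, Equiv.toPEquiv_apply, Option.mem_some_iff]
    by_cases hi : i = σ j
    · subst hi; simp
    · rw [if_neg hi, if_neg, mul_zero]
      intro h2
      apply hi
      rw [← h2]; simp
  rw [h1, Matrix.det_mul, Matrix.det_diagonal, Matrix.det_permutation, h.sum]
  simp

end Mat

end Cfsg.Agent.LFourB.Mono
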