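import Cfsg.Agent.LFourB.Mono

/-!
# The monomial Sylow 2-subgroup of `SL_4(F)`, `|F| = 1 mod 4`: order
-/

set_option autoImplicit false

namespace Cfsg.Agent.LFourB.Mono

open Equiv Matrix

section Sub

variable {F : Type*} [Field F] {k : ℕ} {χ : ZMod (2 ^ k) → F}

/-- The group of monomial matrices of determinant one with entries in the image of `χ` and permutation in `Dih`. -/
def M (h : IsChar k χ) : Subgroup (SpecialLinearGroup (Fin 4) F) where
  carrier := {g | ∃ a : Fin 4 → ZMod (2 ^ k), ∃ σ ∈ Dih, g.1 = mat χ a σ}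
  mul_mem' := by
    rintro x y ⟨a, σ, hσ, hx⟩ ⟨b, τ, hτ, hy⟩
    refine ⟨fun i => a i + b (σ⁻¹ i), σ * τ, Dih.mul_mem hσ hτ, ?_⟩
    change x.1 * y.1 = _
    rw [hx, hy, mat_mul h]
  one_mem' := ⟨0, 1, Dih.one_mem, (mat_one h).symm⟩
  inv_mem' := by
    rintro x ⟨a, σ, hσ, hx⟩
    refine ⟨fun i => - a (σ i), σ⁻¹, Dih.inv_mem hσ, ?_⟩
    have h1 : x.1 * mat χ (fun i => - a (σ i)) σ⁻¹ = 1 := by
      rw [hx, mat_mul h, mul_inv_cancel, ← mat_one h]
      congr 1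
      funext i
      simp
    have h2 : x.1 * (x⁻¹).1 = 1 := congrArg Subtype.val (mul_inv_cancel x)
    have h3 : IsUnit x.1 := by
      rw [Matrix.isUnit_iff_isUnit_det, x.2]; exact isUnit_one
    exact h3.mul_left_cancel (h2.trans h1.symm)

theorem mem_M (h : IsChar k χ) {g : SpecialLinearGroup (Fin 4) F} :
    g ∈ M h ↔ ∃ a : Fin 4 → ZMod (2 ^ k), ∃ σ ∈ Dih, g.1 = mat χ a σ := Iff.rfl

/-- The value of the character making the determinant one. -/
def sg (k : ℕ) (σ : Perm (Fin 4)) : ZMod (2 ^ k) := if Perm.sign σ = 1 then 0 else hf k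

theorem sg_spec (h : IsChar k χ) (σ : Perm (Fin 4)) : χ (sg k σ) * (((Perm.sign σ : ℤˣ) : ℤ) : F) = 1 := by
  unfold sg
  rcases Int.units_eq_one_or (Perm.sign σ) with hs | hs
  · rw [if_pos hs, hs, h.zero]; simp
  · rw [if_neg (by rw [hs]; decide), hs, h.hf]; simp

theorem det_mat_eq_one_iff (h : IsChar k χ) (a : Fin 4 → ZMod (2 ^ k)) (σ : Perm (Fin 4)) :
    (mat χ a σ).det = 1 ↔ ∑ i, a i = sg k σ := by
  rw [det_mat h]
  have hs := sg_spec h σ
  have hne : (((Perm.sign σ : ℤˣ) : ℤ) : F) ≠ 0 := by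
    intro h0
    rw [h0, mul_zero] at hs
    exact zero_ne_one hs
  constructor
  · intro h1
    apply h.inj
    exact mul_right_cancel₀ hne (h1.trans hs.symm)
  · intro h1
    rw [h1, hs]

/-- The element of `M` with given permutation and first three entries. -/
def ext3 (k : ℕ) (σ : Perm (Fin 4)) (b : Fin 3 → ZMod (2 ^ k)) : Fin 4 → ZMod (2 ^ k) :=
  ![b 0, b 1, b 2, sg k σ - (b 0 + b 1 + b 2)]

theorem sum_ext3 (σ : Perm (Fin 4)) (b : Fin 3 → ZMod (2 ^ k)) : ∑ i, ext3 k σ b i = sg k σ := by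
  rw [Fin.sum_univ_four]
  simp [ext3]

/-- The parametrisation of `M`. -/
def par (h : IsChar k χ) (x : Dih × (Fin 3 → ZMod (2 ^ k))) : M h :=
  ⟨⟨mat χ (ext3 k x.1.1 x.2) x.1.1, (det_mat_eq_one_iff h _ _).2 (sum_ext3 _ _)⟩, ⟨_, _, x.1.2, rfl⟩⟩

theorem par_bijective (h : IsChar k χ) : Function.Bijective (par h) := by
  constructor
  · rintro ⟨σ, b⟩ ⟨τ, c⟩ e
    have h1 : mat χ (ext3 k σ.1 b) σ.1 = mat χ (ext3 k τ.1 c) τ.1 :=
      congrArg (fun g : M h => g.1.1) e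
    obtain ⟨h2, h3⟩ := mat_inj h h1
    have h4 : σ = τ := Subtype.ext h3
    refine Prod.ext h4 ?_
    funext i
    fin_cases i
    · exact congrFun h2 0
    · exact congrFun h2 1
    · exact congrFun h2 2
  · rintro ⟨g, a, σ, hσ, hg⟩
    refine ⟨⟨⟨σ, hσ⟩, fun i => a i.castSucc⟩, ?_⟩
    apply Subtype.ext
    apply Subtype.ext
    change mat χ (ext3 k σ _) σ = g.1
    rw [hg]
    congr 1
    have hdet : (mat χ a σ).det = 1 := by rw [← hg]; exact g.2
    rw [det_mat_eq_one_iff h, Fin.sum_univ_four] at hdet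
    funext i
    fin_cases i
    · rfl
    · rfl
    · rfl
    · change sg k σ - (a 0 + a 1 + a 2) = a 3
      rw [← hdet]; ring

theorem card_M (h : IsChar k χ) : Nat.card (M h) = 2 ^ (3 * k + 3) := by
  rw [← Nat.card_congr (Equiv.ofBijective _ (par_bijective h)), Nat.card_prod, card_Dih, Nat.card_fun, Nat.card_zmod,
    Nat.card_eq_fintype_card, Fintype.card_fin, ← pow_mul]
  rw [pow_add, mul_comm k 3]
  norm_num
  ring

end Sub

section Order

variable (F : Type*) [Field F] [Fintype F]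

theorem card_SL4_mul : Nat.card (SpecialLinearGroup (Fin 4) F) * (Fintype.card F - 1) =
    (Fintype.card F ^ 4 - 1) * (Fintype.card F ^ 4 - Fintype.card F) * (Fintype.card F ^ 4 - Fintype.card F ^ 2) *
      (Fintype.card F ^ 4 - Fintype.card F ^ 3) := by
  rw [ClassicalGeometry.PSL2Basic.card_SL_mul, Matrix.card_GL_field, Fin.prod_univ_four]
  simp

/-- `|SL_4(q)| = q^6 (q^2 - 1) (q^3 - 1) (q^4 - 1)`. -/
theorem card_SL4 : Nat.card (SpecialLinearGroup (Fin 4) F) =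
    Fintype.card F ^ 6 * ((Fintype.card F ^ 2 - 1) * (Fintype.card F ^ 3 - 1) * (Fintype.card F ^ 4 - 1)) := by
  have h1 := card_SL4_mul F
  have hq : 1 < Fintype.card F := Fintype.one_lt_card
  set q := Fintype.card F with hqdef
  have hpos : 0 < q - 1 := by omega
  apply Nat.eq_of_mul_eq_mul_right hpos
  rw [h1]
  have e1 : q ^ 4 - q = q * (q ^ 3 - 1) := by rw [Nat.mul_sub, mul_one]; ring_nf
  have e2 : q ^ 4 - q ^ 2 = q ^ 2 * (q ^ 2 - 1) := by rw [Nat.mul_sub, mul_one]; ring_nf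
  have e3 : q ^ 4 - q ^ 3 = q ^ 3 * (q - 1) := by rw [Nat.mul_sub, mul_one]; ring_nf
  rw [e1, e2, e3]
  ring

end Order

/-- Arithmetic: the 2-part of `q^6 (q^2-1)(q^3-1)(q^4-1)` if `2^k` is the 2-part of `q - 1`, `k ≥ 2`. -/
theorem arith {q k m : ℕ} (hk : 2 ≤ k) (hm : Odd m) (hq : q = 1 + 2 ^ k * m) :
    ∃ r, Odd r ∧ q ^ 6 * ((q ^ 2 - 1) * (q ^ 3 - 1) * (q ^ 4 - 1)) = 2 ^ (3 * k + 3) * r := by
  obtain ⟨j, rfl⟩ : ∃ j, k = j + 2 := ⟨k - 2, by omega⟩
  obtain ⟨n, hn⟩ : ∃ n, n = 2 ^ j * m := ⟨_, rfl⟩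
  have hq1 : q = 1 + 4 * n := by rw [hq, hn, pow_add]; ring
  have e1 : q ^ 2 - 1 = 8 * n * (1 + 2 * n) := by
    have : q ^ 2 = 8 * n * (1 + 2 * n) + 1 := by rw [hq1]; ring
    omega
  have e2 : q ^ 3 - 1 = 4 * n * (3 + 12 * n + 16 * n ^ 2) := by
    have : q ^ 3 = 4 * n * (3 + 12 * n + 16 * n ^ 2) + 1 := by rw [hq1]; ring
    omega
  have e3 : q ^ 4 - 1 = 16 * n * ((1 + 2 * n) * (1 + 4 * n + 8 * n ^ 2)) := by
    have : q ^ 4 = 16 * n * ((1 + 2 * n) * (1 + 4 * n + 8 * n ^ 2)) + 1 := by rw [hq1]; ring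
    omega
  refine ⟨q ^ 6 * (m ^ 3 * ((1 + 2 * n) ^ 2 * ((3 + 12 * n + 16 * n ^ 2) * (1 + 4 * n + 8 * n ^ 2)))), ?_, ?_⟩
  · have o1 : Odd q := by rw [hq1]; exact ⟨2 * n, by ring⟩
    have o2 : Odd (1 + 2 * n) := ⟨n, by ring⟩
    have o3 : Odd (3 + 12 * n + 16 * n ^ 2) := ⟨1 + 6 * n + 8 * n ^ 2, by ring⟩
    have o4 : Odd (1 + 4 * n + 8 * n ^ 2) := ⟨2 * n + 4 * n ^ 2, by ring⟩
    exact (o1.pow).mul ((hm.pow).mul ((o2.pow).mul (o3.mul o4)))
  · rw [e1, e2, e3]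
    have h3 : 2 ^ (3 * (j + 2) + 3) * m ^ 3 = 8 * n * (4 * n) * (16 * n) := by
      rw [hn, show 3 * (j + 2) + 3 = 9 + 3 * j by ring, pow_add, pow_mul']
      ring
    calc q ^ 6 * (8 * n * (1 + 2 * n) * (4 * n * (3 + 12 * n + 16 * n ^ 2)) *
          (16 * n * ((1 + 2 * n) * (1 + 4 * n + 8 * n ^ 2))))
        = (8 * n * (4 * n) * (16 * n)) * (q ^ 6 * ((1 + 2 * n) ^ 2 * ((3 + 12 * n + 16 * n ^ 2) *
          (1 + 4 * n + 8 * n ^ 2)))) := by ring
      _ = (2 ^ (3 * (j + 2) + 3) * m ^ 3) * (q ^ 6 * ((1 + 2 * n) ^ 2 * ((3 + 12 * n + 16 * n ^ 2) *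
          (1 + 4 * n + 8 * n ^ 2)))) := by rw [h3]
      _ = _ := by ring

/-- For `|F| = 1 mod 4` there are `k ≥ 2` and a maximal character. -/
theorem exists_char (F : Type*) [Field F] [Fintype F] (hF : Fintype.card F % 4 = 1) :
    ∃ (k m : ℕ) (χ : ZMod (2 ^ k) → F), 2 ≤ k ∧ Odd m ∧ Fintype.card F = 1 + 2 ^ k * m ∧ IsChar k χ := by
  classical
  have hq : 1 < Fintype.card F := Fintype.one_lt_card
  obtain ⟨k, m, hm, hkm⟩ := Nat.exists_eq_two_pow_mul_odd (n := Fintype.card F - 1) (by omega)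
  have hcard : Fintype.card F = 1 + 2 ^ k * m := by omega
  have hk : 2 ≤ k := by
    by_contra hcon
    have hk1 : k = 0 ∨ k = 1 := by omega
    obtain ⟨n, hn⟩ := hm
    rcases hk1 with rfl | rfl
    · simp at hkm; omega
    · simp at hkm; omega
  -- a generator
  obtain ⟨g, hg⟩ := IsCyclic.exists_generator (α := Fˣ)
  have hog : orderOf g = Fintype.card F - 1 := by
    rw [orderOf_eq_card_of_forall_mem_zpowers hg, Nat.card_eq_fintype_card, Fintype.card_units]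
  have hmpos : 0 < m := hm.pos
  have hz : orderOf (g ^ m) = 2 ^ k := by
    rw [orderOf_pow_of_dvd (by omega) (by rw [hog, hkm]; exact dvd_mul_left _ _), hog, hkm]
    exact Nat.mul_div_cancel _ hmpos
  have hprim : IsPrimitiveRoot (g ^ m) (2 ^ k) := by rw [← hz]; exact IsPrimitiveRoot.orderOf _
  refine ⟨k, m, fun x => (((hprim.zmodEquivZPowers x).toMul : Subgroup.zpowers (g ^ m)) : Fˣ), hk, hm, hcard, ?_⟩
  refine ⟨by omega, ?_, ?_, ?_⟩
  · intro x y
    simp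
  · simp
  · intro x y hxy
    have h1 : (((hprim.zmodEquivZPowers x).toMul : Subgroup.zpowers (g ^ m)) : Fˣ) =
        ((hprim.zmodEquivZPowers y).toMul : Subgroup.zpowers (g ^ m)) := Units.ext hxy
    exact hprim.zmodEquivZPowers.injective (Additive.toMul.injective (Subtype.ext h1))

/-- `M` is a Sylow 2-subgroup of `SL_4(F)`. -/
theorem exists_sylow {F : Type*} [Field F] [Fintype F] {k m : ℕ} {χ : ZMod (2 ^ k) → F} (h : IsChar k χ) (hk : 2 ≤ k)
    (hm : Odd m) (hq : Fintype.card F = 1 + 2 ^ k * m) :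
    ∃ P : Sylow 2 (SpecialLinearGroup (Fin 4) F), (P : Subgroup (SpecialLinearGroup (Fin 4) F)) = M h := by
  classical
  have : Fact (Nat.Prime 2) := ⟨Nat.prime_two⟩
  have hfin : Finite (SpecialLinearGroup (Fin 4) F) := inferInstance
  obtain ⟨r, hr, e⟩ := arith hk hm hq
  have h1 : (Nat.card (SpecialLinearGroup (Fin 4) F)).factorization 2 = 3 * k + 3 := by
    rw [card_SL4, e, Nat.factorization_mul (by positivity) (by have := hr.pos; omega), Finsupp.add_apply,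
      Nat.Prime.factorization_pow Nat.prime_two, Finsupp.single_eq_same,
      Nat.factorization_eq_zero_of_not_dvd (fun h2 => (Nat.not_even_iff_odd.2 hr) (even_iff_two_dvd.2 h2)), add_zero]
  refine ⟨Sylow.ofCard (M h) ?_, rfl⟩
  rw [card_M, h1]

end Cfsg.Agent.LFourB.Mono
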