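import Cfsg.Agent.CTFrame.Main
import Cfsg.Agent.LThreeExt.SL3
import Cfsg.Agent.LThreeExt.SU3
import Cfsg.Agent.Phan.Recog

/-!
# Six `SL₂`'s permuted by `S₄` with one `SL₃(q)`, `SU₃(q)`: recognition of `PSL₄(q)` and `PSU₄(q)`

`Six std K`: `K i j` for `i ≠ j` in `Fin 4`, disjoint ones commute, every permutation of `Fin 4` is induced by conjugation with
an element, `φ : S →* G` with central kernel maps the three standard `SL₂`'s onto `K 1 2`, `K 0 2`, `K 0 1`.
`Six.psl`, `Six.psu`: the recognition theorems.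
-/

set_option autoImplicit false

namespace Cfsg.Agent.LFourB.RB

open Subgroup

section Six

variable {G S : Type*} [Group G] [Group S]

/-- six subgroups with the structure of the frame of `PSL₄(q)` or `PSU₄(q)` -/
structure Six (std : Fin 3 → Subgroup S) (K : Fin 4 → Fin 4 → Subgroup G) : Prop where
  symm : ∀ i j, K i j = K j i
  comm : ∀ i j k l, i ≠ j → k ≠ l → i ≠ k → i ≠ l → j ≠ k → j ≠ l → ∀ x ∈ K i j, ∀ y ∈ K k l, x * y = y * x
  perm : ∀ σ : Equiv.Perm (Fin 4), ∃ n : G, ∀ i j, i ≠ j → (K i j).map (MulAut.conj n).toMonoidHom = K (σ i) (σ j)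
  phi : ∃ φ : S →* G, φ.ker ≤ center S ∧ (std 0).map φ = K 1 2 ∧ (std 1).map φ = K 0 2 ∧ (std 2).map φ = K 0 1
  gen : ∀ H : Subgroup G, (∀ i j, i ≠ j → K i j ≤ H) → H = ⊤

variable {std : Fin 3 → Subgroup S} {K : Fin 4 → Fin 4 → Subgroup G}

/-- an injection `Fin 3 → Fin 4` extends to a permutation -/
theorem exists_perm (v : Fin 3 → Fin 4) (hv : Function.Injective v) :
    ∃ σ : Equiv.Perm (Fin 4), ∀ a, σ (Fin.castSucc a) = v a := by
  classical
  let e : {x // x ∈ Set.range (Fin.castSucc : Fin 3 → Fin 4)} ≃ {x // x ∈ Set.range v} :=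
    (Equiv.ofInjective _ (Fin.castSucc_injective 3)).symm.trans (Equiv.ofInjective v hv)
  refine ⟨e.extendSubtype, fun a => ?_⟩
  rw [Equiv.extendSubtype_apply_of_mem e _ ⟨a, rfl⟩]
  have h1 : (Equiv.ofInjective (Fin.castSucc : Fin 3 → Fin 4) (Fin.castSucc_injective 3)).symm ⟨Fin.castSucc a, ⟨a, rfl⟩⟩ = a := by
    rw [Equiv.symm_apply_eq]; rfl
  change ((Equiv.ofInjective v hv) ((Equiv.ofInjective (Fin.castSucc : Fin 3 → Fin 4)
    (Fin.castSucc_injective 3)).symm ⟨Fin.castSucc a, ⟨a, rfl⟩⟩) : Fin 4) = v a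
  rw [h1]; rfl

/-- the homomorphism for every triple -/
theorem Six.triple (h : Six std K) (v : Fin 3 → Fin 4) (hv : Function.Injective v) :
    ∃ φ : S →* G, φ.ker ≤ center S ∧ (std 0).map φ = K (v 1) (v 2) ∧ (std 1).map φ = K (v 0) (v 2) ∧
      (std 2).map φ = K (v 0) (v 1) := by
  obtain ⟨φ, h1, h2, h3, h4⟩ := h.phi
  obtain ⟨σ, hσ⟩ := exists_perm v hv
  obtain ⟨n, hn⟩ := h.perm σ
  have e0 : σ 0 = v 0 := hσ 0
  have e1 : σ 1 = v 1 := hσ 1
  have e2 : σ 2 = v 2 := hσ 2
  refine ⟨(MulAut.conj n).toMonoidHom.comp φ, ?_, ?_, ?_, ?_⟩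
  · intro s hs
    apply h1
    have h5 : (MulAut.conj n) (φ s) = 1 := hs
    exact (map_eq_one_iff _ (MulAut.conj n).injective).1 h5
  · rw [← map_map, h2, hn 1 2 (by decide), e1, e2]
  · rw [← map_map, h3, hn 0 2 (by decide), e0, e2]
  · rw [← map_map, h4, hn 0 1 (by decide), e0, e1]

end Six

section Plus

open Cfsg.Agent.CTFrame.SL3 Cfsg.Agent.CTFrame.Frame Cfsg.Agent.LThreeExt.SL3

variable {F : Type*} [Field F] {G : Type*} [Group G] {K : Fin 4 → Fin 4 → Subgroup G}

theorem Six.frame (h : Six (stdc : Fin 3 → Subgroup (S3 F)) K) : Frame F K where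
  symm := h.symm
  comm := h.comm
  triple v hv := by
    obtain ⟨φ, h1, h2, h3, h4⟩ := h.triple v hv
    rw [stdc_zero] at h2
    rw [stdc_one] at h3
    rw [stdc_two] at h4
    refine ⟨φ, h1, ?_⟩
    intro a b hab
    fin_cases a <;> fin_cases b
    · exact absurd rfl hab
    · exact h4
    · exact h3
    · change (CTFrame.SL3.std 1 0).map φ = K (v 1) (v 0)
      rw [std_symm, h.symm]; exact h4
    · exact absurd rfl hab
    · exact h2
    · change (CTFrame.SL3.std 2 0).map φ = K (v 2) (v 0)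
      rw [std_symm, h.symm]; exact h3
    · change (CTFrame.SL3.std 2 1).map φ = K (v 2) (v 1)
      rw [std_symm, h.symm]; exact h2
    · exact absurd rfl hab

/-- **Recognition of `PSL₄(q)`.** -/
theorem Six.psl [Finite F] [Finite G] [IsSimpleGroup G] (hodd : Odd (Nat.card F))
    (h : Six (stdc : Fin 3 → Subgroup (S3 F)) K) :
    ∃ (F' : Type) (_ : Field F') (_ : Fintype F'), Fintype.card F' = Nat.card F ∧
      Nonempty (G ≃* Matrix.ProjectiveSpecialLinearGroup (Fin 4) F') :=
  CTFrame.Main.exists_psl h.frame (by simp) hodd h.gen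

end Plus

section Minus

open Cfsg.Agent.Phan Cfsg.Agent.LThreeExt.SU3

variable {F : Type*} [Field F] [Fintype F] {q : ℕ} {G : Type*} [Group G] {K : Fin 4 → Fin 4 → Subgroup G}

theorem std_zero_eq (hF : Fintype.card F = q ^ 2) :
    LThreeExt.SU3.std hF 0 = (emb hF 1 (by omega : 1 + 2 ≤ 3)).range := by
  rw [std_eq]
  congr 1

theorem std_two_eq (hF : Fintype.card F = q ^ 2) :
    LThreeExt.SU3.std hF 2 = (emb hF 0 (by omega : 0 + 2 ≤ 3)).range := by
  rw [std_eq]
  congr 1

/-- `-1` is the only involution of `SU 2` -/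
theorem su2_invol (hF : Fintype.card F = q ^ 2) (hodd : Odd q) {x : SU 2 F q} (hx : x * x = 1) :
    x = 1 ∨ x = negOne hF := by
  have h2 := two_ne_zero_of_odd hF hodd
  have h1 : mat x * mat x = 1 := by rw [← mat_mul, hx, mat_one]
  have hd : (mat x).det = 1 := mat_det x
  rw [Matrix.det_fin_two] at hd
  have e00 := congrFun (congrFun h1 0) 0
  have e01 := congrFun (congrFun h1 0) 1
  have e10 := congrFun (congrFun h1 1) 0
  have e11 := congrFun (congrFun h1 1) 1
  simp only [Matrix.mul_apply, Fin.sum_univ_two, Matrix.one_apply_eq] at e00 e01 e10 e11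
  rw [Matrix.one_apply_ne (by decide)] at e01 e10
  by_cases htr : mat x 0 0 + mat x 1 1 = 0
  · exfalso
    have e2 : mat x 1 1 = - mat x 0 0 := by linear_combination htr
    rw [e2] at hd
    apply h2
    linear_combination -hd - e00
  · have e3 : mat x 0 1 = 0 := by
      have : mat x 0 1 * (mat x 0 0 + mat x 1 1) = 0 := by linear_combination e01
      exact (mul_eq_zero.1 this).resolve_right htr
    have e4 : mat x 1 0 = 0 := by
      have : mat x 1 0 * (mat x 0 0 + mat x 1 1) = 0 := by linear_combination e10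
      exact (mul_eq_zero.1 this).resolve_right htr
    rw [e3, e4] at e00 e11 hd
    simp only [mul_zero, add_zero, zero_add, sub_zero] at e00 e11 hd
    have e5 : (mat x 0 0 - 1) * (mat x 0 0 + 1) = 0 := by linear_combination e00
    rcases mul_eq_zero.1 e5 with e6 | e6
    · left
      have e7 : mat x 0 0 = 1 := sub_eq_zero.1 e6
      have e8 : mat x 1 1 = 1 := by rw [e7, one_mul] at hd; exact hd
      apply mat_inj
      rw [mat_one]
      ext i j
      fin_cases i <;> fin_cases j <;> simp [e3, e4, e7, e8]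
    · right
      have e7 : mat x 0 0 = -1 := by linear_combination e6
      have e8 : mat x 1 1 = -1 := by rw [e7] at hd; linear_combination -hd
      apply mat_inj
      rw [mat_negOne]
      ext i j
      fin_cases i <;> fin_cases j <;> simp [e3, e4, e7, e8]

theorem negOne_sq (hF : Fintype.card F = q ^ 2) : negOne hF * negOne hF = 1 := by
  apply mat_inj
  rw [mat_mul, mat_negOne, mat_one]; simp

theorem negOne_ne (hF : Fintype.card F = q ^ 2) (hodd : Odd q) : negOne hF ≠ 1 := by
  intro h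
  have h1 := congrArg mat h
  rw [mat_negOne, mat_one] at h1
  have h3 := congrFun (congrFun h1 0) 0
  simp at h3
  apply two_ne_zero_of_odd hF hodd
  linear_combination -h3

/-- **Recognition of `PSU₄(q)`.**  `z`: the involution of `K 0 1` and `K 2 3`. -/
theorem Six.psu [Finite G] [IsSimpleGroup G] (hF : Fintype.card F = q ^ 2) (hodd : Odd q) (hq : 5 ≤ q)
    (h : Six (LThreeExt.SU3.std hF) K) {z : G} (hz : z * z = 1) (hz1 : z ≠ 1) (hz01 : z ∈ K 0 1) (hz23 : z ∈ K 2 3) :
    Nonempty (G ≃* PSU 4 F q) := by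
  obtain ⟨φ, h1, h2, h3, h4⟩ := h.triple ![0, 1, 2] (by decide)
  obtain ⟨χ, g1, g2, g3, g4⟩ := h.triple ![1, 2, 3] (by decide)
  change _ = K 1 2 at h2
  change _ = K 0 2 at h3
  change _ = K 0 1 at h4
  change _ = K 2 3 at g2
  change _ = K 1 3 at g3
  change _ = K 1 2 at g4
  rw [std_zero_eq, ← MonoidHom.range_comp] at h2 g2
  rw [std_two_eq, ← MonoidHom.range_comp] at h4 g4
  let ψ : ℕ → (SU 3 F q →* G) := fun k => if k = 0 then φ else χ
  have ψ0 : ψ 0 = φ := rfl
  have ψ1 : ψ 1 = χ := rfl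
  have hψk : ∀ k, (ψ k).ker ≤ center (SU 3 F q) := by
    intro k
    by_cases hk : k = 0
    · subst hk; exact h1
    · have : ψ k = χ := if_neg hk
      rw [this]; exact g1
  -- the involutions
  have hφz : φ (emb hF 0 (by omega : 0 + 2 ≤ 3) (negOne hF)) = z := by
    rw [← h4] at hz01
    obtain ⟨x, hx⟩ := hz01
    have hx' : φ (emb hF 0 (by omega : 0 + 2 ≤ 3) x) = z := hx
    have h5 : (φ.comp (emb hF 0 (by omega : 0 + 2 ≤ 3))) (x * x) = 1 := by
      rw [map_mul, hx, hz]
    have h6 : x * x = 1 := by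
      have hc : emb hF 0 (by omega : 0 + 2 ≤ 3) (x * x) ∈ center (SU 3 F q) := h1 h5
      have h7 := eq_one_of_center_fix hF (n := 1) (fun g => mem_center_iff.1 hc g)
        (pe 3 F q 2) (emb_smul_pe hF 0 (by omega : 0 + 2 ≤ 3) (x * x) (Or.inr (by decide)))
      exact emb_injective hF 0 (by omega : 0 + 2 ≤ 3) (by rw [h7, map_one])
    rcases su2_invol hF hodd h6 with rfl | rfl
    · exfalso
      apply hz1
      rw [← hx', map_one, map_one]
    · exact hx'
  have hχz : χ (emb hF 1 (by omega : 1 + 2 ≤ 3) (negOne hF)) = z := by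
    rw [← g2] at hz23
    obtain ⟨x, hx⟩ := hz23
    have hx' : χ (emb hF 1 (by omega : 1 + 2 ≤ 3) x) = z := hx
    have h5 : (χ.comp (emb hF 1 (by omega : 1 + 2 ≤ 3))) (x * x) = 1 := by
      rw [map_mul, hx, hz]
    have h6 : x * x = 1 := by
      have hc : emb hF 1 (by omega : 1 + 2 ≤ 3) (x * x) ∈ center (SU 3 F q) := g1 h5
      have h7 := eq_one_of_center_fix hF (n := 1) (fun g => mem_center_iff.1 hc g)
        (pe 3 F q 0) (emb_smul_pe hF 1 (by omega : 1 + 2 ≤ 3) (x * x) (Or.inl (by decide)))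
      exact emb_injective hF 1 (by omega : 1 + 2 ≤ 3) (by rw [h7, map_one])
    rcases su2_invol hF hodd h6 with rfl | rfl
    · exfalso
      apply hz1
      rw [← hx', map_one, map_one]
    · exact hx'
  have hsys : PsiSystem hF (1 + 3) ψ := by
    refine ⟨fun k _ => hψk k, ?_, ?_, ?_⟩
    · intro k hk
      obtain rfl : k = 0 := by omega
      rw [ψ0, show ψ (0 + 1) = χ from rfl]
      exact h2.trans g4.symm
    · intro i j a b hi hj ha hb hij x y
      obtain rfl : i = 0 := by omega
      obtain rfl : j = 1 := by omega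
      obtain rfl : a = 0 := by omega
      obtain rfl : b = 1 := by omega
      rw [ψ0, ψ1]
      refine h.comm 0 1 2 3 (by decide) (by decide) (by decide) (by decide) (by decide) (by decide) _ ?_ _ ?_
      · rw [← h4]; exact ⟨x, rfl⟩
      · rw [← g2]; exact ⟨y, rfl⟩
    · intro k hk x
      obtain rfl : k = 0 := by omega
      rw [ψ0, show ψ (0 + 1) = χ from rfl, hφz, hχz, hz]
      exact Commute.one_left _
  refine PsiSystem.nonempty_psu hF hodd hq hsys ?_
  intro M hM
  have hφM : φ.range ≤ M := hM 0 (by omega)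
  have hχM : χ.range ≤ M := hM 1 (by omega)
  have k01 : K 0 1 ≤ M := by rw [← h4, MonoidHom.range_comp]; exact (map_le_range _ _).trans hφM
  have k12 : K 1 2 ≤ M := by rw [← h2, MonoidHom.range_comp]; exact (map_le_range _ _).trans hφM
  have k02 : K 0 2 ≤ M := by rw [← h3]; exact (map_le_range _ _).trans hφM
  have k23 : K 2 3 ≤ M := by rw [← g2, MonoidHom.range_comp]; exact (map_le_range _ _).trans hχM
  have k13 : K 1 3 ≤ M := by rw [← g3]; exact (map_le_range _ _).trans hχM
  obtain ⟨ω, w1, w2, w3, w4⟩ := h.triple ![0, 2, 3] (by decide)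
  change _ = K 2 3 at w2
  change _ = K 0 3 at w3
  change _ = K 0 2 at w4
  have k03 : K 0 3 ≤ M := by
    have hgen := closure_eq_top hF (by omega : 3 ≤ q) 0
    have h8 : (⊤ : Subgroup (SU 3 F q)) ≤ M.comap ω := by
      rw [← hgen, closure_le]
      rintro _ (⟨x, rfl⟩ | ⟨x, rfl⟩)
      · apply k23
        rw [← w2, std_zero_eq]
        exact ⟨_, ⟨x, rfl⟩, rfl⟩
      · apply k02
        rw [← w4, std_two_eq]
        exact ⟨_, ⟨x, rfl⟩, rfl⟩
    rw [← w3, map_le_iff_le_comap]
    exact le_top.trans h8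
  apply h.gen
  intro i j hij
  fin_cases i <;> fin_cases j <;> first
    | exact absurd rfl hij
    | exact k01
    | exact k02
    | exact k03
    | exact k12
    | exact k13
    | exact k23
    | (rw [h.symm]; exact k01)
    | (rw [h.symm]; exact k02)
    | (rw [h.symm]; exact k03)
    | (rw [h.symm]; exact k12)
    | (rw [h.symm]; exact k13)
    | (rw [h.symm]; exact k23)

end Minus

end Cfsg.Agent.LFourB.RB
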