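import Cfsg.Agent.LFourB.RBMid
import Cfsg.Agent.LThreeExt.SL3
import Cfsg.Agent.LThreeExt.SU3
import Cfsg.Agent.LThreeModel.SL3
import Cfsg.Agent.LThreeModel.SU3

/-!
# The standard data of `SL₃(F) → PSL₃(F)`; normal subgroups of `SL₂(F)`
-/

set_option autoImplicit false
set_option linter.unusedSectionVars false

namespace Cfsg.Agent.LFourB.RB

open Matrix Subgroup Cfsg.Agent.LThreeExt Cfsg.Agent.CTFrame.SL3 Cfsg.Agent.CTFrame

section SL2

variable {F : Type*} [Field F]

/-- a normal subgroup of `SL₂(F)` is central or everything -/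
theorem sl_normal [Fintype F] (h : 3 < Fintype.card F) (A : Subgroup (SpecialLinearGroup (Fin 2) F)) [hn : A.Normal] :
    A ≤ center (SpecialLinearGroup (Fin 2) F) ∨ A = ⊤ := by
  have hs : IsSimpleGroup (ProjectiveSpecialLinearGroup (Fin 2) F) := TwoFusion.SLTwoFacts.isSimpleGroup_psl h
  have hs' : IsSimpleGroup (SpecialLinearGroup (Fin 2) F ⧸ center (SpecialLinearGroup (Fin 2) F)) := hs
  have hm : (A.map (QuotientGroup.mk' (center (SpecialLinearGroup (Fin 2) F)))).Normal :=
    hn.map _ (QuotientGroup.mk'_surjective _)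
  rcases hm.eq_bot_or_eq_top with h1 | h1
  · left
    rwa [Subgroup.map_eq_bot_iff, QuotientGroup.ker_mk'] at h1
  · right
    have h2 : A ⊔ center (SpecialLinearGroup (Fin 2) F) = ⊤ := by
      have := Subgroup.comap_map_eq (QuotientGroup.mk' (center (SpecialLinearGroup (Fin 2) F))) A
      rw [h1, Subgroup.comap_top, QuotientGroup.ker_mk'] at this
      exact this.symm
    have h3 : ⁅A ⊔ center (SpecialLinearGroup (Fin 2) F), A ⊔ center (SpecialLinearGroup (Fin 2) F)⁆ ≤ A := by
      rw [commutator_le]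
      intro a ha b hb
      obtain ⟨a, ha', z, hz, rfl⟩ := mem_sup_of_normal_left.1 ha
      obtain ⟨b, hb', y, hy, rfl⟩ := mem_sup_of_normal_left.1 hb
      have e1 := mem_center_iff.1 hz
      have e2 := mem_center_iff.1 hy
      have hzi : z⁻¹ ∈ center (SpecialLinearGroup (Fin 2) F) := inv_mem hz
      have hyi : y⁻¹ ∈ center (SpecialLinearGroup (Fin 2) F) := inv_mem hy
      have e3 := mem_center_iff.1 hzi
      have e4 := mem_center_iff.1 hyi
      have e : a * z * (b * y) * (a * z)⁻¹ * (b * y)⁻¹ = a * b * a⁻¹ * b⁻¹ := by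
        rw [_root_.mul_inv_rev, _root_.mul_inv_rev]
        calc a * z * (b * y) * (z⁻¹ * a⁻¹) * (y⁻¹ * b⁻¹) = a * (z * (b * y * z⁻¹)) * a⁻¹ * (y⁻¹ * b⁻¹) := by group
          _ = a * (b * y * z⁻¹ * z) * a⁻¹ * (y⁻¹ * b⁻¹) := by rw [← e1 (b * y * z⁻¹)]
          _ = a * b * (y * (a⁻¹ * y⁻¹)) * b⁻¹ := by group
          _ = a * b * (a⁻¹ * y⁻¹ * y) * b⁻¹ := by rw [← e2 (a⁻¹ * y⁻¹)]
          _ = a * b * a⁻¹ * b⁻¹ := by group
      rw [commutatorElement_def, e, ← commutatorElement_def]
      exact commutator_le_self A (commutator_mem_commutator ha' hb')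
    rw [h2, ← _root_.commutator_def, TwoFusion.SLTwoFacts.commutator_eq_top h] at h3
    exact top_le_iff.1 h3

theorem sl_perfect_normal [Fintype F] (h : 3 < Fintype.card F) (A : Subgroup (SpecialLinearGroup (Fin 2) F)) [A.Normal]
    (hA : ⁅A, A⁆ = A) : A = ⊥ ∨ A = ⊤ := by
  rcases sl_normal h A with h1 | h1
  · left
    rw [← hA, eq_bot_iff, commutator_le]
    intro a ha b hb
    rw [mem_bot, commutatorElement_def, ← mem_center_iff.1 (h1 ha) b]
    group
  · exact Or.inr h1

/-- the Weyl element -/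
def wt (F : Type*) [Field F] : SpecialLinearGroup (Fin 2) F := ⟨!![0, 1; -1, 0], by simp [Matrix.det_fin_two]⟩

theorem wt_four : (wt F) ^ 2 ^ 2 = 1 := by
  have e : (wt F) * wt F = -1 := by
    apply Subtype.ext
    change !![(0 : F), 1; -1, 0] * !![(0 : F), 1; -1, 0] = -1
    ext i j
    fin_cases i <;> fin_cases j <;> simp [Matrix.mul_apply, Fin.sum_univ_two]
  have e2 : (2 : ℕ) ^ 2 = 2 * 2 := by norm_num
  rw [e2, pow_mul, pow_two (wt F), e, pow_two]
  simp

theorem wt_notMem : wt F ∉ center (SpecialLinearGroup (Fin 2) F) := by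
  intro h
  obtain ⟨r, hr, e⟩ := Matrix.SpecialLinearGroup.mem_center_iff.1 h
  have h01 := congrFun (congrFun e 0) 1
  have : (wt F).1 0 1 = 1 := rfl
  rw [this] at h01
  simp at h01

/-- `SL₂(F)` is generated by elements of 2-power order. -/
theorem sl_twoGen [Fintype F] (h : 3 < Fintype.card F) :
    TwoGen (⊤ : Subgroup (SpecialLinearGroup (Fin 2) F)) := by
  intro H hH
  let N : Subgroup (SpecialLinearGroup (Fin 2) F) := closure {x | ∃ k : ℕ, x ^ 2 ^ k = 1}
  have hN : N.Normal := by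
    constructor
    intro x hx g
    have : N ≤ N.comap (MulAut.conj g).toMonoidHom := by
      rw [closure_le]
      rintro y ⟨k, hk⟩
      refine subset_closure ⟨k, ?_⟩
      change (g * y * g⁻¹) ^ 2 ^ k = 1
      rw [conj_pow, hk]; group
    exact this hx
  have hNH : N ≤ H := by
    rw [closure_le]
    intro x hx
    exact hH x (mem_top _) hx
  rcases sl_normal h N with h1 | h1
  · exact absurd (h1 (subset_closure ⟨2, wt_four⟩)) wt_notMem
  · rw [← h1]; exact hNH

/-- A subgroup isomorphic to `SL₂(F)`. -/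
theorem twoGen_of_equiv {G : Type*} [Group G] [Fintype F] (h : 3 < Fintype.card F) {K : Subgroup G}
    (e : K ≃* SpecialLinearGroup (Fin 2) F) : TwoGen K := by
  have h1 := (sl_twoGen h).map (K.subtype.comp e.symm.toMonoidHom)
  have h3 : (⊤ : Subgroup (SpecialLinearGroup (Fin 2) F)).map (K.subtype.comp e.symm.toMonoidHom) = K := by
    rw [← Subgroup.map_map, ← MonoidHom.range_eq_map e.symm.toMonoidHom, MonoidHom.range_eq_top.2 e.symm.surjective,
      ← MonoidHom.range_eq_map, range_subtype]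
  rwa [h3] at h1

theorem perfect_of_equiv {G : Type*} [Group G] [Fintype F] (h : 3 < Fintype.card F) {K : Subgroup G}
    (e : K ≃* SpecialLinearGroup (Fin 2) F) : ⁅K, K⁆ = K := by
  have h3 : (⊤ : Subgroup (SpecialLinearGroup (Fin 2) F)).map (K.subtype.comp e.symm.toMonoidHom) = K := by
    rw [← Subgroup.map_map, ← MonoidHom.range_eq_map e.symm.toMonoidHom, MonoidHom.range_eq_top.2 e.symm.surjective,
      ← MonoidHom.range_eq_map, range_subtype]
  have h4 := TwoFusion.SLTwoFacts.commutator_eq_top (F := F) h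
  rw [_root_.commutator_def] at h4
  conv_lhs => rw [← h3]
  rw [← map_commutator, h4, h3]

end SL2

/-- Normal perfect subgroups of an embedded group. -/
theorem qs_of_range {H S : Type*} [Group H] [Group S] (f : H →* S) (hf : Function.Injective f)
    (hn : ∀ A : Subgroup H, A.Normal → ⁅A, A⁆ = A → A = ⊥ ∨ A = ⊤) :
    ∀ A ≤ f.range, ⁅A, A⁆ = A → (∀ s ∈ f.range, ∀ a ∈ A, s * a * s⁻¹ ∈ A) → A = ⊥ ∨ A = f.range := by
  intro A hA hAA hAn
  have h1 : (A.comap f).map f = A := by rw [map_comap_eq, inf_of_le_right hA]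
  have h2 : (A.comap f).Normal := ⟨fun x hx g => by
    rw [mem_comap, map_mul, map_mul, map_inv]
    exact hAn _ ⟨g, rfl⟩ _ hx⟩
  have h3 : ⁅A.comap f, A.comap f⁆ = A.comap f := by
    apply Subgroup.map_injective hf
    rw [map_commutator, h1, hAA]
  rcases hn _ h2 h3 with h4 | h4
  · left; rw [← h1, h4, Subgroup.map_bot]
  · right; rw [← h1, h4, ← MonoidHom.range_eq_map]

/-- Central elements of odd order of an embedded group. -/
theorem stdZ_of_range {H S : Type*} [Group H] [Group S] (f : H →* S) (hf : Function.Injective f)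
    (hz : ∀ z ∈ center H, z * z = 1) :
    ∀ s ∈ f.range, (∀ s' ∈ f.range, s * s' = s' * s) → Odd (orderOf s) → s = 1 := by
  rintro _ ⟨z, rfl⟩ hc hodd
  have h1 : z ∈ center H := by
    rw [mem_center_iff]
    intro g
    apply hf
    rw [map_mul, map_mul]
    exact (hc _ ⟨g, rfl⟩).symm
  have h2 : orderOf (f z) ∣ 2 := orderOf_dvd_of_pow_eq_one (by rw [pow_two, ← map_mul, hz z h1, map_one])
  have h3 : Nat.Coprime 2 (orderOf (f z)) := Nat.coprime_two_left.2 hodd
  exact orderOf_eq_one_iff.1 (Nat.eq_one_of_dvd_coprimes h3 h2 dvd_rfl)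

theorem sl_center_sq {F : Type*} [Field F] {z : SpecialLinearGroup (Fin 2) F}
    (hz : z ∈ center (SpecialLinearGroup (Fin 2) F)) : z * z = 1 := by
  obtain ⟨r, hr, e⟩ := Matrix.SpecialLinearGroup.mem_center_iff.1 hz
  rw [Fintype.card_fin] at hr
  apply Subtype.ext
  rw [Matrix.SpecialLinearGroup.coe_mul, ← e, ← map_mul, ← pow_two, hr, map_one]
  rfl

/-- the facts on centres -/
def StdZ {S : Type*} [Group S] (std : Fin 3 → Subgroup S) : Prop :=
  ∀ c, ∀ s ∈ std c, (∀ s' ∈ std c, s * s' = s' * s) → Odd (orderOf s) → s = 1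

section SL3

variable {F : Type*} [Field F]

theorem three_cases (c : Fin 3) : ∃ a b : Fin 3, a ≠ b ∧ b ≠ c ∧ a ≠ c ∧
    (SL3.stdc c : Subgroup (S3 F)) = std a b := by
  fin_cases c
  · exact ⟨1, 2, by decide, by decide, by decide, SL3.stdc_zero⟩
  · exact ⟨0, 2, by decide, by decide, by decide, SL3.stdc_one⟩
  · exact ⟨0, 1, by decide, by decide, by decide, SL3.stdc_two⟩

/-- The standard data of `SL₃(F)`. -/
theorem std_sl [Fintype F] (h2 : (2 : F) ≠ 0) :
    Std (LThreeModel.SL3.pr F) (dg : Fin 3 → S3 F) (SL3.stdc : Fin 3 → Subgroup (S3 F)) where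
  surj := QuotientGroup.mk'_surjective _
  ker := by rw [QuotientGroup.ker_mk']
  perf := LieClassical.SLGen.commutator_eq_top (by simp)
  conj u v hu hv hu1 hv1 huv hc := LThreeModel.SL3.exists_conj h2 hu hv hu1 hv1 huv hc (by decide)
  dg_mul := dg_mul (by decide) (by decide) (by decide)
  le c A hA hAc := by
    obtain ⟨a, b, hab, hbc, hac, e⟩ := three_cases (F := F) c
    rw [e]
    exact LThreeModel.SL3.le_std hab hbc hac h2 hA (fun x hx => by
      rw [mem_centralizer_singleton_iff]; exact hAc x hx)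
  inj c s hs hs1 := by
    obtain ⟨a, b, hab, hbc, hac, e⟩ := three_cases (F := F) c
    rw [e] at hs
    exact LThreeModel.SL3.pr_inj hab hbc hac hs (one_mem _) (by rw [hs1, map_one])
  gen H hH := by
    rw [eq_top_iff, ← LThreeModel.SL3.std_sup (F := F) (a := 0) (b := 1) (c := 2) (by decide) (by decide) (by decide)]
    refine sup_le ?_ ?_
    · rw [← SL3.stdc_two]; exact hH 2
    · rw [← SL3.stdc_zero]; exact hH 0

theorem stdQ_sl [Fintype F] (h : 3 < Fintype.card F) :
    StdQ (dg : Fin 3 → S3 F) (SL3.stdc : Fin 3 → Subgroup (S3 F)) where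
  dcent c s hs := by
    obtain ⟨a, b, hab, hbc, hac, e⟩ := three_cases (F := F) c
    rw [e, ← LThreeModel.SL3.Blk_eq_std hab hbc hac] at hs
    have h1 : dg c * s * (dg c)⁻¹ = s := by
      apply en_ext
      intro i k
      rw [dg_conj]
      have hi := (hs i).1
      have hk := (hs k).2
      by_cases hic : i = c <;> by_cases hkc : k = c
      · simp [hic, hkc]
      · subst hic
        rw [if_neg hkc] at hk
        simp [hkc, hk]
      · subst hkc
        rw [if_neg hic] at hi
        simp [hic, hi]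
      · simp [hic, hkc]
    exact (mul_inv_eq_iff_eq_mul.1 h1).symm
  qs c := by
    change ∀ A ≤ (SL3.bl (F := F) (SL3.pr c) (SL3.pr_inj c)).range, _
    exact qs_of_range _ (SL3.bl_injective _) (fun A hA hAA => sl_perfect_normal h A hAA)

theorem stdZ_sl [Fintype F] : StdZ (SL3.stdc : Fin 3 → Subgroup (S3 F)) := by
  intro c
  change ∀ s ∈ (SL3.bl (F := F) (SL3.pr c) (SL3.pr_inj c)).range, _
  exact stdZ_of_range _ (SL3.bl_injective _) (fun z hz => sl_center_sq hz)

theorem stdT_sl [Fintype F] (h2 : (2 : F) ≠ 0) {s : S3 F} (hs : s ∈ (SL3.stdc 2 : Subgroup (S3 F)))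
    (hc : LThreeModel.SL3.pr F s * LThreeModel.SL3.pr F (dg 1) = LThreeModel.SL3.pr F (dg 1) * LThreeModel.SL3.pr F s) :
    s ∈ (SL3.tc 2 : Fˣ →* S3 F).range := by
  have h1 : s * dg 1 = dg 1 * s := (LThreeModel.SL3.comm_lift (dg_sq 1) hc.symm).symm
  rw [SL3.stdc_two, ← LThreeModel.SL3.Blk_eq_std (a := 0) (b := 1) (c := 2) (by decide) (by decide) (by decide)] at hs
  obtain ⟨q1, q2, q3, q4, q5, hd⟩ := blk_entries (a := 0) (b := 1) (c := 2) (by decide) (by decide) (by decide) hs
  obtain ⟨h01, h10⟩ := LThreeModel.SL3.comm_dg h2 h1 (i := 0) (by decide)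
  rw [h01, h10, mul_zero, sub_zero] at hd
  have hx : en s 0 0 ≠ 0 := left_ne_zero_of_mul_eq_one hd
  refine ⟨Units.mk0 _ hx, ?_⟩
  have h11 : (en s 0 0)⁻¹ = en s 1 1 := inv_eq_of_mul_eq_one_right hd
  apply Subtype.ext
  rw [SL3.tc2_coe, Units.val_inv_eq_inv_val, Units.val_mk0, h11]
  ext i j
  fin_cases i <;> fin_cases j
  · rfl
  · exact h01.symm
  · exact q4.symm
  · exact h10.symm
  · rfl
  · exact q5.symm
  · exact q2.symm
  · exact q3.symm
  · exact q1.symm

end SL3

section SU3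

variable {F : Type*} [Field F] [Fintype F] {q : ℕ}

/-- The standard data of `SU₃(q)`. -/
theorem std_su (hF : Fintype.card F = q ^ 2) (h2 : (2 : F) ≠ 0) (hq : 3 ≤ q) :
    Std (LThreeModel.SU3.pr F q) (LThreeModel.SU3.dg hF) (SU3.std hF) where
  surj := QuotientGroup.mk'_surjective _
  ker := by rw [QuotientGroup.ker_mk']
  perf := LieClassical.HermPerfect.commutator_SU_eq_top hF le_rfl (by omega)
  conj u v hu hv hu1 hv1 huv hc := LThreeModel.SU3.exists_conj hF h2 hu hv hu1 hv1 huv hc (by decide)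
  dg_mul := LThreeModel.SU3.dg_mul hF (by decide) (by decide) (by decide)
  le c A hA hAc := LThreeModel.SU3.le_std hF h2 hA (fun x hx => by
      rw [mem_centralizer_singleton_iff]; exact hAc x hx)
  inj c s hs hs1 := LThreeModel.SU3.pr_inj' hF hs (one_mem _) (by rw [hs1, map_one])
  gen H hH := by
    rw [eq_top_iff, ← LThreeModel.SU3.std_sup hF hq (a := 0) (b := 1) (by decide)]
    exact sup_le (hH 0) (hH 1)

theorem su2_perfect_normal (hF : Fintype.card F = q ^ 2) (hq : 3 < q) (A : Subgroup (SU 2 F q)) (hn : A.Normal)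
    (hA : ⁅A, A⁆ = A) : A = ⊥ ∨ A = ⊤ := by
  classical
  obtain ⟨_, _, _, _, θ, _⟩ := Phan.exists_model hF
  have : Fintype (Phan.fixedField hF) := Fintype.ofFinite _
  have h1 : 3 < Fintype.card (Phan.fixedField hF) := by
    rw [← Nat.card_eq_fintype_card, Phan.card_fixedField]; exact hq
  have h2 : (A.comap θ.toMonoidHom).Normal := hn.comap _
  have hm : (A.comap θ.toMonoidHom).map θ.toMonoidHom = A :=
    Subgroup.map_comap_eq_self_of_surjective θ.surjective _
  have h3 : ⁅A.comap θ.toMonoidHom, A.comap θ.toMonoidHom⁆ = A.comap θ.toMonoidHom := by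
    apply Subgroup.map_injective (f := θ.toMonoidHom) θ.injective
    rw [map_commutator, hm, hA]
  rcases sl_perfect_normal h1 _ h3 with h4 | h4
  · left; rw [← hm, h4, Subgroup.map_bot]
  · right; rw [← hm, h4, Subgroup.map_top_of_surjective _ θ.surjective]

theorem stdQ_su (hF : Fintype.card F = q ^ 2) (hq : 3 < q) : StdQ (LThreeModel.SU3.dg hF) (SU3.std hF) where
  dcent c s hs := by
    have h1 : CTFrame.SL3.dg c * s.1 * (CTFrame.SL3.dg c)⁻¹ = s.1 := by
      apply en_ext
      intro i k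
      rw [dg_conj]
      have hi := (LThreeModel.SU3.blk_of_mem_std hF hs i).1
      have hk := (LThreeModel.SU3.blk_of_mem_std hF hs k).2
      by_cases hic : i = c <;> by_cases hkc : k = c
      · simp [hic, hkc]
      · subst hic
        rw [if_neg hkc] at hk
        have hk' : en s.1 i k = 0 := hk
        simp [hkc, hk']
      · subst hkc
        rw [if_neg hic] at hi
        have hi' : en s.1 i k = 0 := hi
        simp [hic, hi']
      · simp [hic, hkc]
    exact Subtype.ext (mul_inv_eq_iff_eq_mul.1 h1).symm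
  qs c := by
    change ∀ A ≤ (SU3.em hF c).range, _
    exact qs_of_range _ (SU3.em_inj hF c) (su2_perfect_normal hF hq)

theorem su2_center_sq (hF : Fintype.card F = q ^ 2) {z : SU 2 F q} (hz : z ∈ center (SU 2 F q)) : z * z = 1 := by
  obtain ⟨_, _, _, _, θ, _⟩ := Phan.exists_model hF
  have h1 : θ.symm z ∈ center (SpecialLinearGroup (Fin 2) (Phan.fixedField hF)) := by
    rw [mem_center_iff]
    intro g
    apply θ.injective
    rw [map_mul, map_mul, θ.apply_symm_apply]
    exact mem_center_iff.1 hz _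
  have h2 := congrArg θ (sl_center_sq h1)
  rwa [map_mul, θ.apply_symm_apply, map_one] at h2

theorem stdZ_su (hF : Fintype.card F = q ^ 2) : StdZ (SU3.std hF) := by
  intro c
  change ∀ s ∈ (SU3.em hF c).range, _
  exact stdZ_of_range _ (SU3.em_inj hF c) (fun z hz => su2_center_sq hF hz)

theorem stdT_su (hF : Fintype.card F = q ^ 2) (h2 : (2 : F) ≠ 0) {s : SU 3 F q} (hs : s ∈ SU3.std hF 2)
    (hc : LThreeModel.SU3.pr F q s * LThreeModel.SU3.pr F q (LThreeModel.SU3.dg hF 1) =
      LThreeModel.SU3.pr F q (LThreeModel.SU3.dg hF 1) * LThreeModel.SU3.pr F q s) :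
    s ∈ ((SU3.em hF 2).comp (SU3.tau hF)).range := by
  have h1 : s * LThreeModel.SU3.dg hF 1 = LThreeModel.SU3.dg hF 1 * s :=
    (LThreeModel.SU3.comm_lift hF (LThreeModel.SU3.dg_sq hF 1) hc.symm).symm
  obtain ⟨h01, h10⟩ := LThreeModel.SU3.comm_dg hF h2 h1 (i := 0) (by decide)
  obtain ⟨g, rfl⟩ := hs
  rw [SU3.mat_em, SU3.extM2] at h01 h10
  have g01 : Phan.mat g 0 1 = 0 := h01
  have g10 : Phan.mat g 1 0 = 0 := h10
  have hdet : (Phan.mat g).det = 1 := Phan.mat_det g
  rw [Matrix.det_fin_two, g01, g10, mul_zero, sub_zero] at hdet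
  have hx : Phan.mat g 0 0 ≠ 0 := left_ne_zero_of_mul_eq_one hdet
  have hn : Phan.mat g 0 0 * Phan.mat g 0 0 ^ q = 1 := by
    have h3 := congrFun (congrFun (SU3.mat_eq hF g) 0) 0
    rw [Matrix.mul_apply, Fin.sum_univ_two, Matrix.transpose_apply, Matrix.transpose_apply, Matrix.map_apply,
      Matrix.map_apply, g10, zero_mul, add_zero, LieClassical.GUOrder.frob_apply] at h3
    exact h3
  have hN : Units.mk0 _ hx ∈ SU3.N1 F q := by
    rw [MonoidHom.mem_ker, powMonoidHom_apply]
    apply Units.ext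
    rw [Units.val_pow_eq_pow_val, Units.val_mk0, Units.val_one, pow_succ, mul_comm]
    exact hn
  refine ⟨⟨Units.mk0 _ hx, hN⟩, ?_⟩
  change SU3.em hF 2 (SU3.tau hF _) = SU3.em hF 2 g
  congr 1
  apply Phan.mat_inj
  rw [SU3.mat_tau]
  have h11 : (Phan.mat g 0 0)⁻¹ = Phan.mat g 1 1 := inv_eq_of_mul_eq_one_right hdet
  ext i j
  fin_cases i <;> fin_cases j
  · rfl
  · exact g01.symm
  · exact g10.symm
  · change ((Units.mk0 (Phan.mat g 0 0) hx)⁻¹ : Fˣ).val = Phan.mat g 1 1
    rw [Units.val_inv_eq_inv_val, Units.val_mk0, h11]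

end SU3

end Cfsg.Agent.LFourB.RB
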