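import Cfsg.Agent.LFourB.RCore
import Cfsg.Agent.LFourA.AutTwo

/-!
# The recognition end of type B1: the primes dividing `|O(C(x4))|` divide `q - ε`

`O(C(x4))` acts on `L2` as a group of automorphisms centralising the torus `L2 ∩ C(z2)`, and faithfully when
`⟨all K_{ij}⟩ = G` and `Z(G) = 1`.
-/

set_option autoImplicit false
set_option linter.unusedSectionVars false

namespace Cfsg.Agent.LFourB.RFive

open Subgroup Matrix Cfsg.Agent.Lib.SL2Mat Cfsg.Agent.Lib.PSL2Circle Cfsg.Agent.Lib.PSL2Inv Cfsg.Agent.Lib.PSL2Torus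
  Cfsg.Agent.LFourA.AutTwo

/-! ### automorphisms of prime order of `SL(2,F)` centralising a torus -/

section sl

variable {F : Type*} [Field F] [Finite F]

/-- A nontrivial automorphism of odd prime order `r` of `SL(2,F)` that fixes `X` (of order 4) and the elements of odd
order of `C(X)`: `r ∣ q - ε`; moreover there is an element of order `r` commuting with `X`. -/
theorem sl_dvd (h2 : (2 : F) ≠ 0) {X : Matrix.SpecialLinearGroup (Fin 2) F} (hX : X * X = -1)
    {x : MulAut (Matrix.SpecialLinearGroup (Fin 2) F)} {r : ℕ} (hr : r.Prime) (hr2 : r ≠ 2) (hx : x ^ r = 1)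
    (hx1 : x ≠ 1) (hxX : x X = X) (hfix : ∀ y, y * X = X * y → Odd (orderOf y) → x y = y) :
    ((Nat.card F % 4 = 1 ∧ r ∣ Nat.card F - 1) ∨ (Nat.card F % 4 = 3 ∧ r ∣ Nat.card F + 1)) ∧
      ∃ c, c * X = X * c ∧ orderOf c = r := by
  classical
  have hfact : Fact r.Prime := ⟨hr⟩
  have hn : Odd r := hr.odd_of_ne_two hr2
  have hcen : (Subgroup.center (Matrix.SpecialLinearGroup (Fin 2) F)).map
      (x : Matrix.SpecialLinearGroup (Fin 2) F →* Matrix.SpecialLinearGroup (Fin 2) F) =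
      Subgroup.center (Matrix.SpecialLinearGroup (Fin 2) F) :=
    Subgroup.characteristic_iff_map_eq.mp inferInstance x
  set Z := Subgroup.center (Matrix.SpecialLinearGroup (Fin 2) F) with hZ
  set x' : MulAut (Matrix.ProjectiveSpecialLinearGroup (Fin 2) F) := QuotientGroup.congr Z Z x hcen with hx'
  have hx'mk : ∀ y, x' (QuotientGroup.mk' Z y) = QuotientGroup.mk' Z (x y) := fun y => rfl
  have hmk : ∀ y z, QuotientGroup.mk' Z y = QuotientGroup.mk' Z z ↔ y = z ∨ y = -z := by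
    intro y z
    have h1 : QuotientGroup.mk' Z y = QuotientGroup.mk' Z z ↔ y⁻¹ * z ∈ Z := QuotientGroup.eq
    rw [h1, mem_center_iff' h2, inv_mul_eq_iff_eq_mul, inv_mul_eq_iff_eq_mul, mul_one, mul_neg, mul_one]
    constructor
    · rintro (h | h)
      · exact Or.inl h.symm
      · right; rw [h, neg_neg]
    · rintro (h | h)
      · exact Or.inl h.symm
      · right; rw [h, neg_neg]
  have hx'pow : ∀ (k : ℕ) (y), (x' ^ k) (QuotientGroup.mk' Z y) = QuotientGroup.mk' Z ((x ^ k) y) := by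
    intro k
    induction k with
    | zero => intro y; rfl
    | succ k ih => intro y; rw [pow_succ, pow_succ, MulAut.mul_apply, MulAut.mul_apply, hx'mk, ih]
  -- odd lifts
  have hlift : ∀ (y : Matrix.SpecialLinearGroup (Fin 2) F) (m : ℕ), Odd m → (QuotientGroup.mk' Z y) ^ m = 1 →
      ∃ w, QuotientGroup.mk' Z w = QuotientGroup.mk' Z y ∧ w ^ m = 1 := by
    intro y m hm hy
    have h3 : y ^ m = 1 ∨ y ^ m = -1 := by rw [← hmk, map_pow, hy, map_one]
    rcases h3 with h3 | h3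
    · exact ⟨y, rfl, h3⟩
    · exact ⟨-y, (hmk (-y) y).mpr (Or.inr rfl), by rw [hm.neg_pow, h3, neg_neg]⟩
  -- `x'` is not trivial
  have hx'1 : x' ≠ 1 := by
    intro h1
    apply hx1
    ext1 y
    rw [MulAut.one_apply]
    have h3 : x y = y ∨ x y = -y := by
      rw [← hmk, ← hx'mk, h1, MulAut.one_apply]
    rcases h3 with h3 | h3
    · exact h3
    · exfalso
      have h6 : x (-1) = -1 := by
        have h5 : x (-1) * x (-1) = 1 := by rw [← map_mul, neg_mul_neg, mul_one, map_one]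
        rcases sq_eq_one h2 h5 with h7 | h7
        · have h8 : (-1 : Matrix.SpecialLinearGroup (Fin 2) F) = 1 := x.injective (by rw [h7, map_one])
          rw [h8, map_one]
        · exact h7
      have key : ∀ k : ℕ, (x ^ k) y = (-1) ^ k * y := by
        intro k
        induction k with
        | zero => simp
        | succ k ih =>
          rw [pow_succ', MulAut.mul_apply, ih, map_mul, map_pow, pow_succ', h3, h6]
          rw [mul_neg, neg_one_mul, neg_mul]
      have h4 := key r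
      rw [hx, MulAut.one_apply, hn.neg_one_pow] at h4
      refine one_ne_neg h2 ?_
      calc (1 : Matrix.SpecialLinearGroup (Fin 2) F) = y * y⁻¹ := by group
        _ = (-1 * y) * y⁻¹ := by rw [← h4]
        _ = -1 := by group
  have ht1 : QuotientGroup.mk' Z X ≠ 1 := by
    intro h
    rcases (hmk X 1).mp (by rw [h, map_one]) with h3 | h3
    · rw [h3, one_mul] at hX; exact one_ne_neg h2 hX
    · rw [h3, neg_mul_neg, one_mul] at hX; exact one_ne_neg h2 hX
  have ht : QuotientGroup.mk' Z X * QuotientGroup.mk' Z X = 1 := by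
    rw [← map_mul, hX, ← map_one (QuotientGroup.mk' Z), hmk]; right; rfl
  obtain ⟨c, hct, hcr, hcx⟩ := exists_inner_of_fix (n := 1) (α := x') h2
    (MulEquiv.refl (Matrix.ProjectiveSpecialLinearGroup (Fin 2) F)) (t := QuotientGroup.mk' Z X) ht1 ht hr hr2 (by
      rw [pow_one]
      ext y
      obtain ⟨y, rfl⟩ := QuotientGroup.mk'_surjective Z y
      rw [hx'pow, hx]; rfl) (by rw [hx'mk, hxX]) (by
      intro y hy hyo
      refine ⟨0, ?_⟩
      obtain ⟨y, rfl⟩ := QuotientGroup.mk'_surjective Z y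
      obtain ⟨w, hwy, hwm⟩ := hlift y _ hyo (pow_orderOf_eq_one _)
      rw [← hwy] at hy ⊢
      rw [← map_mul, ← map_mul, hmk] at hy
      have hwX := comm_of_odd h2 hyo hwm hy
      rw [hx'mk, hfix w hwX (Odd.of_dvd_nat hyo (orderOf_dvd_of_pow_eq_one hwm)), inv_mul_cancel, one_pow])
  rw [pow_one] at hcr
  have hc1 : c ≠ 1 := by
    rintro rfl
    apply hx'1
    ext y
    rw [hcx, one_mul, inv_one, mul_one, MulAut.one_apply]
  have hco : orderOf c = r := orderOf_eq_prime hcr hc1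
  constructor
  · obtain ⟨T, m, hT, hm⟩ := exists_torus h2
      (MulEquiv.refl (Matrix.ProjectiveSpecialLinearGroup (Fin 2) F)) ht1 ht
    have h5 : orderOf c ∣ Nat.card (Subgroup.centralizer ({QuotientGroup.mk' Z X} : Set _)) := by
      have h6 := orderOf_dvd_natCard
        (⟨c, Subgroup.mem_centralizer_singleton_iff.mpr hct⟩ : Subgroup.centralizer ({QuotientGroup.mk' Z X} : Set _))
      rwa [← Subgroup.orderOf_coe] at h6
    rw [hT.card_centralizer, hco] at h5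
    rcases hm with ⟨h6, h7⟩ | ⟨h6, h7⟩
    · left; exact ⟨h6, h7 ▸ h5⟩
    · right; exact ⟨h6, h7 ▸ h5⟩
  · obtain ⟨y, rfl⟩ := QuotientGroup.mk'_surjective Z c
    obtain ⟨w, hwy, hwm⟩ := hlift y _ hn hcr
    refine ⟨w, ?_, orderOf_eq_prime hwm ?_⟩
    · rw [← hwy, ← map_mul, ← map_mul, hmk] at hct
      exact comm_of_odd h2 hn hwm hct
    · rintro rfl
      rw [map_one] at hwy
      exact hc1 hwy.symm

/-- The same for a subgroup `A ≅ SL(2,F)` of `G` and an element `g` of order `r` normalising `A`. -/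
theorem sl_dvd_sub {G : Type*} [Group G] (h2 : (2 : F) ≠ 0) {A : Subgroup G}
    (e : A ≃* Matrix.SpecialLinearGroup (Fin 2) F) {X g : G}
    (hXA : X ∈ A) (hX1 : X * X ≠ 1) (hX : (X * X) * (X * X) = 1) (hg : g ∈ Subgroup.normalizer (A : Set G))
    {r : ℕ} (hr : r.Prime) (hr2 : r ≠ 2) (hgr : g ^ r = 1) (hgX : g * X = X * g)
    (hfix : ∀ y ∈ A, y * X = X * y → Odd (orderOf y) → g * y = y * g) (hne : ¬ ∀ y ∈ A, g * y = y * g) :
    ((Nat.card F % 4 = 1 ∧ r ∣ Nat.card F - 1) ∨ (Nat.card F % 4 = 3 ∧ r ∣ Nat.card F + 1)) ∧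
      ∃ c ∈ A, c * X = X * c ∧ orderOf c = r := by
  set x : MulAut A := A.normalizerMonoidHom ⟨g, hg⟩ with hxdef
  have hxr : x ^ r = 1 := conj_pow_eq_one hg hgr
  set x' : MulAut (Matrix.SpecialLinearGroup (Fin 2) F) := MulAut.congr e x with hx'
  have hx'e : ∀ y, x' (e y) = e (x y) := fun y => by
    rw [hx']
    change e (x (e.symm (e y))) = _
    rw [e.symm_apply_apply]
  have h1 := sl_dvd h2 (X := e ⟨X, hXA⟩) (x := x') ?_ hr hr2 (by rw [hx', ← map_pow, hxr, map_one]) ?_ ?_ ?_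
  · refine ⟨h1.1, ?_⟩
    obtain ⟨c, hc, hco⟩ := h1.2
    refine ⟨e.symm c, (e.symm c).2, ?_, ?_⟩
    · have h3 := congrArg e.symm hc
      rw [map_mul, map_mul, e.symm_apply_apply] at h3
      exact congrArg Subtype.val h3
    · rw [Subgroup.orderOf_coe, e.symm.orderOf_eq, hco]
  · have h3 : (e ⟨X, hXA⟩ * e ⟨X, hXA⟩) * (e ⟨X, hXA⟩ * e ⟨X, hXA⟩) = 1 := by
      rw [← map_mul, ← map_mul, ← map_one e]
      congr 1
      exact Subtype.ext hX
    rcases sq_eq_one h2 h3 with h4 | h4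
    · exfalso
      rw [← map_mul, map_eq_one_iff e e.injective] at h4
      exact hX1 (congrArg Subtype.val h4)
    · exact h4
  · intro h3
    apply hne
    intro y hy
    rw [← conj_apply_eq hg ⟨y, hy⟩, ← hxdef]
    apply e.injective
    rw [← hx'e, h3, MulAut.one_apply]
  · rw [hx'e, (conj_apply_eq hg _).mpr hgX]
  · intro y hy hyo
    obtain ⟨y, rfl⟩ := e.surjective y
    rw [hx'e, (conj_apply_eq hg y).mpr (hfix y y.2 ?_ ?_)]
    · have h3 : y * ⟨X, hXA⟩ = ⟨X, hXA⟩ * y := e.injective (by rw [map_mul, map_mul, hy])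
      exact congrArg Subtype.val h3
    · rwa [Subgroup.orderOf_coe, ← e.orderOf_eq]

end sl

/-! ### the action of `O(C(x4))` on `L2` -/

section main

open Cfsg Cfsg.Agent.LFourB Cfsg.Agent.LFourB.BOne Cfsg.Agent.J2Sylow.Functor Cfsg.Agent.LFourB.RDefs
  Cfsg.Agent.LFourB.RDefs.RIn

variable {G : Type*} [Group G] [Finite G] {P : Sylow 2 G} {m : ℕ} {f : R m → R m → R m → G} {u w : G}
  {L1 L2 : Subgroup G}

theorem ind_one : Ind f (1 : G) 1 := ⟨Subgroup.one_mem _, fun i => by simp⟩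

theorem ind_u2 (hR : RIn P f u w L1 L2) : Ind f (ub u w * X f 2) (Equiv.swap 2 3) := by
  refine ⟨Subgroup.mul_mem _ (hR.model.S_le_normalizer hR.model.ub_mem) (le_normalizer (hR.model.X_mem 2)), ?_⟩
  intro i
  have h1 := hR.model.pi_spec ⟨ub u w, hR.model.ub_mem⟩ i
  rw [hR.model.pi_ub] at h1
  rw [← h1]
  have h2 : X f 2 * X f i * (X f 2)⁻¹ = X f i := by rw [hR.X_comm 2 i, mul_inv_cancel_right]
  calc ub u w * X f 2 * X f i * (ub u w * X f 2)⁻¹ = ub u w * (X f 2 * X f i * (X f 2)⁻¹) * (ub u w)⁻¹ := by group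
    _ = ub u w * X f i * (ub u w)⁻¹ := by rw [h2]

/-- `K_{ij}` contains an element of `N(T)` that induces the transposition `(i j)`. -/
theorem exists_ind_swap (hR : RIn P f u w L1 L2) {i j : Fin 4} (hij : i ≠ j) :
    ∃ n ∈ KK f L1 i j, Ind f n (Equiv.swap i j) := by
  obtain ⟨ρ, h2, h3⟩ : ∃ ρ : Equiv.Perm (Fin 4), ρ 2 = i ∧ ρ 3 = j := by
    revert i j
    decide
  obtain ⟨n, hn⟩ := hR.perm ρ
  refine ⟨n * (ub u w * X f 2) * n⁻¹, ?_, ?_⟩
  · rw [← h2, ← h3, ← hR.cj_KK hn (show (2 : Fin 4) ≠ 3 by decide), hR.KK23]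
    exact conj_mem_cj hR.u2_mem
  · have h4 := (hn.mul (ind_u2 hR)).mul hn.inv
    have h5 : ρ * Equiv.swap 2 3 * ρ⁻¹ = Equiv.swap i j := by
      rw [← h2, ← h3, Equiv.swap_apply_apply]
    rwa [h5] at h4

/-- An element centralising all `K_{ij}` is trivial. -/
theorem eq_one_of_comm (hR : RIn P f u w L1 L2) (hG : GZ f L1 = ⊤) (hc : Subgroup.center G = ⊥) {g : G}
    (h : ∀ i j : Fin 4, i ≠ j → ∀ x ∈ KK f L1 i j, g * x = x * g) : g = 1 := by
  have h1 : GZ f L1 ≤ centralizer ({g} : Set G) := by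
    apply iSup_le
    rintro ⟨n, hn⟩
    obtain ⟨ρ, hρ⟩ := hR.permn n hn
    rw [← hR.KK_eq hρ]
    intro x hx
    exact mem_cent_iff.mpr (h _ _ (fun h => absurd (ρ.injective h) (by decide)) x hx).symm
  rw [hG, top_le_iff] at h1
  have h2 : g ∈ Subgroup.center G := by
    rw [Subgroup.mem_center_iff]
    intro x
    have h3 : x ∈ centralizer ({g} : Set G) := by rw [h1]; exact Subgroup.mem_top x
    exact mem_cent_iff.mp h3
  rwa [hc, Subgroup.mem_bot] at h2

/-- The same with the six pairs. -/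
theorem eq_one_of_six (hR : RIn P f u w L1 L2) (hG : GZ f L1 = ⊤) (hc : Subgroup.center G = ⊥) {g : G}
    (h01 : ∀ x ∈ KK f L1 0 1, g * x = x * g) (h02 : ∀ x ∈ KK f L1 0 2, g * x = x * g)
    (h03 : ∀ x ∈ KK f L1 0 3, g * x = x * g) (h12 : ∀ x ∈ KK f L1 1 2, g * x = x * g)
    (h13 : ∀ x ∈ KK f L1 1 3, g * x = x * g) (h23 : ∀ x ∈ KK f L1 2 3, g * x = x * g) : g = 1 := by
  apply eq_one_of_comm hR hG hc
  intro i j hij
  fin_cases i <;> fin_cases j
  · exact (hij rfl).elim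
  · exact h01
  · exact h02
  · exact h03
  · rw [hR.KK_symm hij]; exact h01
  · exact (hij rfl).elim
  · exact h12
  · exact h13
  · rw [hR.KK_symm hij]; exact h02
  · rw [hR.KK_symm hij]; exact h12
  · exact (hij rfl).elim
  · exact h23
  · rw [hR.KK_symm hij]; exact h03
  · rw [hR.KK_symm hij]; exact h13
  · rw [hR.KK_symm hij]; exact h23
  · exact (hij rfl).elim

/-- transport of commutation -/
theorem comm_of_cj {n g g' : G} {A B : Subgroup G} (hAB : cj n A = B) (hg : n * g * n⁻¹ = g')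
    (h : ∀ x ∈ A, g * x = x * g) : ∀ x ∈ B, g' * x = x * g' := by
  rw [← hAB, ← hg]
  exact comm_cj h

theorem comm_inv {g : G} {A : Subgroup G} (h : ∀ x ∈ A, g⁻¹ * x = x * g⁻¹) : ∀ x ∈ A, g * x = x * g := by
  intro x hx
  have h1 := h x hx
  rw [inv_mul_eq_iff_eq_mul, ← mul_assoc] at h1
  exact mul_inv_eq_iff_eq_mul.mp h1.symm

/-! ### the torus `L2 ∩ C(z2)` -/

theorem comm_x3_iff (hR : RIn P f u w L1 L2) {t : G} (ht : t ∈ L2) : t * X f 3 = X f 3 * t ↔ t * z2 f = z2 f * t := by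
  have h1 := hR.x1_cent ht
  rw [hR.z2_eq', ← mul_assoc, ← h1, mul_assoc, mul_assoc]
  exact mul_left_cancel_iff.symm

theorem comm_h2_iff (hR : RIn P f u w L1 L2) {t : G} (ht : t ∈ L2) :
    t * LFourB.h2 f = LFourB.h2 f * t ↔ t * z2 f = z2 f * t := by
  have h1 := hR.comm _ hR.h1_mem t ht
  rw [hR.z2_eq_h, ← mul_assoc, ← h1, mul_assoc, mul_assoc]
  exact mul_left_cancel_iff.symm

/-- `u2 = ub x3 ∈ L2` inverts `h2`. -/
theorem u2_h2 (hR : RIn P f u w L1 L2) :
    (ub u w * X f 2) * LFourB.h2 f * (ub u w * X f 2)⁻¹ = (LFourB.h2 f)⁻¹ := by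
  have h1 : X f 2 * LFourB.h2 f = LFourB.h2 f * X f 2 :=
    hR.model.Tor_comm (hR.model.X_mem 2) (hR.model.f_mem_Tor goodh2)
  have h2 : ub u w * LFourB.h2 f = (LFourB.h2 f)⁻¹ * ub u w := by
    rw [LFourB.h2, hR.model.ub_f goodh2, hR.model.f_inv goodh2, neg_zero]
    congr 2
    linear_combination two_mul_M (m := m)
  calc ub u w * X f 2 * LFourB.h2 f * (ub u w * X f 2)⁻¹ =
      ub u w * (X f 2 * LFourB.h2 f) * (X f 2)⁻¹ * (ub u w)⁻¹ := by group
    _ = (ub u w * LFourB.h2 f) * (ub u w)⁻¹ := by rw [h1]; group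
    _ = (LFourB.h2 f)⁻¹ := by rw [h2]; group

theorem z1_ne (hR : RIn P f u w L1 L2) : z1 f ≠ 1 := by
  intro h
  rw [z1, hR.model.f_eq_one_iff good1] at h
  exact N_ne_zero h.2.2

variable {F : Type*} [Field F] [Finite F]

/-- `u2` inverts the torus `L2 ∩ C(z2)`. -/
theorem u2_inv (hR : RIn P f u w L1 L2) (hF : (2 : F) ≠ 0) (e : L2 ≃* Matrix.SpecialLinearGroup (Fin 2) F) {t : G}
    (ht : t ∈ L2) (htz : t * z2 f = z2 f * t) : (ub u w * X f 2) * t * (ub u w * X f 2)⁻¹ = t⁻¹ := by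
  have hth := (comm_h2_iff hR ht).mpr htz
  set i := e ⟨LFourB.h2 f, hR.h2_mem⟩ with hi
  set g := e ⟨ub u w * X f 2, hR.u2_mem⟩ with hg
  have hii : i * i = -1 := by
    have h3 : (i * i) * (i * i) = 1 := by
      rw [hi, ← map_mul, ← map_mul, ← map_one e]
      congr 1
      apply Subtype.ext
      change (LFourB.h2 f * LFourB.h2 f) * (LFourB.h2 f * LFourB.h2 f) = 1
      rw [hR.h2_sq, hR.z1_sq]
    rcases sq_eq_one hF h3 with h4 | h4
    · exfalso
      rw [hi, ← map_mul, map_eq_one_iff e e.injective] at h4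
      have h5 := congrArg Subtype.val h4
      change LFourB.h2 f * LFourB.h2 f = 1 at h5
      rw [hR.h2_sq] at h5
      exact z1_ne hR h5
    · exact h4
  have hinv : i⁻¹ = -i := by rw [inv_eq_iff_mul_eq_one, mul_neg, hii, neg_neg]
  have hgi : g * i = -(i * g) := by
    have h3 : g * i * g⁻¹ = i⁻¹ := by
      rw [hg, hi, ← map_inv, ← map_mul, ← map_mul, ← map_inv]
      congr 1
      exact Subtype.ext (u2_h2 hR)
    rw [mul_inv_eq_iff_eq_mul.mp h3, hinv, neg_mul]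
  have h6 := (anti hF (tr_of_sq hF hii) hgi).2 (e ⟨t, ht⟩) (by
    rw [hi, ← map_mul, ← map_mul]
    congr 1
    exact Subtype.ext hth)
  rw [hg, ← map_inv, ← map_mul, ← map_mul, ← map_inv] at h6
  exact congrArg Subtype.val (e.injective h6)

/-- `O(C(x4)) ∩ L2 = 1`. -/
theorem eq_one_of_core_L2 (hR : RIn P f u w L1 L2) (hG : GZ f L1 = ⊤) (hc : Subgroup.center G = ⊥)
    (hF : (2 : F) ≠ 0) (e : L2 ≃* Matrix.SpecialLinearGroup (Fin 2) F) {b : G} (hb : b ∈ K (X f 3)) (hb2 : b ∈ L2) :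
    b = 1 := by
  have hinv := u2_inv hR hF e hb2 (hR.core_V hb).2
  have hn := ind_u2 hR
  have d02 : (0 : Fin 4) ≠ 2 := by decide
  have d12 : (1 : Fin 4) ≠ 2 := by decide
  have d03 : (0 : Fin 4) ≠ 3 := by decide
  have d13 : (1 : Fin 4) ≠ 3 := by decide
  have d23 : (2 : Fin 4) ≠ 3 := by decide
  have h01 : ∀ x ∈ KK f L1 0 1, b * x = x * b := by
    rw [hR.KK01]; intro x hx; exact (hR.comm x hx b hb2).symm
  have h02 : ∀ x ∈ KK f L1 0 2, b * x = x * b := fun x hx => hR.core_KK hb d02 (by decide) (by decide) hx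
  have h12 : ∀ x ∈ KK f L1 1 2, b * x = x * b := fun x hx => hR.core_KK hb d12 (by decide) (by decide) hx
  have h03 : ∀ x ∈ KK f L1 0 3, b * x = x * b :=
    comm_inv (comm_of_cj (by rw [hR.cj_KK hn d02]; rfl) hinv h02)
  have h13 : ∀ x ∈ KK f L1 1 3, b * x = x * b :=
    comm_inv (comm_of_cj (by rw [hR.cj_KK hn d12]; rfl) hinv h12)
  have h23 : ∀ x ∈ KK f L1 2 3, b * x = x * b := by
    obtain ⟨n', hn', hI⟩ := exists_ind_swap hR d03
    have h4 := h03 n' hn'
    have h5 : n' * b * n'⁻¹ = b := by rw [← h4, mul_inv_cancel_right]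
    rw [hR.KK_symm d23]
    exact comm_of_cj (by rw [hR.cj_KK hI d02]; rfl) h5 h02
  exact eq_one_of_six hR hG hc h01 h02 h03 h12 h13 h23

/-- **`O(C(x4))` centralises the torus `L2 ∩ C(z2)`.** -/
theorem core_torus (hR : RIn P f u w L1 L2) (hG : GZ f L1 = ⊤) (hc : Subgroup.center G = ⊥)
    (hF : (2 : F) ≠ 0) (e : L2 ≃* Matrix.SpecialLinearGroup (Fin 2) F) {a t : G} (ha : a ∈ K (X f 3)) (ht : t ∈ L2)
    (htz : t * z2 f = z2 f * t) : a * t = t * a := by
  have haY := mem_cent_iff.mp (K_le _ ha)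
  have hn2 := (hR.norm_of_x3 (mem_cent_iff.mpr (hR.core_V ha).1) haY).2
  have htY : t ∈ centralizer ({X f 3} : Set G) := mem_cent_iff.mpr ((comm_x3_iff hR ht).mpr htz)
  have h1 : a * t * a⁻¹ * t⁻¹ ∈ L2 := by
    have h2 : a * t * a⁻¹ ∈ L2 := by
      have := conj_mem_cj (g := a) ht
      rwa [hn2] at this
    exact L2.mul_mem h2 (L2.inv_mem ht)
  have h3 : a * t * a⁻¹ * t⁻¹ ∈ K (X f 3) := by
    have h2 := K_conj htY (Subgroup.inv_mem _ ha)
    have h3 : a * t * a⁻¹ * t⁻¹ = a * (t * a⁻¹ * t⁻¹) := by group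
    rw [h3]
    exact Subgroup.mul_mem _ ha h2
  have h4 := eq_one_of_core_L2 hR hG hc hF e h3 h1
  exact mul_inv_eq_iff_eq_mul.mp (mul_inv_eq_one.mp h4)

/-- **`O(C(x4))` acts faithfully on `L2`.** -/
theorem eq_one_of_comm_L2 (hR : RIn P f u w L1 L2) (hG : GZ f L1 = ⊤) (hc : Subgroup.center G = ⊥)
    {a : G} (ha : a ∈ K (X f 3)) (h23' : ∀ x ∈ L2, a * x = x * a) : a = 1 := by
  have hn := ind_u2 hR
  have h4 := h23' _ hR.u2_mem
  have h5 : (ub u w * X f 2) * a * (ub u w * X f 2)⁻¹ = a := by rw [← h4, mul_inv_cancel_right]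
  have d01 : (0 : Fin 4) ≠ 1 := by decide
  have d02 : (0 : Fin 4) ≠ 2 := by decide
  have d12 : (1 : Fin 4) ≠ 2 := by decide
  have h01 : ∀ x ∈ KK f L1 0 1, a * x = x * a := fun x hx => hR.core_KK ha d01 (by decide) (by decide) hx
  have h02 : ∀ x ∈ KK f L1 0 2, a * x = x * a := fun x hx => hR.core_KK ha d02 (by decide) (by decide) hx
  have h12 : ∀ x ∈ KK f L1 1 2, a * x = x * a := fun x hx => hR.core_KK ha d12 (by decide) (by decide) hx
  have h03 : ∀ x ∈ KK f L1 0 3, a * x = x * a := comm_of_cj (by rw [hR.cj_KK hn d02]; rfl) h5 h02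
  have h13 : ∀ x ∈ KK f L1 1 3, a * x = x * a := comm_of_cj (by rw [hR.cj_KK hn d12]; rfl) h5 h12
  exact eq_one_of_six hR hG hc h01 h02 h03 h12 h13 (by rw [hR.KK23]; exact h23')

/-- **[R5]** The primes dividing `|O(C(x4))|` divide `q - ε` and `|L2 ∩ C(z2)|`. -/
theorem prime_dvd (hR : RIn P f u w L1 L2) (hG : GZ f L1 = ⊤) (hc : Subgroup.center G = ⊥)
    (hF : (2 : F) ≠ 0) (e : L2 ≃* Matrix.SpecialLinearGroup (Fin 2) F) {r : ℕ} (hr : r.Prime)
    (hrK : r ∣ Nat.card (K (X f 3))) :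
    r ≠ 2 ∧ ((Nat.card F % 4 = 1 ∧ r ∣ Nat.card F - 1) ∨ (Nat.card F % 4 = 3 ∧ r ∣ Nat.card F + 1)) ∧
      r ∣ Nat.card ↥(L2 ⊓ centralizer {z2 f}) := by
  have hfact : Fact r.Prime := ⟨hr⟩
  have hr2 : r ≠ 2 := by
    rintro rfl
    have h1 := K_odd (X f 3)
    rw [← Nat.not_even_iff_odd, even_iff_two_dvd] at h1
    exact h1 hrK
  obtain ⟨a, hao⟩ := exists_prime_orderOf_dvd_card' r hrK
  obtain ⟨a, ha⟩ := a
  rw [← Subgroup.orderOf_coe] at hao
  change orderOf a = r at hao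
  have har : a ^ r = 1 := by rw [← hao, pow_orderOf_eq_one]
  have haY := mem_cent_iff.mp (K_le _ ha)
  have hn2 := (hR.norm_of_x3 (mem_cent_iff.mpr (hR.core_V ha).1) haY).2
  have hz := z1_ne hR
  have h1 := sl_dvd_sub hF e (X := LFourB.h2 f) (g := a) hR.h2_mem (by rw [hR.h2_sq]; exact hz)
    (by rw [hR.h2_sq, hR.z1_sq]) (mem_normalizer_iff_cj.mpr hn2) hr hr2 har
    (core_torus hR hG hc hF e ha hR.h2_mem ((comm_h2_iff hR hR.h2_mem).mp rfl))
    (fun y hy hyX _ => core_torus hR hG hc hF e ha hy ((comm_h2_iff hR hy).mp hyX))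
    (fun h => by
      have h2 := eq_one_of_comm_L2 hR hG hc ha h
      rw [h2, orderOf_one] at hao
      exact hr.one_lt.ne hao)
  refine ⟨hr2, h1.1, ?_⟩
  obtain ⟨c, hcL, hcX, hco⟩ := h1.2
  have h3 : c ∈ L2 ⊓ centralizer {z2 f} := ⟨hcL, mem_cent_iff.mpr ((comm_h2_iff hR hcL).mp hcX)⟩
  have h4 := orderOf_dvd_natCard (⟨c, h3⟩ : ↥(L2 ⊓ centralizer {z2 f}))
  rwa [← Subgroup.orderOf_coe, hco] at h4

end main

end Cfsg.Agent.LFourB.RFive
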