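import Cfsg.Agent.LFourB.RCore
import Cfsg.Agent.LFourB.RFive
import Cfsg.Agent.LFourB.RBStd
import Cfsg.Agent.LFourB.RBSix
import Cfsg.Agent.LFourB.ProdBOneTwo
import Cfsg.Agent.LFourB.ProdTqq
import Cfsg.Agent.LFour.ConclR

/-!
# The recognition end of type B1: from the six subgroups to `PSL₄(q)`, `PSU₄(q)`

`RIn.mid`: the three subgroups `K_{12}, K_{02}, K_{01}` of `Y = C(x4)` with `Y → Y / O(Y)` satisfy `Mid`.
`RIn.conclLU`: the conclusion, given the structure of `C(x4) / O(C(x4))`.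
-/

set_option autoImplicit false
set_option linter.unusedSectionVars false

namespace Cfsg.Agent.LFourB.RB

open Subgroup

theorem TwoGen.subgroupOf {G : Type*} [Group G] {A H : Subgroup G} (h : TwoGen A) (hAH : A ≤ H) :
    TwoGen (A.subgroupOf H) := by
  intro B hB
  have h1 : A ≤ B.map H.subtype := by
    apply h
    rintro x hx ⟨k, hk⟩
    exact ⟨⟨x, hAH hx⟩, hB _ (mem_subgroupOf.2 hx) ⟨k, Subtype.ext hk⟩, rfl⟩
  intro x hx
  obtain ⟨y, hy, e⟩ := h1 (mem_subgroupOf.1 hx)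
  rwa [← Subtype.ext e]

theorem perfect_subgroupOf {G : Type*} [Group G] {A H : Subgroup G} (h : ⁅A, A⁆ = A) (hAH : A ≤ H) :
    ⁅A.subgroupOf H, A.subgroupOf H⁆ = A.subgroupOf H := by
  apply map_injective H.subtype_injective
  rw [map_commutator, subgroupOf_map_subtype, inf_of_le_left hAH, h]

/-- A perfect central extension of `SL₂(F)` by an odd group is generated by 2-elements. -/
theorem twoGen_of_pi {G : Type*} [Group G] [Finite G] {F : Type*} [Field F] [Fintype F] (hF : 3 < Fintype.card F)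
    {A : Subgroup G} (hA : ⁅A, A⁆ = A) (π : A →* Matrix.SpecialLinearGroup (Fin 2) F) (hπ : Function.Surjective π)
    (hk : π.ker ≤ center A) (hodd : Odd (Nat.card π.ker)) : TwoGen A := by
  intro H hH
  -- 2-elements lift
  have h1 : (H.subgroupOf A).map π = ⊤ := by
    rw [eq_top_iff]
    apply sl_twoGen hF
    rintro y - ⟨k, hk⟩
    obtain ⟨x, rfl⟩ := hπ y
    have h2 : Nat.Coprime (Nat.card π.ker) (2 ^ k) := Nat.Coprime.pow_right k (Nat.coprime_two_right.2 hodd)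
    have h3 : (π x) ^ 2 ^ k = 1 := hk
    have h4 : Nat.Coprime (orderOf (π x)) (Nat.card π.ker) :=
      (Nat.Coprime.coprime_dvd_right (orderOf_dvd_of_pow_eq_one h3) h2).symm
    obtain ⟨m, hm⟩ := exists_pow_eq_self_of_coprime (Nat.Coprime.symm h4)
    have h5 : (x ^ Nat.card π.ker) ^ 2 ^ k = 1 := by
      rw [← pow_mul, mul_comm, pow_mul]
      have h6 : x ^ 2 ^ k ∈ π.ker := by rw [MonoidHom.mem_ker, map_pow, h3]
      have h7 := pow_card_eq_one' (G := π.ker) (x := ⟨x ^ 2 ^ k, h6⟩)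
      exact congrArg Subtype.val h7
    rw [← hm]
    apply pow_mem
    rw [← map_pow]
    apply mem_map_of_mem
    rw [mem_subgroupOf]
    apply hH
    · exact (x ^ Nat.card π.ker).2
    · exact ⟨k, congrArg Subtype.val h5⟩
  have h2 : ∀ a : A, ∃ b : A, (b : G) ∈ H ∧ ∃ z ∈ center A, a = b * z := by
    intro a
    have h3 : π a ∈ (H.subgroupOf A).map π := by rw [h1]; exact mem_top _
    obtain ⟨b, hb, e⟩ := h3
    refine ⟨b, mem_subgroupOf.1 hb, b⁻¹ * a, hk ?_, by group⟩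
    rw [MonoidHom.mem_ker, map_mul, map_inv, e, inv_mul_cancel]
  have h3 : ⁅A, A⁆ ≤ H := by
    rw [commutator_le]
    intro a ha b hb
    obtain ⟨a', ha', z, hz, ea⟩ := h2 ⟨a, ha⟩
    obtain ⟨b', hb', y, hy, eb⟩ := h2 ⟨b, hb⟩
    have ea' : a = a' * z := congrArg Subtype.val ea
    have eb' : b = b' * y := congrArg Subtype.val eb
    have cz : ∀ g : A, (z : G) * g = g * z := fun g => (congrArg Subtype.val (mem_center_iff.1 hz g)).symm
    have cy : ∀ g : A, (y : G) * g = g * y := fun g => (congrArg Subtype.val (mem_center_iff.1 hy g)).symm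
    have e : a * b * a⁻¹ * b⁻¹ = a' * b' * (a' : G)⁻¹ * (b' : G)⁻¹ := by
      rw [ea', eb']
      have c1 := cz b'
      have c2 := cy (a'⁻¹)
      have c3 := cz y
      have c2' : (y : G) * (a' : G)⁻¹ = (a' : G)⁻¹ * y := c2
      calc (a' : G) * (z : G) * ((b' : G) * (y : G)) * ((a' : G) * (z : G))⁻¹ * ((b' : G) * (y : G))⁻¹ =
          a' * (z * b') * y * (z : G)⁻¹ * (a' : G)⁻¹ * (y : G)⁻¹ * (b' : G)⁻¹ := by group
        _ = a' * b' * (z * y) * (z : G)⁻¹ * (a' : G)⁻¹ * (y : G)⁻¹ * (b' : G)⁻¹ := by rw [c1]; group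
        _ = a' * b' * (y * (a' : G)⁻¹) * (y : G)⁻¹ * (b' : G)⁻¹ := by rw [c3]; group
        _ = a' * b' * (a' : G)⁻¹ * (b' : G)⁻¹ := by rw [c2']; group
    rw [commutatorElement_def, e]
    exact mul_mem (mul_mem (mul_mem ha' hb') (inv_mem ha')) (inv_mem hb')
  rwa [hA] at h3

end Cfsg.Agent.LFourB.RB

namespace Cfsg.Agent.LFourB.RDefs

open Subgroup Cfsg Cfsg.Agent.LFourB Cfsg.Agent.LFourB.BOne Cfsg.Agent.J2Sylow.Functor Cfsg.Agent.LFourB.RB

variable {G : Type*} [Group G] [Finite G] {P : Sylow 2 G} {m : ℕ} {f : R m → R m → R m → G} {u w : G}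
  {L1 L2 : Subgroup G}

/-- the pair of points different from `c` -/
def pa (c : Fin 3) : Fin 4 := ![1, 0, 0] c
/-- the pair of points different from `c` -/
def pb (c : Fin 3) : Fin 4 := ![2, 2, 1] c

theorem pab (c : Fin 3) : pa c ≠ pb c ∧ pa c ≠ 3 ∧ pb c ≠ 3 := by revert c; decide

theorem exists_triple {i j : Fin 4} (hij : i ≠ j) (hi : i ≠ 3) (hj : j ≠ 3) :
    ∃ ρ : Equiv.Perm (Fin 4), ρ 0 = i ∧ ρ 1 = j ∧ ρ 3 = 3 := by
  revert i j; decide

/-- `C(x4)` -/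
abbrev YY (f : R m → R m → R m → G) : Subgroup G := centralizer ({X f 3} : Set G)

/-- `Y → Y / O(Y)` -/
abbrev pp (f : R m → R m → R m → G) : YY f →* YY f ⧸ Cfsg.pPrimeCore 2 (YY f) := QuotientGroup.mk' _

/-- the three subgroups -/
def KS (f : R m → R m → R m → G) (L1 : Subgroup G) (c : Fin 3) : Subgroup (YY f) :=
  (KK f L1 (pa c) (pb c)).subgroupOf (YY f)

theorem pp_eq_one {x : YY f} : pp f x = 1 ↔ (x : G) ∈ K (X f 3) := by
  rw [QuotientGroup.mk'_apply, QuotientGroup.eq_one_iff]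
  change _ ↔ (x : G) ∈ (Cfsg.pPrimeCore 2 (YY f)).map (YY f).subtype
  constructor
  · intro h; exact ⟨x, h, rfl⟩
  · rintro ⟨y, hy, e⟩
    rwa [← Subtype.ext e]

namespace RIn

theorem KK_le_Y (hR : RIn P f u w L1 L2) {i j : Fin 4} (hij : i ≠ j) (hi : i ≠ 3) (hj : j ≠ 3) :
    KK f L1 i j ≤ YY f := fun _ hx => mem_cent_iff.mpr (hR.X_cent_KK hij hi.symm hj.symm hx).symm

theorem z1_mem (hR : RIn P f u w L1 L2) : z1 f ∈ L1 := by
  rw [← hR.h1_sq]; exact L1.mul_mem hR.h1_mem hR.h1_mem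

theorem z1_mem2 (hR : RIn P f u w L1 L2) : z1 f ∈ L2 := by
  rw [← hR.h2_sq]; exact L2.mul_mem hR.h2_mem hR.h2_mem

/-- `x_i x_j ∈ K_{ij}` -/
theorem XX_mem (hR : RIn P f u w L1 L2) {i j : Fin 4} (hij : i ≠ j) : X f i * X f j ∈ KK f L1 i j := by
  obtain ⟨ρ, rfl, rfl⟩ := exists_perm_of_ne hij
  obtain ⟨n, hn⟩ := hR.perm ρ
  rw [hR.KK_eq hn, ← hn.2, ← hn.2]
  have e : n * X f 0 * n⁻¹ * (n * X f 1 * n⁻¹) = n * z1 f * n⁻¹ := by rw [hR.z1_eq]; group
  rw [e]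
  exact conj_mem_cj hR.z1_mem

theorem XX_comm (hR : RIn P f u w L1 L2) {i j : Fin 4} (hij : i ≠ j) {x : G} (hx : x ∈ KK f L1 i j) :
    x * (X f i * X f j) = X f i * X f j * x := by
  obtain ⟨ρ, rfl, rfl⟩ := exists_perm_of_ne hij
  obtain ⟨n, hn⟩ := hR.perm ρ
  rw [hR.KK_eq hn] at hx
  rw [← hn.2, ← hn.2]
  have e : n * X f 0 * n⁻¹ * (n * X f 1 * n⁻¹) = n * z1 f * n⁻¹ := by rw [hR.z1_eq]; group
  rw [e]
  refine (comm_cj (g := n) (a := z1 f) (K := L1) ?_ x hx).symm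
  intro y hy
  exact (mem_cent_iff.mp (hR.le1 hy)).symm

/-- elements of `C(x4)` commuting with `x_i x_j` normalise `K_{ij}` -/
theorem norm_KK (hR : RIn P f u w L1 L2) {i j : Fin 4} (hij : i ≠ j) (hi : i ≠ 3) (hj : j ≠ 3) {g : G} (hg : g ∈ YY f)
    (hgt : g * (X f i * X f j) = X f i * X f j * g) {x : G} (hx : x ∈ KK f L1 i j) : g * x * g⁻¹ ∈ KK f L1 i j := by
  obtain ⟨ρ, rfl, rfl, h3⟩ := exists_triple hij hi hj
  obtain ⟨n, hn⟩ := hR.perm ρ
  have hnY := hR.comm_X3_of_ind hn h3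
  have hg' : n⁻¹ * g * n ∈ YY f := mul_mem (mul_mem (inv_mem hnY) hg) hnY
  have e : X f (ρ 0) * X f (ρ 1) = n * z1 f * n⁻¹ := by rw [← hn.2, ← hn.2, hR.z1_eq]; group
  have h1 : (n⁻¹ * g * n) * z1 f = z1 f * (n⁻¹ * g * n) := by
    rw [e] at hgt
    calc n⁻¹ * g * n * z1 f = n⁻¹ * (g * (n * z1 f * n⁻¹)) * n := by group
      _ = n⁻¹ * (n * z1 f * n⁻¹ * g) * n := by rw [hgt]
      _ = z1 f * (n⁻¹ * g * n) := by group
  have h2 := (hR.norm_of_x3 (mem_cent_iff.mpr h1) (mem_cent_iff.mp hg')).1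
  rw [hR.KK_eq hn, mem_cj] at hx ⊢
  have h4 := conj_mem_cj (g := n⁻¹ * g * n) hx
  rw [h2] at h4
  have e2 : n⁻¹ * (g * x * g⁻¹) * n = n⁻¹ * g * n * (n⁻¹ * x * n) * (n⁻¹ * g * n)⁻¹ := by group
  rw [e2]
  exact h4

theorem XX_sq (hR : RIn P f u w L1 L2) (i j : Fin 4) : X f i * X f j * (X f i * X f j) = 1 := by
  have h1 : X f i * X f j * (X f i * X f j) = X f i * (X f j * X f i) * X f j := by group
  rw [h1, hR.X_comm j i, ← mul_assoc, hR.X_sq, one_mul, hR.X_sq]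

theorem XX_ne (hR : RIn P f u w L1 L2) {i j : Fin 4} (hij : i ≠ j) : X f i * X f j ≠ 1 := by
  intro h
  apply hR.X_ne hij
  rw [← hR.X_inv j]
  exact eq_inv_of_mul_eq_one_left h

/-- the three involutions -/
def ts (hR : RIn P f u w L1 L2) (c : Fin 3) : YY f :=
  ⟨X f (pa c) * X f (pb c), mul_mem (hR.X_mem_Y _ _) (hR.X_mem_Y _ _)⟩

theorem pp_ts_ne (hR : RIn P f u w L1 L2) (c : Fin 3) : pp f (hR.ts c) ≠ 1 := by
  intro h
  rw [pp_eq_one] at h
  apply hR.XX_ne (pab c).1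
  exact eq_one_of_odd (hR.XX_sq _ _) (odd_orderOf_of_mem (K_odd _) h)

/-- **The three subgroups in `C(x4)`.** -/
theorem mid (hR : RIn P f u w L1 L2) (hg : TwoGen L1) {L : Subgroup (YY f ⧸ Cfsg.pPrimeCore 2 (YY f))}
    (hL : L.Normal) (hodd : Odd (L.relIndex (Cfsg.pResidual 2 (YY f ⧸ Cfsg.pPrimeCore 2 (YY f))))) :
    Mid (pp f) L (KS f L1) hR.ts := by
  have : Fact (Nat.Prime 2) := ⟨Nat.prime_two⟩
  have hperf : ∀ c, ⁅KS f L1 c, KS f L1 c⁆ = KS f L1 c := by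
    intro c
    refine perfect_subgroupOf ?_ (hR.KK_le_Y (pab c).1 (pab c).2.1 (pab c).2.2)
    obtain ⟨ρ, h0, h1⟩ := exists_perm_of_ne (pab c).1
    obtain ⟨n, hn⟩ := hR.perm ρ
    rw [← h0, ← h1, hR.KK_eq hn, cj, ← map_commutator, hR.perf1]
  have hgen : ∀ c, TwoGen (KS f L1 c) := by
    intro c
    refine TwoGen.subgroupOf ?_ (hR.KK_le_Y (pab c).1 (pab c).2.1 (pab c).2.2)
    obtain ⟨ρ, h0, h1⟩ := exists_perm_of_ne (pab c).1
    obtain ⟨n, hn⟩ := hR.perm ρ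
    rw [← h0, ← h1, hR.KK_eq hn]
    exact hg.map _
  have hmul : hR.ts 0 * hR.ts 1 = hR.ts 2 := by
    apply Subtype.ext
    change X f 1 * X f 2 * (X f 0 * X f 2) = X f 0 * X f 1
    rw [hR.X_comm 0 2, mul_assoc, ← mul_assoc (X f 2) (X f 2), hR.X_sq, one_mul, hR.X_comm]
  have hsq : ∀ c, hR.ts c * hR.ts c = 1 := fun c => Subtype.ext (hR.XX_sq _ _)
  have hcomm : hR.ts 0 * hR.ts 1 = hR.ts 1 * hR.ts 0 := by
    have h2 := hsq 2
    rw [← hmul] at h2
    have h0 : (hR.ts 0)⁻¹ = hR.ts 0 := inv_eq_of_mul_eq_one_left (hsq 0)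
    have h1 : (hR.ts 1)⁻¹ = hR.ts 1 := inv_eq_of_mul_eq_one_left (hsq 1)
    rw [mul_eq_one_iff_eq_inv, mul_inv_rev, h0, h1] at h2
    exact h2
  refine
    { surj := QuotientGroup.mk'_surjective _
      odd := ?_
      normal := hL
      le := ?_
      perf := hperf
      gen := hgen
      mem := fun c => mem_subgroupOf.2 (hR.XX_mem (pab c).1)
      cent := fun c k hk => Subtype.ext (hR.XX_comm (pab c).1 (mem_subgroupOf.1 hk))
      sq := hsq
      ne := hR.pp_ts_ne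
      ne01 := ?_
      comm := hcomm
      mul := hmul
      kcent := ?_
      norm := ?_ }
  · rw [QuotientGroup.ker_mk']
    exact Nat.coprime_two_right.1 (Lib.Cores.pPrimeCore_coprime 2)
  · intro c
    have hn : (Cfsg.pResidual 2 (YY f ⧸ Cfsg.pPrimeCore 2 (YY f))).Normal := Transfer.Residual.pResidual_normal 2
    refine le_of_two hL hn Transfer.Residual.isPGroup_quotient_pResidual hodd ?_ ((hgen c).map _)
    rw [← map_commutator, hperf c]
  · intro e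
    have h2 : pp f (hR.ts 0 * hR.ts 1) = 1 := by
      rw [map_mul, e, ← map_mul, hsq, map_one]
    rw [hmul] at h2
    exact hR.pp_ts_ne 2 h2
  · intro c g hg k hk
    exact Subtype.ext (hR.core_KK (pp_eq_one.1 hg) (pab c).1 (pab c).2.1 (pab c).2.2 (mem_subgroupOf.1 hk))
  · intro c g hg k hk
    exact mem_subgroupOf.2 (hR.norm_KK (pab c).1 (pab c).2.1 (pab c).2.2 g.2 (congrArg Subtype.val hg)
      (mem_subgroupOf.1 hk))

theorem KS_two (hR : RIn P f u w L1 L2) {x : YY f} : x ∈ KS f L1 2 ↔ (x : G) ∈ L1 := by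
  change (x : YY f) ∈ (KK f L1 0 1).subgroupOf (YY f) ↔ _
  rw [mem_subgroupOf, hR.KK01]

section Std

variable {S Q : Type*} [Group S] [Group Q] [Finite Q] {ρ : S →* Q} {dg : Fin 3 → S} {std : Fin 3 → Subgroup S}
  {L : Subgroup (YY f ⧸ Cfsg.pPrimeCore 2 (YY f))}

/-- central elements of odd order of `L1` are trivial -/
theorem eq_one_of_central (hR : RIn P f u w L1 L2) (hG : GZ f L1 = ⊤) (hc : Subgroup.center G = ⊥)
    (hM : Mid (pp f) L (KS f L1) hR.ts) (hS : Std ρ dg std) (hQ : StdQ dg std) (hZ : StdZ std) (θ : L ≃* Q) {x : G}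
    (hx : x ∈ L1) (hxc : ∀ l ∈ L1, x * l = l * x) (hxo : Odd (orderOf x)) : x = 1 := by
  have hxY : x ∈ YY f := hR.L1_le_Y hx
  have h1 : pp f ⟨x, hxY⟩ = 1 := by
    apply hM.eq_one_of_central hS hQ θ (c := 2) (hZ 2)
    · exact hR.KS_two.2 hx
    · intro k hk
      exact Subtype.ext (hxc _ (hR.KS_two.1 hk))
    · rw [← orderOf_coe]; exact hxo
  rw [pp_eq_one] at h1
  have hx1 : x ∈ K (X f 3) := h1
  -- `x` commutes with `K_{ij}`, `i, j ≠ 3`
  have hn := RFive.ind_u2 hR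
  have hnx : (ub u w * X f 2) * x * (ub u w * X f 2)⁻¹ = x := by
    rw [mul_inv_eq_iff_eq_mul]
    exact (hR.comm x hx _ hR.u2_mem).symm
  have d01 : (0 : Fin 4) ≠ 1 := by decide
  have d02 : (0 : Fin 4) ≠ 2 := by decide
  have d12 : (1 : Fin 4) ≠ 2 := by decide
  have d03 : (0 : Fin 4) ≠ 3 := by decide
  have h01 : ∀ y ∈ KK f L1 0 1, x * y = y * x := fun y hy => hR.core_KK hx1 d01 (by decide) (by decide) hy
  have h02 : ∀ y ∈ KK f L1 0 2, x * y = y * x := fun y hy => hR.core_KK hx1 d02 (by decide) (by decide) hy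
  have h12 : ∀ y ∈ KK f L1 1 2, x * y = y * x := fun y hy => hR.core_KK hx1 d12 (by decide) (by decide) hy
  have h03 : ∀ y ∈ KK f L1 0 3, x * y = y * x := RFive.comm_of_cj (by rw [hR.cj_KK hn d02]; rfl) hnx h02
  have h13 : ∀ y ∈ KK f L1 1 3, x * y = y * x := RFive.comm_of_cj (by rw [hR.cj_KK hn d12]; rfl) hnx h12
  obtain ⟨n, hn02, hnind⟩ := RFive.exists_ind_swap hR d02
  have hnx2 : n * x * n⁻¹ = x := by
    rw [mul_inv_eq_iff_eq_mul]
    exact (h02 n hn02).symm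
  have h23 : ∀ y ∈ KK f L1 2 3, x * y = y * x := RFive.comm_of_cj (by rw [hR.cj_KK hnind d03]; rfl) hnx2 h03
  exact RFive.eq_one_of_six hR hG hc h01 h02 h03 h12 h13 h23

/-- `K_{ij} ∩ O(C(x4)) = 1` -/
theorem KS_inj (hR : RIn P f u w L1 L2) (hG : GZ f L1 = ⊤) (hc : Subgroup.center G = ⊥)
    (hM : Mid (pp f) L (KS f L1) hR.ts) (hS : Std ρ dg std) (hQ : StdQ dg std) (hZ : StdZ std) (θ : L ≃* Q)
    (c : Fin 3) {k : YY f} (hk : k ∈ KS f L1 c) (hk1 : pp f k = 1) : k = 1 := by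
  obtain ⟨ρ', h0, h1, h3⟩ := exists_triple (pab c).1 (pab c).2.1 (pab c).2.2
  obtain ⟨n, hn⟩ := hR.perm ρ'
  have hnY := hR.comm_X3_of_ind hn h3
  rw [pp_eq_one] at hk1
  have hk2 : (k : G) ∈ KK f L1 (pa c) (pb c) := mem_subgroupOf.1 hk
  rw [← h0, ← h1, hR.KK_eq hn, mem_cj] at hk2
  have h4 := K_conj (inv_mem hnY) hk1
  rw [inv_inv] at h4
  have h5 : n⁻¹ * (k : G) * n = 1 := by
    apply hR.eq_one_of_central hG hc hM hS hQ hZ θ hk2
    · exact hR.core_L1 h4 (mem_cent_iff.1 (hR.le1 hk2))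
    · exact odd_orderOf_of_mem (K_odd _) h4
  apply Subtype.ext
  have : (k : G) = n * (n⁻¹ * (k : G) * n) * n⁻¹ := by group
  rw [this, h5]
  simp

/-- primes of `|L2 ∩ C(z2)|` divide the order of the torus -/
theorem tor_dvd (hR : RIn P f u w L1 L2) (hM : Mid (pp f) L (KS f L1) hR.ts) (hS : Std ρ dg std)
    (hQ : StdQ dg std) (θ : L ≃* Q) (hinj : ∀ c, ∀ k ∈ KS f L1 c, pp f k = 1 → k = 1) {T : Subgroup S}
    (hT : ∀ s ∈ std 2, ρ s * ρ (dg 1) = ρ (dg 1) * ρ s → s ∈ T) {r : ℕ} (hr : r.Prime)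
    (hd : r ∣ Nat.card ↥(L2 ⊓ centralizer {z2 f})) : r ∣ Nat.card T := by
  have : Fact r.Prime := ⟨hr⟩
  obtain ⟨⟨a, ha⟩, hao⟩ := exists_prime_orderOf_dvd_card' r hd
  rw [← orderOf_coe] at hao
  have ha2 : a * z2 f = z2 f * a := mem_cent_iff.1 ha.2
  -- conjugate by `w`
  have hw : w * z2 f * w⁻¹ = z2 f := by
    have h1 := hR.w_ind.2
    rw [hR.z2_eq]
    have e : w * (X f 0 * X f 2) * w⁻¹ = (w * X f 0 * w⁻¹) * (w * X f 2 * w⁻¹) := by group
    rw [e, h1, h1]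
    have e0 : (Equiv.swap (0 : Fin 4) 2 * Equiv.swap 1 3 : Equiv.Perm (Fin 4)) 0 = 2 := by decide
    have e2 : (Equiv.swap (0 : Fin 4) 2 * Equiv.swap 1 3 : Equiv.Perm (Fin 4)) 2 = 0 := by decide
    rw [e0, e2, hR.X_comm]
  have hb1 : w * a * w⁻¹ ∈ L1 := by
    rw [← hR.cj_w.2]
    exact conj_mem_cj ha.1
  have hb2 : (w * a * w⁻¹) * z2 f = z2 f * (w * a * w⁻¹) := by
    rw [← hw]
    calc w * a * w⁻¹ * (w * z2 f * w⁻¹) = w * (a * z2 f) * w⁻¹ := by group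
      _ = w * (z2 f * a) * w⁻¹ := by rw [ha2]
      _ = _ := by group
  have hk : (⟨w * a * w⁻¹, hR.L1_le_Y hb1⟩ : YY f) ∈ KS f L1 2 := hR.KS_two.2 hb1
  have hkt : (⟨w * a * w⁻¹, hR.L1_le_Y hb1⟩ : YY f) * hR.ts 1 = hR.ts 1 * ⟨w * a * w⁻¹, hR.L1_le_Y hb1⟩ := by
    apply Subtype.ext
    change w * a * w⁻¹ * (X f 0 * X f 2) = X f 0 * X f 2 * (w * a * w⁻¹)
    rw [← hR.z2_eq]
    exact hb2
  have h1 := hM.order_dvd hS hQ θ hT hk hkt
  have h2 : orderOf (pp f ⟨w * a * w⁻¹, hR.L1_le_Y hb1⟩) = r := by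
    have h3 : orderOf (⟨w * a * w⁻¹, hR.L1_le_Y hb1⟩ : YY f) = r := by
      rw [← orderOf_coe]
      change orderOf (MulAut.conj w a) = r
      rw [(MulAut.conj w).orderOf_eq]
      exact hao
    have h4 : orderOf (pp f ⟨w * a * w⁻¹, hR.L1_le_Y hb1⟩) ∣ r := by
      rw [← h3]; exact orderOf_map_dvd _ _
    rcases (Nat.dvd_prime hr).1 h4 with h5 | h5
    · exfalso
      rw [orderOf_eq_one_iff] at h5
      have h6 := hinj 2 _ hk h5
      rw [h6, orderOf_one] at h3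
      exact hr.one_lt.ne h3
    · exact h5
  rwa [h2] at h1

/-- The six subgroups. -/
theorem six (hR : RIn P f u w L1 L2) (hG : GZ f L1 = ⊤) {φ : S →* YY f} (hφ : φ.ker ≤ center S)
    (hstd : ∀ c, (std c).map φ = KS f L1 c) : Six std (KK f L1) where
  symm i j := by
    rcases eq_or_ne i j with rfl | hij
    · rfl
    · exact hR.KK_symm hij
  comm i j k l hij hkl hik hil hjk hjl x hx y hy := by
    obtain ⟨σ, rfl, rfl, rfl, rfl⟩ : ∃ σ : Equiv.Perm (Fin 4), σ 0 = i ∧ σ 1 = j ∧ σ 2 = k ∧ σ 3 = l := by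
      clear hx hy
      revert i j k l; decide
    obtain ⟨n, hn⟩ := hR.perm σ
    have e1 := hR.KK_eq hn
    have e2 := hR.cj_KK hn (show (2 : Fin 4) ≠ 3 by decide)
    rw [hR.KK23] at e2
    rw [e1, mem_cj] at hx
    rw [← e2, mem_cj] at hy
    have h1 := hR.comm _ hx _ hy
    calc x * y = n * ((n⁻¹ * x * n) * (n⁻¹ * y * n)) * n⁻¹ := by group
      _ = n * ((n⁻¹ * y * n) * (n⁻¹ * x * n)) * n⁻¹ := by rw [h1]
      _ = y * x := by group
  perm σ := by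
    obtain ⟨n, hn⟩ := hR.perm σ
    exact ⟨n, fun i j hij => hR.cj_KK hn hij⟩
  phi := by
    have key : ∀ c, (std c).map ((YY f).subtype.comp φ) = KK f L1 (pa c) (pb c) := by
      intro c
      rw [← map_map, hstd c, KS, subgroupOf_map_subtype, inf_of_le_left
        (hR.KK_le_Y (pab c).1 (pab c).2.1 (pab c).2.2)]
    refine ⟨(YY f).subtype.comp φ, ?_, key 0, key 1, key 2⟩
    intro s hs
    exact hφ (Subtype.ext hs)
  gen H hH := by
    rw [eq_top_iff, ← hG]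
    apply iSup_le
    rintro ⟨n, hn⟩
    obtain ⟨σ, hσ⟩ := hR.permn n hn
    rw [← hR.KK_eq hσ]
    exact hH _ _ (fun h => absurd (σ.injective h) (by decide))

end Std

/-- 16 divides `|L1|` -/
theorem sixteen_dvd (hR : RIn P f u w L1 L2) : 16 ∣ Nat.card L1 := by
  have h1 : Nat.card (Qone f u) = 2 ^ (m + 2 + 2) := by
    rw [← hR.model.tqq_Q1]
    exact ProdTqq.card_Q1 hR.model.tqq
  have h2 : Nat.card (Qone f u) ∣ Nat.card L1 := card_dvd_of_le hR.q1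
  refine Dvd.dvd.trans ?_ h2
  rw [h1]
  exact ⟨2 ^ m, by ring⟩

/-- 16 divides the order of the image of `L1` in `C(x4) / O(C(x4))`. -/
theorem sixteen_dvd_map (hR : RIn P f u w L1 L2) : 16 ∣ Nat.card ((KS f L1 2).map (pp f)) := by
  have h1 : Nat.card (KS f L1 2) = Nat.card L1 := by
    have e : KS f L1 2 = L1.subgroupOf (YY f) := by
      change (KK f L1 0 1).subgroupOf (YY f) = _
      rw [hR.KK01]
    rw [e]
    exact Nat.card_congr (subgroupOfEquivOfLe hR.L1_le_Y).toEquiv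
  have h2 := hR.sixteen_dvd
  rw [← h1] at h2
  -- the kernel of the restriction has odd order
  let g : KS f L1 2 →* YY f ⧸ Cfsg.pPrimeCore 2 (YY f) := (pp f).comp (KS f L1 2).subtype
  have h3 : g.range = (KS f L1 2).map (pp f) := by
    rw [MonoidHom.range_comp, range_subtype]
  have h4 : Nat.card (KS f L1 2) = Nat.card g.range * Nat.card g.ker := by
    rw [← Subgroup.card_mul_index g.ker, Subgroup.index_ker, mul_comm]
  have h5 : Odd (Nat.card g.ker) := by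
    have h6 : Nat.card g.ker ∣ Nat.card (Cfsg.pPrimeCore 2 (YY f)) := by
      have h7 : (g.ker).map (KS f L1 2).subtype ≤ Cfsg.pPrimeCore 2 (YY f) := by
        rintro _ ⟨x, hx, rfl⟩
        have h8 : pp f (x : YY f) = 1 := hx
        rwa [QuotientGroup.mk'_apply, QuotientGroup.eq_one_iff] at h8
      have h9 := card_dvd_of_le h7
      rwa [card_map_of_injective (subtype_injective _)] at h9
    have h7 : Odd (Nat.card (Cfsg.pPrimeCore 2 (YY f))) := Nat.coprime_two_right.1 (Lib.Cores.pPrimeCore_coprime 2)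
    exact Odd.of_dvd_nat h7 h6
  rw [h3] at h4
  rw [h4] at h2
  have h6 : Nat.Coprime 16 (Nat.card g.ker) := by
    have : (16 : ℕ) = 2 ^ 4 := by norm_num
    rw [this]
    exact Nat.Coprime.pow_left 4 (Nat.coprime_two_left.2 h5)
  exact h6.dvd_of_dvd_mul_right h2

/-- **The six subgroups**, from the structure of `C(x4)`. -/
theorem exists_six (hR : RIn P f u w L1 L2) (hG : GZ f L1 = ⊤) (hc : Subgroup.center G = ⊥)
    {F₀ : Type*} [Field F₀] [Finite F₀] (h20 : (2 : F₀) ≠ 0) (h30 : 3 < Nat.card F₀)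
    {π : L1 →* Matrix.SpecialLinearGroup (Fin 2) F₀} (hπ : Function.Surjective π) (hπk : π.ker ≤ center L1)
    (hπo : Odd (Nat.card π.ker)) {L : Subgroup (YY f ⧸ Cfsg.pPrimeCore 2 (YY f))}
    (hL : L.Normal) (hodd : Odd (L.relIndex (Cfsg.pResidual 2 (YY f ⧸ Cfsg.pPrimeCore 2 (YY f)))))
    {S Q C : Type*} [Group S] [Finite S] [Group Q] [Finite Q] [CommGroup C] [IsCyclic C] {T : LThreeExt.Tri S C}
    {q e : ℤ} (hN : T.NumData q e) {ρ : S →* Q} {dg : Fin 3 → S} (hS : Std ρ dg T.std) (hQ : StdQ dg T.std)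
    (hZ : StdZ T.std) (hT : ∀ s ∈ T.std 2, ρ s * ρ (dg 1) = ρ (dg 1) * ρ s → s ∈ (T.t 2).range) (θ : L ≃* Q) :
    Six T.std (KK f L1) := by
  have : Fintype F₀ := Fintype.ofFinite F₀
  have hg : TwoGen L1 := twoGen_of_pi (by rwa [← Nat.card_eq_fintype_card]) hR.perf1 π hπ hπk hπo
  have hM := hR.mid hg hL hodd
  have hinj := hR.KS_inj hG hc hM hS hQ hZ θ
  -- `L1 ≃* SL₂(F₀)`
  have hπi : Function.Injective π := by
    rw [injective_iff_map_eq_one]
    intro x hx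
    have h1 := hπk (MonoidHom.mem_ker.2 hx)
    apply Subtype.ext
    apply hR.eq_one_of_central hG hc hM hS hQ hZ θ x.2
    · intro l hl
      exact (congrArg Subtype.val (mem_center_iff.1 h1 ⟨l, hl⟩)).symm
    · have h2 : orderOf (x : G) ∣ Nat.card π.ker := by
        have h3 := orderOf_dvd_natCard (⟨x, MonoidHom.mem_ker.2 hx⟩ : π.ker)
        rwa [← orderOf_coe, ← orderOf_coe] at h3
      exact Odd.of_dvd_nat hπo h2
  have e1 : L1 ≃* Matrix.SpecialLinearGroup (Fin 2) F₀ := MulEquiv.ofBijective π ⟨hπi, hπ⟩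
  have e2 : L2 ≃* Matrix.SpecialLinearGroup (Fin 2) F₀ := by
    refine MulEquiv.trans ?_ e1
    have h1 : L2 = L1.map (MulAut.conj w).toMonoidHom := hR.cj_w.1.symm
    rw [h1]
    exact ((MulAut.conj w).subgroupMap L1).symm
  obtain ⟨φ, hφ, hφs, -⟩ := (hM.pos hinj hS hQ θ).exists_hom hN hS θ (by
    intro r hr hrd
    have h1 : r ∣ Nat.card (K (X f 3)) := by
      have h2 : Nat.card (K (X f 3)) = Nat.card (pp f).ker := by
        rw [QuotientGroup.ker_mk']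
        exact card_map_of_injective (subtype_injective _)
      rw [h2]
      exact hrd.trans (card_dvd_of_le inf_le_right)
    obtain ⟨h3, -, h4⟩ := RFive.prime_dvd hR hG hc h20 e2 hr h1
    refine ⟨h3, ?_⟩
    have h5 := hR.tor_dvd hM hS hQ θ hinj hT hr h4
    have h6 : Nat.card (T.t 2).range ∣ Nat.card C := card_range_dvd (T.t 2)
    have h7 : ((r : ℕ) : ℤ) ∣ ((Nat.card C : ℕ) : ℤ) := by exact_mod_cast h5.trans h6
    rwa [hN.cardC] at h7)
  exact hR.six hG hφ hφs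

theorem card_le_of_dvd (hR : RIn P f u w L1 L2) (hg : TwoGen L1) {L : Subgroup (YY f ⧸ Cfsg.pPrimeCore 2 (YY f))}
    (hL : L.Normal) (hodd : Odd (L.relIndex (Cfsg.pResidual 2 (YY f ⧸ Cfsg.pPrimeCore 2 (YY f)))))
    {S Q : Type*} [Group S] [Group Q] [Finite Q] {ρ : S →* Q} {dg : Fin 3 → S} {std : Fin 3 → Subgroup S}
    (hS : Std ρ dg std) (θ : L ≃* Q) : 16 ∣ Nat.card (std 2) :=
  hR.sixteen_dvd_map.trans ((hR.mid hg hL hodd).card_dvd hS θ 2)

theorem two_ne_zero_of_odd_card {F : Type*} [Field F] [Fintype F] (hF : Odd (Fintype.card F)) : (2 : F) ≠ 0 := by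
  intro h
  have h1 : ringChar F = 2 := by
    have h2 : ringChar F ∣ 2 := (ringChar.spec F 2).1 (by exact_mod_cast h)
    rcases (Nat.dvd_prime Nat.prime_two).1 h2 with h3 | h3
    · exact absurd h3 (CharP.ringChar_ne_one)
    · exact h3
  have h3 : Fintype.card F % 2 = 0 := FiniteField.even_card_iff_char_two.1 h1
  obtain ⟨k, hk⟩ := hF
  omega

/-- **`PSL₄(q)`.** -/
theorem psl [IsSimpleGroup G] (hR : RIn P f u w L1 L2) (hG : GZ f L1 = ⊤) (hc : Subgroup.center G = ⊥)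
    {F₀ : Type*} [Field F₀] [Finite F₀] (h20 : (2 : F₀) ≠ 0) (h30 : 3 < Nat.card F₀)
    {π : L1 →* Matrix.SpecialLinearGroup (Fin 2) F₀} (hπ : Function.Surjective π) (hπk : π.ker ≤ center L1)
    (hπo : Odd (Nat.card π.ker)) {L : Subgroup (YY f ⧸ Cfsg.pPrimeCore 2 (YY f))}
    (hL : L.Normal) (hodd : Odd (L.relIndex (Cfsg.pResidual 2 (YY f ⧸ Cfsg.pPrimeCore 2 (YY f)))))
    {F : Type*} [Field F] [Fintype F] (hF : Odd (Fintype.card F))
    (θ : L ≃* Matrix.ProjectiveSpecialLinearGroup (Fin 3) F) :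
    ∃ (F' : Type) (_ : Field F') (_ : Fintype F'), Odd (Fintype.card F') ∧
      Nonempty (G ≃* Matrix.ProjectiveSpecialLinearGroup (Fin 4) F') := by
  have : Fintype F₀ := Fintype.ofFinite F₀
  have hg : TwoGen L1 := twoGen_of_pi (by rwa [← Nat.card_eq_fintype_card]) hR.perf1 π hπ hπk hπo
  have h2 : (2 : F) ≠ 0 := two_ne_zero_of_odd_card hF
  have hF3 : 3 < Fintype.card F := by
    have h1 : 1 < Fintype.card F := Fintype.one_lt_card
    by_contra h3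
    have h4 : Fintype.card F = 3 := by
      obtain ⟨k, hk⟩ := hF
      omega
    have h5 := hR.card_le_of_dvd hg hL hodd (std_sl h2) θ
    rw [LThreeExt.SL3.card_stdc, h4] at h5
    omega
  have hsix := hR.exists_six hG hc h20 h30 hπ hπk hπo hL hodd (LThreeExt.SL3.numData hF3) (std_sl h2) (stdQ_sl hF3)
    stdZ_sl (fun s hs hs' => stdT_sl h2 hs hs') θ
  obtain ⟨F', h1, h2, h3, h4⟩ := Six.psl (by rwa [Nat.card_eq_fintype_card]) hsix
  refine ⟨F', h1, h2, ?_, h4⟩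
  rw [h3, Nat.card_eq_fintype_card]
  exact hF

/-- **`PSU₄(q)`.** -/
theorem psu [IsSimpleGroup G] (hR : RIn P f u w L1 L2) (hG : GZ f L1 = ⊤) (hc : Subgroup.center G = ⊥)
    {F₀ : Type*} [Field F₀] [Finite F₀] (h20 : (2 : F₀) ≠ 0) (h30 : 3 < Nat.card F₀)
    {π : L1 →* Matrix.SpecialLinearGroup (Fin 2) F₀} (hπ : Function.Surjective π) (hπk : π.ker ≤ center L1)
    (hπo : Odd (Nat.card π.ker)) {L : Subgroup (YY f ⧸ Cfsg.pPrimeCore 2 (YY f))}
    (hL : L.Normal) (hodd : Odd (L.relIndex (Cfsg.pResidual 2 (YY f ⧸ Cfsg.pPrimeCore 2 (YY f)))))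
    {F : Type*} [Field F] [Fintype F] {q : ℕ} (hF : Fintype.card F = q ^ 2) (hq : Odd q) (θ : L ≃* Cfsg.PSU 3 F q) :
    Nonempty (G ≃* Cfsg.PSU 4 F q) := by
  have : Fintype F₀ := Fintype.ofFinite F₀
  have hg : TwoGen L1 := twoGen_of_pi (by rwa [← Nat.card_eq_fintype_card]) hR.perf1 π hπ hπk hπo
  have h2 : (2 : F) ≠ 0 := two_ne_zero_of_odd_card (by rw [hF]; exact hq.pow)
  have hq1 : 1 < q := by
    have h1 : 1 < Fintype.card F := Fintype.one_lt_card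
    rw [hF] at h1
    by_contra h3
    have : q ≤ 1 := by omega
    interval_cases q <;> simp at h1
  have hq3 : 3 ≤ q := by obtain ⟨k, hk⟩ := hq; omega
  have hq4 : 3 < q := by
    by_contra h3
    have h4 : q = 3 := by omega
    have h5 := hR.card_le_of_dvd hg hL hodd (std_su hF h2 hq3) θ
    rw [LThreeModel.SU3.card_std, LThreeModel.SU3.card_SU2_nat hF, h4] at h5
    omega
  have hsix := hR.exists_six hG hc h20 h30 hπ hπk hπo hL hodd (LThreeExt.SU3.numData hF hq4) (std_su hF h2 hq3)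
    (stdQ_su hF hq4) (stdZ_su hF) (fun s hs hs' => stdT_su hF h2 hs hs') θ
  refine Six.psu hF hq (by obtain ⟨k, hk⟩ := hq; omega) hsix (z := z1 f) hR.z1_sq (RFive.z1_ne hR) ?_ ?_
  · rw [hR.KK01]; exact hR.z1_mem
  · rw [hR.KK23]; exact hR.z1_mem2

/-- **The recognition end of type B1.** -/
theorem conclLU [IsSimpleGroup G] (hR : RIn P f u w L1 L2) (hG : GZ f L1 = ⊤) (hc : Subgroup.center G = ⊥)
    {F₀ : Type*} [Field F₀] [Finite F₀] (h20 : (2 : F₀) ≠ 0) (h30 : 3 < Nat.card F₀)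
    {π : L1 →* Matrix.SpecialLinearGroup (Fin 2) F₀} (hπ : Function.Surjective π) (hπk : π.ker ≤ center L1)
    (hπo : Odd (Nat.card π.ker)) {L : Subgroup (YY f ⧸ Cfsg.pPrimeCore 2 (YY f))}
    (hL : L.Normal) (hodd : Odd (L.relIndex (Cfsg.pResidual 2 (YY f ⧸ Cfsg.pPrimeCore 2 (YY f)))))
    (hL3 : (∃ (F : Type) (_ : Field F) (_ : Fintype F), Odd (Fintype.card F) ∧
        Nonempty (L ≃* Matrix.ProjectiveSpecialLinearGroup (Fin 3) F)) ∨
      (∃ (F : Type) (_ : Field F) (_ : Fintype F) (q : ℕ), Fintype.card F = q ^ 2 ∧ Odd q ∧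
        Nonempty (L ≃* Cfsg.PSU 3 F q))) : LFour.ConclLU G := by
  rcases hL3 with ⟨F, _, _, hF, ⟨θ⟩⟩ | ⟨F, _, _, q, hF, hq, ⟨θ⟩⟩
  · exact Or.inl (hR.psl hG hc h20 h30 hπ hπk hπo hL hodd hF θ)
  · exact Or.inr ⟨F, _, _, q, hF, hq, hR.psu hG hc h20 h30 hπ hπk hπo hL hodd hF hq θ⟩

end RIn

end Cfsg.Agent.LFourB.RDefs
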