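import Cfsg.Agent.LFourB.RBPos
import Cfsg.Agent.Transfer.Residual

/-!
# The subgroup generated by three `SL₂`'s in a group with normal section `PSL₃(q)`, `PSU₃(q)`

`Mid`: `p : Y → X` surjective with odd kernel, `L ⊴ X`, `L ≃* P`, three perfect subgroups `K c ≤ Y` generated by
2-elements, in the preimage of `L`, normalised by `C_Y(t c)`.
`Mid.pos`: the positions of `K c` are the standard ones. `Mid.map_JJ`, `Mid.JJ_normal`, `Mid.exists_mul`:
`J = ⟨K c⟩` is normal in `Y`, `p J = L`, `Y = J · C_Y(t c)`.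
-/

set_option autoImplicit false

namespace Cfsg.Agent.LFourB.RB

open Subgroup Cfsg.Agent.LThreeExt

/-- generated by elements of 2-power order -/
def TwoGen {G : Type*} [Group G] (A : Subgroup G) : Prop :=
  ∀ H : Subgroup G, (∀ x ∈ A, (∃ k : ℕ, x ^ 2 ^ k = 1) → x ∈ H) → A ≤ H

theorem TwoGen.map {G H : Type*} [Group G] [Group H] {A : Subgroup G} (h : TwoGen A) (f : G →* H) : TwoGen (A.map f) := by
  intro B hB
  rw [map_le_iff_le_comap]
  apply h
  rintro x hx ⟨k, hk⟩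
  exact hB (f x) (mem_map_of_mem f hx) ⟨k, by rw [← map_pow, hk, map_one]⟩

theorem twoGen_iSup {G : Type*} [Group G] {ι : Type*} {A : ι → Subgroup G} (h : ∀ i, TwoGen (A i)) : TwoGen (⨆ i, A i) := by
  intro B hB
  exact iSup_le fun i => h i B fun x hx hk => hB x (le_iSup A i hx) hk

/-- Perfect subgroups generated by 2-elements lie in a normal subgroup of odd index in the residual. -/
theorem le_of_two {X : Type*} [Group X] [Finite X] {L R : Subgroup X} (hL : L.Normal) (hR : R.Normal)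
    (hp : IsPGroup 2 (X ⧸ R)) (hodd : Odd (L.relIndex R)) {A : Subgroup X} (hA : ⁅A, A⁆ = A) (h2 : TwoGen A) :
    A ≤ L := by
  have : Fact (Nat.Prime 2) := ⟨Nat.prime_two⟩
  have hAR : A ≤ R := by
    have hnil : Group.IsNilpotent (X ⧸ R) := hp.isNilpotent
    have hs : Group.IsSolvable (X ⧸ R) := inferInstance
    obtain ⟨n, hn⟩ := hs.solvable
    have key : ∀ n, A.map (QuotientGroup.mk' R) ≤ derivedSeries (X ⧸ R) n := by
      intro n
      induction n with
      | zero => exact le_top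
      | succ n ih =>
        rw [derivedSeries_succ]
        calc A.map (QuotientGroup.mk' R) = ⁅A.map (QuotientGroup.mk' R), A.map (QuotientGroup.mk' R)⁆ := by
              rw [← map_commutator, hA]
          _ ≤ _ := commutator_mono ih ih
    have h1 := key n
    rw [hn, le_bot_iff, Subgroup.map_eq_bot_iff, QuotientGroup.ker_mk'] at h1
    exact h1
  apply h2
  rintro x hx ⟨k, hk⟩
  -- the image of `x` in `R / L`
  have hn : (L.subgroupOf R).Normal := hL.subgroupOf R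
  have h3 : orderOf (QuotientGroup.mk' (L.subgroupOf R) ⟨x, hAR hx⟩) ∣ 2 ^ k := by
    apply orderOf_dvd_of_pow_eq_one
    rw [← map_pow]
    have : (⟨x, hAR hx⟩ : R) ^ 2 ^ k = 1 := Subtype.ext hk
    rw [this, map_one]
  have h4 : orderOf (QuotientGroup.mk' (L.subgroupOf R) ⟨x, hAR hx⟩) ∣ L.relIndex R := by
    rw [relIndex, index_eq_card]; exact orderOf_dvd_natCard _
  have h5 : Nat.Coprime (2 ^ k) (L.relIndex R) := Nat.Coprime.pow_left k (Nat.coprime_two_left.2 hodd)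
  have h6 := Nat.eq_one_of_dvd_coprimes h5 h3 h4
  rw [orderOf_eq_one_iff, QuotientGroup.mk'_apply, QuotientGroup.eq_one_iff, mem_subgroupOf] at h6
  exact h6

section

variable {S P X Y : Type*} [Group S] [Group P] [Group X] [Group Y]

/-- further facts on the standard `SL₂`'s -/
structure StdQ (dg : Fin 3 → S) (std : Fin 3 → Subgroup S) : Prop where
  dcent : ∀ c, ∀ s ∈ std c, s * dg c = dg c * s
  qs : ∀ c, ∀ A ≤ std c, ⁅A, A⁆ = A → (∀ s ∈ std c, ∀ a ∈ A, s * a * s⁻¹ ∈ A) → A = ⊥ ∨ A = std c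

/-- `K c ≤ Y` in the preimage of `L ⊴ X`. -/
structure Mid (p : Y →* X) (L : Subgroup X) (K : Fin 3 → Subgroup Y) (t : Fin 3 → Y) : Prop where
  surj : Function.Surjective p
  odd : Odd (Nat.card p.ker)
  normal : L.Normal
  le : ∀ c, (K c).map p ≤ L
  perf : ∀ c, ⁅K c, K c⁆ = K c
  gen : ∀ c, TwoGen (K c)
  mem : ∀ c, t c ∈ K c
  cent : ∀ c, ∀ k ∈ K c, k * t c = t c * k
  sq : ∀ c, t c * t c = 1
  ne : ∀ c, p (t c) ≠ 1
  ne01 : p (t 0) ≠ p (t 1)
  comm : t 0 * t 1 = t 1 * t 0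
  mul : t 0 * t 1 = t 2
  kcent : ∀ c, ∀ g ∈ p.ker, ∀ k ∈ K c, g * k = k * g
  norm : ∀ c, ∀ g : Y, g * t c = t c * g → ∀ k ∈ K c, g * k * g⁻¹ ∈ K c

variable {p : Y →* X} {L : Subgroup X} {std : Fin 3 → Subgroup S} {K : Fin 3 → Subgroup Y} {t : Fin 3 → Y}
  {ρ : S →* P} {dg : Fin 3 → S}

namespace Mid

theorem JJ_comm (h : Mid p L K t) {g : Y} (hg : p g = 1) {j : Y} (hj : j ∈ JJ K) : g * j = j * g := by
  have h1 : JJ K ≤ centralizer ({g} : Set Y) := JJ_le fun c k hk => by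
    rw [mem_centralizer_singleton_iff]
    exact (h.kcent c g hg k hk).symm
  exact (mem_centralizer_singleton_iff.1 (h1 hj)).symm

/-- an element of the kernel with trivial square is trivial -/
theorem eq_one_of_sq (h : Mid p L K t) {k : Y} (hk : p k = 1) (h2 : k * k = 1) : k = 1 := by
  have h3 : orderOf k ∣ 2 := orderOf_dvd_of_pow_eq_one (by rw [pow_two, h2])
  have h4 : orderOf k ∣ Nat.card p.ker := by
    have := orderOf_dvd_natCard (⟨k, hk⟩ : p.ker)
    rwa [← orderOf_coe] at this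
  have h5 : Nat.Coprime 2 (Nat.card p.ker) := Nat.coprime_two_left.2 h.odd
  exact orderOf_eq_one_iff.1 (Nat.eq_one_of_dvd_coprimes h5 h3 h4)

/-- if `p y` commutes with `p (t c)` then `y` commutes with `t c` -/
theorem comm_of (h : Mid p L K t) {c : Fin 3} {y : Y} (hy : p y * p (t c) = p (t c) * p y) : y * t c = t c * y := by
  have h1 : p (y * t c * y⁻¹ * (t c)⁻¹) = 1 := by
    rw [map_mul, map_mul, map_mul, map_inv, map_inv, hy]; group
  have h2 := h.kcent c _ h1 _ (h.mem c)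
  have h3 : y * t c * y⁻¹ * (t c)⁻¹ = 1 := by
    apply h.eq_one_of_sq h1
    have hi : (t c)⁻¹ = t c := inv_eq_of_mul_eq_one_left (h.sq c)
    set k := y * t c * y⁻¹ * (t c)⁻¹ with hk
    have e1 : k * t c = y * t c * y⁻¹ := by rw [hk]; group
    have e2 : (y * t c * y⁻¹) * (y * t c * y⁻¹) = 1 := by
      calc (y * t c * y⁻¹) * (y * t c * y⁻¹) = y * (t c * t c) * y⁻¹ := by group
        _ = 1 := by rw [h.sq]; group
    calc k * k = k * (k * (t c * t c)) := by rw [h.sq, mul_one]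
      _ = k * (k * t c) * t c := by group
      _ = k * (t c * k) * t c := by rw [h2]
      _ = (k * t c) * (k * t c) := by group
      _ = 1 := by rw [e1, e2]
  rw [← mul_inv_eq_iff_eq_mul]
  exact mul_inv_eq_one.1 h3

theorem tL (h : Mid p L K t) (c : Fin 3) : p (t c) ∈ L := h.le c (mem_map_of_mem p (h.mem c))

/-- standard position -/
theorem exists_conj [Finite P] (h : Mid p L K t) (hS : Std ρ dg std) (hQ : StdQ dg std) (θ : L ≃* P) :
    ∃ g : P, (∀ c, g * θ ⟨p (t c), h.tL c⟩ * g⁻¹ = ρ (dg c)) ∧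
      ∀ c, ∀ x : L, (x : X) ∈ (K c).map p ↔ g * θ x * g⁻¹ ∈ (std c).map ρ := by
  have htL : ∀ c, p (t c) ∈ L := h.tL
  let T : Fin 3 → L := fun c => ⟨p (t c), htL c⟩
  have hT2 : ∀ c, T c * T c = 1 := fun c => Subtype.ext (by
    change p (t c) * p (t c) = 1
    rw [← map_mul, h.sq, map_one])
  have hTm : T 0 * T 1 = T 2 := Subtype.ext (by
    change p (t 0) * p (t 1) = p (t 2)
    rw [← map_mul, h.mul])
  have hTc : T 0 * T 1 = T 1 * T 0 := Subtype.ext (by
    change p (t 0) * p (t 1) = p (t 1) * p (t 0)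
    rw [← map_mul, h.comm, map_mul])
  have hTne : ∀ c, θ (T c) ≠ 1 := fun c hc => h.ne c (congrArg Subtype.val ((map_eq_one_iff θ θ.injective).1 hc))
  have hT01 : θ (T 0) ≠ θ (T 1) := fun e => h.ne01 (congrArg Subtype.val (θ.injective e))
  obtain ⟨g, hg0, hg1⟩ := hS.conj (θ (T 0)) (θ (T 1)) (by rw [← map_mul, hT2, map_one])
    (by rw [← map_mul, hT2, map_one]) (hTne 0) (hTne 1) hT01 (by rw [← map_mul, hTc, map_mul])
  have hg2 : g * θ (T 2) * g⁻¹ = ρ (dg 2) := by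
    rw [← hTm, map_mul, ← hS.dg_mul, map_mul, ← hg0, ← hg1]; group
  have hgc : ∀ c, g * θ (T c) * g⁻¹ = ρ (dg c) := by
    intro c
    fin_cases c
    · exact hg0
    · exact hg1
    · exact hg2
  refine ⟨g, hgc, fun c => ?_⟩
  -- the image of `K c`
  let A : Subgroup P := (((K c).map p).subgroupOf L).map ((MulAut.conj g).toMonoidHom.comp θ.toMonoidHom)
  have hA : ∀ x : L, g * θ x * g⁻¹ ∈ A ↔ (x : X) ∈ (K c).map p := by
    intro x
    constructor
    · rintro ⟨y, hy, hyx⟩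
      have e : g * θ y * g⁻¹ = g * θ x * g⁻¹ := hyx
      rw [mul_left_inj, mul_right_inj] at e
      rw [← θ.injective e]
      exact mem_subgroupOf.1 hy
    · intro hx
      exact ⟨x, mem_subgroupOf.2 hx, rfl⟩
  have hAle : A ≤ (std c).map ρ := by
    apply hS.le c
    · rw [← map_commutator]
      congr 1
      apply map_injective L.subtype_injective
      rw [map_commutator, subgroupOf_map_subtype, inf_of_le_left (h.le c), ← map_commutator, h.perf c]
    · rintro _ ⟨x, hx, rfl⟩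
      rw [SetLike.mem_coe, mem_subgroupOf] at hx
      obtain ⟨k, hk, hkx⟩ := hx
      have e1 : x * T c = T c * x := Subtype.ext (by
        change (x : X) * p (t c) = p (t c) * x
        rw [← hkx, ← map_mul, h.cent c k hk, map_mul])
      change g * θ x * g⁻¹ * ρ (dg c) = ρ (dg c) * (g * θ x * g⁻¹)
      rw [← hgc c]
      calc g * θ x * g⁻¹ * (g * θ (T c) * g⁻¹) = g * (θ x * θ (T c)) * g⁻¹ := by group
        _ = g * (θ (T c) * θ x) * g⁻¹ := by rw [← map_mul, e1, map_mul]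
        _ = _ := by group
  -- `B ≤ std c` with `ρ B = A`
  let B : Subgroup S := std c ⊓ A.comap ρ
  have hBA : B.map ρ = A := by
    apply le_antisymm
    · rintro _ ⟨s, ⟨_, hs⟩, rfl⟩
      exact hs
    · intro a ha
      obtain ⟨s, hs, rfl⟩ := hAle ha
      exact ⟨s, ⟨hs, ha⟩, rfl⟩
  have hAA : ⁅A, A⁆ = A := by
    rw [← map_commutator]
    congr 1
    apply map_injective L.subtype_injective
    rw [map_commutator, subgroupOf_map_subtype, inf_of_le_left (h.le c), ← map_commutator, h.perf c]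
  have hBB : ⁅B, B⁆ = B := by
    apply le_antisymm (commutator_le_self _)
    intro b hb
    have h1 : ρ b ∈ (⁅B, B⁆ : Subgroup S).map ρ := by
      rw [map_commutator, hBA, hAA]
      exact hb.2
    obtain ⟨b', hb', e⟩ := h1
    have h2 : b' ∈ std c := (commutator_le_self B hb').1
    have h3 : ρ (b * b'⁻¹) = 1 := by rw [map_mul, map_inv, e, mul_inv_cancel]
    have h4 := hS.inj c (b * b'⁻¹) (mul_mem (S := Subgroup S) hb.1 (inv_mem h2)) h3
    rw [mul_inv_eq_one.1 h4]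
    exact hb'
  have hBn : ∀ s ∈ std c, ∀ a ∈ B, s * a * s⁻¹ ∈ B := by
    intro s hs a ha
    refine ⟨(std c).mul_mem ((std c).mul_mem hs ha.1) ((std c).inv_mem hs), ?_⟩
    -- lift
    let x : L := θ.symm (g⁻¹ * ρ s * g)
    have hx : g * θ x * g⁻¹ = ρ s := by
      rw [θ.apply_symm_apply]; group
    have hxT : x * T c = T c * x := by
      apply θ.injective
      rw [map_mul, map_mul]
      have e1 : θ x = g⁻¹ * ρ s * g := θ.apply_symm_apply _
      have e2 : θ (T c) = g⁻¹ * ρ (dg c) * g := by rw [← hgc c]; group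
      rw [e1, e2]
      calc g⁻¹ * ρ s * g * (g⁻¹ * ρ (dg c) * g) = g⁻¹ * (ρ s * ρ (dg c)) * g := by group
        _ = g⁻¹ * (ρ (dg c) * ρ s) * g := by rw [← map_mul, hQ.dcent c s hs, map_mul]
        _ = _ := by group
    obtain ⟨y, hy⟩ := h.surj x
    have hyt : y * t c = t c * y := h.comm_of (by
      rw [hy]; exact congrArg Subtype.val hxT)
    -- the element `a`
    have ha2 : ρ a ∈ A := ha.2
    obtain ⟨x', hx', hxa⟩ := ha2
    rw [SetLike.mem_coe, mem_subgroupOf] at hx'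
    obtain ⟨k, hk, hkx⟩ := hx'
    have e3 : g * θ x' * g⁻¹ = ρ a := hxa
    have e4 : ρ (s * a * s⁻¹) = g * θ (x * x' * x⁻¹) * g⁻¹ := by
      rw [map_mul, map_mul, map_inv, ← hx, ← e3, map_mul, map_mul, map_inv]; group
    change ρ (s * a * s⁻¹) ∈ A
    rw [e4, hA]
    refine ⟨y * k * y⁻¹, h.norm c y hyt k hk, ?_⟩
    rw [map_mul, map_mul, map_inv, hy, hkx]; rfl
  rcases hQ.qs c B inf_le_left hBB hBn with h0 | h0
  · exfalso
    have h1 : ρ (dg c) ∈ A := by
      rw [← hgc c, hA]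
      exact mem_map_of_mem p (h.mem c)
    rw [← hBA, h0, Subgroup.map_bot, mem_bot, ← hgc c] at h1
    apply hTne c
    have : θ (T c) = g⁻¹ * (g * θ (T c) * g⁻¹) * g := by group
    rw [this, h1]; group
  · intro x
    rw [← hA, ← hBA, h0]

/-- The positions are standard. -/
theorem pos [Finite P] (h : Mid p L K t) (hinj : ∀ c, ∀ k ∈ K c, p k = 1 → k = 1) (hS : Std ρ dg std)
    (hQ : StdQ dg std) (θ : L ≃* P) : Pos p L std K t where
  perf := h.perf
  le := h.le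
  mem := h.mem
  cent := h.cent
  sq := h.sq
  ne := h.ne
  ne01 := h.ne01
  comm := h.comm
  mul := h.mul
  kcent := h.kcent
  inj := hinj
  card := by
    intro c
    obtain ⟨g, -, hg⟩ := h.exists_conj hS hQ θ
    rw [← hS.card_map c]
    refine Nat.card_congr (Equiv.ofBijective
      (fun k : K c => (⟨g * θ ⟨p k, h.le c (mem_map_of_mem p k.2)⟩ * g⁻¹,
        (hg c ⟨p k, h.le c (mem_map_of_mem p k.2)⟩).1 (mem_map_of_mem p k.2)⟩ : (std c).map ρ)) ⟨?_, ?_⟩)
    · intro a b hab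
      have e : g * θ ⟨p a, h.le c (mem_map_of_mem p a.2)⟩ * g⁻¹ = g * θ ⟨p b, h.le c (mem_map_of_mem p b.2)⟩ * g⁻¹ :=
        congrArg Subtype.val hab
      rw [mul_left_inj, mul_right_inj] at e
      have e2 : p a = p b := congrArg Subtype.val (θ.injective e)
      have e3 : p ((a : Y) * (b : Y)⁻¹) = 1 := by rw [map_mul, map_inv, e2, mul_inv_cancel]
      exact Subtype.ext (mul_inv_eq_one.1 (hinj c _ (mul_mem a.2 (inv_mem b.2)) e3))
    · rintro ⟨a, ha⟩
      have e : g * θ (θ.symm (g⁻¹ * a * g)) * g⁻¹ = a := by rw [θ.apply_symm_apply]; group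
      have h1 : ((θ.symm (g⁻¹ * a * g) : L) : X) ∈ (K c).map p := by
        rw [hg c, e]; exact ha
      obtain ⟨k, hk, hk2⟩ := h1
      refine ⟨⟨k, hk⟩, Subtype.ext ?_⟩
      change g * θ ⟨p k, _⟩ * g⁻¹ = a
      rw [← e]
      congr 3
      exact Subtype.ext hk2

/-- `p J = L` -/
theorem map_JJ [Finite P] (h : Mid p L K t) (hS : Std ρ dg std) (hQ : StdQ dg std) (θ : L ≃* P) : (JJ K).map p = L := by
  apply le_antisymm
  · rw [map_le_iff_le_comap]
    exact JJ_le fun c => map_le_iff_le_comap.1 (h.le c)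
  obtain ⟨g, -, hg⟩ := h.exists_conj hS hQ θ
  let H : Subgroup P := (((JJ K).map p).subgroupOf L).map ((MulAut.conj g).toMonoidHom.comp θ.toMonoidHom)
  have h1 : H.comap ρ = ⊤ := hS.gen _ fun c s hs => by
    rw [mem_comap]
    have e : g * θ (θ.symm (g⁻¹ * ρ s * g)) * g⁻¹ = ρ s := by rw [θ.apply_symm_apply]; group
    have h2 := (hg c (θ.symm (g⁻¹ * ρ s * g))).2 (by rw [e]; exact mem_map_of_mem ρ hs)
    exact ⟨θ.symm (g⁻¹ * ρ s * g), mem_subgroupOf.2 (map_mono (le_JJ c) h2), e⟩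
  intro x hx
  obtain ⟨s, hs⟩ := hS.surj (g * θ ⟨x, hx⟩ * g⁻¹)
  have h3 : s ∈ H.comap ρ := by rw [h1]; exact mem_top _
  rw [mem_comap, hs] at h3
  obtain ⟨y, hy, hyx⟩ := h3
  have e : g * θ y * g⁻¹ = g * θ ⟨x, hx⟩ * g⁻¹ := hyx
  rw [mul_left_inj, mul_right_inj] at e
  have e2 : (y : X) = x := congrArg Subtype.val (θ.injective e)
  rw [← e2]
  exact mem_subgroupOf.1 hy

/-- 2-elements of the preimage of `L` lie in `J`. -/
theorem mem_JJ_of_two (h : Mid p L K t) (hJ : (JJ K).map p = L) {x : Y} (hx : p x ∈ L) (h2 : ∃ k : ℕ, x ^ 2 ^ k = 1) :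
    x ∈ JJ K := by
  rw [← hJ] at hx
  obtain ⟨j, hj, hjx⟩ := hx
  obtain ⟨k, hk⟩ := h2
  -- `x = g j` with `g ∈ ker p`
  set g := x * j⁻¹ with hg
  have hgp : p g = 1 := by rw [hg, map_mul, map_inv, hjx, mul_inv_cancel]
  have hc : Commute g j := h.JJ_comm hgp hj
  have e : x = g * j := by rw [hg]; group
  have h3 : g ^ 2 ^ k ∈ JJ K := by
    have : g ^ 2 ^ k = (j ^ 2 ^ k)⁻¹ := by
      rw [eq_inv_iff_mul_eq_one, ← hc.mul_pow, ← e, hk]
    rw [this]
    exact inv_mem (pow_mem hj _)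
  have h4 : g ∈ JJ K := by
    have h5 : Nat.Coprime (orderOf g) (2 ^ k) := by
      apply Nat.Coprime.pow_right
      have h6 : orderOf g ∣ Nat.card p.ker := by
        have := orderOf_dvd_natCard (⟨g, hgp⟩ : p.ker)
        rwa [← orderOf_coe] at this
      exact Nat.Coprime.coprime_dvd_left h6 (Nat.coprime_two_right.2 h.odd)
    obtain ⟨m, hm⟩ := exists_pow_eq_self_of_coprime h5.symm
    rw [← hm]
    exact pow_mem h3 _
  rw [e]
  exact mul_mem h4 hj

theorem JJ_twoGen (h : Mid p L K t) : TwoGen (JJ K) := twoGen_iSup h.gen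

/-- `J` is normal. -/
theorem JJ_normal (h : Mid p L K t) (hJ : (JJ K).map p = L) : (JJ K).Normal := by
  have key : ∀ y : Y, JJ K ≤ (JJ K).comap (MulAut.conj y).toMonoidHom := by
    intro y
    apply h.JJ_twoGen
    rintro x hx ⟨k, hk⟩
    apply h.mem_JJ_of_two hJ
    · change p (y * x * y⁻¹) ∈ L
      rw [map_mul, map_mul, map_inv]
      apply h.normal.conj_mem
      rw [← hJ]
      exact mem_map_of_mem p hx
    · refine ⟨k, ?_⟩
      change (y * x * y⁻¹) ^ 2 ^ k = 1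
      rw [conj_pow, hk]; group
  exact ⟨fun x hx y => key y hx⟩

end Mid

/-- All involutions of `P` are conjugate to `ρ (dg 0)`. -/
theorem Std.conj_one [Finite P] (hS : Std ρ dg std) (hne : ∀ c, ρ (dg c) ≠ 1) (hsq : ∀ c, ρ (dg c) * ρ (dg c) = 1)
    {u : P} (hu : u * u = 1) (hu1 : u ≠ 1) : ∃ g : P, g * u * g⁻¹ = ρ (dg 0) := by
  have : Fact (Nat.Prime 2) := ⟨Nat.prime_two⟩
  suffices h : ∃ v : P, v * v = 1 ∧ v ≠ 1 ∧ u ≠ v ∧ u * v = v * u by
    obtain ⟨v, hv, hv1, huv, hc⟩ := h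
    obtain ⟨g, hg, -⟩ := hS.conj u v hu hv hu1 hv1 huv hc
    exact ⟨g, hg⟩
  -- a Sylow subgroup containing `u`
  have hz : IsPGroup 2 (zpowers u) := by
    intro x
    refine ⟨1, ?_⟩
    obtain ⟨x, k, rfl⟩ := x
    apply Subtype.ext
    change (u ^ k) ^ 2 ^ 1 = 1
    rw [pow_one, ← zpow_natCast, ← zpow_mul, mul_comm, zpow_mul]
    have : u ^ ((2 : ℕ) : ℤ) = 1 := by rw [zpow_natCast, pow_two, hu]
    rw [this, one_zpow]
  obtain ⟨T, hT⟩ := hz.exists_le_sylow
  have huT : u ∈ (T : Subgroup P) := hT (mem_zpowers u)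
  -- the four-group
  have hc01 : ρ (dg 0) * ρ (dg 1) = ρ (dg 1) * ρ (dg 0) := by
    have h2 := hsq 2
    rw [← hS.dg_mul, map_mul] at h2
    have h0 : (ρ (dg 0))⁻¹ = ρ (dg 0) := inv_eq_of_mul_eq_one_left (hsq 0)
    have h1 : (ρ (dg 1))⁻¹ = ρ (dg 1) := inv_eq_of_mul_eq_one_left (hsq 1)
    rw [mul_eq_one_iff_eq_inv, mul_inv_rev, h0, h1] at h2
    exact h2
  have h01 : ρ (dg 0) ≠ ρ (dg 1) := by
    intro e
    apply hne 2
    rw [← hS.dg_mul, map_mul, e, hsq]
  have hV : IsPGroup 2 (closure {ρ (dg 0), ρ (dg 1)} : Subgroup P) := by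
    have hcomm : IsMulCommutative (closure {ρ (dg 0), ρ (dg 1)} : Subgroup P) := by
      apply Subgroup.isMulCommutative_closure
      intro x hx y hy
      rcases hx with rfl | rfl <;> rcases hy with rfl | rfl
      · rfl
      · exact hc01
      · exact hc01.symm
      · rfl
    intro x
    refine ⟨1, Subtype.ext ?_⟩
    rw [pow_one]
    change (x : P) ^ 2 = 1
    refine closure_induction (p := fun x _ => x ^ 2 = 1) ?_ ?_ ?_ ?_ x.2
    · rintro y (rfl | rfl)
      · rw [pow_two, hsq]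
      · rw [pow_two, hsq]
    · exact one_pow _
    · intro y z hy hz h1 h2
      have : y * z = z * y := congrArg Subtype.val (hcomm.is_comm.comm ⟨y, hy⟩ ⟨z, hz⟩)
      have hc : Commute y z := this
      rw [hc.mul_pow, h1, h2, one_mul]
    · intro y hy h1
      rw [inv_pow, h1, inv_one]
  obtain ⟨T', hT'⟩ := hV.exists_le_sylow
  obtain ⟨g, hg⟩ := MulAction.exists_smul_eq P T' T
  have hmem : ∀ x ∈ closure {ρ (dg 0), ρ (dg 1)}, g * x * g⁻¹ ∈ (T : Subgroup P) := by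
    intro x hx
    rw [← hg]
    exact ⟨x, hT' hx, rfl⟩
  have ha := hmem (ρ (dg 0)) (subset_closure (by simp))
  have hb := hmem (ρ (dg 1)) (subset_closure (by simp))
  -- a central involution of `T`
  have hTn : Nontrivial (T : Subgroup P) := by
    refine ⟨⟨⟨u, huT⟩, 1, fun e => hu1 (congrArg Subtype.val e)⟩⟩
  have hZn : Nontrivial (center (T : Subgroup P)) := T.isPGroup'.center_nontrivial
  have hZp : IsPGroup 2 (center (T : Subgroup P)) := T.isPGroup'.to_subgroup _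
  have h2Z : 2 ∣ Nat.card (center (T : Subgroup P)) := by
    obtain ⟨n, hn⟩ := (IsPGroup.iff_card).1 hZp
    rw [hn]
    apply dvd_pow_self
    rintro rfl
    rw [pow_zero] at hn
    exact absurd hn (Finite.one_lt_card (α := center (T : Subgroup P))).ne'
  obtain ⟨z, hz2⟩ := exists_prime_orderOf_dvd_card' 2 h2Z
  have hz1 : ((z : (T : Subgroup P)) : P) * ((z : (T : Subgroup P)) : P) = 1 := by
    have h1 := pow_orderOf_eq_one z
    rw [hz2, pow_two] at h1
    exact congrArg (fun y : center (T : Subgroup P) => (((y : (T : Subgroup P)) : P))) h1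
  have hzne : ((z : (T : Subgroup P)) : P) ≠ 1 := by
    intro e
    have : z = 1 := Subtype.ext (Subtype.ext e)
    rw [this, orderOf_one] at hz2
    exact absurd hz2 (by norm_num)
  have hzc : ∀ y ∈ (T : Subgroup P), y * ((z : (T : Subgroup P)) : P) = ((z : (T : Subgroup P)) : P) * y := by
    intro y hy
    exact congrArg Subtype.val (mem_center_iff.1 z.2 ⟨y, hy⟩)
  by_cases huz : u = ((z : (T : Subgroup P)) : P)
  · -- `u` is central in `T`
    have hcj : ∀ c, (g * ρ (dg c) * g⁻¹) * (g * ρ (dg c) * g⁻¹) = 1 ∧ g * ρ (dg c) * g⁻¹ ≠ 1 := by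
      intro c
      refine ⟨?_, ?_⟩
      · calc (g * ρ (dg c) * g⁻¹) * (g * ρ (dg c) * g⁻¹) = g * (ρ (dg c) * ρ (dg c)) * g⁻¹ := by group
          _ = 1 := by rw [hsq]; group
      · intro e
        apply hne c
        have : ρ (dg c) = g⁻¹ * (g * ρ (dg c) * g⁻¹) * g := by group
        rw [this, e]; group
    by_cases hu0 : u = g * ρ (dg 0) * g⁻¹
    · refine ⟨g * ρ (dg 1) * g⁻¹, (hcj 1).1, (hcj 1).2, ?_, ?_⟩
      · rw [hu0]
        intro e
        rw [mul_left_inj, mul_right_inj] at e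
        exact h01 e
      · rw [huz]; exact (hzc _ hb).symm
    · exact ⟨g * ρ (dg 0) * g⁻¹, (hcj 0).1, (hcj 0).2, hu0, by rw [huz]; exact (hzc _ ha).symm⟩
  · exact ⟨_, hz1, hzne, huz, hzc u huT⟩

namespace Mid

/-- the order of the image of `K c` -/
theorem card_dvd [Finite P] (h : Mid p L K t) (hS : Std ρ dg std) (θ : L ≃* P) (c : Fin 3) :
    Nat.card ((K c).map p) ∣ Nat.card (std c) := by
  let T : Fin 3 → L := fun c => ⟨p (t c), h.tL c⟩
  have hT2 : ∀ c, T c * T c = 1 := fun c => Subtype.ext (by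
    change p (t c) * p (t c) = 1
    rw [← map_mul, h.sq, map_one])
  have hTm : T 0 * T 1 = T 2 := Subtype.ext (by
    change p (t 0) * p (t 1) = p (t 2)
    rw [← map_mul, h.mul])
  have hTc : T 0 * T 1 = T 1 * T 0 := Subtype.ext (by
    change p (t 0) * p (t 1) = p (t 1) * p (t 0)
    rw [← map_mul, h.comm, map_mul])
  have hTne : ∀ c, θ (T c) ≠ 1 := fun c hc => h.ne c (congrArg Subtype.val ((map_eq_one_iff θ θ.injective).1 hc))
  have hT01 : θ (T 0) ≠ θ (T 1) := fun e => h.ne01 (congrArg Subtype.val (θ.injective e))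
  obtain ⟨g, hg0, hg1⟩ := hS.conj (θ (T 0)) (θ (T 1)) (by rw [← map_mul, hT2, map_one])
    (by rw [← map_mul, hT2, map_one]) (hTne 0) (hTne 1) hT01 (by rw [← map_mul, hTc, map_mul])
  have hg2 : g * θ (T 2) * g⁻¹ = ρ (dg 2) := by
    rw [← hTm, map_mul, ← hS.dg_mul, map_mul, ← hg0, ← hg1]; group
  have hgc : ∀ c, g * θ (T c) * g⁻¹ = ρ (dg c) := by
    intro c
    fin_cases c
    · exact hg0
    · exact hg1
    · exact hg2
  let A : Subgroup P := (((K c).map p).subgroupOf L).map ((MulAut.conj g).toMonoidHom.comp θ.toMonoidHom)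
  have hAle : A ≤ (std c).map ρ := by
    apply hS.le c
    · rw [← map_commutator]
      congr 1
      apply map_injective L.subtype_injective
      rw [map_commutator, subgroupOf_map_subtype, inf_of_le_left (h.le c), ← map_commutator, h.perf c]
    · rintro _ ⟨x, hx, rfl⟩
      rw [SetLike.mem_coe, mem_subgroupOf] at hx
      obtain ⟨k, hk, hkx⟩ := hx
      have e1 : x * T c = T c * x := Subtype.ext (by
        change (x : X) * p (t c) = p (t c) * x
        rw [← hkx, ← map_mul, h.cent c k hk, map_mul])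
      change g * θ x * g⁻¹ * ρ (dg c) = ρ (dg c) * (g * θ x * g⁻¹)
      rw [← hgc c]
      calc g * θ x * g⁻¹ * (g * θ (T c) * g⁻¹) = g * (θ x * θ (T c)) * g⁻¹ := by group
        _ = g * (θ (T c) * θ x) * g⁻¹ := by rw [← map_mul, e1, map_mul]
        _ = _ := by group
  have hA : Nat.card ((K c).map p) = Nat.card A := by
    have h1 : Nat.card A = Nat.card (((K c).map p).subgroupOf L) := by
      refine card_map_of_injective ?_
      exact (MulAut.conj g).injective.comp θ.injective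
    rw [h1]
    exact (Nat.card_congr (subgroupOfEquivOfLe (h.le c)).toEquiv).symm
  rw [hA, ← hS.card_map]
  exact card_dvd_of_le hAle

/-- Elements of `K c` commuting with `t c'` have order dividing that of the torus. -/
theorem order_dvd [Finite P] (h : Mid p L K t) (hS : Std ρ dg std) (hQ : StdQ dg std) (θ : L ≃* P) {c c' : Fin 3}
    {T : Subgroup S} (hT : ∀ s ∈ std c, ρ s * ρ (dg c') = ρ (dg c') * ρ s → s ∈ T) {k : Y} (hk : k ∈ K c)
    (hkt : k * t c' = t c' * k) : orderOf (p k) ∣ Nat.card T := by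
  obtain ⟨g, hgc, hg⟩ := h.exists_conj hS hQ θ
  have hkL : p k ∈ L := h.le c (mem_map_of_mem p hk)
  obtain ⟨s, hs, hsk⟩ := (hg c ⟨p k, hkL⟩).1 (mem_map_of_mem p hk)
  have e0 : (⟨p k, hkL⟩ : L) * ⟨p (t c'), h.tL c'⟩ = ⟨p (t c'), h.tL c'⟩ * ⟨p k, hkL⟩ := Subtype.ext (by
    change p k * p (t c') = p (t c') * p k
    rw [← map_mul, hkt, map_mul])
  have h1 : s ∈ T := by
    apply hT s hs
    rw [hsk, ← hgc c']
    calc g * θ ⟨p k, hkL⟩ * g⁻¹ * (g * θ ⟨p (t c'), h.tL c'⟩ * g⁻¹) =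
        g * (θ ⟨p k, hkL⟩ * θ ⟨p (t c'), h.tL c'⟩) * g⁻¹ := by group
      _ = g * (θ ⟨p (t c'), h.tL c'⟩ * θ ⟨p k, hkL⟩) * g⁻¹ := by rw [← map_mul, e0, map_mul]
      _ = _ := by group
  have h2 : orderOf (p k) = orderOf (ρ s) := by
    rw [hsk]
    have e1 : g * θ ⟨p k, hkL⟩ * g⁻¹ = MulAut.conj g (θ ⟨p k, hkL⟩) := rfl
    rw [e1, (MulAut.conj g).orderOf_eq, θ.orderOf_eq, ← orderOf_coe]
  have h3 : orderOf (ρ s) ∣ orderOf s := orderOf_map_dvd ρ s
  rw [h2]
  refine h3.trans ?_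
  have := orderOf_dvd_natCard (⟨s, h1⟩ : T)
  rwa [← orderOf_coe] at this

/-- A central element of odd order of `K c` lies in the kernel. -/
theorem eq_one_of_central [Finite P] (h : Mid p L K t) (hS : Std ρ dg std) (hQ : StdQ dg std) (θ : L ≃* P) {c : Fin 3}
    (hZ : ∀ s ∈ std c, (∀ s' ∈ std c, s * s' = s' * s) → Odd (orderOf s) → s = 1) {k : Y} (hk : k ∈ K c)
    (hkc : ∀ k' ∈ K c, k * k' = k' * k) (hodd : Odd (orderOf k)) : p k = 1 := by
  obtain ⟨g, hgc, hg⟩ := h.exists_conj hS hQ θ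
  have hkL : p k ∈ L := h.le c (mem_map_of_mem p hk)
  obtain ⟨s, hs, hsk⟩ := (hg c ⟨p k, hkL⟩).1 (mem_map_of_mem p hk)
  have h2 : orderOf (p k) = orderOf s := by
    have h3 : orderOf (p k) = orderOf (ρ s) := by
      rw [hsk]
      have e1 : g * θ ⟨p k, hkL⟩ * g⁻¹ = MulAut.conj g (θ ⟨p k, hkL⟩) := rfl
      rw [e1, (MulAut.conj g).orderOf_eq, θ.orderOf_eq, ← orderOf_coe]
    rw [h3]
    apply Nat.dvd_antisymm (orderOf_map_dvd ρ s)
    apply orderOf_dvd_of_pow_eq_one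
    apply hS.inj c _ (pow_mem hs _)
    rw [map_pow, pow_orderOf_eq_one]
  have h1 : s = 1 := by
    apply hZ s hs
    · intro s' hs'
      have e : g * θ (θ.symm (g⁻¹ * ρ s' * g)) * g⁻¹ = ρ s' := by rw [θ.apply_symm_apply]; group
      obtain ⟨k', hk', hkk'⟩ := (hg c (θ.symm (g⁻¹ * ρ s' * g))).2 (by rw [e]; exact mem_map_of_mem ρ hs')
      have e2 : (⟨p k, hkL⟩ : L) * θ.symm (g⁻¹ * ρ s' * g) = θ.symm (g⁻¹ * ρ s' * g) * ⟨p k, hkL⟩ := Subtype.ext (by
        change p k * (θ.symm (g⁻¹ * ρ s' * g) : X) = (θ.symm (g⁻¹ * ρ s' * g) : X) * p k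
        rw [← hkk', ← map_mul, hkc k' hk', map_mul])
      have e3 : ρ (s * s' * s⁻¹ * s'⁻¹) = 1 := by
        rw [map_mul, map_mul, map_mul, map_inv, map_inv, hsk, ← e]
        have e4 : θ ⟨p k, hkL⟩ * θ (θ.symm (g⁻¹ * ρ s' * g)) = θ (θ.symm (g⁻¹ * ρ s' * g)) * θ ⟨p k, hkL⟩ :=
          (map_mul θ _ _).symm.trans ((congrArg θ e2).trans (map_mul θ _ _))
        calc g * θ ⟨p k, hkL⟩ * g⁻¹ * (g * θ (θ.symm (g⁻¹ * ρ s' * g)) * g⁻¹) * (g * θ ⟨p k, hkL⟩ * g⁻¹)⁻¹ *
            (g * θ (θ.symm (g⁻¹ * ρ s' * g)) * g⁻¹)⁻¹ =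
            g * (θ ⟨p k, hkL⟩ * θ (θ.symm (g⁻¹ * ρ s' * g))) * (θ ⟨p k, hkL⟩)⁻¹ * (θ (θ.symm (g⁻¹ * ρ s' * g)))⁻¹ * g⁻¹ := by
              group
          _ = 1 := by rw [e4]; group
      have e5 := hS.inj c _ ((std c).mul_mem ((std c).mul_mem ((std c).mul_mem hs hs') ((std c).inv_mem hs))
        ((std c).inv_mem hs')) e3
      have e6 : s * s' * s⁻¹ = s' := mul_inv_eq_one.1 e5
      exact mul_inv_eq_iff_eq_mul.1 e6
    · rw [← h2]
      exact Odd.of_dvd_nat hodd (orderOf_map_dvd p k)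
  rw [h1, orderOf_one] at h2
  exact orderOf_eq_one_iff.1 h2

/-- `Y = J · C_Y(t c)`. -/
theorem exists_mul [Finite P] (h : Mid p L K t) (hS : Std ρ dg std) (hQ : StdQ dg std) (θ : L ≃* P) (c : Fin 3) (y : Y) :
    ∃ j ∈ JJ K, (j * y) * t c = t c * (j * y) := by
  have hJ := h.map_JJ hS hQ θ
  have hn := h.JJ_normal hJ
  have htL : ∀ c, p (t c) ∈ L := fun c => h.le c (mem_map_of_mem p (h.mem c))
  let T : Fin 3 → L := fun c => ⟨p (t c), htL c⟩
  have hT2 : ∀ c, T c * T c = 1 := fun c => Subtype.ext (by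
    change p (t c) * p (t c) = 1
    rw [← map_mul, h.sq, map_one])
  have hTm : T 0 * T 1 = T 2 := Subtype.ext (by
    change p (t 0) * p (t 1) = p (t 2)
    rw [← map_mul, h.mul])
  have hTc : T 0 * T 1 = T 1 * T 0 := Subtype.ext (by
    change p (t 0) * p (t 1) = p (t 1) * p (t 0)
    rw [← map_mul, h.comm, map_mul])
  have hTne : ∀ c, θ (T c) ≠ 1 := fun c hc => h.ne c (congrArg Subtype.val ((map_eq_one_iff θ θ.injective).1 hc))
  have hT01 : θ (T 0) ≠ θ (T 1) := fun e => h.ne01 (congrArg Subtype.val (θ.injective e))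
  obtain ⟨g, hg0, hg1⟩ := hS.conj (θ (T 0)) (θ (T 1)) (by rw [← map_mul, hT2, map_one])
    (by rw [← map_mul, hT2, map_one]) (hTne 0) (hTne 1) hT01 (by rw [← map_mul, hTc, map_mul])
  have hg2 : g * θ (T 2) * g⁻¹ = ρ (dg 2) := by
    rw [← hTm, map_mul, ← hS.dg_mul, map_mul, ← hg0, ← hg1]; group
  have hgc : ∀ c, g * θ (T c) * g⁻¹ = ρ (dg c) := by
    intro c
    fin_cases c
    · exact hg0
    · exact hg1
    · exact hg2
  have hsq : ∀ c, ρ (dg c) * ρ (dg c) = 1 := by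
    intro c
    rw [← hgc c]
    calc g * θ (T c) * g⁻¹ * (g * θ (T c) * g⁻¹) = g * (θ (T c) * θ (T c)) * g⁻¹ := by group
      _ = 1 := by rw [← map_mul, hT2, map_one]; group
  have hne : ∀ c, ρ (dg c) ≠ 1 := by
    intro c e
    rw [← hgc c] at e
    apply hTne c
    have : θ (T c) = g⁻¹ * (g * θ (T c) * g⁻¹) * g := by group
    rw [this, e]; group
  -- the conjugate
  have htJ : t c ∈ JJ K := le_JJ c (h.mem c)
  have hyJ : y * t c * y⁻¹ ∈ JJ K := hn.conj_mem _ htJ y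
  have hyL : p (y * t c * y⁻¹) ∈ L := by rw [← hJ]; exact mem_map_of_mem p hyJ
  let U : L := ⟨p (y * t c * y⁻¹), hyL⟩
  have hU2 : U * U = 1 := Subtype.ext (by
    change p (y * t c * y⁻¹) * p (y * t c * y⁻¹) = 1
    rw [← map_mul]
    have : y * t c * y⁻¹ * (y * t c * y⁻¹) = y * (t c * t c) * y⁻¹ := by group
    rw [this, h.sq, mul_one, mul_inv_cancel, map_one])
  have hU1 : θ U ≠ 1 := by
    intro e
    have e1 : p (y * t c * y⁻¹) = 1 := congrArg Subtype.val ((map_eq_one_iff θ θ.injective).1 e)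
    apply h.ne c
    rw [map_mul, map_mul, map_inv] at e1
    have : p (t c) = (p y)⁻¹ * (p y * p (t c) * (p y)⁻¹) * p y := by group
    rw [this, e1]; group
  obtain ⟨a, ha⟩ := hS.conj_one hne hsq (u := θ U) (by rw [← map_mul, hU2, map_one]) hU1
  obtain ⟨b, hb⟩ := hS.conj_one hne hsq (u := θ (T c)) (by rw [← map_mul, hT2, map_one]) (hTne c)
  -- `b⁻¹ a` moves `θ U` to `θ (T c)`
  obtain ⟨j, hj, hjp⟩ : (θ.symm (b⁻¹ * a) : X) ∈ (JJ K).map p := by rw [hJ]; exact (θ.symm (b⁻¹ * a)).2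
  refine ⟨j, hj, ?_⟩
  apply h.comm_of
  have e1 : θ.symm (b⁻¹ * a) * U * (θ.symm (b⁻¹ * a))⁻¹ = T c := by
    apply θ.injective
    rw [map_mul, map_mul, map_inv, θ.apply_symm_apply]
    calc b⁻¹ * a * θ U * (b⁻¹ * a)⁻¹ = b⁻¹ * (a * θ U * a⁻¹) * b := by group
      _ = b⁻¹ * (b * θ (T c) * b⁻¹) * b := by rw [ha, hb]
      _ = θ (T c) := by group
  have e2 : (θ.symm (b⁻¹ * a) : X) * p (y * t c * y⁻¹) * (θ.symm (b⁻¹ * a) : X)⁻¹ = p (t c) := congrArg Subtype.val e1
  rw [← hjp, map_mul, map_mul, map_inv] at e2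
  rw [← mul_inv_eq_iff_eq_mul, map_mul, mul_inv_rev]
  calc p j * p y * p (t c) * ((p y)⁻¹ * (p j)⁻¹) = p j * (p y * p (t c) * (p y)⁻¹) * (p j)⁻¹ := by group
    _ = p (t c) := e2

end Mid

end

end Cfsg.Agent.LFourB.RB
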