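import Cfsg.Agent.LThreeExt.Num

/-!
# Three `SL₂`'s of a central extension of `PSL₃(q)`, `PSU₃(q)` in standard position

`Std ρ dg std`: the facts used on `ρ : S → P` (`S = SL₃(q)` or `SU₃(q)`, `P = S / Z(S)`).
`Pos`: `p : Y → X` a homomorphism with odd kernel, `L ⊴ X`, `L ≃* P`, three perfect subgroups `K c ≤ Y` centralising
commuting involutions `t c`, centralised by `ker p`, of the order of `std c`.
`Pos.exists_hom`: a homomorphism `φ : S → Y` with central kernel and `φ (std c) = K c`.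
-/

set_option autoImplicit false

namespace Cfsg.Agent.LFourB.RB

open Subgroup Cfsg.Agent.LThreeExt

section

variable {S P : Type*} [Group S] [Group P]

/-- facts on `ρ : S → P = S / Z(S)` -/
structure Std (ρ : S →* P) (dg : Fin 3 → S) (std : Fin 3 → Subgroup S) : Prop where
  surj : Function.Surjective ρ
  ker : ρ.ker ≤ center S
  perf : commutator S = ⊤
  /-- two distinct commuting involutions of `P` are conjugate to `ρ (dg 0)`, `ρ (dg 1)` -/
  conj : ∀ u v : P, u * u = 1 → v * v = 1 → u ≠ 1 → v ≠ 1 → u ≠ v → u * v = v * u →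
    ∃ g : P, g * u * g⁻¹ = ρ (dg 0) ∧ g * v * g⁻¹ = ρ (dg 1)
  dg_mul : dg 0 * dg 1 = dg 2
  /-- a perfect subgroup of the centralizer of `ρ (dg c)` is contained in the standard `SL₂` -/
  le : ∀ c, ∀ A : Subgroup P, ⁅A, A⁆ = A → (∀ a ∈ A, a * ρ (dg c) = ρ (dg c) * a) → A ≤ (std c).map ρ
  inj : ∀ c, ∀ s ∈ std c, ρ s = 1 → s = 1
  gen : ∀ H : Subgroup S, (∀ c, std c ≤ H) → H = ⊤

theorem Std.card_map {ρ : S →* P} {dg : Fin 3 → S} {std : Fin 3 → Subgroup S} (h : Std ρ dg std) (c : Fin 3) :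
    Nat.card ((std c).map ρ : Subgroup P) = Nat.card (std c) := by
  symm
  refine Nat.card_congr (Equiv.ofBijective (fun s : std c => (⟨ρ s, mem_map_of_mem ρ s.2⟩ : (std c).map ρ)) ⟨?_, ?_⟩)
  · intro s t hst
    have h1 : ρ s = ρ t := congrArg Subtype.val hst
    have h2 : ρ ((s : S) * (t : S)⁻¹) = 1 := by rw [map_mul, map_inv, h1, mul_inv_cancel]
    have h3 := h.inj c _ (mul_mem s.2 (inv_mem t.2)) h2
    exact Subtype.ext (mul_inv_eq_one.1 h3)
  · rintro ⟨_, s, hs, rfl⟩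
    exact ⟨⟨s, hs⟩, rfl⟩

end

section Pos

variable {S P X Y : Type*} [Group S] [Group P] [Group X] [Group Y]

/-- `K c ≤ Y` perfect in the preimage of `L ≃* P`. -/
structure Pos (p : Y →* X) (L : Subgroup X) (std : Fin 3 → Subgroup S) (K : Fin 3 → Subgroup Y) (t : Fin 3 → Y) : Prop where
  perf : ∀ c, ⁅K c, K c⁆ = K c
  le : ∀ c, (K c).map p ≤ L
  mem : ∀ c, t c ∈ K c
  cent : ∀ c, ∀ k ∈ K c, k * t c = t c * k
  sq : ∀ c, t c * t c = 1
  ne : ∀ c, p (t c) ≠ 1
  ne01 : p (t 0) ≠ p (t 1)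
  comm : t 0 * t 1 = t 1 * t 0
  mul : t 0 * t 1 = t 2
  kcent : ∀ c, ∀ g ∈ p.ker, ∀ k ∈ K c, g * k = k * g
  inj : ∀ c, ∀ k ∈ K c, p k = 1 → k = 1
  card : ∀ c, Nat.card (K c) = Nat.card (std c)

variable {p : Y →* X} {L : Subgroup X} {std : Fin 3 → Subgroup S} {K : Fin 3 → Subgroup Y} {t : Fin 3 → Y}
  {ρ : S →* P} {dg : Fin 3 → S}

/-- the subgroup generated by the three `K c` -/
def JJ (K : Fin 3 → Subgroup Y) : Subgroup Y := ⨆ c, K c

theorem le_JJ (c : Fin 3) : K c ≤ JJ K := le_iSup K c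

theorem JJ_le {H : Subgroup Y} (h : ∀ c, K c ≤ H) : JJ K ≤ H := iSup_le h

theorem Pos.JJ_perfect (h : Pos p L std K t) : ⁅JJ K, JJ K⁆ = JJ K := by
  apply le_antisymm (commutator_le_self _)
  refine iSup_le fun c => ?_
  rw [← h.perf c]
  exact commutator_mono (le_JJ c) (le_JJ c)

theorem Pos.map_JJ_le (h : Pos p L std K t) : (JJ K).map p ≤ L := by
  rw [map_le_iff_le_comap]
  exact JJ_le fun c => map_le_iff_le_comap.1 (h.le c)

theorem Pos.JJ_comm (h : Pos p L std K t) {g : Y} (hg : p g = 1) {j : Y} (hj : j ∈ JJ K) : g * j = j * g := by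
  have h1 : JJ K ≤ centralizer ({g} : Set Y) := JJ_le fun c k hk => by
    rw [mem_centralizer_singleton_iff]
    exact (h.kcent c g hg k hk).symm
  exact (mem_centralizer_singleton_iff.1 (h1 hj)).symm

/-- standard position: there is a homomorphism `π : JJ K → P` with `π (K c) = ρ (std c)` and kernel `JJ K ∩ ker p`. -/
theorem Pos.exists_pi [Finite P] [Finite Y] (h : Pos p L std K t) (hS : Std ρ dg std) (θ : L ≃* P) :
    ∃ π : JJ K →* P, Function.Surjective π ∧ (∀ j : JJ K, π j = 1 ↔ p j = 1) ∧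
      ∀ c, ((K c).subgroupOf (JJ K)).map π = (std c).map ρ := by
  -- the homomorphism to `P`
  let f : JJ K →* P := θ.toMonoidHom.comp ((p.comp (JJ K).subtype).codRestrict L (fun j => h.map_JJ_le ⟨j, j.2, rfl⟩))
  have hf1 : ∀ j : JJ K, f j = 1 ↔ p j = 1 := by
    intro j
    have e : f j = θ ⟨p j, h.map_JJ_le ⟨j, j.2, rfl⟩⟩ := rfl
    rw [e, map_eq_one_iff θ θ.injective]
    exact ⟨fun h => congrArg Subtype.val h, fun h => Subtype.ext h⟩
  let T : Fin 3 → JJ K := fun c => ⟨t c, le_JJ c (h.mem c)⟩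
  have hT2 : ∀ c, T c * T c = 1 := fun c => Subtype.ext (h.sq c)
  have hTm : T 0 * T 1 = T 2 := Subtype.ext h.mul
  have hTc : T 0 * T 1 = T 1 * T 0 := Subtype.ext h.comm
  have hTne : ∀ c, f (T c) ≠ 1 := fun c hc => h.ne c ((hf1 _).1 hc)
  have hT01 : f (T 0) ≠ f (T 1) := by
    intro e
    have e1 : f (T 0 * (T 1)⁻¹) = 1 := by rw [map_mul, map_inv, e, mul_inv_cancel]
    have e2 := (hf1 _).1 e1
    have e3 : p (t 0) * (p (t 1))⁻¹ = 1 := by
      have : ((T 0 * (T 1)⁻¹ : JJ K) : Y) = t 0 * (t 1)⁻¹ := rfl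
      rw [this, map_mul, map_inv] at e2
      exact e2
    exact h.ne01 (mul_inv_eq_one.1 e3)
  obtain ⟨g, hg0, hg1⟩ := hS.conj (f (T 0)) (f (T 1)) (by rw [← map_mul, hT2, map_one])
    (by rw [← map_mul, hT2, map_one]) (hTne 0) (hTne 1) hT01 (by rw [← map_mul, hTc, map_mul])
  let π : JJ K →* P := (MulAut.conj g).toMonoidHom.comp f
  have hπv : ∀ j, π j = g * f j * g⁻¹ := fun j => rfl
  have hπ1 : ∀ j : JJ K, π j = 1 ↔ p j = 1 := by
    intro j
    rw [hπv, ← hf1]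
    constructor
    · intro e
      have : f j = g⁻¹ * (g * f j * g⁻¹) * g := by group
      rw [this, e]; group
    · intro e
      rw [e]; group
  have hπt : ∀ c, π (T c) = ρ (dg c) := by
    intro c
    have e0 : π (T 0) = ρ (dg 0) := hg0
    have e1 : π (T 1) = ρ (dg 1) := hg1
    have e2 : π (T 2) = ρ (dg 2) := by
      rw [← hTm, map_mul, e0, e1, ← map_mul, hS.dg_mul]
    fin_cases c
    · exact e0
    · exact e1
    · exact e2
  have hstd : ∀ c, ((K c).subgroupOf (JJ K)).map π = (std c).map ρ := by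
    intro c
    have hle : ((K c).subgroupOf (JJ K)).map π ≤ (std c).map ρ := by
      apply hS.le c
      · rw [← map_commutator]
        congr 1
        apply map_injective (JJ K).subtype_injective
        rw [map_commutator, subgroupOf_map_subtype, inf_of_le_left (le_JJ c), h.perf c]
      · rintro _ ⟨a, ha, rfl⟩
        rw [← hπt c, ← map_mul, ← map_mul]
        congr 1
        exact Subtype.ext (h.cent c a (mem_subgroupOf.1 ha))
    have hcard : Nat.card (((K c).subgroupOf (JJ K)).map π : Subgroup P) = Nat.card ((std c).map ρ : Subgroup P) := by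
      rw [hS.card_map, ← h.card c]
      symm
      refine Nat.card_congr (Equiv.ofBijective
        (fun k : K c => (⟨π ⟨k, le_JJ c k.2⟩, mem_map_of_mem π (mem_subgroupOf.2 k.2)⟩ :
          ((K c).subgroupOf (JJ K)).map π)) ⟨?_, ?_⟩)
      · intro a b hab
        have h1 : π ⟨a, le_JJ c a.2⟩ = π ⟨b, le_JJ c b.2⟩ := congrArg Subtype.val hab
        have h2 : π (⟨a, le_JJ c a.2⟩ * ⟨b, le_JJ c b.2⟩⁻¹) = 1 := by rw [map_mul, map_inv, h1, mul_inv_cancel]
        have h3 := (hπ1 _).1 h2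
        have h4 := h.inj c ((a : Y) * (b : Y)⁻¹) (mul_mem a.2 (inv_mem b.2)) h3
        exact Subtype.ext (mul_inv_eq_one.1 h4)
      · rintro ⟨_, a, ha, rfl⟩
        exact ⟨⟨a, mem_subgroupOf.1 ha⟩, rfl⟩
    exact eq_of_le_of_card_ge hle hcard.ge
  refine ⟨π, ?_, hπ1, hstd⟩
  rw [← MonoidHom.range_eq_top]
  have h1 : (π.range).comap ρ = ⊤ := hS.gen _ fun c => by
    rw [← map_le_iff_le_comap, ← hstd c]
    exact map_le_range _ _
  rw [eq_top_iff]
  intro y _
  obtain ⟨s, rfl⟩ := hS.surj y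
  have : s ∈ (π.range).comap ρ := by rw [h1]; exact mem_top _
  exact this

/-- **The homomorphism from `SL₃(q)`, `SU₃(q)`.** -/
theorem Pos.exists_hom {C : Type*} [CommGroup C] [IsCyclic C] [Finite S] [Finite P] [Finite Y] {M : Tri S C} {q e : ℤ}
    (h : Pos p L M.std K t) (hN : M.NumData q e) (hS : Std ρ dg M.std) (θ : L ≃* P)
    (hr : ∀ r : ℕ, r.Prime → r ∣ Nat.card (JJ K ⊓ p.ker : Subgroup Y) → r ≠ 2 ∧ (r : ℤ) ∣ q - e) :
    ∃ φ : S →* Y, φ.ker ≤ center S ∧ (∀ c, (M.std c).map φ = K c) ∧ φ.range = JJ K := by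
  obtain ⟨π, hπ, hπ1, hstd⟩ := h.exists_pi hS θ
  have hkπ : π.ker ≤ center (JJ K) := by
    intro j hj
    rw [mem_center_iff]
    intro g
    exact Subtype.ext (h.JJ_comm ((hπ1 j).1 hj) g.2).symm
  have hJ : commutator (JJ K) = ⊤ := perfect_coe h.JJ_perfect
  have hcard : Nat.card π.ker = Nat.card (JJ K ⊓ p.ker : Subgroup Y) := by
    refine Nat.card_congr (Equiv.ofBijective
      (fun j : π.ker => (⟨(j : JJ K), ⟨(j : JJ K).2, (hπ1 j).1 j.2⟩⟩ : (JJ K ⊓ p.ker : Subgroup Y))) ⟨?_, ?_⟩)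
    · intro a b hab
      have e : ((a : JJ K) : Y) = ((b : JJ K) : Y) := congrArg (fun z : (JJ K ⊓ p.ker : Subgroup Y) => (z : Y)) hab
      exact Subtype.ext (Subtype.ext e)
    · rintro ⟨y, hy1, hy2⟩
      exact ⟨⟨⟨y, hy1⟩, (hπ1 _).2 hy2⟩, rfl⟩
  obtain ⟨φ, hφ, hφρ, hφK⟩ := hN.exists_hom π ρ hπ hS.surj hkπ hJ hS.perf (by rw [hcard]; exact hr)
  refine ⟨(JJ K).subtype.comp φ, ?_, ?_, ?_⟩
  · intro s hs
    apply hS.ker
    have h1 : φ s = 1 := Subtype.ext hs
    have h2 : π (φ s) = ρ s := DFunLike.congr_fun hφρ s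
    rw [MonoidHom.mem_ker, ← h2, h1, map_one]
  · intro c
    rw [← map_map, hφK c ((K c).subgroupOf (JJ K)) ?_ (hstd c), subgroupOf_map_subtype, inf_of_le_left (le_JJ c)]
    apply map_injective (JJ K).subtype_injective
    rw [map_commutator, subgroupOf_map_subtype, inf_of_le_left (le_JJ c), h.perf c]
  · rw [MonoidHom.range_comp, MonoidHom.range_eq_top.2 hφ, ← MonoidHom.range_eq_map, range_subtype]

end Pos

end Cfsg.Agent.LFourB.RB
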