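import Cfsg.Agent.LFourB.RDefs

/-!
# The recognition end of type B1: the six subgroups `K_{ij}` and `C(z1) ≤ N(G0)`
-/

set_option autoImplicit false
set_option linter.unusedSectionVars false

namespace Cfsg.Agent.LFourB.RDefs

open Subgroup Cfsg Cfsg.Agent.LFourB Cfsg.Agent.LFourB.BOne

variable {G : Type*} [Group G] [Finite G] {P : Sylow 2 G} {m : ℕ} {f : R m → R m → R m → G} {u w : G}
  {L1 L2 : Subgroup G}

theorem perm_apply_inv (ρ : Equiv.Perm (Fin 4)) (i : Fin 4) : ρ (ρ⁻¹ i) = i := Equiv.apply_symm_apply ρ i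

theorem perm_inv_apply (ρ : Equiv.Perm (Fin 4)) (i : Fin 4) : ρ⁻¹ (ρ i) = i := Equiv.symm_apply_apply ρ i

theorem Ind.mul {n n' : G} {ρ ρ' : Equiv.Perm (Fin 4)} (h : Ind f n ρ) (h' : Ind f n' ρ') :
    Ind f (n * n') (ρ * ρ') := by
  refine ⟨Subgroup.mul_mem _ h.1 h'.1, fun i => ?_⟩
  have : n * n' * X f i * (n * n')⁻¹ = n * (n' * X f i * n'⁻¹) * n⁻¹ := by group
  rw [this, h'.2, h.2]
  rfl

theorem Ind.inv {n : G} {ρ : Equiv.Perm (Fin 4)} (h : Ind f n ρ) : Ind f n⁻¹ ρ⁻¹ := by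
  refine ⟨Subgroup.inv_mem _ h.1, fun i => ?_⟩
  have h1 := h.2 (ρ⁻¹ i)
  rw [perm_apply_inv] at h1
  rw [← h1]
  group

namespace RIn

theorem z1_eq (hR : RIn P f u w L1 L2) : z1 f = X f 0 * X f 1 := by
  change f 0 0 (N m) = f (N m) 0 0 * f (N m) 0 (N m)
  rw [hR.model.f_mul _ _ _ _ _ _ goodx1 goodx2, N_add_N, add_zero, zero_add]

theorem z2_eq (hR : RIn P f u w L1 L2) : z2 f = X f 0 * X f 2 := by
  change f (N m) (N m) 0 = f (N m) 0 0 * f 0 (N m) 0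
  rw [hR.model.f_mul _ _ _ _ _ _ goodx1 goodx3, add_zero, zero_add, add_zero]

theorem z2_eq' (hR : RIn P f u w L1 L2) : z2 f = X f 1 * X f 3 := by
  change f (N m) (N m) 0 = f (N m) 0 (N m) * f 0 (N m) (N m)
  rw [hR.model.f_mul _ _ _ _ _ _ goodx2 goodx4, add_zero, zero_add, N_add_N]

theorem z3_eq (hR : RIn P f u w L1 L2) : z3 f = X f 0 * X f 3 := by
  change f (N m) (N m) (N m) = f (N m) 0 0 * f 0 (N m) (N m)
  rw [hR.model.f_mul _ _ _ _ _ _ goodx1 goodx4, add_zero, zero_add]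

theorem z3_eq' (hR : RIn P f u w L1 L2) : z3 f = z1 f * z2 f := by
  change f (N m) (N m) (N m) = f 0 0 (N m) * f (N m) (N m) 0
  rw [hR.model.f_mul _ _ _ _ _ _ good1 good2, add_zero, zero_add]

theorem z1_sq (hR : RIn P f u w L1 L2) : z1 f * z1 f = 1 := by
  rw [z1, hR.model.f_mul _ _ _ _ _ _ good1 good1, N_add_N, add_zero, hR.model.f_zero]

theorem goodc0 : Good (0 : R m) 0 (M m) := good_of_N (Or.inl rfl) (Or.inl rfl) four_mul_M

theorem x3_eq (hR : RIn P f u w L1 L2) : X f 3 = f 0 0 (M m) * h2 f := by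
  change f 0 (N m) (N m) = f 0 0 (M m) * f 0 (N m) (M m)
  rw [hR.model.f_mul _ _ _ _ _ _ goodc0 goodh2, M_add_M, add_zero, zero_add]

theorem x2_eq (hR : RIn P f u w L1 L2) : f 0 0 (M m) * X f 2 = h2 f := by
  change f 0 0 (M m) * f 0 (N m) 0 = f 0 (N m) (M m)
  rw [hR.model.f_mul _ _ _ _ _ _ goodc0 goodx3, add_zero, add_zero, zero_add]

theorem x0_eq (hR : RIn P f u w L1 L2) : X f 0 = f 0 0 (M m) * h1 f := by
  change f (N m) 0 0 = f 0 0 (M m) * f (N m) 0 (-M m)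
  rw [hR.model.f_mul _ _ _ _ _ _ goodc0 goodh1, add_neg_cancel, add_zero, zero_add]

theorem x1_eq (hR : RIn P f u w L1 L2) : f 0 0 (M m) * X f 1 = h1 f := by
  change f 0 0 (M m) * f (N m) 0 (N m) = f (N m) 0 (-M m)
  rw [hR.model.f_mul _ _ _ _ _ _ goodc0 goodx2, add_zero, zero_add]
  congr 1
  linear_combination two_mul_M (m := m) + two_mul_N (m := m)

theorem h1_mem (hR : RIn P f u w L1 L2) : h1 f ∈ L1 := by
  apply hR.q1
  apply Subgroup.subset_closure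
  left
  exact ⟨M m, by rw [h1, two_mul_M]⟩

theorem h2_mem (hR : RIn P f u w L1 L2) : h2 f ∈ L2 := by
  apply hR.q2
  apply Subgroup.subset_closure
  left
  exact ⟨M m, by rw [h2, two_mul_M]⟩

theorem u2_mem (hR : RIn P f u w L1 L2) : ub u w * X f 2 ∈ L2 := by
  apply hR.q2
  apply Subgroup.subset_closure
  right
  rfl

theorem u1_mem (hR : RIn P f u w L1 L2) : u * X f 0 ∈ L1 := by
  apply hR.q1
  apply Subgroup.subset_closure
  right
  rfl

theorem x3_cent (hR : RIn P f u w L1 L2) {x : G} (hx : x ∈ L1) : X f 3 * x = x * X f 3 := by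
  rw [hR.x3_eq, mul_assoc, ← hR.comm x hx _ hR.h2_mem, ← mul_assoc, hR.c1 x hx, mul_assoc]

theorem x2_cent (hR : RIn P f u w L1 L2) {x : G} (hx : x ∈ L1) : X f 2 * x = x * X f 2 := by
  have h1 : X f 2 = (f 0 0 (M m))⁻¹ * h2 f := by rw [← hR.x2_eq]; group
  have h3 : (f 0 0 (M m))⁻¹ * x = x * (f 0 0 (M m))⁻¹ := by
    rw [inv_mul_eq_iff_eq_mul, ← mul_assoc, hR.c1 x hx, mul_inv_cancel_right]
  rw [h1, mul_assoc, ← hR.comm x hx _ hR.h2_mem, ← mul_assoc, h3, mul_assoc]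

theorem x0_cent (hR : RIn P f u w L1 L2) {x : G} (hx : x ∈ L2) : X f 0 * x = x * X f 0 := by
  rw [hR.x0_eq, mul_assoc, hR.comm _ hR.h1_mem x hx, ← mul_assoc, hR.c2 x hx, mul_assoc]

theorem x1_cent (hR : RIn P f u w L1 L2) {x : G} (hx : x ∈ L2) : X f 1 * x = x * X f 1 := by
  have h1 : X f 1 = (f 0 0 (M m))⁻¹ * h1 f := by rw [← hR.x1_eq]; group
  have h3 : (f 0 0 (M m))⁻¹ * x = x * (f 0 0 (M m))⁻¹ := by
    rw [inv_mul_eq_iff_eq_mul, ← mul_assoc, hR.c2 x hx, mul_inv_cancel_right]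
  rw [h1, mul_assoc, hR.comm _ hR.h1_mem x hx, ← mul_assoc, h3, mul_assoc]

theorem X_sq (hR : RIn P f u w L1 L2) (i : Fin 4) : X f i * X f i = 1 := by
  fin_cases i
  · change f (N m) 0 0 * f (N m) 0 0 = 1
    rw [hR.model.f_mul _ _ _ _ _ _ goodx1 goodx1, N_add_N, add_zero, hR.model.f_zero]
  · change f (N m) 0 (N m) * f (N m) 0 (N m) = 1
    rw [hR.model.f_mul _ _ _ _ _ _ goodx2 goodx2, N_add_N, add_zero, hR.model.f_zero]
  · change f 0 (N m) 0 * f 0 (N m) 0 = 1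
    rw [hR.model.f_mul _ _ _ _ _ _ goodx3 goodx3, N_add_N, add_zero, hR.model.f_zero]
  · change f 0 (N m) (N m) * f 0 (N m) (N m) = 1
    rw [hR.model.f_mul _ _ _ _ _ _ goodx4 goodx4, N_add_N, add_zero, hR.model.f_zero]

theorem X_comm (hR : RIn P f u w L1 L2) (i j : Fin 4) : X f i * X f j = X f j * X f i :=
  hR.model.Tor_comm (hR.model.X_mem i) (hR.model.X_mem j)

theorem X_inv (hR : RIn P f u w L1 L2) (i : Fin 4) : (X f i)⁻¹ = X f i := inv_eq_of_mul_eq_one_left (hR.X_sq i)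

theorem ub_X2 (hR : RIn P f u w L1 L2) : ub u w * X f 2 = X f 3 * ub u w := by
  have h1 := hR.model.pi_spec ⟨ub u w, hR.model.ub_mem⟩ 2
  rw [hR.model.pi_ub, Equiv.swap_apply_left] at h1
  exact mul_inv_eq_iff_eq_mul.mp h1

theorem ub_X3 (hR : RIn P f u w L1 L2) : ub u w * X f 3 = X f 2 * ub u w := by
  have h1 := hR.model.pi_spec ⟨ub u w, hR.model.ub_mem⟩ 3
  rw [hR.model.pi_ub, Equiv.swap_apply_right] at h1
  exact mul_inv_eq_iff_eq_mul.mp h1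

theorem X_ne (hR : RIn P f u w L1 L2) {i j : Fin 4} (hij : i ≠ j) : X f i ≠ X f j :=
  fun h => hij (hR.model.X_injective h)

/-- `x3`, `x4` do not centralise `L2`. -/
theorem not_cent (hR : RIn P f u w L1 L2) {i : Fin 4} (hi : i = 2 ∨ i = 3) : ¬ ∀ x ∈ L2, X f i * x = x * X f i := by
  intro hc
  have h1 := hc _ hR.u2_mem
  apply hR.X_ne (show (2 : Fin 4) ≠ 3 by decide)
  rcases hi with rfl | rfl
  · -- X2 ub X2 = ub X2 X2
    have h2 : X f 2 * (ub u w * X f 2) = X f 2 * (X f 3 * ub u w) := by rw [hR.ub_X2]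
    have h3 : ub u w * X f 2 * X f 2 = ub u w := by rw [mul_assoc, hR.X_sq, mul_one]
    rw [h2, h3, ← mul_assoc] at h1
    have h4 : X f 2 * X f 3 = 1 := mul_eq_right.mp h1
    rw [← hR.X_inv 3]
    exact eq_inv_of_mul_eq_one_left h4
  · have h2 : ub u w * X f 2 * X f 3 = X f 3 * X f 2 * ub u w := by
      rw [mul_assoc, hR.X_comm 2 3, ← mul_assoc, hR.ub_X3, mul_assoc, hR.ub_X2, ← mul_assoc, hR.X_comm]
    have h3 : X f 3 * (ub u w * X f 2) = ub u w := by rw [hR.ub_X2, ← mul_assoc, hR.X_sq, one_mul]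
    rw [h2, h3] at h1
    have h4 : X f 3 * X f 2 = 1 := mul_eq_right.mp h1.symm
    rw [← hR.X_inv 2, eq_comm]
    have h5 : X f 3 = (X f 2)⁻¹ := eq_inv_of_mul_eq_one_left h4
    rw [h5]

theorem comm_cj {g a : G} {K : Subgroup G} (h : ∀ x ∈ K, a * x = x * a) :
    ∀ x ∈ cj g K, (g * a * g⁻¹) * x = x * (g * a * g⁻¹) := by
  intro x hx
  rw [mem_cj] at hx
  have h1 := h _ hx
  calc g * a * g⁻¹ * x = g * (a * (g⁻¹ * x * g)) * g⁻¹ := by group
    _ = g * (g⁻¹ * x * g * a) * g⁻¹ := by rw [h1]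
    _ = x * (g * a * g⁻¹) := by group

theorem mem_cent_iff {g z : G} : g ∈ centralizer ({z} : Set G) ↔ g * z = z * g := mem_centralizer_singleton_iff

/-- Elements of `C(z1) ∩ C(x4)` normalise `L1` and `L2`. -/
theorem norm_of_x3 (hR : RIn P f u w L1 L2) {g : G} (hg : g ∈ centralizer ({z1 f} : Set G))
    (hg3 : g * X f 3 = X f 3 * g) : cj g L1 = L1 ∧ cj g L2 = L2 := by
  rcases hR.norm g hg with h1 | h1
  · exact h1
  · exfalso
    apply hR.not_cent (Or.inr rfl : (3 : Fin 4) = 2 ∨ (3 : Fin 4) = 3)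
    intro x hx
    rw [← h1.1] at hx
    have h2 := comm_cj (g := g) (a := X f 3) (K := L1) (fun x hx => hR.x3_cent hx) x hx
    rwa [mul_inv_eq_iff_eq_mul.mpr hg3] at h2

/-- Elements of `N(T)` preserving `{x1, x2}` normalise `L1`. -/
theorem ind_fix (hR : RIn P f u w L1 L2) {n : G} {ρ : Equiv.Perm (Fin 4)} (hn : Ind f n ρ)
    (hρ : (ρ 0 = 0 ∧ ρ 1 = 1) ∨ (ρ 0 = 1 ∧ ρ 1 = 0)) : cj n L1 = L1 := by
  have hz : n ∈ centralizer ({z1 f} : Set G) := by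
    rw [mem_cent_iff, ← mul_inv_eq_iff_eq_mul, hR.z1_eq]
    have : n * (X f 0 * X f 1) * n⁻¹ = (n * X f 0 * n⁻¹) * (n * X f 1 * n⁻¹) := by group
    rw [this, hn.2, hn.2]
    rcases hρ with ⟨h1, h2⟩ | ⟨h1, h2⟩
    · rw [h1, h2]
    · rw [h1, h2, hR.X_comm]
  rcases hR.norm n hz with h1 | h1
  · exact h1.1
  · exfalso
    have h3 : ρ 3 = 2 ∨ ρ 3 = 3 := by
      have a0 : ρ 3 ≠ ρ 0 := fun h => absurd (ρ.injective h) (by decide)
      have a1 : ρ 3 ≠ ρ 1 := fun h => absurd (ρ.injective h) (by decide)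
      generalize ρ 3 = j at *
      rcases hρ with ⟨h1, h2⟩ | ⟨h1, h2⟩ <;> rw [h1] at a0 <;> rw [h2] at a1 <;> fin_cases j <;> simp_all
    apply hR.not_cent h3
    intro x hx
    rw [← h1.1] at hx
    have h2 := comm_cj (g := n) (a := X f 3) (K := L1) (fun x hx => hR.x3_cent hx) x hx
    rwa [hn.2] at h2

theorem w_ind (hR : RIn P f u w L1 L2) : Ind f w (Equiv.swap 0 2 * Equiv.swap 1 3) :=
  ⟨hR.model.S_le_normalizer hR.model.w_mem, hR.model.conj_X_w⟩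

theorem u_ind (hR : RIn P f u w L1 L2) : Ind f u (Equiv.swap 0 1) :=
  ⟨hR.model.S_le_normalizer hR.model.u_mem, hR.model.conj_X_u⟩

theorem w_cent (hR : RIn P f u w L1 L2) : w ∈ centralizer ({z1 f} : Set G) := by
  rw [mem_cent_iff, z1, hR.model.w_f _ _ _ good1, neg_N]

/-- `w` exchanges `L1` and `L2`. -/
theorem cj_w (hR : RIn P f u w L1 L2) : cj w L1 = L2 ∧ cj w L2 = L1 := by
  rcases hR.norm w hR.w_cent with h1 | h1
  · exfalso
    have e2 : w * LFourB.h1 f * w⁻¹ = LFourB.h2 f := by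
      rw [mul_inv_eq_iff_eq_mul, LFourB.h1, LFourB.h2, hR.model.w_f _ _ _ goodh1, neg_neg]
    have h3 : LFourB.h2 f ∈ L1 := by
      rw [← e2, ← h1.1]
      exact conj_mem_cj hR.h1_mem
    -- `h2` does not commute with `u2`
    have h4 := hR.comm _ h3 _ hR.u2_mem
    have h5 : ub u w * LFourB.h2 f = LFourB.h2 f * z1 f * ub u w := by
      rw [LFourB.h2, z1, hR.model.ub_f goodh2, hR.model.f_mul _ _ _ _ _ _ goodh2 good1]
      congr 2
      · rw [add_zero]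
      · rw [neg_N, add_zero]
      · linear_combination - two_mul_N (m := m)
    have h6 : LFourB.h2 f * X f 2 = X f 2 * LFourB.h2 f :=
      hR.model.Tor_comm (hR.model.f_mem_Tor goodh2) (hR.model.X_mem 2)
    have h7 : ub u w * X f 2 * LFourB.h2 f = LFourB.h2 f * z1 f * (ub u w * X f 2) := by
      rw [mul_assoc, ← h6, ← mul_assoc, h5, mul_assoc]
    rw [← h4, mul_assoc (LFourB.h2 f) (z1 f)] at h7
    have h8 : z1 f * (ub u w * X f 2) = ub u w * X f 2 := (mul_left_cancel h7).symm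
    have h9 : z1 f = 1 := mul_eq_right.mp h8
    rw [z1, hR.model.f_eq_one_iff good1] at h9
    exact N_ne_zero h9.2.2
  · exact h1

/-- `K_{ij}` is well defined. -/
theorem cj_eq_cj (hR : RIn P f u w L1 L2) {n n' : G} {ρ ρ' : Equiv.Perm (Fin 4)} (hn : Ind f n ρ) (hn' : Ind f n' ρ')
    (h : (ρ 0 = ρ' 0 ∧ ρ 1 = ρ' 1) ∨ (ρ 0 = ρ' 1 ∧ ρ 1 = ρ' 0)) : cj n L1 = cj n' L1 := by
  have h1 := hR.ind_fix (hn'.inv.mul hn) (by
    rcases h with ⟨h1, h2⟩ | ⟨h1, h2⟩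
    · left
      exact ⟨by rw [Equiv.Perm.mul_apply, h1, perm_inv_apply],
        by rw [Equiv.Perm.mul_apply, h2, perm_inv_apply]⟩
    · right
      exact ⟨by rw [Equiv.Perm.mul_apply, h1, perm_inv_apply],
        by rw [Equiv.Perm.mul_apply, h2, perm_inv_apply]⟩)
  rw [← cj_cj] at h1
  rw [← cj_cj_inv n' (cj n L1), h1]

theorem KK_eq (hR : RIn P f u w L1 L2) {n : G} {ρ : Equiv.Perm (Fin 4)} (hn : Ind f n ρ) :
    KK f L1 (ρ 0) (ρ 1) = cj n L1 := by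
  apply le_antisymm
  · apply iSup_le
    rintro ⟨n', ρ', hn', h0, h1⟩
    exact le_of_eq (hR.cj_eq_cj hn' hn (Or.inl ⟨h0, h1⟩))
  · exact le_iSup (fun n : {n : G // ∃ ρ', Ind f n ρ' ∧ ρ' 0 = ρ 0 ∧ ρ' 1 = ρ 1} => cj (n : G) L1)
      ⟨n, ρ, hn, rfl, rfl⟩

theorem KK01 (hR : RIn P f u w L1 L2) : KK f L1 0 1 = L1 := by
  have h1 : Ind f (1 : G) 1 := ⟨Subgroup.one_mem _, fun i => by simp⟩
  have h2 := hR.KK_eq h1
  rwa [cj_one] at h2

theorem KK23 (hR : RIn P f u w L1 L2) : KK f L1 2 3 = L2 := by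
  have h2 := hR.KK_eq hR.w_ind
  rw [hR.cj_w.1] at h2
  exact h2

theorem exists_perm_of_ne {i j : Fin 4} (hij : i ≠ j) : ∃ ρ : Equiv.Perm (Fin 4), ρ 0 = i ∧ ρ 1 = j := by
  revert i j
  decide

theorem KK_symm (hR : RIn P f u w L1 L2) {i j : Fin 4} (hij : i ≠ j) : KK f L1 i j = KK f L1 j i := by
  obtain ⟨ρ, rfl, rfl⟩ := exists_perm_of_ne hij
  obtain ⟨ρ', h0, h1⟩ := exists_perm_of_ne (Ne.symm hij)
  obtain ⟨n, hn⟩ := hR.perm ρ
  obtain ⟨n', hn'⟩ := hR.perm ρ'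
  have e1 := hR.KK_eq hn
  have e2 := hR.KK_eq hn'
  rw [h0, h1] at e2
  rw [e1, e2]
  exact hR.cj_eq_cj hn hn' (Or.inr ⟨h1.symm, h0.symm⟩)

/-- `N(T)` permutes the `K_{ij}`. -/
theorem cj_KK (hR : RIn P f u w L1 L2) {n : G} {ρ : Equiv.Perm (Fin 4)} (hn : Ind f n ρ) {i j : Fin 4} (hij : i ≠ j) :
    cj n (KK f L1 i j) = KK f L1 (ρ i) (ρ j) := by
  obtain ⟨τ, rfl, rfl⟩ := exists_perm_of_ne hij
  obtain ⟨t, ht⟩ := hR.perm τ
  rw [hR.KK_eq ht, cj_cj]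
  exact (hR.KK_eq (hn.mul ht)).symm

/-- `x_k` centralises `K_{ij}` for `k ≠ i, j`. -/
theorem X_cent_KK (hR : RIn P f u w L1 L2) {i j k : Fin 4} (hij : i ≠ j) (hki : k ≠ i) (hkj : k ≠ j) {x : G}
    (hx : x ∈ KK f L1 i j) : X f k * x = x * X f k := by
  obtain ⟨ρ, rfl, rfl⟩ := exists_perm_of_ne hij
  obtain ⟨n, hn⟩ := hR.perm ρ
  rw [hR.KK_eq hn] at hx
  have h1 : ρ⁻¹ k = 2 ∨ ρ⁻¹ k = 3 := by
    have a0 : ρ⁻¹ k ≠ 0 := fun h => hki (by rw [← h, perm_apply_inv])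
    have a1 : ρ⁻¹ k ≠ 1 := fun h => hkj (by rw [← h, perm_apply_inv])
    generalize ρ⁻¹ k = l at *
    fin_cases l <;> simp_all
  have h2 : ∀ x ∈ L1, X f (ρ⁻¹ k) * x = x * X f (ρ⁻¹ k) := by
    intro x hx
    rcases h1 with h1 | h1
    · rw [h1]; exact hR.x2_cent hx
    · rw [h1]; exact hR.x3_cent hx
  have h3 := comm_cj (g := n) h2 x hx
  rwa [hn.2, perm_apply_inv] at h3

/-- The subgroup generated by all `K_{ij}`. -/
def GZ (f : R m → R m → R m → G) (L1 : Subgroup G) : Subgroup G := ⨆ n : normalizer (Tor f : Set G), cj (n : G) L1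

theorem cj_le_GZ {n : G} (hn : n ∈ normalizer (Tor f : Set G)) : cj n L1 ≤ GZ f L1 :=
  le_iSup (fun n : normalizer (Tor f : Set G) => cj (n : G) L1) ⟨n, hn⟩

theorem L1_le_GZ : L1 ≤ GZ f L1 := by
  have h1 := cj_le_GZ (f := f) (L1 := L1) (Subgroup.one_mem _)
  rwa [cj_one] at h1

theorem L2_le_GZ (hR : RIn P f u w L1 L2) : L2 ≤ GZ f L1 := by
  rw [← hR.cj_w.1]
  exact cj_le_GZ hR.w_ind.1

theorem KK_le_GZ (hR : RIn P f u w L1 L2) {i j : Fin 4} (hij : i ≠ j) : KK f L1 i j ≤ GZ f L1 := by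
  obtain ⟨ρ, rfl, rfl⟩ := exists_perm_of_ne hij
  obtain ⟨n, hn⟩ := hR.perm ρ
  rw [hR.KK_eq hn]
  exact cj_le_GZ hn.1

/-- Elements permuting a set of generators. -/
theorem mem_normalizer_GZ {g : G} (hg : ∀ n ∈ normalizer (Tor f : Set G), cj (g * n) L1 ≤ GZ f L1)
    (hg' : ∀ n ∈ normalizer (Tor f : Set G), cj (g⁻¹ * n) L1 ≤ GZ f L1) : g ∈ normalizer (GZ f L1 : Set G) := by
  have key : ∀ g : G, (∀ n ∈ normalizer (Tor f : Set G), cj (g * n) L1 ≤ GZ f L1) → cj g (GZ f L1) ≤ GZ f L1 := by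
    intro g hg
    rw [cj, Subgroup.map_le_iff_le_comap]
    apply iSup_le
    rintro ⟨n, hn⟩
    rw [← Subgroup.map_le_iff_le_comap]
    have := hg n hn
    rwa [← cj_cj] at this
  rw [mem_normalizer_iff_cj]
  apply le_antisymm (key g hg)
  have h1 := cj_mono (g := g) (key g⁻¹ hg')
  rwa [cj_cj_inv] at h1

theorem normalizer_Tor_le : normalizer (Tor f : Set G) ≤ normalizer (GZ f L1 : Set G) := by
  intro g hg
  exact mem_normalizer_GZ (fun n hn => cj_le_GZ (Subgroup.mul_mem _ hg hn))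
    (fun n hn => cj_le_GZ (Subgroup.mul_mem _ (Subgroup.inv_mem _ hg) hn))

/-- `C(V)` normalises `G0`. -/
theorem cent_V_le (hR : RIn P f u w L1 L2) {g : G} (h1 : g * z1 f = z1 f * g) (h2 : g * z2 f = z2 f * g) :
    g ∈ normalizer (GZ f L1 : Set G) := by
  -- the products X i X j are z1, z2, z3
  have h3 : g * z3 f = z3 f * g := by rw [hR.z3_eq', ← mul_assoc, h1, mul_assoc, h2, ← mul_assoc]
  have hV : ∀ i j : Fin 4, i ≠ j → g * (X f i * X f j) = X f i * X f j * g := by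
    have e01 : X f 0 * X f 1 = z1 f := hR.z1_eq.symm
    have e02 : X f 0 * X f 2 = z2 f := hR.z2_eq.symm
    have e03 : X f 0 * X f 3 = z3 f := hR.z3_eq.symm
    have e13 : X f 1 * X f 3 = z2 f := hR.z2_eq'.symm
    have e23 : X f 2 * X f 3 = z1 f := by
      have : X f 2 * X f 3 = (X f 0 * X f 2) * (X f 0 * X f 3) := by
        rw [hR.X_comm 0 2, mul_assoc (X f 2), ← mul_assoc (X f 0) (X f 0), hR.X_sq, one_mul]
      rw [this, e02, e03, hR.z3_eq', hR.z2_eq, hR.z1_eq]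
      have e : X f 0 * X f 2 * (X f 0 * X f 1 * (X f 0 * X f 2)) =
        (X f 0 * X f 1) * ((X f 0 * X f 2) * (X f 0 * X f 2)) := by
        rw [← mul_assoc (X f 0 * X f 2) (X f 0 * X f 1)]
        rw [hR.model.Tor_comm (Subgroup.mul_mem _ (hR.model.X_mem 0) (hR.model.X_mem 2))
          (Subgroup.mul_mem _ (hR.model.X_mem 0) (hR.model.X_mem 1)), mul_assoc]
      have e' : (X f 0 * X f 2) * (X f 0 * X f 2) = 1 := by
        rw [hR.X_comm 0 2, mul_assoc, ← mul_assoc (X f 0), hR.X_comm 0 2, mul_assoc, hR.X_sq, mul_one, hR.X_sq]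
      rw [e, e', mul_one]
    have e12 : X f 1 * X f 2 = z3 f := by
      have : X f 1 * X f 2 = (X f 1 * X f 3) * (X f 2 * X f 3) := by
        rw [mul_assoc, ← mul_assoc (X f 3), hR.X_comm 3 2, mul_assoc, hR.X_sq, mul_one]
      rw [this, e13, e23, hR.z3_eq']
      have e := hR.model.Tor_comm (hR.model.f_mem_Tor good2) (hR.model.f_mem_Tor good1)
      exact e
    intro i j hij
    have : X f i * X f j = z1 f ∨ X f i * X f j = z2 f ∨ X f i * X f j = z3 f := by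
      fin_cases i <;> fin_cases j
      · exact (hij rfl).elim
      · exact Or.inl e01
      · exact Or.inr (Or.inl e02)
      · exact Or.inr (Or.inr e03)
      · exact Or.inl (by rw [← e01]; exact hR.X_comm _ _)
      · exact (hij rfl).elim
      · exact Or.inr (Or.inr e12)
      · exact Or.inr (Or.inl e13)
      · exact Or.inr (Or.inl (by rw [← e02]; exact hR.X_comm _ _))
      · exact Or.inr (Or.inr (by rw [← e12]; exact hR.X_comm _ _))
      · exact (hij rfl).elim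
      · exact Or.inl e23
      · exact Or.inr (Or.inr (by rw [← e03]; exact hR.X_comm _ _))
      · exact Or.inr (Or.inl (by rw [← e13]; exact hR.X_comm _ _))
      · exact Or.inl (by rw [← e23]; exact hR.X_comm _ _)
      · exact (hij rfl).elim
    rcases this with h | h | h <;> rw [h] <;> assumption
  have key : ∀ g : G, (∀ i j : Fin 4, i ≠ j → g * (X f i * X f j) = X f i * X f j * g) →
      ∀ n ∈ normalizer (Tor f : Set G), cj (g * n) L1 ≤ GZ f L1 := by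
    intro g hV n hn
    obtain ⟨ρ, hn'⟩ := hR.permn n hn
    have h4 : n⁻¹ * g * n ∈ centralizer ({z1 f} : Set G) := by
      rw [mem_cent_iff, hR.z1_eq]
      have h5 := hV (ρ 0) (ρ 1) (fun h => absurd (ρ.injective h) (by decide))
      rw [← hn'.2, ← hn'.2] at h5
      calc n⁻¹ * g * n * (X f 0 * X f 1) =
          n⁻¹ * (g * (n * X f 0 * n⁻¹ * (n * X f 1 * n⁻¹))) * n := by group
        _ = n⁻¹ * (n * X f 0 * n⁻¹ * (n * X f 1 * n⁻¹) * g) * n := by rw [h5]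
        _ = X f 0 * X f 1 * (n⁻¹ * g * n) := by group
    have h5 : g * n = n * (n⁻¹ * g * n) := by group
    rw [h5, ← cj_cj]
    rcases hR.norm _ h4 with h6 | h6
    · rw [h6.1]
      exact cj_le_GZ hn
    · rw [h6.1, ← hR.cj_w.1, cj_cj]
      exact cj_le_GZ (Subgroup.mul_mem _ hn hR.w_ind.1)
  apply mem_normalizer_GZ (key g hV)
  apply key g⁻¹
  intro i j hij
  rw [inv_mul_eq_iff_eq_mul, ← mul_assoc, hV i j hij, mul_inv_cancel_right]

theorem z2_eq_h (hR : RIn P f u w L1 L2) : z2 f = h1 f * h2 f := by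
  rw [z2, LFourB.h1, LFourB.h2, hR.model.f_mul _ _ _ _ _ _ goodh1 goodh2]
  simp

theorem h1_sq (hR : RIn P f u w L1 L2) : h1 f * h1 f = z1 f := by
  rw [z1, LFourB.h1, hR.model.f_mul _ _ _ _ _ _ goodh1 goodh1, N_add_N, add_zero]
  congr 1
  linear_combination - two_mul_M (m := m) - two_mul_N (m := m)

theorem h2_sq (hR : RIn P f u w L1 L2) : h2 f * h2 f = z1 f := by
  rw [z1, LFourB.h2, hR.model.f_mul _ _ _ _ _ _ goodh2 goodh2, N_add_N, add_zero, M_add_M]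

/-- **(R2)** `C(z1) = L1 L2 C(V)`. -/
theorem exists_mul_cent (hR : RIn P f u w L1 L2) {g : G} (hg : g ∈ centralizer ({z1 f} : Set G)) :
    ∃ l1 ∈ L1, ∃ l2 ∈ L2, (l1 * l2 * g) * z1 f = z1 f * (l1 * l2 * g) ∧ (l1 * l2 * g) * z2 f = z2 f * (l1 * l2 * g) := by
  have hgz := mem_cent_iff.mp hg
  have hsq : ∀ a : G, a * a = z1 f → (g * a * g⁻¹) * (g * a * g⁻¹) = z1 f := by
    intro a ha
    have : (g * a * g⁻¹) * (g * a * g⁻¹) = g * (a * a) * g⁻¹ := by group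
    rw [this, ha, hgz, mul_inv_cancel_right]
  -- in both cases `g z2 g⁻¹ = a b`
  obtain ⟨a, ha, b, hb, ha2, hb2, hab⟩ : ∃ a ∈ L1, ∃ b ∈ L2, a * a = z1 f ∧ b * b = z1 f ∧ g * z2 f * g⁻¹ = a * b := by
    have h4 : g * z2 f * g⁻¹ = (g * h1 f * g⁻¹) * (g * h2 f * g⁻¹) := by rw [hR.z2_eq_h]; group
    rcases hR.norm g hg with h5 | h5
    · refine ⟨g * h1 f * g⁻¹, ?_, g * h2 f * g⁻¹, ?_, hsq _ hR.h1_sq, hsq _ hR.h2_sq, h4⟩
      · rw [← h5.1]; exact conj_mem_cj hR.h1_mem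
      · rw [← h5.2]; exact conj_mem_cj hR.h2_mem
    · refine ⟨g * h2 f * g⁻¹, ?_, g * h1 f * g⁻¹, ?_, hsq _ hR.h2_sq, hsq _ hR.h1_sq, ?_⟩
      · rw [← h5.2]; exact conj_mem_cj hR.h2_mem
      · rw [← h5.1]; exact conj_mem_cj hR.h1_mem
      · rw [h4]
        have e1 : g * h1 f * g⁻¹ ∈ L2 := by rw [← h5.1]; exact conj_mem_cj hR.h1_mem
        have e2 : g * h2 f * g⁻¹ ∈ L1 := by rw [← h5.2]; exact conj_mem_cj hR.h2_mem
        exact (hR.comm _ e2 _ e1).symm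
  obtain ⟨l1, hl1, e1⟩ := hR.four1 a ha _ hR.h1_mem ha2 hR.h1_sq
  obtain ⟨l2, hl2, e2⟩ := hR.four2 b hb _ hR.h2_mem hb2 hR.h2_sq
  refine ⟨l1, hl1, l2, hl2, ?_, ?_⟩
  · have c1 := mem_cent_iff.mp (hR.le1 hl1)
    have c2 := mem_cent_iff.mp (hR.le2 hl2)
    rw [mul_assoc, hgz, ← mul_assoc, mul_assoc l1, c2, ← mul_assoc, c1]
    group
  · rw [← mul_inv_eq_iff_eq_mul]
    have e3 : l1 * l2 * g * z2 f * (l1 * l2 * g)⁻¹ = l1 * (l2 * (g * z2 f * g⁻¹) * l2⁻¹) * l1⁻¹ := by group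
    rw [e3, hab]
    have e4 : l2 * (a * b) * l2⁻¹ = a * (l2 * b * l2⁻¹) := by
      rw [← mul_assoc, ← hR.comm a ha l2 hl2]
      group
    rw [e4, e2]
    have e5 : l1 * (a * h2 f) * l1⁻¹ = (l1 * a * l1⁻¹) * h2 f := by
      have : h2 f * l1⁻¹ = l1⁻¹ * h2 f := (hR.comm _ (L1.inv_mem hl1) _ hR.h2_mem).symm
      rw [mul_assoc, mul_assoc a, this]
      group
    rw [e5, e1, ← hR.z2_eq_h]

/-- **(R2)** `C(z1) ≤ N(G0)`. -/
theorem cent_z1_le (hR : RIn P f u w L1 L2) : centralizer ({z1 f} : Set G) ≤ normalizer (GZ f L1 : Set G) := by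
  intro g hg
  obtain ⟨l1, hl1, l2, hl2, h1, h2⟩ := hR.exists_mul_cent hg
  have h3 := hR.cent_V_le h1 h2
  have h4 : l1 * l2 ∈ normalizer (GZ f L1 : Set G) :=
    le_normalizer (Subgroup.mul_mem _ (L1_le_GZ hl1) (hR.L2_le_GZ hl2))
  have h5 : g = (l1 * l2)⁻¹ * (l1 * l2 * g) := by group
  rw [h5]
  exact Subgroup.mul_mem _ (Subgroup.inv_mem _ h4) h3

end RIn

end Cfsg.Agent.LFourB.RDefs
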