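import Cfsg.Agent.LFourB.RDefs
import Cfsg.Agent.LFourB.CzB
import Cfsg.Agent.StandardComponent.CentCore

/-!
# The recognition end of type B1: real subgroups `L1`, `L2` from `C(z)` modulo its odd core (abstract part)

`perf A` is the largest perfect subgroup of `A`.
-/

set_option autoImplicit false

namespace Cfsg.Agent.LFourB.RCon

open Subgroup Cfsg Cfsg.Agent.LFourB Cfsg.Agent.LFourB.RDefs Cfsg.Agent.LFourB.CzB Cfsg.Agent.LFourA.CzCt
open Cfsg.Agent.StandardComponent.CentCore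
open scoped commutatorElement

variable {G : Type*} [Group G]

/-- the largest perfect subgroup of `A` -/
def perf (A : Subgroup G) : Subgroup G := sSup {H | H ≤ A ∧ ⁅H, H⁆ = H}

theorem perf_le (A : Subgroup G) : perf A ≤ A := sSup_le fun _ hH => hH.1

theorem le_perf {A H : Subgroup G} (hA : H ≤ A) (hH : ⁅H, H⁆ = H) : H ≤ perf A := le_sSup ⟨hA, hH⟩

theorem perf_comm (A : Subgroup G) : ⁅perf A, perf A⁆ = perf A := by
  apply le_antisymm
  · exact commutator_le_self _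
  · refine sSup_le fun H hH => ?_
    calc H = ⁅H, H⁆ := hH.2.symm
      _ ≤ ⁅perf A, perf A⁆ := commutator_mono (le_perf hH.1 hH.2) (le_perf hH.1 hH.2)

theorem cj_comm (g : G) (A B : Subgroup G) : cj g ⁅A, B⁆ = ⁅cj g A, cj g B⁆ := map_commutator _ _ _

theorem cj_perf_le (g : G) (A : Subgroup G) : cj g (perf A) ≤ perf (cj g A) := by
  refine le_perf (cj_mono (perf_le A)) ?_
  rw [← cj_comm, perf_comm]

theorem cj_perf (g : G) (A : Subgroup G) : cj g (perf A) = perf (cj g A) := by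
  apply le_antisymm (cj_perf_le g A)
  have h1 := cj_mono (g := g) (cj_perf_le g⁻¹ (cj g A))
  rw [cj_cj_inv, cj_inv_cj] at h1
  exact h1

/-- a finite group which covers a perfect group contains a perfect group covering it -/
theorem exists_perfect_cover {C X : Type*} [Group C] [Group X] [Finite C] (p : C →* X) (A : Subgroup C)
    (hA : ⁅A.map p, A.map p⁆ = A.map p) : ∃ H ≤ A, ⁅H, H⁆ = H ∧ H.map p = A.map p := by
  classical
  let s : Set (Subgroup C) := {H | H ≤ A ∧ H.map p = A.map p}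
  have hs : s.Nonempty := ⟨A, le_rfl, rfl⟩
  obtain ⟨H, hH, hmin⟩ := (Set.toFinite s).exists_minimal hs
  refine ⟨H, hH.1, ?_, hH.2⟩
  have h1 : ⁅H, H⁆ ∈ s := by
    refine ⟨(commutator_le_self _).trans hH.1, ?_⟩
    rw [map_commutator, hH.2, hA]
  exact le_antisymm (commutator_le_self _) (hmin h1 (commutator_le_self _))

/-- a perfect group acting trivially modulo a subgroup that it centralises -/
theorem comm_of_perfect {H : Subgroup G} (hH : ⁅H, H⁆ = H) {N : Subgroup G} {y : G}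
    (hN : ∀ a ∈ N, ∀ h ∈ H, a * h = h * a) (hab : ∀ a ∈ N, ∀ b ∈ N, a * b = b * a)
    (hy : ∀ h ∈ H, h * y * h⁻¹ * y⁻¹ ∈ N) : ∀ h ∈ H, h * y = y * h := by
  -- `c (h k) = c k * c h`
  have hmul : ∀ h ∈ H, ∀ k ∈ H, (h * k) * y * (h * k)⁻¹ * y⁻¹ = (k * y * k⁻¹ * y⁻¹) * (h * y * h⁻¹ * y⁻¹) := by
    intro h hh k hk
    have h1 : (h * k) * y * (h * k)⁻¹ * y⁻¹ = h * (k * y * k⁻¹ * y⁻¹) * y * h⁻¹ * y⁻¹ := by group
    rw [h1, ← hN _ (hy k hk) h hh]
    group
  have hinv : ∀ h ∈ H, h⁻¹ * y * h⁻¹⁻¹ * y⁻¹ = (h * y * h⁻¹ * y⁻¹)⁻¹ := by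
    intro h hh
    have h1 := hmul h hh h⁻¹ (H.inv_mem hh)
    have h2 : (h * h⁻¹) * y * (h * h⁻¹)⁻¹ * y⁻¹ = 1 := by group
    rw [h2] at h1
    exact eq_inv_of_mul_eq_one_left h1.symm
  let T : Subgroup G := H ⊓ centralizer ({y} : Set G)
  have hT : ⁅H, H⁆ ≤ T := by
    rw [commutator_le]
    intro h hh k hk
    have e : ⁅h, k⁆ = h * k * (h⁻¹ * k⁻¹) := by rw [commutatorElement_def]; group
    have m1 : h * k ∈ H := H.mul_mem hh hk
    have m2 : h⁻¹ * k⁻¹ ∈ H := H.mul_mem (H.inv_mem hh) (H.inv_mem hk)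
    refine ⟨by rw [e]; exact H.mul_mem m1 m2, ?_⟩
    apply mem_centralizer_singleton_iff.2
    have h1 : ⁅h, k⁆ * y * ⁅h, k⁆⁻¹ * y⁻¹ = 1 := by
      rw [e, hmul _ m1 _ m2, hmul _ hh _ hk, hmul _ (H.inv_mem hh) _ (H.inv_mem hk), hinv h hh, hinv k hk]
      have hc := hab _ (hy h hh) _ (hy k hk)
      generalize h * y * h⁻¹ * y⁻¹ = a at hc ⊢
      generalize k * y * k⁻¹ * y⁻¹ = b at hc ⊢
      have : b⁻¹ * a⁻¹ = a⁻¹ * b⁻¹ := by
        rw [← mul_inv_rev, ← mul_inv_rev, hc]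
      rw [this]
      group
    have h2 := mul_inv_eq_one.1 h1
    exact mul_inv_eq_iff_eq_mul.1 h2
  intro h hh
  have h1 : h ∈ ⁅H, H⁆ := by rw [hH]; exact hh
  exact mem_centralizer_singleton_iff.1 (hT h1).2

end Cfsg.Agent.LFourB.RCon
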