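import Cfsg.Agent.LFourB.RConC
import Cfsg.Agent.LFourB.RBase

/-!
# The recognition end of type B1: the input `RIn` from `C(z1)` modulo its odd core

`exists_rin`: `C(z1)/O` contains `K₁ K₂` (two `SL(2,F)`'s), some swap involution `y` inverts `O = O(C(z1))` and `z2`
centralises `O`.
-/

set_option autoImplicit false
set_option linter.unusedSectionVars false

namespace Cfsg.Agent.LFourB.RCon

open Subgroup Cfsg Cfsg.Agent.LFourB Cfsg.Agent.LFourB.BOne Cfsg.Agent.LFourB.RDefs Cfsg.Agent.LFourB.CzB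
open Cfsg.Agent.LFourA.CzCt Cfsg.Agent.StandardComponent.CentCore

variable {G X : Type*} [Group G] [Group X] [Finite G]

section model

variable {S : Subgroup G} {m : ℕ} {f : R m → R m → R m → G} {u w : G}

theorem q_mem {a : R m} : f (2 * a) 0 (-a) ∈ Qone f u := subset_closure (Or.inl ⟨a, rfl⟩)

theorem u1_mem : u * x1 f ∈ Qone f u := subset_closure (Or.inr rfl)

theorem card_Qone_ge (h : BOne S m f u w) : 2 ^ (m + 4) ≤ Nat.card (Qone f u) := by
  classical
  let g : R m × Bool → Qone f u := fun a =>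
    ⟨f (2 * a.1) 0 (-a.1) * (if a.2 then u * x1 f else 1), mul_mem q_mem (by
      split_ifs
      · exact u1_mem
      · exact one_mem _)⟩
  have hx : x1 f = f (N m) 0 0 := rfl
  have key : ∀ a b : R m, f (2 * a) 0 (-a) ≠ f (2 * b) 0 (-b) * (u * x1 f) := by
    intro a b hab
    apply h.u_not_mem_Tor
    have h1 : u = (f (2 * b) 0 (-b))⁻¹ * f (2 * a) 0 (-a) * (x1 f)⁻¹ := by
      rw [hab]; group
    rw [h1]
    exact mul_mem (mul_mem (inv_mem (h.f_mem_Tor (goodq1 b))) (h.f_mem_Tor (goodq1 a)))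
      (inv_mem (h.f_mem_Tor goodx1))
  have hf : ∀ a b : R m, f (2 * a) 0 (-a) = f (2 * b) 0 (-b) → a = b := by
    intro a b hab
    have := ((h.f_eq_iff (goodq1 a) (goodq1 b)).1 hab).2.2
    exact neg_injective this
  have hinj : Function.Injective g := by
    rintro ⟨a, i⟩ ⟨b, j⟩ hab
    have h1 := congrArg Subtype.val hab
    simp only [g] at h1
    cases i <;> cases j
    · simp only [Bool.false_eq_true, if_false, mul_one] at h1
      rw [hf _ _ h1]
    · simp only [Bool.false_eq_true, if_false, mul_one, if_true] at h1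
      exact absurd h1 (key a b)
    · simp only [Bool.false_eq_true, if_false, mul_one, if_true] at h1
      exact absurd h1.symm (key b a)
    · simp only [if_true] at h1
      rw [hf _ _ (mul_right_cancel h1)]
  have h3 := Nat.card_le_card_of_injective g hinj
  rw [Nat.card_prod, card_R] at h3
  have h4 : Nat.card Bool = 2 := by simp
  rw [h4] at h3
  calc 2 ^ (m + 4) = 2 ^ (m + 3) * 2 := by ring
    _ ≤ _ := h3

theorem conj_Qone (h : BOne S m f u w) : cj w (Qone f u) = Qtwo f u w := by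
  unfold cj Qone Qtwo
  rw [MonoidHom.map_closure]
  congr 1
  ext x
  constructor
  · rintro ⟨y, hy, rfl⟩
    rcases hy with ⟨a, rfl⟩ | rfl
    · left
      refine ⟨a, ?_⟩
      change w * f (2 * a) 0 (-a) * w⁻¹ = _
      rw [h.w_f _ _ _ (goodq1 a), mul_inv_cancel_right, neg_neg]
    · right
      change w * (u * x1 f) * w⁻¹ = _
      have h1 : w * (u * x1 f) * w⁻¹ = (w * u * w) * (w * x1 f) * w⁻¹ * (w⁻¹ * w⁻¹ * (w * w)) := by
        rw [h.w_inv, h.w_w]
        have : w * u * w * (w * x1 f) * w = w * u * (w * w) * x1 f * w := by group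
        rw [mul_one, mul_one, this, h.w_w, mul_one]
        group
      have h2 : w⁻¹ * w⁻¹ * (w * w) = 1 := by group
      rw [h1, h2, mul_one, h.w_x1, ub, ← mul_assoc, mul_inv_cancel_right]
  · rintro (⟨a, rfl⟩ | hx)
    · refine ⟨f (2 * a) 0 (-a), Or.inl ⟨a, rfl⟩, ?_⟩
      change w * f (2 * a) 0 (-a) * w⁻¹ = _
      rw [h.w_f _ _ _ (goodq1 a), mul_inv_cancel_right, neg_neg]
    · refine ⟨u * x1 f, Or.inr rfl, ?_⟩
      change w * (u * x1 f) * w⁻¹ = _
      rw [Set.mem_singleton_iff.1 hx]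
      have h1 : w * (u * x1 f) * w⁻¹ = (w * u * w) * (w * x1 f) * w⁻¹ * (w⁻¹ * w⁻¹ * (w * w)) := by
        rw [h.w_inv, h.w_w]
        have : w * u * w * (w * x1 f) * w = w * u * (w * w) * x1 f * w := by group
        rw [mul_one, mul_one, this, h.w_w, mul_one]
        group
      have h2 : w⁻¹ * w⁻¹ * (w * w) = 1 := by group
      rw [h1, h2, mul_one, h.w_x1, ub, ← mul_assoc, mul_inv_cancel_right]

theorem Qone_le_S (h : BOne S m f u w) : Qone f u ≤ S := by
  unfold Qone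
  rw [closure_le]
  rintro x (⟨a, rfl⟩ | hx)
  · exact h.f_mem_S (goodq1 a)
  · rw [Set.mem_singleton_iff.1 hx]
    exact mul_mem h.u_mem (h.f_mem_S goodx1)

theorem Qtwo_le_S (h : BOne S m f u w) : Qtwo f u w ≤ S := by
  rw [← conj_Qone h]
  intro x hx
  rw [mem_cj] at hx
  have h1 := mul_mem (mul_mem h.w_mem (Qone_le_S h hx)) (inv_mem h.w_mem)
  have h2 : w * (w⁻¹ * x * w) * w⁻¹ = x := by group
  rwa [h2] at h1

theorem S_comm_z1 (h : BOne S m f u w) {s : G} (hs : s ∈ S) : s * z1 f = z1 f * s := by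
  obtain ⟨p, q, r, hg, d, hd, rfl⟩ := h.mem_S.1 hs
  have hz : z1 f = f 0 0 (N m) := rfl
  have hN : -N m = N m := neg_N
  have hu : u * z1 f = z1 f * u := by
    rw [hz, h.u_f _ _ _ good1]; simp
  have hw : w * z1 f = z1 f * w := by
    rw [hz, h.w_f _ _ _ good1, hN]
  have hub : ub u w * z1 f = z1 f * ub u w := by
    rw [ub]
    have e1 : w * u * w * z1 f = w * u * (w * z1 f) := by group
    rw [e1, hw]
    have e2 : w * u * (z1 f * w) = w * (u * z1 f) * w := by group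
    rw [e2, hu]
    have e3 : w * (z1 f * u) * w = (w * z1 f) * u * w := by group
    rw [e3, hw]
    group
  have hT : f p q r * z1 f = z1 f * f p q r := h.f_comm hg good1
  have hD : d * z1 f = z1 f * d := by
    rcases hd with rfl | rfl | rfl | rfl | rfl | rfl | rfl | rfl
    · group
    · exact hu
    · exact hub
    · rw [sg, mul_assoc, hub, ← mul_assoc, hu, mul_assoc]
    · exact hw
    · rw [mul_assoc, hw, ← mul_assoc, hu, mul_assoc]
    · rw [mul_assoc, hw, ← mul_assoc, hub, mul_assoc]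
    · rw [sgw, mul_assoc, hw, ← mul_assoc, mul_assoc u, hub, ← mul_assoc, hu, mul_assoc, mul_assoc, mul_assoc]
  rw [mul_assoc, hD, ← mul_assoc, hT, mul_assoc]

end model

variable {P : Sylow 2 G} {m : ℕ} {f : R m → R m → R m → G} {u w : G}
  {p : ↥(centralizer ({z1 f} : Set G)) →* X} {K₁ K₂ : Subgroup X} {F : Type*} [Field F] [Fintype F]

theorem p_inj (_h : BOne (P : Subgroup G) m f u w) (hker : ∀ x, p x = 1 ↔ (x : G) ∈ centralizerPPrimeCore 2 (z1 f))
    {x : ↥(centralizer ({z1 f} : Set G))} (hx : (x : G) ∈ (P : Subgroup G)) (h1 : p x = 1) : (x : G) = 1 := by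
  rw [hker] at h1
  have h2 := core_odd_order h1
  obtain ⟨n, hn⟩ := P.isPGroup' ⟨x, hx⟩
  have hn' : (x : G) ^ 2 ^ n = 1 := congrArg Subtype.val hn
  have h3 : orderOf (x : G) ∣ 2 ^ n := orderOf_dvd_of_pow_eq_one hn'
  have h4 : Nat.Coprime (orderOf (x : G)) (2 ^ n) := (Nat.coprime_two_right.mpr h2).pow_right n
  exact orderOf_eq_one_iff.mp (Nat.eq_one_of_dvd_coprimes h4 dvd_rfl h3)

/-- a homomorphism from a subgroup of `S` to `X` -/
def pq (p : ↥(centralizer ({z1 f} : Set G)) →* X) {Q : Subgroup G} (hQ : Q ≤ centralizer ({z1 f} : Set G)) : Q →* X :=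
  p.comp (inclusion hQ)

theorem pq_inj (h : BOne (P : Subgroup G) m f u w)
    (hker : ∀ x, p x = 1 ↔ (x : G) ∈ centralizerPPrimeCore 2 (z1 f)) {Q : Subgroup G}
    (hQ : Q ≤ centralizer ({z1 f} : Set G)) (hQP : Q ≤ (P : Subgroup G)) : Function.Injective (pq p hQ) := by
  rw [injective_iff_map_eq_one]
  rintro ⟨x, hx⟩ h1
  exact Subtype.ext (p_inj h hker (x := ⟨x, hQ hx⟩) (hQP hx) h1)

/-- a Sylow 2-subgroup of `K₁` is the image of `Q₁` -/
theorem card_sylow_le [Finite X] (_h : BOne (P : Subgroup G) m f u w) (hz : CZB (z1 f) F p K₁ K₂)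
    (hPz : (P : Subgroup G) ≤ centralizer ({z1 f} : Set G))
    {Q₁ Q₂ : Subgroup G} (s1 : ∀ s ∈ (P : Subgroup G), s ∈ up p K₁ → s ∈ Q₁)
    (s2 : ∀ s ∈ (P : Subgroup G), s ∈ up p K₂ → s ∈ Q₂) (hc : Nat.card Q₂ = Nat.card Q₁)
    (Q : Sylow 2 K₁) : Nat.card Q ≤ Nat.card Q₁ := by
  classical
  have hfact : Fact (Nat.Prime 2) := ⟨Nat.prime_two⟩
  let PX : Sylow 2 X := (P.subtype hPz).mapSurjective hz.surj
  have hPX : ∀ x ∈ (PX : Subgroup X), ∃ s : ↥(centralizer ({z1 f} : Set G)), (s : G) ∈ (P : Subgroup G) ∧ p s = x := by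
    intro x hx
    obtain ⟨s, hs, rfl⟩ := hx
    exact ⟨s, hs, rfl⟩
  have hp : IsPGroup 2 ((Q : Subgroup K₁).map K₁.subtype) := Q.isPGroup'.map _
  obtain ⟨R, hR⟩ := hp.exists_le_sylow
  obtain ⟨g, hg⟩ := MulAction.exists_smul_eq X R PX
  have hcard : Nat.card ((Q : Subgroup K₁).map K₁.subtype) = Nat.card Q :=
    card_map_of_injective K₁.subtype_injective
  have hconj : ∀ x ∈ (Q : Subgroup K₁).map K₁.subtype, g * x * g⁻¹ ∈ (PX : Subgroup X) := by
    intro x hx
    rw [← hg, Sylow.coe_subgroup_smul]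
    exact smul_mem_pointwise_smul x (MulAut.conj g) (R : Subgroup X) (hR hx)
  have main : ∀ (A : Subgroup X) (Q' : Subgroup G), (∀ x ∈ K₁, g * x * g⁻¹ ∈ A) →
      (∀ s ∈ (P : Subgroup G), s ∈ up p A → s ∈ Q') → Nat.card Q ≤ Nat.card Q' := by
    intro A Q' hA hQ'
    rw [← hcard]
    have h1 : ∀ x : (Q : Subgroup K₁).map K₁.subtype, ∃ q : Q', ∃ hq : (q : G) ∈ centralizer ({z1 f} : Set G),
        p ⟨q, hq⟩ = g * x * g⁻¹ := by
      rintro ⟨x, hx⟩
      obtain ⟨s, hs, hsx⟩ := hPX _ (hconj x hx)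
      have hxK : x ∈ K₁ := map_subtype_le _ hx
      have h2 : (s : G) ∈ up p A := mem_up.2 ⟨s.2, by rw [show (⟨(s : G), s.2⟩ : ↥(centralizer ({z1 f} : Set G))) = s from rfl, hsx]; exact hA x hxK⟩
      exact ⟨⟨s, hQ' s hs h2⟩, s.2, hsx⟩
    choose φ hφ hφ' using h1
    refine Nat.card_le_card_of_injective φ ?_
    intro x y hxy
    have e1 := hφ' x
    have e2 := hφ' y
    have e3 : p ⟨(φ x : G), hφ x⟩ = p ⟨(φ y : G), hφ y⟩ := by
      congr 1
      apply Subtype.ext
      exact congrArg (fun a : Q' => (a : G)) hxy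
    rw [e1, e2] at e3
    exact Subtype.ext (mul_left_cancel (mul_right_cancel e3))
  rcases hz.norm g with h1 | h1
  · exact main K₁ Q₁ h1.1 s1
  · rw [← hc]
    exact main K₂ Q₂ h1.1 s2

end Cfsg.Agent.LFourB.RCon
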