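import Cfsg.Agent.LFourB.RCon

/-!
# The recognition end of type B1: `L1 → SL(2,F)`, and `GZ = ⊤` from the closing
-/

set_option autoImplicit false
set_option linter.unusedSectionVars false

namespace Cfsg.Agent.LFourB.RCon

open Subgroup Cfsg Cfsg.Agent.LFourB Cfsg.Agent.LFourB.BOne Cfsg.Agent.LFourB.RDefs Cfsg.Agent.LFourB.CzB
open Cfsg.Agent.LFourA.CzCt Cfsg.Agent.StandardComponent.CentCore Cfsg.Agent.LFourB.RDefs.RIn

variable {G X : Type*} [Group G] [Group X] [Finite G]
  {P : Sylow 2 G} {m : ℕ} {f : R m → R m → R m → G} {u w : G}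
  {p : ↥(centralizer ({z1 f} : Set G)) →* X} {K₁ K₂ : Subgroup X} {F : Type*} [Field F] [Fintype F]

namespace In

variable {y : G}

/-- `L1` is a central extension of `SL(2,F)` by a group of odd order. -/
theorem exists_pi (I : In P m f u w F p K₁ K₂ y) :
    ∃ π : (perf (up p K₁) : Subgroup G) →* Matrix.SpecialLinearGroup (Fin 2) F, Function.Surjective π ∧
      π.ker ≤ center (perf (up p K₁) : Subgroup G) ∧ Odd (Nat.card π.ker) := by
  obtain ⟨e⟩ := I.hz.e₁
  have hL : perf (up p K₁) ≤ centralizer ({z1 f} : Set G) := (perf_le _).trans (up_le p K₁)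
  have hmem : ∀ x : (perf (up p K₁) : Subgroup G), pq p hL x ∈ K₁ := by
    rintro ⟨x, hx⟩
    obtain ⟨m1, h1⟩ := mem_up.1 (perf_le _ hx)
    exact h1
  let φ : (perf (up p K₁) : Subgroup G) →* K₁ := (pq p hL).codRestrict K₁ hmem
  have hφ : Function.Surjective φ := by
    rintro ⟨k, hk⟩
    obtain ⟨x, hx, mx, hpx⟩ := exists_lift I.hz.surj I.perf₁ hk
    exact ⟨⟨x, hx⟩, Subtype.ext hpx⟩
  have hker : ∀ x : (perf (up p K₁) : Subgroup G), φ x = 1 → (x : G) ∈ centralizerPPrimeCore 2 (z1 f) := by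
    rintro ⟨x, hx⟩ h1
    exact (I.hz.ker ⟨x, hL hx⟩).1 (congrArg Subtype.val h1)
  refine ⟨e.toMonoidHom.comp φ, e.surjective.comp hφ, ?_, ?_⟩
  · intro x hx
    have h1 : φ x = 1 := e.injective (by
      rw [map_one]
      exact hx)
    rw [mem_center_iff]
    intro g
    exact Subtype.ext (I.o₁ _ (hker x h1) g g.2).symm
  · have h1 : ((e.toMonoidHom.comp φ).ker.map (perf (up p K₁)).subtype) ≤ centralizerPPrimeCore 2 (z1 f) := by
      rintro _ ⟨x, hx, rfl⟩
      have h1 : φ x = 1 := e.injective (by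
        rw [map_one]
        exact hx)
      exact hker x h1
    have h2 : Nat.card (e.toMonoidHom.comp φ).ker =
        Nat.card ((e.toMonoidHom.comp φ).ker.map (perf (up p K₁)).subtype) :=
      (card_map_of_injective (perf (up p K₁)).subtype_injective).symm
    rw [h2]
    exact Odd.of_dvd_nat (core_odd _) (card_dvd_of_le h1)

end In

/-- **Closing**: if `C(z1)` and `N(T)` generate `G` then `GZ = ⊤`. -/
theorem GZ_eq_top [IsSimpleGroup G] {L1 L2 : Subgroup G} (hR : RIn P f u w L1 L2)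
    (hcl : ∀ M : Subgroup G, centralizer ({z1 f} : Set G) ≤ M → normalizer (Tor f : Set G) ≤ M → M = ⊤) :
    GZ f L1 = ⊤ := by
  have h1 := hcl _ hR.cent_z1_le normalizer_Tor_le
  have h2 : (GZ f L1).Normal := normalizer_eq_top_iff.1 h1
  rcases h2.eq_bot_or_eq_top with h3 | h3
  · exfalso
    have h4 : z1 f ∈ GZ f L1 := L1_le_GZ (by
      rw [← hR.h1_sq]
      exact mul_mem hR.h1_mem hR.h1_mem)
    rw [h3, mem_bot] at h4
    exact N_ne_zero ((hR.model.f_eq_one_iff good1).1 h4).2.2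
  · exact h3

end Cfsg.Agent.LFourB.RCon
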