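import Cfsg.Agent.LFourB.RConE
import Cfsg.Agent.LFourB.ProdCent
import Cfsg.Agent.LFourB.KEnd

/-!
# The recognition end of type B1: the input `In` from `CZPL` and the symplectic frame with `W = 1`
-/

set_option autoImplicit false
set_option linter.unusedSectionVars false

namespace Cfsg.Agent.LFourB.RCon

open Subgroup Cfsg Cfsg.Agent.LFourB Cfsg.Agent.LFourB.BOne Cfsg.Agent.LFourB.RDefs Cfsg.Agent.LFourB.CzB
open Cfsg.Agent.LFourA.CzCt Cfsg.Agent.StandardComponent.CentCore Cfsg.Agent.LFourB.ProdCent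
open Cfsg.Agent.Lib.SymFrame

variable {G X : Type*} [Group G] [Group X] [Finite G]
  {P : Sylow 2 G} {m : ℕ} {f : R m → R m → R m → G} {u w : G}
  {p : ↥(centralizer ({z1 f} : Set G)) →* X} {K₁ K₂ : Subgroup X} {F : Type*} [Field F]

/-- `CZPL` implies `CZB` -/
theorem czb_of_czpl (hz : CZPL (z1 f) F p K₁ K₂ (P : Subgroup G) (Qone f u) (Qtwo f u w)) :
    CZB (z1 f) F p K₁ K₂ where
  surj := hz.surj
  ker := hz.ker
  comm := hz.comm
  z₁ := hz.z₁
  z₂ := hz.z₂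
  inf := hz.inf
  norm := hz.norm
  cent := by
    intro g ho h1 h2
    obtain ⟨s, hs, -, -, rfl⟩ := hz.cent g h1 h2
    obtain ⟨n, hn⟩ := P.isPGroup' ⟨(s : G), hs⟩
    have hn' : (s : G) ^ 2 ^ n = 1 := congrArg Subtype.val hn
    have h3 : p s ^ 2 ^ n = 1 := by
      rw [← map_pow, ← map_one p]
      congr 1
      exact Subtype.ext hn'
    have h4 : orderOf (p s) ∣ 2 ^ n := orderOf_dvd_of_pow_eq_one h3
    have h5 : Nat.Coprime (orderOf (p s)) (2 ^ n) := (Nat.coprime_two_right.mpr ho).pow_right n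
    exact orderOf_eq_one_iff.mp (Nat.eq_one_of_dvd_coprimes h5 dvd_rfl h4)
  e₁ := hz.e₁
  e₂ := hz.e₂

/-- **`In` from `CZPL` and the inversion of `O(C(z1))` by the swaps of `E`.** -/
theorem in_of_inv (h : BOne (P : Subgroup G) m f u w)
    (hz : CZPL (z1 f) F p K₁ K₂ (P : Subgroup G) (Qone f u) (Qtwo f u w)) {E H : Subgroup G}
    (hl : KLoc.Loc (z1 f) F p K₁ K₂ E H) (o : KForm.Orb (z1 f) E H)
    (hinv : ∀ b ∈ E, b ∉ H → ∀ a ∈ centralizerPPrimeCore 2 (z1 f), b * a * b⁻¹ = a⁻¹)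
    {y : G} (hyE : y ∈ E) (hyH : y ∉ H) (hz2 : z2 f ∈ H) :
    In P m f u w F p K₁ K₂ y := by
  have hyz : y * z1 f = z1 f * y := o.comm hyE o.z_memE
  have hsw := hl.swap y hyE hyH (mem_centralizer_singleton_iff.2 hyz)
  refine
    { model := h
      hz := czb_of_czpl hz
      perf₁ := hz.perf₁
      perf₂ := hz.perf₂
      q₁ := hz.q₁
      q₂ := hz.q₂
      s₁ := hz.s₁
      s₂ := hz.s₂
      yz := hyz
      yy := o.sq hyE
      inv := fun a ha => hinv y hyE hyH a ha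
      sw₁ := hsw.1
      sw₂ := hsw.2
      cz2 := ?_ }
  intro a ha
  have h3 : y * z2 f ∈ E := mul_mem hyE (o.le hz2)
  have h4 : y * z2 f ∉ H := by
    intro h5
    apply hyH
    have := mul_mem h5 (inv_mem hz2)
    rwa [mul_inv_cancel_right] at this
  have e1 := hinv _ h3 h4 a ha
  have e2 := hinv y hyE hyH a ha
  have e3 : y * z2 f * a * (y * z2 f)⁻¹ = y * (z2 f * a * (z2 f)⁻¹) * y⁻¹ := by group
  rw [e3, ← e2] at e1
  have e4 : z2 f * a * (z2 f)⁻¹ = a := mul_left_cancel (mul_right_cancel e1)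
  exact (mul_inv_eq_iff_eq_mul.1 e4).symm

/-- **`In` from `CZPL` and `W = 1`.** -/
theorem in_of [Finite F] (h : BOne (P : Subgroup G) m f u w)
    (hz : CZPL (z1 f) F p K₁ K₂ (P : Subgroup G) (Qone f u) (Qtwo f u w)) {E H : Subgroup G}
    (hl : KLoc.Loc (z1 f) F p K₁ K₂ E H) (o : KForm.Orb (z1 f) E H) (h2 : (2 : F) ≠ 0)
    (hW : Completion E (⊥ : Subgroup G)) {y : G} (hyE : y ∈ E) (hyH : y ∉ H) (hz2 : z2 f ∈ H) :
    In P m f u w F p K₁ K₂ y :=
  in_of_inv h hz hl o (fun _ hb hbH _ ha => hl.inv_core o h2 hW hb hbH ha) hyE hyH hz2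

end Cfsg.Agent.LFourB.RCon
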