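import Cfsg.Agent.LFourB.RBase
import Cfsg.Agent.J2Sylow.Functor

/-!
# The recognition end of type B1: `O(C(x4))` is centralised by `V` and by `K_{01}`, `K_{02}`, `K_{12}`
-/

set_option autoImplicit false
set_option linter.unusedSectionVars false

namespace Cfsg.Agent.LFourB.RDefs

open Subgroup Cfsg Cfsg.Agent.LFourB Cfsg.Agent.LFourB.BOne Cfsg.Agent.J2Sylow.Functor

variable {G : Type*} [Group G] [Finite G] {P : Sylow 2 G} {m : ℕ} {f : R m → R m → R m → G} {u w : G}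
  {L1 L2 : Subgroup G}

namespace RIn

theorem X_mem_Y (hR : RIn P f u w L1 L2) (i j : Fin 4) : X f i ∈ centralizer ({X f j} : Set G) :=
  mem_cent_iff.mpr (hR.X_comm i j)

theorem z1_mem_Y (hR : RIn P f u w L1 L2) (j : Fin 4) : z1 f ∈ centralizer ({X f j} : Set G) := by
  rw [hR.z1_eq]; exact Subgroup.mul_mem _ (hR.X_mem_Y _ _) (hR.X_mem_Y _ _)

theorem z2_mem_Y (hR : RIn P f u w L1 L2) (j : Fin 4) : z2 f ∈ centralizer ({X f j} : Set G) := by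
  rw [hR.z2_eq]; exact Subgroup.mul_mem _ (hR.X_mem_Y _ _) (hR.X_mem_Y _ _)

theorem z2_sq (hR : RIn P f u w L1 L2) : z2 f * z2 f = 1 := by
  rw [z2, hR.model.f_mul _ _ _ _ _ _ good2 good2, N_add_N, add_zero, hR.model.f_zero]

theorem z12_comm (hR : RIn P f u w L1 L2) : z1 f * z2 f = z2 f * z1 f :=
  hR.model.Tor_comm (hR.model.f_mem_Tor good1) (hR.model.f_mem_Tor good2)

theorem L1_le_Y (hR : RIn P f u w L1 L2) : L1 ≤ centralizer ({X f 3} : Set G) := fun _ hx =>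
  mem_cent_iff.mpr (hR.x3_cent hx).symm

/-- `C_{O(Y)}(z1)` centralises `L1`. -/
theorem core_L1 (hR : RIn P f u w L1 L2) {a : G} (ha : a ∈ K (X f 3)) (haz : a * z1 f = z1 f * a) :
    ∀ l ∈ L1, a * l = l * a := by
  have haY := mem_cent_iff.mp (K_le _ ha)
  have hn := (hR.norm_of_x3 (mem_cent_iff.mpr haz) haY).1
  have hN : ∀ x ∈ L1 ⊓ K (X f 3), ∀ l ∈ L1, x * l = l * x := by
    apply hR.odd1 _ inf_le_left
    · intro l hl
      apply le_antisymm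
      · intro x hx
        rw [mem_cj] at hx
        have h1 := L1.mul_mem (L1.mul_mem hl hx.1) (L1.inv_mem hl)
        have h2 := K_conj (hR.L1_le_Y hl) hx.2
        have h3 : l * (l⁻¹ * x * l) * l⁻¹ = x := by group
        rw [h3] at h1 h2
        exact ⟨h1, h2⟩
      · intro x hx
        rw [mem_cj]
        refine ⟨L1.mul_mem (L1.mul_mem (L1.inv_mem hl) hx.1) hl, ?_⟩
        have h2 := K_conj (hR.L1_le_Y (L1.inv_mem hl)) hx.2
        rwa [inv_inv] at h2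
    · intro h2
      have h3 : 2 ∣ Nat.card (K (X f 3)) := h2.trans (card_dvd_of_le inf_le_right)
      have h4 := K_odd (X f 3)
      rw [← Nat.not_even_iff_odd, even_iff_two_dvd] at h4
      exact h4 h3
  have h1 : ∀ l ∈ L1, a * l * a⁻¹ * l⁻¹ ∈ L1 ⊓ K (X f 3) := by
    intro l hl
    refine ⟨?_, ?_⟩
    · have h2 : a * l * a⁻¹ ∈ L1 := by
        have := conj_mem_cj (g := a) hl
        rwa [hn] at this
      exact L1.mul_mem h2 (L1.inv_mem hl)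
    · have h2 := K_conj (hR.L1_le_Y hl) (Subgroup.inv_mem _ ha)
      have h3 : a * l * a⁻¹ * l⁻¹ = a * (l * a⁻¹ * l⁻¹) := by group
      rw [h3]
      exact Subgroup.mul_mem _ ha h2
  -- the commutator map is a homomorphism into a central subgroup, and `L1` is perfect
  have hmul : ∀ l ∈ L1, ∀ l' ∈ L1, a * (l * l') * a⁻¹ * (l * l')⁻¹ = (a * l * a⁻¹ * l⁻¹) * (a * l' * a⁻¹ * l'⁻¹) := by
    intro l hl l' hl'
    have h2 := hN _ (h1 l' hl') l hl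
    calc a * (l * l') * a⁻¹ * (l * l')⁻¹ = (a * l * a⁻¹) * (a * l' * a⁻¹ * l'⁻¹) * l⁻¹ := by group
      _ = (a * l * a⁻¹ * l⁻¹) * (l * (a * l' * a⁻¹ * l'⁻¹)) * l⁻¹ := by group
      _ = (a * l * a⁻¹ * l⁻¹) * ((a * l' * a⁻¹ * l'⁻¹) * l) * l⁻¹ := by rw [h2]
      _ = _ := by group
  have hle : ⁅L1, L1⁆ ≤ centralizer ({a} : Set G) := by
    rw [commutator_le]
    intro x hx y hy
    change x * y * x⁻¹ * y⁻¹ ∈ centralizer ({a} : Set G)
    rw [mem_cent_iff]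
    have e : ∀ l ∈ L1, a * l⁻¹ * a⁻¹ * l⁻¹⁻¹ = (a * l * a⁻¹ * l⁻¹)⁻¹ := by
      intro l hl
      have h2 := hmul l hl l⁻¹ (L1.inv_mem hl)
      rw [mul_inv_cancel, mul_one, inv_one, mul_one, mul_inv_cancel] at h2
      exact (inv_eq_of_mul_eq_one_right h2.symm).symm
    have hx' := L1.inv_mem hx
    have hy' := L1.inv_mem hy
    have h3 : a * (x * y * x⁻¹ * y⁻¹) * a⁻¹ * (x * y * x⁻¹ * y⁻¹)⁻¹ = 1 := by
      rw [hmul _ (L1.mul_mem (L1.mul_mem hx hy) hx') _ hy',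
        hmul _ (L1.mul_mem hx hy) _ hx', hmul _ hx _ hy, e _ hx, e _ hy]
      have h5 := hN _ (h1 y hy) _ (L1.inv_mem (h1 x hx).1)
      rw [mul_assoc (a * x * a⁻¹ * x⁻¹), h5]
      group
    have h4 : a * (x * y * x⁻¹ * y⁻¹) * a⁻¹ = x * y * x⁻¹ * y⁻¹ := mul_inv_eq_one.mp h3
    exact (mul_inv_eq_iff_eq_mul.mp h4).symm
  intro l hl
  rw [← hR.perf1] at hl
  exact (mem_cent_iff.mp (hle hl)).symm

/-- `C_{O(Y)}(z1)` centralises `z2`. -/
theorem core_z2 (hR : RIn P f u w L1 L2) {a : G} (ha : a ∈ K (X f 3)) (haz : a * z1 f = z1 f * a) :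
    a * z2 f = z2 f * a := by
  have haY := mem_cent_iff.mp (K_le _ ha)
  have hn := (hR.norm_of_x3 (mem_cent_iff.mpr haz) haY).2
  have hz2i : (z2 f)⁻¹ = z2 f := inv_eq_of_mul_eq_one_left hR.z2_sq
  -- a' = z2 a⁻¹ z2⁻¹
  have ha' : z2 f * a⁻¹ * (z2 f)⁻¹ ∈ K (X f 3) := K_conj (hR.z2_mem_Y 3) (Subgroup.inv_mem _ ha)
  have ha'z : (z2 f * a⁻¹ * (z2 f)⁻¹) * z1 f = z1 f * (z2 f * a⁻¹ * (z2 f)⁻¹) := by
    have e1 : a⁻¹ * z1 f = z1 f * a⁻¹ := by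
      rw [inv_mul_eq_iff_eq_mul, ← mul_assoc, haz, mul_inv_cancel_right]
    rw [hz2i]
    calc z2 f * a⁻¹ * z2 f * z1 f = z2 f * a⁻¹ * (z2 f * z1 f) := by group
      _ = z2 f * (a⁻¹ * z1 f) * z2 f := by rw [← hR.z12_comm]; group
      _ = z2 f * z1 f * (a⁻¹ * z2 f) := by rw [e1]; group
      _ = z1 f * (z2 f * a⁻¹ * z2 f) := by rw [← hR.z12_comm]; group
  set b := a * (z2 f * a⁻¹ * (z2 f)⁻¹) with hb
  have hbK : b ∈ K (X f 3) := Subgroup.mul_mem _ ha ha'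
  have hodd : Odd (orderOf b) := odd_orderOf_of_mem (K_odd _) hbK
  have hb1 : ∀ x ∈ L1, b * x = x * b := by
    intro x hx
    rw [hb, mul_assoc, hR.core_L1 ha' ha'z x hx, ← mul_assoc, hR.core_L1 ha haz x hx, mul_assoc]
  have hb2 : ∀ x ∈ L2, b * x = x * b := by
    intro x hx
    -- z2 a⁻¹ z2⁻¹ = X1 a⁻¹ X1⁻¹
    have e1 : z2 f * a⁻¹ * (z2 f)⁻¹ = X f 1 * a⁻¹ * (X f 1)⁻¹ := by
      have e2 : a⁻¹ * (X f 3)⁻¹ = (X f 3)⁻¹ * a⁻¹ := by
        rw [← mul_inv_rev, ← mul_inv_rev, haY]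
      rw [hR.z2_eq', mul_inv_rev]
      calc X f 1 * X f 3 * a⁻¹ * ((X f 3)⁻¹ * (X f 1)⁻¹) = X f 1 * (X f 3 * (a⁻¹ * (X f 3)⁻¹)) * (X f 1)⁻¹ := by group
        _ = X f 1 * a⁻¹ * (X f 1)⁻¹ := by rw [e2]; group
    have hax : a⁻¹ * x * a ∈ L2 := by
      rw [← hn] at hx
      exact mem_cj.mp hx
    have c1 := hR.x1_cent hx
    have c2 := hR.x1_cent hax
    have e3 : b * x * b⁻¹ = x := by
      rw [hb, e1]
      calc a * (X f 1 * a⁻¹ * (X f 1)⁻¹) * x * (a * (X f 1 * a⁻¹ * (X f 1)⁻¹))⁻¹ =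
          a * (X f 1 * (a⁻¹ * ((X f 1)⁻¹ * (x * X f 1)) * a) * (X f 1)⁻¹) * a⁻¹ := by group
        _ = a * (X f 1 * (a⁻¹ * x * a) * (X f 1)⁻¹) * a⁻¹ := by rw [← c1]; group
        _ = x := by rw [c2]; group
    exact mul_inv_eq_iff_eq_mul.mp e3
  have hbz := hR.core b hodd hb1 hb2
  -- z2 inverts b
  have hinv : z2 f * b * (z2 f)⁻¹ = b⁻¹ := by
    rw [hb, hz2i]
    calc z2 f * (a * (z2 f * a⁻¹ * z2 f)) * z2 f = z2 f * a * z2 f * a⁻¹ * (z2 f * z2 f) := by group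
      _ = (a * (z2 f * a⁻¹ * z2 f))⁻¹ := by
        rw [hR.z2_sq, mul_one, mul_inv_rev, mul_inv_rev, mul_inv_rev, inv_inv, hz2i, mul_assoc (z2 f)]
  have h3 : b = b⁻¹ := by
    rw [← hinv, ← hbz, mul_inv_cancel_right]
  have h4 : b = 1 := eq_one_of_odd (by
    calc b * b = b * b⁻¹ := by rw [← h3]
      _ = 1 := mul_inv_cancel b) hodd
  rw [hb] at h4
  have h5 : z2 f * a⁻¹ * (z2 f)⁻¹ = a⁻¹ := (inv_eq_of_mul_eq_one_right h4).symm
  have h6 : z2 f * a⁻¹ = a⁻¹ * z2 f := mul_inv_eq_iff_eq_mul.mp h5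
  calc a * z2 f = a * (z2 f * a⁻¹) * a := by group
    _ = a * (a⁻¹ * z2 f) * a := by rw [h6]
    _ = z2 f * a := by group

/-- commuting with `z1` and `z2` means commuting with all products `X i X j`. -/
theorem comm_XX (hR : RIn P f u w L1 L2) {g : G} (h1 : g * z1 f = z1 f * g) (h2 : g * z2 f = z2 f * g) (i j : Fin 4) :
    g * (X f i * X f j) = X f i * X f j * g := by
  have a0 : ∀ j : Fin 4, g * (X f 0 * X f j) = X f 0 * X f j * g := by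
    intro j
    fin_cases j
    · change g * (X f 0 * X f 0) = X f 0 * X f 0 * g
      rw [hR.X_sq, mul_one, one_mul]
    · change g * (X f 0 * X f 1) = X f 0 * X f 1 * g
      rw [← hR.z1_eq]; exact h1
    · change g * (X f 0 * X f 2) = X f 0 * X f 2 * g
      rw [← hR.z2_eq]; exact h2
    · change g * (X f 0 * X f 3) = X f 0 * X f 3 * g
      rw [← hR.z3_eq, hR.z3_eq', ← mul_assoc, h1, mul_assoc, h2, ← mul_assoc]
  have e : X f i * X f j = (X f 0 * X f i) * (X f 0 * X f j) := by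
    rw [hR.X_comm 0 i, mul_assoc, ← mul_assoc (X f 0) (X f 0), hR.X_sq, one_mul]
  rw [e, ← mul_assoc, a0 i, mul_assoc, a0 j, ← mul_assoc]

theorem comm_X3_of_ind (_hR : RIn P f u w L1 L2) {n : G} {ρ : Equiv.Perm (Fin 4)} (hn : Ind f n ρ) (h3 : ρ 3 = 3) :
    n ∈ centralizer ({X f 3} : Set G) := by
  have h1 := hn.2 3
  rw [h3] at h1
  exact mem_cent_iff.mpr (mul_inv_eq_iff_eq_mul.mp h1)

/-- for `n ∈ N(T) ∩ C(x4)` and `a ∈ O(Y)` commuting with `n z1 n⁻¹`. -/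
theorem core_conj (hR : RIn P f u w L1 L2) {n : G} {ρ : Equiv.Perm (Fin 4)} (hn : Ind f n ρ) (h3 : ρ 3 = 3) {a : G}
    (ha : a ∈ K (X f 3)) (haz : a * (X f (ρ 0) * X f (ρ 1)) = X f (ρ 0) * X f (ρ 1) * a) :
    a * z1 f = z1 f * a ∧ a * z2 f = z2 f * a := by
  have hnY := hR.comm_X3_of_ind hn h3
  have ha' : n⁻¹ * a * n ∈ K (X f 3) := by
    have := K_conj (Subgroup.inv_mem _ hnY) ha
    rwa [inv_inv] at this
  have e0 : n⁻¹ * (X f (ρ 0) * X f (ρ 1)) * n = z1 f := by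
    rw [hR.z1_eq, ← hn.2, ← hn.2]; group
  have h1 : (n⁻¹ * a * n) * z1 f = z1 f * (n⁻¹ * a * n) := by
    rw [← e0]
    calc n⁻¹ * a * n * (n⁻¹ * (X f (ρ 0) * X f (ρ 1)) * n) = n⁻¹ * (a * (X f (ρ 0) * X f (ρ 1))) * n := by group
      _ = n⁻¹ * (X f (ρ 0) * X f (ρ 1) * a) * n := by rw [haz]
      _ = n⁻¹ * (X f (ρ 0) * X f (ρ 1)) * n * (n⁻¹ * a * n) := by group
  have h2 := hR.core_z2 ha' h1
  have h4 := hR.comm_XX h1 h2
  have key : ∀ i j : Fin 4, a * (X f i * X f j) = X f i * X f j * a := by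
    intro i j
    have h5 := h4 (ρ⁻¹ i) (ρ⁻¹ j)
    have e : X f i * X f j = n * (X f (ρ⁻¹ i) * X f (ρ⁻¹ j)) * n⁻¹ := by
      have e1 := hn.2 (ρ⁻¹ i)
      have e2 := hn.2 (ρ⁻¹ j)
      rw [perm_apply_inv] at e1 e2
      rw [← e1, ← e2]; group
    rw [e]
    calc a * (n * (X f (ρ⁻¹ i) * X f (ρ⁻¹ j)) * n⁻¹) =
        n * ((n⁻¹ * a * n) * (X f (ρ⁻¹ i) * X f (ρ⁻¹ j))) * n⁻¹ := by group
      _ = n * (X f (ρ⁻¹ i) * X f (ρ⁻¹ j) * (n⁻¹ * a * n)) * n⁻¹ := by rw [h5]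
      _ = n * (X f (ρ⁻¹ i) * X f (ρ⁻¹ j)) * n⁻¹ * a := by group
  rw [hR.z1_eq, hR.z2_eq]
  exact ⟨key _ _, key _ _⟩

/-- **`O(C(x4))` centralises `V`.** -/
theorem core_V (hR : RIn P f u w L1 L2) {a : G} (ha : a ∈ K (X f 3)) : a * z1 f = z1 f * a ∧ a * z2 f = z2 f * a := by
  let M0 : Subgroup G := centralizer ({z1 f, z2 f} : Set G)
  have hM0 : ∀ x, x ∈ M0 ↔ x * z1 f = z1 f * x ∧ x * z2 f = z2 f * x := by
    intro x
    rw [Subgroup.mem_centralizer_iff]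
    constructor
    · intro h
      exact ⟨(h _ (by simp)).symm, (h _ (by simp)).symm⟩
    · rintro ⟨h1, h2⟩ y hy
      rcases hy with rfl | rfl
      · exact h1.symm
      · exact h2.symm
  have hmain : K (X f 3) ≤ M0 := by
    apply Lib.KleinGen.le_of_klein _ _ (K_odd _) (z1 f) (z2 f) hR.z1_sq hR.z2_sq hR.z12_comm
    · intro x hx; exact K_conj (hR.z1_mem_Y 3) hx
    · intro x hx; exact K_conj (hR.z2_mem_Y 3) hx
    · rintro x ⟨hx, hz⟩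
      have hz' := mem_cent_iff.mp hz
      exact (hM0 x).mpr ⟨hz', hR.core_z2 hx hz'⟩
    · rintro x ⟨hx, hz⟩
      have hz' := mem_cent_iff.mp hz
      obtain ⟨n, hn⟩ := hR.perm (Equiv.swap 1 2)
      refine (hM0 x).mpr (hR.core_conj hn (by decide) hx ?_)
      have e0 : (Equiv.swap (1 : Fin 4) 2) 0 = 0 := by decide
      have e1 : (Equiv.swap (1 : Fin 4) 2) 1 = 2 := by decide
      rw [e0, e1, ← hR.z2_eq]
      exact hz'
    · rintro x ⟨hx, hz⟩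
      have hz' := mem_cent_iff.mp hz
      obtain ⟨n, hn⟩ := hR.perm (Equiv.swap 0 1 * Equiv.swap 1 2)
      refine (hM0 x).mpr (hR.core_conj hn (by decide) hx ?_)
      have e0 : (Equiv.swap (0 : Fin 4) 1 * Equiv.swap 1 2 : Equiv.Perm (Fin 4)) 0 = 1 := by decide
      have e1 : (Equiv.swap (0 : Fin 4) 1 * Equiv.swap 1 2 : Equiv.Perm (Fin 4)) 1 = 2 := by decide
      rw [e0, e1]
      have e2 : X f 1 * X f 2 = z1 f * z2 f := by
        rw [hR.z1_eq, hR.z2_eq, hR.X_comm 0 1, mul_assoc, ← mul_assoc (X f 0), hR.X_sq, one_mul]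
      rw [e2]
      exact hz'
  exact (hM0 a).mp (hmain ha)

/-- **`O(C(x4))` centralises `K_{ij}` for `i, j ≠ 3`.** -/
theorem core_KK (hR : RIn P f u w L1 L2) {a : G} (ha : a ∈ K (X f 3)) {i j : Fin 4} (hij : i ≠ j) (hi : i ≠ 3)
    (hj : j ≠ 3) {x : G} (hx : x ∈ KK f L1 i j) : a * x = x * a := by
  obtain ⟨ρ, h0, h1, h3⟩ : ∃ ρ : Equiv.Perm (Fin 4), ρ 0 = i ∧ ρ 1 = j ∧ ρ 3 = 3 := by
    revert hij hi hj
    clear hx
    revert i j
    decide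
  obtain ⟨n, hn⟩ := hR.perm ρ
  have e := hR.KK_eq hn
  rw [h0, h1] at e
  rw [e, mem_cj] at hx
  have hnY := hR.comm_X3_of_ind hn h3
  have ha' : n⁻¹ * a * n ∈ K (X f 3) := by
    have := K_conj (Subgroup.inv_mem _ hnY) ha
    rwa [inv_inv] at this
  have h4 := hR.core_L1 ha' (hR.core_V ha').1 _ hx
  calc a * x = n * ((n⁻¹ * a * n) * (n⁻¹ * x * n)) * n⁻¹ := by group
    _ = n * ((n⁻¹ * x * n) * (n⁻¹ * a * n)) * n⁻¹ := by rw [h4]
    _ = x * a := by group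

end RIn

/-- `J = ⟨K_{01}, K_{02}, K_{12}⟩`. -/
def JJ (f : R m → R m → R m → G) (L1 : Subgroup G) : Subgroup G := KK f L1 0 1 ⊔ KK f L1 0 2 ⊔ KK f L1 1 2

namespace RIn

theorem KK_le_JJ (hR : RIn P f u w L1 L2) {i j : Fin 4} (hij : i ≠ j) (hi : i ≠ 3) (hj : j ≠ 3) :
    KK f L1 i j ≤ JJ f L1 := by
  have h01 : KK f L1 0 1 ≤ JJ f L1 := le_sup_left.trans le_sup_left
  have h02 : KK f L1 0 2 ≤ JJ f L1 := le_sup_right.trans le_sup_left
  have h12 : KK f L1 1 2 ≤ JJ f L1 := le_sup_right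
  fin_cases i <;> fin_cases j
  · exact (hij rfl).elim
  · exact h01
  · exact h02
  · exact (hj rfl).elim
  · rw [hR.KK_symm hij]; exact h01
  · exact (hij rfl).elim
  · exact h12
  · exact (hj rfl).elim
  · rw [hR.KK_symm hij]; exact h02
  · rw [hR.KK_symm hij]; exact h12
  · exact (hij rfl).elim
  · exact (hj rfl).elim
  · exact (hi rfl).elim
  · exact (hi rfl).elim
  · exact (hi rfl).elim
  · exact (hij rfl).elim

theorem JJ_le_of (_hR : RIn P f u w L1 L2) {M : Subgroup G}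
    (h : ∀ i j : Fin 4, i ≠ j → i ≠ 3 → j ≠ 3 → KK f L1 i j ≤ M) : JJ f L1 ≤ M :=
  sup_le (sup_le (h _ _ (by decide) (by decide) (by decide)) (h _ _ (by decide) (by decide) (by decide)))
    (h _ _ (by decide) (by decide) (by decide))

theorem JJ_le_Y (hR : RIn P f u w L1 L2) : JJ f L1 ≤ centralizer ({X f 3} : Set G) :=
  hR.JJ_le_of fun _ _ hij hi hj _ hx =>
    mem_cent_iff.mpr (hR.X_cent_KK hij (Ne.symm hi) (Ne.symm hj) hx).symm

/-- **`[J, O(C(x4))] = 1`.** -/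
theorem JJ_core (hR : RIn P f u w L1 L2) {a x : G} (ha : a ∈ K (X f 3)) (hx : x ∈ JJ f L1) : a * x = x * a := by
  have h1 : JJ f L1 ≤ centralizer ({a} : Set G) :=
    hR.JJ_le_of fun _ _ hij hi hj _ hx => mem_cent_iff.mpr (hR.core_KK ha hij hi hj hx).symm
  exact (mem_cent_iff.mp (h1 hx)).symm

theorem JJ_le_GZ (hR : RIn P f u w L1 L2) : JJ f L1 ≤ GZ f L1 :=
  hR.JJ_le_of fun _ _ hij _ _ => hR.KK_le_GZ hij

end RIn

end Cfsg.Agent.LFourB.RDefs
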