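import Cfsg.Agent.LFourB.Weak
import Cfsg.Prelude.Def_Local

/-!
# The recognition end of type B1: interface

`RIn`: input from the fusion analysis and from `C(z1)`: subgroups `L1`, `L2` of `C(z1)` (`SL(2,F)`), exchanged or
normalised by `C(z1)`, containing the quaternion groups `Qone`, `Qtwo`, and centralised by `c0 = f 0 0 M`.
-/

set_option autoImplicit false

namespace Cfsg.Agent.LFourB.RDefs

open Subgroup Cfsg Cfsg.Agent.LFourB

variable {G : Type*} [Group G]

/-- Conjugate of a subgroup. -/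
def cj (g : G) (K : Subgroup G) : Subgroup G := K.map (MulAut.conj g).toMonoidHom

theorem mem_cj {g x : G} {K : Subgroup G} : x ∈ cj g K ↔ g⁻¹ * x * g ∈ K := BOne.mem_map_conj

theorem conj_mem_cj {g x : G} {K : Subgroup G} (hx : x ∈ K) : g * x * g⁻¹ ∈ cj g K := by
  rw [mem_cj]
  have : g⁻¹ * (g * x * g⁻¹) * g = x := by group
  rwa [this]

theorem cj_cj (g g' : G) (K : Subgroup G) : cj g (cj g' K) = cj (g * g') K := by
  ext x
  rw [mem_cj, mem_cj, mem_cj]
  have : g'⁻¹ * (g⁻¹ * x * g) * g' = (g * g')⁻¹ * x * (g * g') := by group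
  rw [this]

theorem cj_one (K : Subgroup G) : cj 1 K = K := by
  ext x
  rw [mem_cj, inv_one, one_mul, mul_one]

theorem cj_inv_cj (g : G) (K : Subgroup G) : cj g⁻¹ (cj g K) = K := by rw [cj_cj, inv_mul_cancel, cj_one]

theorem cj_cj_inv (g : G) (K : Subgroup G) : cj g (cj g⁻¹ K) = K := by rw [cj_cj, mul_inv_cancel, cj_one]

theorem cj_mono {g : G} {K K' : Subgroup G} (hK : K ≤ K') : cj g K ≤ cj g K' := Subgroup.map_mono hK

theorem cj_injective (g : G) : Function.Injective (cj g : Subgroup G → Subgroup G) := by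
  intro K K' hK
  rw [← cj_inv_cj g K, hK, cj_inv_cj]

theorem cj_eq_of_mem {g : G} {K : Subgroup G} (hg : g ∈ K) : cj g K = K := by
  ext x
  rw [mem_cj]
  constructor
  · intro hx
    have := K.mul_mem (K.mul_mem hg hx) (K.inv_mem hg)
    have h2 : g * (g⁻¹ * x * g) * g⁻¹ = x := by group
    rwa [h2] at this
  · intro hx
    exact K.mul_mem (K.mul_mem (K.inv_mem hg) hx) hg

theorem mem_normalizer_iff_cj {g : G} {K : Subgroup G} : g ∈ normalizer (K : Set G) ↔ cj g K = K := by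
  rw [mem_normalizer_iff]
  constructor
  · intro h
    ext x
    rw [mem_cj]
    have := h (g⁻¹ * x * g)
    have h2 : g * (g⁻¹ * x * g) * g⁻¹ = x := by group
    rw [h2] at this
    exact this
  · intro h x
    constructor
    · intro hx
      rw [← SetLike.mem_coe, SetLike.mem_coe] at *
      rw [← h]
      exact conj_mem_cj hx
    · intro hx
      have h1 : x ∈ cj g⁻¹ K := by rw [mem_cj, inv_inv]; exact hx
      rw [← h, cj_inv_cj] at h1
      exact h1

variable {m : ℕ} {f : R m → R m → R m → G} {u w : G}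

/-- Elements of `N_G(T)` inducing `ρ` on `X 0, .., X 3`. -/
def Ind (f : R m → R m → R m → G) (n : G) (ρ : Equiv.Perm (Fin 4)) : Prop :=
  n ∈ normalizer (Tor f : Set G) ∧ ∀ i, n * X f i * n⁻¹ = X f (ρ i)

/-- Input of the recognition end of type B1. `L1`, `L2` are perfect central extensions of `SL(2,F)` by groups of odd
order (these are trivial in the end). `z1 f`, `z2 f`, `X f i`, `Qone f u`, `Qtwo f u w` are in `BOne.lean`,
`Card.lean`. -/
structure RIn [Finite G] (P : Sylow 2 G) (f : R m → R m → R m → G) (u w : G) (L1 L2 : Subgroup G) : Prop where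
  model : BOne (P : Subgroup G) m f u w
  /-- `N_G(T)` induces all permutations of the `X i` -/
  perm : ∀ ρ : Equiv.Perm (Fin 4), ∃ n, Ind f n ρ
  permn : ∀ n ∈ normalizer (Tor f : Set G), ∃ ρ, Ind f n ρ
  le1 : L1 ≤ centralizer {z1 f}
  le2 : L2 ≤ centralizer {z1 f}
  comm : ∀ x ∈ L1, ∀ y ∈ L2, x * y = y * x
  norm : ∀ g ∈ centralizer ({z1 f} : Set G), (cj g L1 = L1 ∧ cj g L2 = L2) ∨ (cj g L1 = L2 ∧ cj g L2 = L1)
  q1 : Qone f u ≤ L1
  q2 : Qtwo f u w ≤ L2
  /-- [F] -/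
  c1 : ∀ x ∈ L1, f 0 0 (M m) * x = x * f 0 0 (M m)
  c2 : ∀ x ∈ L2, f 0 0 (M m) * x = x * f 0 0 (M m)
  /-- elements of `L1` with square `z1` are conjugate -/
  four1 : ∀ a ∈ L1, ∀ b ∈ L1, a * a = z1 f → b * b = z1 f → ∃ l ∈ L1, l * a * l⁻¹ = b
  four2 : ∀ a ∈ L2, ∀ b ∈ L2, a * a = z1 f → b * b = z1 f → ∃ l ∈ L2, l * a * l⁻¹ = b
  /-- `L1` is perfect (it may have an odd centre) -/
  perf1 : ⁅L1, L1⁆ = L1
  /-- normal subgroups of odd order of `L1` are central -/
  odd1 : ∀ N ≤ L1, (∀ l ∈ L1, cj l N = N) → ¬ 2 ∣ Nat.card N → ∀ x ∈ N, ∀ l ∈ L1, x * l = l * x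
  /-- `z2` centralises the odd elements of `C(L1 L2)` -/
  core : ∀ a, Odd (orderOf a) → (∀ x ∈ L1, a * x = x * a) → (∀ x ∈ L2, a * x = x * a) → a * z2 f = z2 f * a

/-- `K_{ij}` for `i = ρ 0`, `j = ρ 1`. -/
def KK (f : R m → R m → R m → G) (L1 : Subgroup G) (i j : Fin 4) : Subgroup G :=
  ⨆ n : {n : G // ∃ ρ, Ind f n ρ ∧ ρ 0 = i ∧ ρ 1 = j}, cj (n : G) L1

end Cfsg.Agent.LFourB.RDefs
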