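import Cfsg.Agent.LFourB.RCore

/-!
# The recognition end of type B1: `N(V) ≤ N(G0)`
-/

set_option autoImplicit false
set_option linter.unusedSectionVars false

namespace Cfsg.Agent.LFourB.RDefs

open Subgroup Cfsg Cfsg.Agent.LFourB Cfsg.Agent.LFourB.BOne Cfsg.Agent.J2Sylow.Functor

variable {G : Type*} [Group G] [Finite G] {P : Sylow 2 G} {m : ℕ} {f : R m → R m → R m → G} {u w : G}
  {L1 L2 : Subgroup G}

namespace RIn

theorem XX_mul (hR : RIn P f u w L1 L2) (i j : Fin 4) : (X f 0 * X f i) * (X f 0 * X f j) = X f i * X f j := by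
  rw [hR.X_comm 0 i, mul_assoc, ← mul_assoc (X f 0) (X f 0), hR.X_sq, one_mul]

theorem x12_eq (hR : RIn P f u w L1 L2) : X f 1 * X f 2 = X f 0 * X f 3 := by
  rw [← hR.XX_mul, ← hR.z1_eq, ← hR.z2_eq, ← hR.z3_eq, hR.z3_eq']

theorem x13_eq (hR : RIn P f u w L1 L2) : X f 1 * X f 3 = X f 0 * X f 2 := by
  rw [← hR.z2_eq, ← hR.z2_eq']

theorem x23_eq (hR : RIn P f u w L1 L2) : X f 2 * X f 3 = X f 0 * X f 1 := by
  rw [← hR.XX_mul, ← hR.z1_eq, ← hR.z2_eq, ← hR.z3_eq, hR.z3_eq', hR.z12_comm, ← mul_assoc, hR.z2_sq, one_mul]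

/-- The four-group `V` as `{X 0 X i}`. -/
theorem mem_Zt (hR : RIn P f u w L1 L2) {g : G} : g ∈ Zt f ↔ ∃ i, g = X f 0 * X f i := by
  constructor
  · intro hg
    induction hg using Subgroup.closure_induction with
    | mem x hx =>
      rcases hx with rfl | rfl | rfl
      · exact ⟨1, hR.z1_eq⟩
      · exact ⟨2, hR.z2_eq⟩
      · exact ⟨3, hR.z3_eq⟩
    | one => exact ⟨0, (hR.X_sq 0).symm⟩
    | mul x y _ _ hx hy =>
      obtain ⟨i, rfl⟩ := hx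
      obtain ⟨j, rfl⟩ := hy
      rw [hR.XX_mul]
      fin_cases i <;> fin_cases j
      · exact ⟨0, rfl⟩
      · exact ⟨1, rfl⟩
      · exact ⟨2, rfl⟩
      · exact ⟨3, rfl⟩
      · exact ⟨1, hR.X_comm _ _⟩
      · exact ⟨0, ((hR.X_sq 1).trans (hR.X_sq 0).symm)⟩
      · exact ⟨3, hR.x12_eq⟩
      · exact ⟨2, hR.x13_eq⟩
      · exact ⟨2, hR.X_comm _ _⟩
      · exact ⟨3, (hR.X_comm _ _).trans hR.x12_eq⟩
      · exact ⟨0, ((hR.X_sq 2).trans (hR.X_sq 0).symm)⟩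
      · exact ⟨1, hR.x23_eq⟩
      · exact ⟨3, hR.X_comm _ _⟩
      · exact ⟨2, (hR.X_comm _ _).trans hR.x13_eq⟩
      · exact ⟨1, (hR.X_comm _ _).trans hR.x23_eq⟩
      · exact ⟨0, ((hR.X_sq 3).trans (hR.X_sq 0).symm)⟩
    | inv x _ hx =>
      obtain ⟨i, rfl⟩ := hx
      exact ⟨i, by rw [mul_inv_rev, hR.X_inv, hR.X_inv, hR.X_comm]⟩
  · rintro ⟨i, rfl⟩
    fin_cases i
    · change X f 0 * X f 0 ∈ _
      rw [hR.X_sq]; exact Subgroup.one_mem _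
    · change X f 0 * X f 1 ∈ _
      rw [← hR.z1_eq]; exact Subgroup.subset_closure (by simp)
    · change X f 0 * X f 2 ∈ _
      rw [← hR.z2_eq]; exact Subgroup.subset_closure (by simp)
    · change X f 0 * X f 3 ∈ _
      rw [← hR.z3_eq]; exact Subgroup.subset_closure (by simp)

/-- **`N(V) ≤ N(G0)`.** -/
theorem normalizer_Zt_le (hR : RIn P f u w L1 L2) :
    normalizer (Zt f : Set G) ≤ normalizer (GZ f L1 : Set G) := by
  intro g hg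
  have hz1 : z1 f ∈ Zt f := hR.mem_Zt.mpr ⟨1, hR.z1_eq⟩
  have hz2 : z2 f ∈ Zt f := hR.mem_Zt.mpr ⟨2, hR.z2_eq⟩
  obtain ⟨i, hi⟩ := hR.mem_Zt.mp ((mem_normalizer_iff.mp hg _).mp hz1)
  obtain ⟨j, hj⟩ := hR.mem_Zt.mp ((mem_normalizer_iff.mp hg _).mp hz2)
  have z1ne : z1 f ≠ 1 := by
    rw [z1, Ne, hR.model.f_eq_one_iff good1]
    rintro ⟨-, -, h⟩
    exact N_ne_zero h
  have z2ne : z2 f ≠ 1 := by
    rw [z2, Ne, hR.model.f_eq_one_iff good2]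
    rintro ⟨h, -, -⟩
    exact N_ne_zero h
  have z12ne : z1 f ≠ z2 f := by
    rw [z1, z2, Ne, hR.model.f_eq_iff good1 good2]
    rintro ⟨h, -, -⟩
    exact N_ne_zero h.symm
  have hi0 : i ≠ 0 := by
    rintro rfl
    rw [hR.X_sq, mul_inv_eq_one] at hi
    exact z1ne (mul_eq_left.mp hi)
  have hj0 : j ≠ 0 := by
    rintro rfl
    rw [hR.X_sq, mul_inv_eq_one] at hj
    exact z2ne (mul_eq_left.mp hj)
  have hij : i ≠ j := by
    rintro rfl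
    rw [← hj] at hi
    exact z12ne (mul_left_cancel (mul_right_cancel hi))
  obtain ⟨ρ, h0, h1, h2⟩ : ∃ ρ : Equiv.Perm (Fin 4), ρ 0 = 0 ∧ ρ 1 = i ∧ ρ 2 = j := by
    clear hi hj
    revert i j
    decide
  obtain ⟨n, hn⟩ := hR.perm ρ
  have e1 : n * z1 f * n⁻¹ = g * z1 f * g⁻¹ := by
    rw [hi, hR.z1_eq]
    have : n * (X f 0 * X f 1) * n⁻¹ = (n * X f 0 * n⁻¹) * (n * X f 1 * n⁻¹) := by group
    rw [this, hn.2, hn.2, h0, h1]
  have e2 : n * z2 f * n⁻¹ = g * z2 f * g⁻¹ := by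
    rw [hj, hR.z2_eq]
    have : n * (X f 0 * X f 2) * n⁻¹ = (n * X f 0 * n⁻¹) * (n * X f 2 * n⁻¹) := by group
    rw [this, hn.2, hn.2, h0, h2]
  have key : ∀ z : G, n * z * n⁻¹ = g * z * g⁻¹ → (n⁻¹ * g) * z = z * (n⁻¹ * g) := by
    intro z hz
    have : n⁻¹ * g * z = n⁻¹ * (g * z * g⁻¹) * g := by group
    rw [this, ← hz]; group
  have h3 := hR.cent_V_le (key _ e1) (key _ e2)
  have h4 : g = n * (n⁻¹ * g) := by group
  rw [h4]
  exact Subgroup.mul_mem _ (normalizer_Tor_le hn.1) h3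

end RIn

end Cfsg.Agent.LFourB.RDefs
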