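import Cfsg.Agent.Lib.MinNormalNonabelian
import Cfsg.Agent.Lib.PComponents
import Cfsg.Agent.Lib.SylowNormalInf
import Cfsg.Agent.Lib.Cores
import Cfsg.Agent.LFourB.XKill
import Cfsg.Prelude.Def_CaseTheorems
import Mathlib.GroupTheory.Transfer

/-!
# A strongly closed self-centralising abelian subgroup that is irreducible under its normaliser

`X` finite, `O(X) = 1`, `A` strongly closed in the Sylow 2-subgroup `T`, abelian, `C_T(A) = A`, the
centralisers of the nontrivial elements of `A` solvable, `N(A)` irreducible on `A` and without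
nontrivial "odd" normal subgroups in its action: then `A` is normal in `X` (with Goldschmidt's theorem
for simple groups as a hypothesis).
-/

set_option autoImplicit false

namespace Cfsg.Agent.LFourB.SevenAbs

open Subgroup Cfsg.Agent.Lib.MinNormal Cfsg.Agent.Lib.MinNormalNonabelian

universe u

variable {X : Type u} [Group X]

/-- If `T` meets `K` then so does `A`. -/
theorem inf_ne_bot {T A K : Subgroup X} (hTA : T ≤ normalizer (A : Set X))
    (hself : ∀ t ∈ T, (∀ a ∈ A, t * a = a * t) → t ∈ A) (hAK : A ≤ normalizer (K : Set X))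
    (h : T ⊓ K ≠ ⊥) : A ⊓ K ≠ ⊥ := by
  obtain ⟨t, ht, ht1⟩ := (T ⊓ K).bot_or_exists_ne_one.resolve_left h
  by_cases hc : ∀ a ∈ A, t * a = a * t
  · intro hb
    have : t ∈ A ⊓ K := ⟨hself t ht.1 hc, ht.2⟩
    rw [hb, mem_bot] at this
    exact ht1 this
  · push Not at hc
    obtain ⟨a, ha, hne⟩ := hc
    intro hb
    have h1 : t * a * t⁻¹ * a⁻¹ ∈ A ⊓ K := by
      refine ⟨A.mul_mem ((mem_normalizer_iff.mp (hTA ht.1) a).mp ha) (A.inv_mem ha), ?_⟩
      have h2 : a * t⁻¹ * a⁻¹ ∈ K := (mem_normalizer_iff.mp (hAK ha) _).mp (K.inv_mem ht.2)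
      have h3 : t * (a * t⁻¹ * a⁻¹) = t * a * t⁻¹ * a⁻¹ := by group
      rw [← h3]
      exact K.mul_mem ht.2 h2
    rw [hb, mem_bot] at h1
    apply hne
    have h4 : t * a * t⁻¹ = a := by
      rw [mul_inv_eq_one] at h1
      exact h1
    rw [mul_inv_eq_iff_eq_mul] at h4
    exact h4

variable [Finite X]

/-- The Sylow subgroup of `N` (normal) inside `T`. -/
theorem sylow_subgroupOf (T : Sylow 2 X) (N : Subgroup X) [N.Normal] :
    ∃ P : Sylow 2 N, (P : Subgroup N) = (T : Subgroup X).subgroupOf N := by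
  have : Fact (Nat.Prime 2) := ⟨Nat.prime_two⟩
  exact ⟨(Cfsg.Agent.Lib.SylowNormalInf.isPGroup_subgroupOf T N).toSylow
    (Cfsg.Agent.Lib.SylowNormalInf.not_dvd_relIndex T N), rfl⟩

/-- A two-step subnormal subgroup of even order meets the Sylow 2-subgroup. -/
theorem inf_sylow_ne_bot {L M : Subgroup X} (hLM : L ≤ M) (hM : M.Normal)
    (hn : M ≤ normalizer (L : Set X)) (heven : 2 ∣ Nat.card L) (T : Sylow 2 X) :
    (T : Subgroup X) ⊓ L ≠ ⊥ := by
  have : Fact (Nat.Prime 2) := ⟨Nat.prime_two⟩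
  intro hcon
  have hTn : (L.subgroupOf M).Normal := normal_subgroupOf_of_le_normalizer hn
  have h1 := Cfsg.Agent.Lib.SylowNormalInf.not_dvd_relIndex
    ((Cfsg.Agent.Lib.SylowNormalInf.isPGroup_subgroupOf T M).toSylow
      (Cfsg.Agent.Lib.SylowNormalInf.not_dvd_relIndex T M)) (L.subgroupOf M)
  apply h1
  change 2 ∣ ((T : Subgroup X).subgroupOf M).relIndex (L.subgroupOf M)
  rw [Subgroup.relIndex_subgroupOf hLM, ← Subgroup.inf_relIndex_right, hcon,
    Subgroup.relIndex_bot_left]
  exact heven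

/-- The simple case. -/
theorem simple_case (hG : ∀ (L : Type u) [Group L] [Finite L] [IsSimpleGroup L], XKill.Gold L)
    (T : Sylow 2 X) {A N : Subgroup X} (hN : N.Normal) (hs : IsSimpleGroup N)
    (hc : ∀ z ∈ N, (∀ t ∈ N, Commute z t) → z = 1) (hAN : A ≤ N) (hA1 : A ≠ ⊥)
    (hsc : Cfsg.IsStronglyClosed A (T : Subgroup X))
    (hab : ∀ a ∈ A, ∀ b ∈ A, a * b = b * a)
    (hself : ∀ t ∈ (T : Subgroup X), (∀ a ∈ A, t * a = a * t) → t ∈ A)
    (hodd : ∀ M ≤ normalizer (A : Set X), normalizer (A : Set X) ≤ normalizer (M : Set X) →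
      (∀ m ∈ M, m ∈ (T : Subgroup X) → m ∈ A) → ∀ m ∈ M, ∀ a ∈ A, m * a = a * m)
    (hinv : ∀ P ≤ (T : Subgroup X), A ≤ P → (T : Subgroup X) ≤ normalizer (P : Set X) → P ≠ A →
      ∃ u ∈ P, u ∉ A ∧ orderOf u = 2) : False := by
  have : Fact (Nat.Prime 2) := ⟨Nat.prime_two⟩
  obtain ⟨P, hP⟩ := sylow_subgroupOf T N
  have hmemP : ∀ x : N, x ∈ P ↔ (x : X) ∈ (T : Subgroup X) := by
    intro x
    change x ∈ (P : Subgroup N) ↔ _
    rw [hP, mem_subgroupOf]
  have hA0 : A.subgroupOf N ≠ ⊥ := by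
    intro h
    apply hA1
    rw [eq_bot_iff]
    intro a ha
    have h1 : (⟨a, hAN ha⟩ : N) ∈ A.subgroupOf N := by rw [mem_subgroupOf]; exact ha
    rw [h, mem_bot] at h1
    exact congrArg Subtype.val h1
  have hsc0 : Cfsg.IsStronglyClosed (A.subgroupOf N) (P : Subgroup N) := by
    refine ⟨fun x hx => (hmemP x).mpr (hsc.1 hx), fun x hx g hg => ?_⟩
    rw [mem_subgroupOf] at hx ⊢
    exact hsc.2 _ hx _ ((hmemP _).mp hg)
  have hab0 : ∀ a ∈ A.subgroupOf N, ∀ b ∈ A.subgroupOf N, a * b = b * a := by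
    intro a ha b hb
    exact Subtype.ext (hab _ ha _ hb)
  -- the case `T ⊓ N = A`
  have key : (T : Subgroup X) ⊓ N ≤ A → False := by
    intro hle
    have hPA : (P : Subgroup N) = A.subgroupOf N := by
      ext x
      change x ∈ P ↔ _
      rw [hmemP, mem_subgroupOf]
      exact ⟨fun h => hle ⟨h, x.2⟩, fun h => hsc.1 h⟩
    have hM := hodd (normalizer (A : Set X) ⊓ N) inf_le_left
      (le_normalizer_inf (normalizer (A : Set X)).le_normalizer
        (by rw [normalizer_eq_top_iff.mpr hN]; exact le_top)) (fun m hm hmT => hle ⟨hmT, hm.2⟩)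
    have hnc : normalizer ((P : Subgroup N) : Set N) ≤ centralizer (P : Set N) := by
      intro n hn
      rw [mem_centralizer_iff]
      intro a ha
      have ha' : (a : X) ∈ A := by
        have : a ∈ (P : Subgroup N) := ha
        rw [hPA, mem_subgroupOf] at this
        exact this
      have hnN : (n : X) ∈ normalizer (A : Set X) := by
        rw [mem_normalizer_iff]
        intro b
        rw [hPA, mem_normalizer_iff] at hn
        constructor
        · intro hb
          have := (hn ⟨b, hAN hb⟩).mp (by rw [mem_subgroupOf]; exact hb)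
          rw [mem_subgroupOf] at this
          exact this
        · intro hb
          have hbN : b ∈ N := by
            have h1 := hN.conj_mem _ (hAN hb) (n : X)⁻¹
            simpa [mul_assoc] using h1
          have := (hn ⟨b, hbN⟩).mpr (by rw [mem_subgroupOf]; exact hb)
          rw [mem_subgroupOf] at this
          exact this
      exact Subtype.ext (hM n ⟨hnN, n.2⟩ a ha').symm
    have hcomp := MonoidHom.ker_transferSylow_isComplement' P hnc
    rcases (MonoidHom.normal_ker (MonoidHom.transferSylow P hnc)).eq_bot_or_eq_top with h | h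
    · -- `N = P` is abelian
      rw [h] at hcomp
      have hPt : (P : Subgroup N) = ⊤ := isComplement'_bot_left.mp hcomp
      obtain ⟨a, ha, ha1⟩ := A.bot_or_exists_ne_one.resolve_left hA1
      apply ha1
      apply hc a (hAN ha)
      intro t ht
      have h1 : (⟨t, ht⟩ : N) ∈ (P : Subgroup N) := by rw [hPt]; exact mem_top _
      rw [hPA, mem_subgroupOf] at h1
      exact hab a ha t h1
    · rw [h] at hcomp
      have hPb : (P : Subgroup N) = ⊥ := isComplement'_top_left.mp hcomp
      apply hA0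
      rw [← hPA, hPb]
  rcases hG N P (A.subgroupOf N) hA0 ⟨⟨fun a b => Subtype.ext (hab0 a a.2 b b.2)⟩⟩ hsc0 with h | ⟨H, hH⟩
  · apply key
    rintro t ⟨htT, htN⟩
    apply hself t htT
    intro a ha
    have h1 : (⟨t, htN⟩ : N) ∈ (P : Subgroup N) := (hmemP _).mpr htT
    have h2 : (⟨a, hAN ha⟩ : N) ∈ (P : Subgroup N) := (hmemP _).mpr (hsc.1 ha)
    have h3 := h.is_comm.comm ⟨_, h1⟩ ⟨_, h2⟩
    exact congrArg Subtype.val (congrArg Subtype.val h3)
  · by_cases hTN : (T : Subgroup X) ⊓ N = A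
    · exact key hTN.le
    · obtain ⟨u, hu, huA, hu2⟩ := hinv ((T : Subgroup X) ⊓ N) inf_le_left (le_inf hsc.1 hAN)
        (le_normalizer_inf (T : Subgroup X).le_normalizer
          (by rw [normalizer_eq_top_iff.mpr hN]; exact le_top)) hTN
      -- an involution of `A`
      have hA2 : IsPGroup 2 A := T.isPGroup'.to_le hsc.1
      obtain ⟨a, ha⟩ : ∃ a : A, orderOf a = 2 := by
        have : Nontrivial A := (Subgroup.nontrivial_iff_ne_bot A).mpr hA1
        have h2 : 2 ∣ Nat.card A := by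
          obtain ⟨n, hn, hcard⟩ := (IsPGroup.nontrivial_iff_card hA2).mp this
          rw [hcard]
          exact dvd_pow_self 2 hn.ne'
        exact exists_prime_orderOf_dvd_card' 2 h2
      have h1 := Cfsg.Agent.TwoFusion.StronglyEmbeddedBasic.isConj_of_involutions hH
        (⟨a, hAN a.2⟩ : N) ⟨u, hu.2⟩ (by rw [← orderOf_coe a] at ha; rw [← Subgroup.orderOf_coe]; exact ha)
        (by rw [← Subgroup.orderOf_coe]; exact hu2)
      obtain ⟨g, hg⟩ := isConj_iff.mp h1
      have hg' : (g : X) * a * (g : X)⁻¹ = u := congrArg Subtype.val hg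
      apply huA
      rw [← hg']
      apply hsc.2 _ a.2
      rw [hg']
      exact hu.1

/-- **The abstract form of Step 7**. -/
theorem normal_of_closed (hG : ∀ (L : Type u) [Group L] [Finite L] [IsSimpleGroup L], XKill.Gold L)
    (hO : Cfsg.oddCore X = ⊥) (T : Sylow 2 X) {A : Subgroup X}
    (hsc : Cfsg.IsStronglyClosed A (T : Subgroup X))
    (hab : ∀ a ∈ A, ∀ b ∈ A, a * b = b * a)
    (hself : ∀ t ∈ (T : Subgroup X), (∀ a ∈ A, t * a = a * t) → t ∈ A)
    (hsol : ∀ a ∈ A, a ≠ 1 → Group.IsSolvable (centralizer ({a} : Set X)))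
    (hirr : ∀ B ≤ A, normalizer (A : Set X) ≤ normalizer (B : Set X) → B = ⊥ ∨ B = A)
    (hodd : ∀ M ≤ normalizer (A : Set X), normalizer (A : Set X) ≤ normalizer (M : Set X) →
      (∀ m ∈ M, m ∈ (T : Subgroup X) → m ∈ A) → ∀ m ∈ M, ∀ a ∈ A, m * a = a * m)
    (hinv : ∀ P ≤ (T : Subgroup X), A ≤ P → (T : Subgroup X) ≤ normalizer (P : Set X) → P ≠ A →
      ∃ u ∈ P, u ∉ A ∧ orderOf u = 2) : A.Normal := by
  have : Fact (Nat.Prime 2) := ⟨Nat.prime_two⟩
  by_cases hA1 : A = ⊥
  · rw [hA1]; infer_instance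
  have hTA : (T : Subgroup X) ≤ normalizer (A : Set X) := by
    intro t ht
    rw [mem_normalizer_iff]
    intro a
    constructor
    · intro ha
      exact hsc.2 a ha t (mul_mem (mul_mem ht (hsc.1 ha)) (inv_mem ht))
    · intro ha
      have h1 := hsc.2 _ ha t⁻¹ (by
        rw [inv_inv]
        exact mul_mem (mul_mem (inv_mem ht) (hsc.1 ha)) ht)
      simpa [mul_assoc] using h1
  -- a minimal normal subgroup
  have htop : (⊤ : Subgroup X) ≠ ⊥ := by
    intro h
    apply hA1
    rw [eq_bot_iff, ← h]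
    exact le_top
  obtain ⟨N, -, hN1, hNn, hNmin⟩ := exists_minimal_normal_le (⊤ : Subgroup X) htop
  have hN : N.Normal := normalizer_eq_top_iff.mp (top_le_iff.mp hNn)
  have hmin : ∀ M : Subgroup X, M.Normal → M ≤ N → M = ⊥ ∨ M = N := fun M hM hMN =>
    hNmin M hMN (by rw [normalizer_eq_top_iff.mpr hM])
  have heven : ∀ L : Subgroup X, L.IsSubnormal → L ≠ ⊥ → 2 ∣ Nat.card L := by
    intro L hL hne
    by_contra hcon
    apply hne
    rw [eq_bot_iff, ← hO]
    apply Cfsg.Agent.Lib.PComponents.le_pPrimeCore_of_isSubnormal hL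
    rw [Nat.coprime_comm]
    exact (Nat.Prime.coprime_iff_not_dvd Nat.prime_two).mpr hcon
  have hNT := inf_sylow_ne_bot (le_refl N) hN N.le_normalizer (heven N hN.isSubnormal hN1) T
  have hAN0 := inf_ne_bot (A := A) (K := N) hTA hself (by rw [normalizer_eq_top_iff.mpr hN]; exact le_top) hNT
  have hAN : A ≤ N := by
    rcases hirr (A ⊓ N) inf_le_left (by
      intro g hg
      rw [mem_normalizer_iff] at hg ⊢
      intro a
      constructor
      · rintro ⟨h1, h2⟩
        exact ⟨(hg a).mp h1, hN.conj_mem a h2 g⟩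
      · rintro ⟨h1, h2⟩
        refine ⟨(hg a).mpr h1, ?_⟩
        have := hN.conj_mem _ h2 g⁻¹
        simpa [mul_assoc] using this) with h | h
    · exact absurd h hAN0
    · exact inf_eq_left.mp h
  by_cases hna : ∀ x ∈ N, ∀ y ∈ N, Commute x y
  · -- abelian
    obtain ⟨p, hp, hpN, -⟩ := abelian_structure N hN1 hmin hna
    have h2p : p = 2 := by
      have h1 : 2 ∣ Nat.card N := heven N hN.isSubnormal hN1
      have : Fact p.Prime := ⟨hp⟩
      obtain ⟨n, hn⟩ := IsPGroup.iff_card.mp hpN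
      rw [hn] at h1
      exact ((Nat.prime_dvd_prime_iff_eq Nat.prime_two hp).mp (Nat.prime_two.dvd_of_dvd_pow h1)).symm
    subst h2p
    have hNT' : N ≤ (T : Subgroup X) := by
      have h1 := Cfsg.Agent.Lib.Cores.le_pCore hN hpN
      exact h1.trans (Cfsg.Agent.Lib.Cores.pCore_le_sylow T)
    have hNA : N = A := le_antisymm (fun x hx => hself x (hNT' hx) fun a ha => (hna x hx a (hAN ha)).eq) hAN
    rw [← hNA]
    exact hN
  · exfalso
    obtain ⟨⟨L, hL⟩, hind, hsup, hs, hc, -⟩ := nonabelian_structure N hmin hna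
    have hALn : A ≤ normalizer (L : Set X) := hAN.trans hL.2.2.1
    have hLsub : L.IsSubnormal := Subgroup.IsSubnormal.step L N hL.1 hN.isSubnormal
      (normal_subgroupOf_of_le_normalizer hL.2.2.1)
    have hAL := inf_ne_bot (A := A) (K := L) hTA hself hALn
      (inf_sylow_ne_bot hL.1 hN hL.2.2.1 (heven L hLsub hL.2.1) T)
    obtain ⟨a, ⟨haA, haL⟩, ha1⟩ := (A ⊓ L).bot_or_exists_ne_one.resolve_left hAL
    -- only one factor
    have hone : ∀ L' ∈ minSet N, L' = L := by
      intro L' hL'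
      by_contra hne
      have h1 : L' ≤ centralizer ({a} : Set X) := by
        intro x hx
        rw [mem_centralizer_singleton_iff]
        exact (commute_of_mem hind (fun S hS => hS.2.2.1) (fun S hS => hS.1) hL' hL hne hx haL).eq
      have h2 := hsol a haA ha1
      have h3 : Group.IsSolvable L' :=
        Group.isSolvable_of_isSolvable_injective (f := Subgroup.inclusion h1) (Subgroup.inclusion_injective h1)
      have := hs L' hL'
      obtain ⟨b, hb, hb1⟩ := L'.bot_or_exists_ne_one.resolve_left hL'.2.1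
      apply hb1
      apply hc L' hL' b hb
      intro t ht
      have h4 := (IsSimpleGroup.comm_iff_isSolvable (G := L')).mpr h3
      exact congrArg Subtype.val (h4 ⟨b, hb⟩ ⟨t, ht⟩)
    have hNL : N = L := by
      rw [← hsup]
      apply le_antisymm
      · exact sSup_le fun L' hL' => (hone L' hL').le
      · exact le_sSup hL
    subst hNL
    exact simple_case hG T hN (hs _ hL) (hc _ hL) hAN hA1 hsc hab hself hodd hinv

end Cfsg.Agent.LFourB.SevenAbs
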