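import Cfsg.Agent.SylowL.Compare
import Cfsg.Prelude.Def_Involutions

/-!
# Groups with a nonabelian Sylow 2-subgroup of order `2 ^ 7`

Comparison with the conclusions of S0222 (strongly embedded subgroups) and S1179.
-/

set_option autoImplicit false

namespace Cfsg.Agent.LFourB.SevenCmp

open Cfsg
open Cfsg.Agent.SylowL.Lower Cfsg.Agent.SylowL.SylowPSL Cfsg.Agent.SylowL.UT Cfsg.Agent.SylowL.Compare

variable {G : Type*} [Group G] [Finite G] (S : Sylow 2 G) (h7 : Nat.card (S : Subgroup G) = 2 ^ 7)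
  (hna : ∃ a ∈ (S : Subgroup G), ∃ b ∈ (S : Subgroup G), a * b ≠ b * a)

include h7

theorem not_order {k d : ℕ} (hk : k ≠ 7) (hd : ¬ 2 ∣ d) (hG : Nat.card G = 2 ^ k * d) : False :=
  hk (exponent_eq S h7 hd hG).symm

include hna in
theorem not_psl {n : ℕ} {K : Type*} [Field K] [Fintype K] [CharP K 2] (hn : 2 ≤ n)
    (f : G ≃* Matrix.ProjectiveSpecialLinearGroup (Fin n) K) : False := by
  have : Fact (Nat.Prime 2) := ⟨Nat.prime_two⟩
  have P : Sylow 2 (Matrix.ProjectiveSpecialLinearGroup (Fin n) K) := default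
  obtain ⟨e1⟩ := sylow_transfer f S P
  obtain ⟨e2⟩ := sylow_equiv (F := K) 2 P
  let e : (S : Subgroup G) ≃* UT n K := e1.trans e2
  obtain ⟨k, -, hk⟩ := FiniteField.card K 2
  have h1 : Nat.card (S : Subgroup G) = 2 ^ (k * (n * (n - 1) / 2)) := by
    rw [Nat.card_congr e.toEquiv, card_UT, Nat.card_eq_fintype_card, hk, ← pow_mul]
  rw [h7] at h1
  have h2 : (k : ℕ) * (n * (n - 1) / 2) = 7 := (Nat.pow_right_injective le_rfl h1).symm
  have hk0 : 0 < (k : ℕ) := k.pos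
  rcases Nat.lt_or_ge n 3 with h3 | h3
  · have h4 : n = 2 := by omega
    subst h4
    -- abelian
    obtain ⟨a, ha, b, hb, hab⟩ := hna
    have h5 := (lowerCentralSeries_eq_bot_iff (F := K) (m := 2) (by norm_num) 1).2 (by norm_num)
    apply hab
    have h6 : ∀ x y : UT 2 K, x * y = y * x := by
      intro x y
      have h7 : x * y * x⁻¹ * y⁻¹ ∈ (⊤ : Subgroup (UT 2 K)).lowerCentralSeries 1 := by
        rw [Subgroup.top_lowerCentralSeries_one]
        exact Subgroup.commutator_mem_commutator (Subgroup.mem_top x) (Subgroup.mem_top y)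
      rw [h5, Subgroup.mem_bot] at h7
      calc x * y = (x * y * x⁻¹ * y⁻¹) * (y * x) := by group
        _ = y * x := by rw [h7, one_mul]
    have h7 := h6 (e ⟨a, ha⟩) (e ⟨b, hb⟩)
    rw [← map_mul, ← map_mul] at h7
    exact congrArg Subtype.val (e.injective h7)
  · rcases triangular n h3 with ⟨h4, -⟩ | ⟨h4, -⟩ | h4
    · rw [h4] at h2; omega
    · rw [h4] at h2; omega
    · have h5 : 1 * 10 ≤ (k : ℕ) * (n * (n - 1) / 2) := Nat.mul_le_mul hk0 h4
      omega

theorem not_suzuki (h : IsSuzuki G) : False := by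
  obtain ⟨-, n, hn, hc⟩ := h
  have hodd : ¬ 2 ∣ ((2 ^ (2 * n + 1)) ^ 2 + 1) * (2 ^ (2 * n + 1) - 1) := by
    have h1 : 2 ∣ 2 ^ (2 * n + 1) := dvd_pow_self 2 (by omega)
    have h2 : 0 < 2 ^ (2 * n + 1) := by positivity
    intro h3
    rcases (Nat.Prime.dvd_mul Nat.prime_two).1 h3 with h4 | h4
    · have h5 : 2 ∣ (2 ^ (2 * n + 1)) ^ 2 := h1.trans (dvd_pow_self _ two_ne_zero)
      omega
    · omega
  refine not_order S h7 (k := (2 * n + 1) * 2) (by omega) hodd ?_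
  rw [hc, pow_mul, mul_assoc]

theorem not_psu {K : Type*} [Field K] [Fintype K] {q : ℕ}
    (hK : Fintype.card K = q ^ 2) (hq : Even q) (hq4 : 4 ≤ q) (f : G ≃* Cfsg.PSU 3 K q) :
    False := by
  have : Fact (Nat.Prime 2) := ⟨Nat.prime_two⟩
  obtain ⟨p, hp⟩ := CharP.exists K
  have hpp : p.Prime := CharP.char_is_prime K p
  obtain ⟨k, -, hk⟩ := FiniteField.card K p
  have hp2 : p = 2 := by
    have h1 : 2 ∣ p ^ (k : ℕ) := by
      rw [← hk, hK]
      exact dvd_pow hq.two_dvd two_ne_zero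
    exact ((Nat.prime_dvd_prime_iff_eq Nat.prime_two hpp).1
      (Nat.prime_two.dvd_of_dvd_pow h1)).symm
  subst hp2
  obtain ⟨n, -, hn⟩ : ∃ n ≤ (k : ℕ), q = 2 ^ n := by
    refine (Nat.dvd_prime_pow Nat.prime_two).1 ?_
    rw [← hk, hK]
    exact dvd_pow_self q two_ne_zero
  subst hn
  have hn1 : 1 ≤ n := by
    by_contra h
    have h0 : n = 0 := by omega
    subst h0
    norm_num at hq4
  have hs : ∀ x : K, iterateFrobenius K 2 n x = x ^ (2 ^ n) := fun x => rfl
  have hfact : Fact (∀ x, iterateFrobenius K 2 n (iterateFrobenius K 2 n x) = x) := by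
    refine ⟨fun x => ?_⟩
    rw [hs, hs, ← pow_mul, ← pow_two, ← hK]
    exact FiniteField.pow_card x
  have P : Sylow 2 (Cfsg.PSU 3 K (2 ^ n)) := default
  have : Finite (Cfsg.PSU 3 K (2 ^ n)) := Finite.of_equiv _ f.toEquiv
  obtain ⟨e1⟩ := sylow_transfer f S P
  obtain ⟨e2⟩ := Cfsg.Agent.LieRecognition.PSUThreeSylow.nonempty_sylow_PSU_equiv
    (σ := iterateFrobenius K 2 n) hn1 hs (by rw [Nat.card_eq_fintype_card, hK]) P
  have h1 : Nat.card (S : Subgroup G) = (2 ^ n) ^ 3 := by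
    rw [Nat.card_congr (e1.trans e2.symm).toEquiv]
    exact Cfsg.Agent.LieRecognition.HermHeis.card_heis (Nat.one_lt_two_pow (by omega)) hs
      (by rw [Nat.card_eq_fintype_card, hK])
  rw [h7, ← pow_mul] at h1
  have h2 := Nat.pow_right_injective le_rfl h1
  omega

theorem not_alt {n : ℕ} (hn : 6 ≤ n) (hn9 : n ≤ 9) (f : G ≃* alternatingGroup (Fin n)) : False := by
  have hcard : Nat.card G = n.factorial / 2 := by
    have h1 : Nontrivial (Fin n) := Fin.nontrivial_iff_two_le.2 (by omega)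
    rw [Nat.card_congr f.toEquiv, Nat.card_eq_fintype_card]
    have h2 := two_mul_card_alternatingGroup (α := Fin n)
    rw [Fintype.card_perm, Fintype.card_fin] at h2
    omega
  interval_cases n
  · exact not_order S h7 (k := 3) (d := 45) (by norm_num) (by norm_num) (by rw [hcard]; decide)
  · exact not_order S h7 (k := 3) (d := 315) (by norm_num) (by norm_num) (by rw [hcard]; decide)
  · exact not_order S h7 (k := 6) (d := 315) (by norm_num) (by norm_num) (by rw [hcard]; decide)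
  · exact not_order S h7 (k := 6) (d := 2835) (by norm_num) (by norm_num) (by rw [hcard]; decide)

include hna

/-- the groups in the conclusion of S1179 -/
theorem mathieu (h : (∃ (n : ℕ) (F : Type) (_ : Field F) (_ : Fintype F), 2 ≤ n ∧ CharP F 2 ∧
        Nonempty (G ≃* Matrix.ProjectiveSpecialLinearGroup (Fin n) F)) ∨ Cfsg.IsSuzuki G ∨
      (∃ (F : Type) (_ : Field F) (_ : Fintype F) (q : ℕ), Fintype.card F = q ^ 2 ∧ Even q ∧
        4 ≤ q ∧ Nonempty (G ≃* Cfsg.PSU 3 F q)) ∨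
      (∃ n : ℕ, 6 ≤ n ∧ n ≤ 9 ∧ Nonempty (G ≃* alternatingGroup (Fin n))) ∨
      Cfsg.IsM22 G ∨ Cfsg.IsM23 G ∨ Cfsg.IsM24 G ∨ Cfsg.IsHe G) : Cfsg.IsM22 G ∨ Cfsg.IsM23 G := by
  rcases h with ⟨n, K, _, _, hn, _, ⟨f⟩⟩ | h | ⟨K, _, _, q, hK, hq, hq4, ⟨f⟩⟩ |
    ⟨n, hn, hn9, ⟨f⟩⟩ | h | h | h | h
  · exact (not_psl S h7 hna hn f).elim
  · exact (not_suzuki S h7 h).elim
  · exact (not_psu S h7 hK hq hq4 f).elim
  · exact (not_alt S h7 hn hn9 f).elim
  · exact Or.inl h
  · exact Or.inr h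
  · exact (not_order S h7 (k := 10) (d := 239085) (by norm_num) (by norm_num) (by rw [h.2]; norm_num)).elim
  · exact (not_order S h7 (k := 10) (d := 3935925) (by norm_num) (by norm_num) (by rw [h.2]; norm_num)).elim

/-- the groups in the conclusion of S0222 -/
theorem not_bender (h : (∃ (F : Type) (_ : Field F) (_ : Fintype F), CharP F 2 ∧ 4 ≤ Fintype.card F ∧
      Nonempty (G ≃* Matrix.ProjectiveSpecialLinearGroup (Fin 2) F)) ∨ Cfsg.IsSuzuki G ∨
      (∃ (F : Type) (_ : Field F) (_ : Fintype F) (q : ℕ), Fintype.card F = q ^ 2 ∧ Even q ∧ 4 ≤ q ∧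
        Nonempty (G ≃* Cfsg.PSU 3 F q))) : False := by
  rcases h with ⟨K, _, _, _, -, ⟨f⟩⟩ | h | ⟨K, _, _, q, hK, hq, hq4, ⟨f⟩⟩
  · exact not_psl S h7 hna le_rfl f
  · exact not_suzuki S h7 h
  · exact not_psu S h7 hK hq hq4 f

end Cfsg.Agent.LFourB.SevenCmp
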