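import Cfsg.Agent.PLocal.PConstrained
import Mathlib.GroupTheory.SchurZassenhaus

/-!
# A criterion for 2-constraint

`C` finite, `A` an abelian 2-subgroup which contains all elements of the Sylow 2-subgroup `S ≥ A` centralising it, `S`
normalises `A` and `C = O(C) N(A)`: then `C` is 2-constrained.
-/

set_option autoImplicit false

namespace Cfsg.Agent.LFourB.SevenCon

open Subgroup Cfsg
open Cfsg.Agent.PLocal.PConstrained

variable {C : Type*} [Group C] [Finite C]

/-- 2-elements of `C(A)` lie in `A` -/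
theorem mem_of_two_power (S : Sylow 2 C) {A : Subgroup C} (hSN : (S : Subgroup C) ≤ normalizer (A : Set C))
    (hSA : ∀ x ∈ S, (∀ a ∈ A, x * a = a * x) → x ∈ A) {T : Subgroup C} (hT : IsPGroup 2 T)
    (hTA : T ≤ centralizer (A : Set C)) : T ≤ A := by
  have : Fact (Nat.Prime 2) := ⟨Nat.prime_two⟩
  have hCN : centralizer (A : Set C) ≤ normalizer (A : Set C) := Subgroup.centralizer_le_normalizer _
  have hTN : T ≤ normalizer (A : Set C) := hTA.trans hCN
  have hT' : IsPGroup 2 (T.subgroupOf (normalizer (A : Set C))) :=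
    hT.comap_of_injective _ (Subgroup.subtype_injective _)
  obtain ⟨Q, hQ⟩ := hT'.exists_le_sylow
  obtain ⟨n, hn⟩ := MulAction.exists_smul_eq (normalizer (A : Set C)) Q (S.subtype hSN)
  intro x hx
  have h1 : (⟨x, hTN hx⟩ : normalizer (A : Set C)) ∈ (Q : Subgroup (normalizer (A : Set C))) := hQ (mem_subgroupOf.2 hx)
  have h2 : n * ⟨x, hTN hx⟩ * n⁻¹ ∈ ((n • Q : Sylow 2 (normalizer (A : Set C))) : Subgroup (normalizer (A : Set C))) := by
    have : ((n • Q : Sylow 2 (normalizer (A : Set C))) : Subgroup (normalizer (A : Set C))) =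
        (Q : Subgroup (normalizer (A : Set C))).map (MulAut.conj n).toMonoidHom := rfl
    rw [this]
    exact ⟨_, h1, rfl⟩
  rw [hn] at h2
  have h3 : (n : C) * x * (n : C)⁻¹ ∈ (S : Subgroup C) := h2
  have h4 : (n : C) * x * (n : C)⁻¹ ∈ A := by
    refine hSA _ h3 fun a ha => ?_
    have h5 : (n : C)⁻¹ * a * n ∈ A := by
      have := (Subgroup.mem_normalizer_iff.1 (Subgroup.inv_mem _ n.2) a).1 ha
      simpa using this
    have h6 := (Subgroup.mem_centralizer_iff.1 (hTA hx)) _ h5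
    calc (n : C) * x * (n : C)⁻¹ * a = (n : C) * (x * ((n : C)⁻¹ * a * n)) * (n : C)⁻¹ := by group
      _ = (n : C) * (((n : C)⁻¹ * a * n) * x) * (n : C)⁻¹ := by rw [h6]
      _ = a * ((n : C) * x * (n : C)⁻¹) := by group
  exact (Subgroup.mem_normalizer_iff.1 n.2 x).2 h4

/-- `C(A) = A × K`, `K` of odd order -/
theorem exists_odd (S : Sylow 2 C) {A : Subgroup C} (hA : IsPGroup 2 A) (hAc : ∀ a ∈ A, ∀ b ∈ A, a * b = b * a)
    (hSN : (S : Subgroup C) ≤ normalizer (A : Set C))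
    (hSA : ∀ x ∈ S, (∀ a ∈ A, x * a = a * x) → x ∈ A) :
    ∃ K : Subgroup C, K ≤ centralizer (A : Set C) ∧ (Nat.card K).Coprime 2 ∧
      (∀ x ∈ centralizer (A : Set C), ∃ a ∈ A, ∃ k ∈ K, x = a * k) ∧
      (∀ n ∈ normalizer (A : Set C), ∀ k ∈ K, n * k * n⁻¹ ∈ K) := by
  have : Fact (Nat.Prime 2) := ⟨Nat.prime_two⟩
  let X : Subgroup C := centralizer (A : Set C)
  have hAX : A ≤ X := fun a ha => Subgroup.mem_centralizer_iff.2 fun b hb => hAc b hb a ha
  let A' : Subgroup X := A.subgroupOf X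
  have hA'n : A'.Normal := by
    refine ⟨fun a ha g => ?_⟩
    have h1 : g * a * g⁻¹ = a := by
      apply Subtype.ext
      show (g : C) * a * (g : C)⁻¹ = a
      rw [← (Subgroup.mem_centralizer_iff.1 g.2) a ha, mul_inv_cancel_right]
    rw [h1]
    exact ha
  obtain ⟨T⟩ : Nonempty (Sylow 2 X) := inferInstance
  have hTA : (T : Subgroup X) ≤ A' := by
    intro x hx
    have h1 : (T : Subgroup X).map X.subtype ≤ A := by
      refine mem_of_two_power S hSN hSA (T.2.map _) ?_
      rintro _ ⟨y, -, rfl⟩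
      exact y.2
    exact h1 ⟨x, hx, rfl⟩
  have hA'p : IsPGroup 2 A' := hA.comap_of_injective _ (Subgroup.subtype_injective _)
  have hAT : A' ≤ T := IsPGroup.le_sylow_of_normal hA'p T
  have hT : (T : Subgroup X) = A' := le_antisymm hTA hAT
  have hidx : ¬ 2 ∣ A'.index := by
    rw [← hT]
    exact T.not_dvd_index
  have hcop : (Nat.card A').Coprime A'.index := by
    obtain ⟨n, hn⟩ := IsPGroup.iff_card.1 (hT ▸ T.2 : IsPGroup 2 A')
    rw [hn]
    exact Nat.Coprime.pow_left n ((Nat.Prime.coprime_iff_not_dvd Nat.prime_two).2 hidx)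
  obtain ⟨H, hH⟩ := Subgroup.exists_right_complement'_of_coprime hcop
  have hcardH : Nat.card H = A'.index := hH.symm.index_eq_card.symm
  have hHc : (Nat.card H).Coprime 2 := by
    rw [hcardH]
    exact ((Nat.Prime.coprime_iff_not_dvd Nat.prime_two).2 hidx).symm
  -- membership in `H` by the order
  have hH1 : ∀ x : X, (orderOf x).Coprime 2 → x ∈ H := by
    intro x hx
    obtain ⟨⟨a, k⟩, hak⟩ := hH.2 x
    have hak' : (a : X) * k = x := hak
    have hcomm : (a : X) * k = k * a := by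
      apply Subtype.ext
      exact (Subgroup.mem_centralizer_iff.1 (k : X).2) _ a.2
    have h1 : (a : X) ^ (orderOf x * Nat.card H) = 1 := by
      have h2 : x ^ (orderOf x * Nat.card H) = 1 := by rw [pow_mul, pow_orderOf_eq_one, one_pow]
      rw [← hak', (show Commute (a : X) k from hcomm).mul_pow] at h2
      have h3 : (k : X) ^ (orderOf ((a : X) * k) * Nat.card H) = 1 := by
        rw [mul_comm, pow_mul]
        have h4 : (k : X) ^ Nat.card H = 1 := by
          have := pow_card_eq_one' (x := k)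
          exact congrArg Subtype.val this
        rw [h4, one_pow]
      rw [h3, mul_one, hak'] at h2
      exact h2
    have h2 : (a : X) = 1 := by
      have h3 : orderOf (a : X) ∣ orderOf x * Nat.card H := orderOf_dvd_of_pow_eq_one h1
      obtain ⟨n, hn⟩ : ∃ n, orderOf (a : X) = 2 ^ n := by
        obtain ⟨n, hn⟩ := (IsPGroup.iff_orderOf.1 (hT ▸ T.2 : IsPGroup 2 A')) a
        exact ⟨n, by rw [← hn, Subgroup.orderOf_coe]⟩
      have h4 : (2 ^ n).Coprime (orderOf x * Nat.card H) :=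
        Nat.Coprime.pow_left n (Nat.Coprime.mul_right hx.symm hHc.symm)
      rw [hn] at h3
      have h5 : 2 ^ n = 1 := Nat.Coprime.eq_one_of_dvd h4 h3
      rw [← orderOf_eq_one_iff, hn, h5]
    rw [← hak', h2, one_mul]
    exact k.2
  refine ⟨H.map X.subtype, ?_, ?_, ?_, ?_⟩
  · rintro _ ⟨x, -, rfl⟩
    exact x.2
  · rw [Subgroup.card_map_of_injective X.subtype_injective]
    exact hHc
  · intro x hx
    obtain ⟨⟨a, k⟩, hak⟩ := hH.2 ⟨x, hx⟩
    have hak' : ((a : X) : C) * ((k : X) : C) = x := congrArg Subtype.val hak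
    exact ⟨_, a.2, _, ⟨k, k.2, rfl⟩, hak'.symm⟩
  · rintro n hn _ ⟨k, hk, rfl⟩
    have h1 : n * (k : C) * n⁻¹ ∈ X := by
      rw [Subgroup.mem_centralizer_iff]
      intro a ha
      have h2 : n⁻¹ * a * n ∈ A := by
        have := (Subgroup.mem_normalizer_iff.1 (Subgroup.inv_mem _ hn) a).1 ha
        simpa using this
      have h3 := (Subgroup.mem_centralizer_iff.1 k.2) _ h2
      calc a * (n * k * n⁻¹) = n * ((n⁻¹ * a * n) * k) * n⁻¹ := by group
        _ = n * (k * (n⁻¹ * a * n)) * n⁻¹ := by rw [h3]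
        _ = n * k * n⁻¹ * a := by group
    refine ⟨⟨_, h1⟩, hH1 _ ?_, rfl⟩
    have h2 : orderOf (⟨n * (k : C) * n⁻¹, h1⟩ : X) = orderOf k := by
      rw [← Subgroup.orderOf_coe, ← Subgroup.orderOf_coe k]
      show orderOf (n * (k : C) * n⁻¹) = orderOf (k : C)
      have := (MulAut.conj n).toMonoidHom
      exact orderOf_injective (MulAut.conj n).toMonoidHom (MulAut.conj n).injective (k : C)
    rw [h2]
    have h3 : orderOf k ∣ Nat.card H := by
      have := orderOf_dvd_natCard (⟨k, hk⟩ : H)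
      rwa [← Subgroup.orderOf_coe] at this
    exact Nat.Coprime.coprime_dvd_left h3 hHc

theorem isPConstrained_of_frattini (S : Sylow 2 C) {A : Subgroup C} (hA : IsPGroup 2 A)
    (hAc : ∀ a ∈ A, ∀ b ∈ A, a * b = b * a) (hSN : (S : Subgroup C) ≤ normalizer (A : Set C))
    (hSA : ∀ x ∈ S, (∀ a ∈ A, x * a = a * x) → x ∈ A)
    (hfr : ∀ c : C, ∃ o ∈ pPrimeCore 2 C, ∃ n ∈ normalizer (A : Set C), c = o * n) : IsPConstrained 2 C := by
  have : Fact (Nat.Prime 2) := ⟨Nat.prime_two⟩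
  rw [isPConstrained_iff]
  set π := QuotientGroup.mk' (pPrimeCore 2 C) with hπ
  have hπs : Function.Surjective π := QuotientGroup.mk'_surjective _
  have hk : (Nat.card π.ker).Coprime 2 := by
    rw [hπ, QuotientGroup.ker_mk']
    exact coprime_card_pPrimeCore 2 C
  have hcov : ∀ q, ∃ n ∈ normalizer (A : Set C), π n = q := by
    intro q
    obtain ⟨c, rfl⟩ := hπs q
    obtain ⟨o, ho, n, hn, rfl⟩ := hfr c
    refine ⟨n, hn, ?_⟩
    have h1 : π o = 1 := (QuotientGroup.eq_one_iff o).2 ho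
    rw [map_mul, h1, one_mul]
  obtain ⟨K, hKC, hKcop, hmul, hKn⟩ := exists_odd S hA hAc hSN hSA
  -- `π K = 1`
  have hKbot : K.map π = ⊥ := by
    rw [eq_bot_iff, ← pPrimeCore_quotient_eq_bot 2 C]
    apply le_pPrimeCore
    · refine ⟨?_⟩
      rintro _ ⟨k, hk, rfl⟩ q
      obtain ⟨n, hn, rfl⟩ := hcov q
      have h1 : π (n * k * n⁻¹) = π n * π k * (π n)⁻¹ := by rw [map_mul, map_mul, map_inv]
      rw [← h1]
      exact Subgroup.mem_map_of_mem π (hKn n hn k hk)
    · exact Nat.Coprime.coprime_dvd_left (Subgroup.card_map_dvd K π) hKcop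
  have hAle : A.map π ≤ pCore 2 (C ⧸ pPrimeCore 2 C) := by
    refine le_sSup ⟨⟨?_⟩, hA.map _⟩
    rintro _ ⟨a, ha, rfl⟩ q
    obtain ⟨n, hn, rfl⟩ := hcov q
    have h1 : π (n * a * n⁻¹) = π n * π a * (π n)⁻¹ := by rw [map_mul, map_mul, map_inv]
    rw [← h1]
    exact Subgroup.mem_map_of_mem π ((Subgroup.mem_normalizer_iff.1 hn a).1 ha)
  intro q hq
  have h1 : q ∈ centralizer (A.map π : Set (C ⧸ pPrimeCore 2 C)) := by
    rw [Subgroup.mem_centralizer_iff] at hq ⊢
    intro x hx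
    exact hq x (hAle hx)
  rw [← map_centralizer_eq π hπs hk hA] at h1
  obtain ⟨x, hx, rfl⟩ := h1
  obtain ⟨a, ha, k, hk', rfl⟩ := hmul x hx
  have h2 : π k = 1 := by
    have h3 : π k ∈ K.map π := ⟨k, hk', rfl⟩
    rw [hKbot] at h3
    exact Subgroup.mem_bot.1 h3
  rw [map_mul, h2, mul_one]
  exact hAle ⟨a, ha, rfl⟩

end Cfsg.Agent.LFourB.SevenCon
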