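import Mathlib.GroupTheory.GroupAction.Primitive
import Cfsg.Agent.SylowL5.SelfCent

/-!
# Odd normal subgroups of the automiser of an elementary abelian group of order 8

`A` commutative of order 8, `N(A)` transitive on the nontrivial elements of `A`, some element of
the Sylow 2-subgroup acts as a transvection on `A`. Then a normal subgroup `M` of `N(A)` with
`M ∩ T ≤ A` centralises `A`.
-/

set_option autoImplicit false

namespace Cfsg.Agent.LFourB.SevenOdd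

open Subgroup

variable {X : Type*} [Group X]

/-- Conjugation action of the normaliser on the nontrivial elements. -/
@[reducible] def act (A : Subgroup X) : MulAction (normalizer (A : Set X)) {a : A // a ≠ 1} where
  smul n a := ⟨⟨(n : X) * (a.1 : X) * (n : X)⁻¹, (mem_normalizer_iff.mp n.2 _).mp a.1.2⟩, fun h => by
    apply a.2
    have h1 : (n : X) * (a.1 : X) * (n : X)⁻¹ = 1 := congrArg Subtype.val h
    apply Subtype.ext
    rw [mul_inv_eq_one] at h1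
    exact mul_left_cancel (a := (n : X)) (by rw [h1]; simp)⟩
  one_smul a := by
    apply Subtype.ext
    apply Subtype.ext
    change (1 : X) * (a.1 : X) * (1 : X)⁻¹ = _
    group
  mul_smul m n a := by
    apply Subtype.ext
    apply Subtype.ext
    change ((m : X) * n) * (a.1 : X) * ((m : X) * n)⁻¹ = (m : X) * ((n : X) * (a.1 : X) * (n : X)⁻¹) * (m : X)⁻¹
    group

/-- A normal subgroup of a group that is transitive on the seven nontrivial elements. -/
theorem trans_of_normal {A M : Subgroup X} (hcard : Nat.card A = 8)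
    (htr : ∀ a ∈ A, a ≠ 1 → ∀ b ∈ A, b ≠ 1 → ∃ n ∈ normalizer (A : Set X), n * a * n⁻¹ = b)
    (hM : M ≤ normalizer (A : Set X)) (hn : normalizer (A : Set X) ≤ normalizer (M : Set X))
    {m a : X} (hm : m ∈ M) (ha : a ∈ A) (hma : m * a ≠ a * m) {b c : X} (hb : b ∈ A) (hb1 : b ≠ 1)
    (hc : c ∈ A) (hc1 : c ≠ 1) : ∃ n ∈ M, n * c * n⁻¹ = b := by
  classical
  letI := act A
  have : Finite A := Nat.finite_of_card_ne_zero (by rw [hcard]; norm_num)
  have hcard' : Nat.card {a : A // a ≠ 1} = 7 := by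
    have h1 := Nat.card_congr (Equiv.optionSubtypeNe (1 : A))
    rw [Finite.card_option, hcard] at h1
    omega
  have hne : Nonempty {a : A // a ≠ 1} := ⟨⟨⟨b, hb⟩, fun h => hb1 (congrArg Subtype.val h)⟩⟩
  have hpt : MulAction.IsPretransitive (normalizer (A : Set X)) {a : A // a ≠ 1} := by
    refine ⟨fun x y => ?_⟩
    obtain ⟨n, hn, h⟩ := htr x.1 x.1.2 (fun h => x.2 (Subtype.ext h)) y.1 y.1.2
      (fun h => y.2 (Subtype.ext h))
    exact ⟨⟨n, hn⟩, Subtype.ext (Subtype.ext h)⟩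
  have hpp : MulAction.IsPreprimitive (normalizer (A : Set X)) {a : A // a ≠ 1} := by
    apply MulAction.IsPreprimitive.of_prime_card
    rw [hcard']
    norm_num
  have hMn : (M.subgroupOf (normalizer (A : Set X))).Normal := normal_subgroupOf_of_le_normalizer hn
  have hp := MulAction.IsQuasiPreprimitive.isPretransitive_of_normal (G := normalizer (A : Set X))
    (X := {a : A // a ≠ 1}) (N := M.subgroupOf (normalizer (A : Set X))) (by
      intro hfix
      apply hma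
      by_cases ha1 : a = 1
      · rw [ha1]; simp
      have h1 : (⟨⟨a, ha⟩, fun h => ha1 (congrArg Subtype.val h)⟩ : {a : A // a ≠ 1}) ∈
          MulAction.fixedPoints (M.subgroupOf (normalizer (A : Set X))) {a : A // a ≠ 1} := by
        rw [hfix]; trivial
      have h2 := h1 ⟨⟨m, hM hm⟩, hm⟩
      have h3 : m * a * m⁻¹ = a := congrArg Subtype.val (congrArg Subtype.val h2)
      exact mul_inv_eq_iff_eq_mul.mp h3)
  obtain ⟨n, hn⟩ := hp.exists_smul_eq ⟨⟨c, hc⟩, fun h => hc1 (congrArg Subtype.val h)⟩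
    ⟨⟨b, hb⟩, fun h => hb1 (congrArg Subtype.val h)⟩
  exact ⟨n.1, n.2, congrArg Subtype.val (congrArg Subtype.val hn)⟩

/-- A 2-element of `N(A)` lying in `M` lies in `A`. -/
theorem mem_of_two [Finite X] (T : Sylow 2 X) {A M : Subgroup X}
    (hTA : (T : Subgroup X) ≤ normalizer (A : Set X))
    (hM : M ≤ normalizer (A : Set X)) (hn : normalizer (A : Set X) ≤ normalizer (M : Set X))
    (hMT : ∀ m ∈ M, m ∈ (T : Subgroup X) → m ∈ A) {m : X} (hm : m ∈ M) {k : ℕ}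
    (hk : m ^ 2 ^ k = 1) : m ∈ A := by
  have : Fact (Nat.Prime 2) := ⟨Nat.prime_two⟩
  obtain ⟨g, hg⟩ := Cfsg.Agent.SylowL5.SelfCent.exists_conj_mem (T.subtype hTA)
    (x := (⟨m, hM hm⟩ : normalizer (A : Set X))) (n := k) (Subtype.ext hk)
  have h1 : (g : X) * m * (g : X)⁻¹ ∈ (T : Subgroup X) := by
    have : g * (⟨m, hM hm⟩ : normalizer (A : Set X)) * g⁻¹ ∈ (T : Subgroup X).subgroupOf _ := hg
    rw [mem_subgroupOf] at this
    exact this
  have h2 : (g : X) * m * (g : X)⁻¹ ∈ M := (mem_normalizer_iff.mp (hn g.2) m).mp hm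
  exact (mem_normalizer_iff.mp g.2 m).mpr (hMT _ h2 h1)

/-- **The odd automiser lemma.** -/
theorem cent_of_transvection [Finite X] (T : Sylow 2 X) {A : Subgroup X} (hcard : Nat.card A = 8)
    (hab : ∀ a ∈ A, ∀ b ∈ A, a * b = b * a)
    (hTA : (T : Subgroup X) ≤ normalizer (A : Set X))
    (htr : ∀ a ∈ A, a ≠ 1 → ∀ b ∈ A, b ≠ 1 → ∃ n ∈ normalizer (A : Set X), n * a * n⁻¹ = b)
    {t c a0 b : X} (ht : t ∈ (T : Subgroup X)) (hc : c ∈ A) (hc1 : c ≠ 1) (hc2 : c * c = 1)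
    (ht1 : ∀ a ∈ A, t * a * t⁻¹ = a ∨ t * a * t⁻¹ = a * c) (ha0 : a0 ∈ A)
    (hta : t * a0 * t⁻¹ = a0 * c) (hb : b ∈ A) (hb1 : b ≠ 1) (hbc : b ≠ c)
    (htb : t * b * t⁻¹ = b) (M : Subgroup X) (hM : M ≤ normalizer (A : Set X))
    (hn : normalizer (A : Set X) ≤ normalizer (M : Set X))
    (hMT : ∀ m ∈ M, m ∈ (T : Subgroup X) → m ∈ A) : ∀ m ∈ M, ∀ a ∈ A, m * a = a * m := by
  by_contra hcon
  push Not at hcon
  obtain ⟨m, hm, a, ha, hma⟩ := hcon
  obtain ⟨n, hnM, hnc⟩ := trans_of_normal hcard htr hM hn hm ha hma hb hb1 hc hc1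
  have htN : t ∈ normalizer (A : Set X) := hTA ht
  -- `c` is fixed by `t`
  have htc : t * c * t⁻¹ = c := by
    rcases ht1 c hc with h | h
    · exact h
    · exfalso
      rw [hc2, mul_inv_eq_one] at h
      exact hc1 (mul_left_cancel (a := t) (by rw [h]; simp))
  -- the action on `A`
  set ρ := Subgroup.normalizerMonoidHom A with hρ
  have hρa : ∀ (g : normalizer (A : Set X)) (x : A), ((ρ g x : A) : X) = (g : X) * x * (g : X)⁻¹ :=
    fun g x => rfl
  set τ := ρ ⟨t, htN⟩ with hτ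
  set ν := ρ ⟨n, hM hnM⟩ with hν
  have hτ2 : τ * τ = 1 := by
    ext x
    change ((τ (τ x) : A) : X) = x
    rw [hτ, hρa, hρa]
    change t * (t * x * t⁻¹) * t⁻¹ = x
    rcases ht1 x x.2 with h | h
    · rw [h, h]
    · rw [h]
      have h1 : t * ((x : X) * c) * t⁻¹ = (t * x * t⁻¹) * (t * c * t⁻¹) := by group
      rw [h1, h, htc, mul_assoc, hc2, mul_one]
  -- the commutator
  have hy : t * n * t⁻¹ * n⁻¹ ∈ M :=
    M.mul_mem ((mem_normalizer_iff.mp (hn htN) n).mp hnM) (M.inv_mem hnM)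
  obtain ⟨k, r, hr, hkr⟩ := Nat.exists_eq_two_pow_mul_odd
    (n := orderOf (t * n * t⁻¹ * n⁻¹)) (orderOf_pos _).ne'
  have hyr : (t * n * t⁻¹ * n⁻¹) ^ r ∈ A := by
    apply mem_of_two T hTA hM hn hMT (M.pow_mem hy r) (k := k)
    rw [← pow_mul, mul_comm, ← hkr, pow_orderOf_eq_one]
  set x := τ * ν * τ⁻¹ * ν⁻¹ with hx
  have hxr : x ^ r = 1 := by
    have h1 : x = ρ ⟨t * n * t⁻¹ * n⁻¹, hM hy⟩ := by
      rw [hx, hτ, hν, ← map_inv, ← map_inv, ← map_mul, ← map_mul, ← map_mul]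
      rfl
    rw [h1, ← map_pow]
    ext y
    rw [hρa]
    change (t * n * t⁻¹ * n⁻¹) ^ r * y * ((t * n * t⁻¹ * n⁻¹) ^ r)⁻¹ = y
    rw [hab _ hyr _ y.2, mul_inv_cancel_right]
  obtain ⟨s, hs⟩ := hr
  -- `j ^ 2 = x`
  set j := x ^ (s + 1) with hj
  have hjj : j * j = x := by
    rw [hj, ← pow_add, show s + 1 + (s + 1) = (2 * s + 1) + 1 by ring, ← hs, pow_succ, hxr, one_mul]
  have hτi : τ⁻¹ = τ := inv_eq_of_mul_eq_one_left hτ2
  have hx' : x = τ * (ν * τ * ν⁻¹) := by rw [hx, hτi]; group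
  have hτx : τ * x * τ = x⁻¹ := by
    rw [hx']
    have h1 : (τ * (ν * τ * ν⁻¹))⁻¹ = ν * τ⁻¹ * ν⁻¹ * τ⁻¹ := by group
    rw [h1, hτi]
    calc τ * (τ * (ν * τ * ν⁻¹)) * τ = (τ * τ) * (ν * τ * ν⁻¹) * τ := by group
      _ = ν * τ * ν⁻¹ * τ := by rw [hτ2, one_mul]
  have hτj : τ * j * τ = j⁻¹ := by
    have h1 : ∀ i : ℕ, τ * x ^ i * τ = (x ^ i)⁻¹ := by
      intro i
      induction i with
      | zero => rw [pow_zero, mul_one, hτ2, inv_one]
      | succ i ih =>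
        calc τ * x ^ (i + 1) * τ = (τ * x ^ i * τ) * (τ⁻¹ * τ⁻¹) * (τ * x * τ) := by
              rw [pow_succ]; group
          _ = (x ^ (i + 1))⁻¹ := by
              rw [hτi, hτ2, mul_one, ih, hτx, ← _root_.mul_inv_rev, ← pow_succ']
    exact h1 _
  -- `j ν` commutes with `τ`
  have hcom : τ * (j * ν) = (j * ν) * τ := by
    have h1 : ν * τ * ν⁻¹ = τ * j * j := by
      calc ν * τ * ν⁻¹ = (τ * τ) * (ν * τ * ν⁻¹) := by rw [hτ2, one_mul]
        _ = τ * x := by rw [hx']; group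
        _ = τ * j * j := by rw [mul_assoc, hjj]
    have h2 : τ * j = j⁻¹ * τ := by
      rw [← hτj, mul_assoc, mul_assoc, hτ2, mul_one]
    have h3 : j * (ν * τ * ν⁻¹) = τ * j := by
      calc j * (ν * τ * ν⁻¹) = j * (τ * j) * j := by rw [h1]; group
        _ = j * (j⁻¹ * τ) * j := by rw [h2]
        _ = τ * j := by group
    calc τ * (j * ν) = (τ * j) * ν := by rw [mul_assoc]
      _ = j * (ν * τ * ν⁻¹) * ν := by rw [h3]
      _ = (j * ν) * τ := by group
  -- `j` fixes `b`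
  have hνc : ν ⟨c, hc⟩ = ⟨b, hb⟩ := Subtype.ext hnc
  have hτb : τ ⟨b, hb⟩ = ⟨b, hb⟩ := Subtype.ext htb
  have hτc : τ ⟨c, hc⟩ = ⟨c, hc⟩ := Subtype.ext htc
  have hxb : x ⟨b, hb⟩ = ⟨b, hb⟩ := by
    rw [hx']
    change τ (ν (τ (ν⁻¹ ⟨b, hb⟩))) = _
    have h1 : ν⁻¹ ⟨b, hb⟩ = ⟨c, hc⟩ := by
      rw [← hνc]
      change ν.symm (ν _) = _
      rw [MulEquiv.symm_apply_apply]
    rw [h1, hτc, hνc, hτb]
  have hjb : j ⟨b, hb⟩ = ⟨b, hb⟩ := by
    have h1 : ∀ i : ℕ, (x ^ i) ⟨b, hb⟩ = (⟨b, hb⟩ : A) := by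
      intro i
      induction i with
      | zero => rfl
      | succ i ih =>
        rw [pow_succ]
        change (x ^ i) (x ⟨b, hb⟩) = _
        rw [hxb, ih]
    exact h1 _
  -- contradiction
  have h4 : τ ((j * ν) ⟨a0, ha0⟩) = (j * ν) (τ ⟨a0, ha0⟩) := by
    have := congrArg (fun g : MulAut A => g ⟨a0, ha0⟩) hcom
    exact this
  have h5 : τ ⟨a0, ha0⟩ = (⟨a0, ha0⟩ : A) * ⟨c, hc⟩ := Subtype.ext hta
  have h6 : (j * ν) ⟨c, hc⟩ = ⟨b, hb⟩ := by
    change j (ν ⟨c, hc⟩) = _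
    rw [hνc, hjb]
  rw [h5, map_mul, h6] at h4
  set y := (j * ν) ⟨a0, ha0⟩ with hyy
  have h7 : t * (y : X) * t⁻¹ = (y : X) * b := congrArg Subtype.val h4
  rcases ht1 y y.2 with h | h
  · rw [h] at h7
    exact hb1 (left_eq_mul.mp h7)
  · rw [h] at h7
    exact hbc (mul_left_cancel h7).symm

end Cfsg.Agent.LFourB.SevenOdd
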