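import Cfsg.Agent.LFourB.SevenAbs
import Cfsg.Agent.LFourB.SevenOdd
import Cfsg.Agent.Lib.LocalCore
import Cfsg.Agent.Lib.SolvableNormalP
import Cfsg.Agent.S1250

/-!
# The centraliser of an involution: a strongly closed elementary abelian subgroup

`H` finite, `z` a central involution, `V` elementary abelian of order 16 containing `z`, strongly closed
in a Sylow 2-subgroup, self centralising modulo `z`, the centralisers of `v ∈ V \ ⟨z⟩` solvable,
`N(V)` transitive on them: then `H = O(H) N(V)` (with Goldschmidt's theorem for simple groups as a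
hypothesis).
-/

set_option autoImplicit false

namespace Cfsg.Agent.LFourB.SevenCore

open Subgroup Cfsg.Agent.Lib.MinNormal Cfsg.Agent.Lib.MinNormalNonabelian

universe u

variable {H : Type u} [Group H]

theorem mem_zpowers_iff {z : H} (hz2 : z * z = 1) {x : H} : x ∈ zpowers z ↔ x = 1 ∨ x = z := by
  constructor
  · intro h
    obtain ⟨n, rfl⟩ := Subgroup.mem_zpowers_iff.mp h
    rcases Int.even_or_odd n with ⟨m, rfl⟩ | ⟨m, rfl⟩
    · left
      rw [zpow_add, ← (Commute.refl z).mul_zpow, hz2, one_zpow]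
    · right
      rw [zpow_add, zpow_mul, show z ^ (2 : ℤ) = z * z from by rw [zpow_ofNat, pow_two], hz2, one_zpow,
        one_mul, zpow_one]
  · rintro (rfl | rfl)
    · exact one_mem _
    · exact mem_zpowers _

theorem card_zpowers {z : H} (hz2 : z * z = 1) (hz1 : z ≠ 1) : Nat.card (zpowers z) = 2 := by
  rw [Nat.card_zpowers]
  exact orderOf_eq_prime (by rw [pow_two]; exact hz2) hz1

theorem isPGroup_zpowers {z : H} (hz2 : z * z = 1) : IsPGroup 2 (zpowers z) := by
  rintro ⟨x, hx⟩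
  refine ⟨1, Subtype.ext ?_⟩
  change x ^ 2 ^ 1 = 1
  rcases (mem_zpowers_iff hz2).mp hx with rfl | rfl
  · simp
  · rw [pow_one, pow_two]; exact hz2

/-- A normal subgroup of order twice an odd number that contains the central involution `z`. -/
theorem le_core_sup [Finite H] {z : H} (hz : ∀ g : H, g * z = z * g) (hz2 : z * z = 1) (hz1 : z ≠ 1)
    {L : Subgroup H} (hL : L.Normal) (hzL : z ∈ L) (hL4 : ¬ 4 ∣ Nat.card L) :
    L ≤ Cfsg.oddCore H ⊔ zpowers z := by
  have : Fact (Nat.Prime 2) := ⟨Nat.prime_two⟩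
  obtain ⟨P⟩ : Nonempty (Sylow 2 L) := inferInstance
  set z' : L := ⟨z, hzL⟩ with hz'
  have hz'2 : z' * z' = 1 := Subtype.ext hz2
  have hz'1 : z' ≠ 1 := fun h => hz1 (congrArg Subtype.val h)
  have hzP : zpowers z' ≤ (P : Subgroup L) := by
    have hn : (zpowers z').Normal := by
      constructor
      intro x hx g
      rcases (mem_zpowers_iff hz'2).mp hx with rfl | rfl
      · simp
      · have : g * z' * g⁻¹ = z' := by
          rw [mul_inv_eq_iff_eq_mul]
          exact Subtype.ext (hz g)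
        rw [this]
        exact hx
    exact (Cfsg.Agent.Lib.Cores.le_pCore hn (isPGroup_zpowers hz'2)).trans
      (Cfsg.Agent.Lib.Cores.pCore_le_sylow P)
  have hPeq : zpowers z' = (P : Subgroup L) := by
    apply Subgroup.eq_of_le_of_card_ge hzP
    rw [card_zpowers hz'2 hz'1]
    obtain ⟨n, hn⟩ := IsPGroup.iff_card.mp P.isPGroup'
    rw [hn]
    have h1 : 2 ^ n ∣ Nat.card L := by rw [← hn]; exact Subgroup.card_subgroup_dvd_card _
    have h2 : n < 2 := by
      by_contra hcon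
      apply hL4
      exact (pow_dvd_pow 2 (not_lt.mp hcon)).trans h1
    interval_cases n <;> norm_num
  have hcen : ∀ p ∈ (P : Subgroup L), ∀ g : L, g * p = p * g := by
    intro p hp g
    rw [← hPeq] at hp
    rcases (mem_zpowers_iff hz'2).mp hp with rfl | rfl
    · simp
    · exact Subtype.ext (hz g)
  have hnc : normalizer ((P : Subgroup L) : Set L) ≤ centralizer (P : Set L) := by
    intro n _
    rw [mem_centralizer_iff]
    intro a ha
    exact (hcen a ha n).symm
  have hcomp := MonoidHom.ker_transferSylow_isComplement' P hnc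
  set N := (MonoidHom.transferSylow P hnc).ker with hN
  have hNle : N ≤ Cfsg.pPrimeCore 2 L := by
    apply Cfsg.Agent.Lib.Cores.le_pPrimeCore (MonoidHom.normal_ker _)
    rw [Nat.coprime_comm]
    apply (Nat.Prime.coprime_iff_not_dvd Nat.prime_two).mpr
    intro h2
    have h3 := hcomp.card_mul
    rw [← hPeq, card_zpowers hz'2 hz'1] at h3
    apply hL4
    rw [← h3]
    obtain ⟨c, hc⟩ := h2
    rw [hc]
    exact ⟨c, by ring⟩
  have hmap := Cfsg.Agent.Lib.Cores.map_subtype_pPrimeCore 2 hL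
  intro x hx
  obtain ⟨⟨n, p⟩, hnp⟩ := hcomp.surjective (⟨x, hx⟩ : L)
  have h1 : (n : L) * (p : L) = ⟨x, hx⟩ := hnp
  have h2 : ((n : L) : H) * ((p : L) : H) = x := congrArg Subtype.val h1
  rw [← h2]
  apply mul_mem
  · apply mem_sup_left
    have h3 : ((n : L) : H) ∈ (Cfsg.pPrimeCore 2 L).map L.subtype := ⟨n, hNle n.2, rfl⟩
    rw [hmap] at h3
    exact h3.2
  · apply mem_sup_right
    have h4 : (p : L) ∈ zpowers z' := by rw [hPeq]; exact p.2
    rcases (mem_zpowers_iff hz'2).mp h4 with h | h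
    · rw [h]; exact one_mem _
    · rw [h]; exact mem_zpowers _

/-- The hypotheses of the theorem. -/
structure Hyp [Finite H] (z : H) (T : Sylow 2 H) (V : Subgroup H) : Prop where
  zc : ∀ g : H, g * z = z * g
  z2 : z * z = 1
  z1 : z ≠ 1
  zV : z ∈ V
  card : Nat.card V = 16
  el : ∀ v ∈ V, v * v = 1
  sc : Cfsg.IsStronglyClosed V (T : Subgroup H)
  self : ∀ s ∈ (T : Subgroup H), (∀ v ∈ V, s * v * s⁻¹ = v ∨ s * v * s⁻¹ = v * z) → s ∈ V
  sol : ∀ v ∈ V, v ≠ 1 → v ≠ z → Group.IsSolvable (centralizer ({v} : Set H))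
  tr : ∀ v ∈ V, v ≠ 1 → v ≠ z → ∀ w ∈ V, w ≠ 1 → w ≠ z →
    ∃ n ∈ normalizer (V : Set H), n * v * n⁻¹ = w
  tv : ∃ t ∈ (T : Subgroup H), ∃ c ∈ V, c ≠ 1 ∧ c ≠ z ∧
    (∀ v ∈ V, t * v * t⁻¹ = v ∨ t * v * t⁻¹ = v * z ∨ t * v * t⁻¹ = v * c ∨ t * v * t⁻¹ = v * c * z) ∧
    (∃ a ∈ V, t * a * t⁻¹ = a * c) ∧
    ∃ b ∈ V, b ≠ 1 ∧ b ≠ z ∧ b ≠ c ∧ b ≠ c * z ∧ t * b * t⁻¹ = b
  inv : ∀ P ≤ (T : Subgroup H), V ≤ P → (T : Subgroup H) ≤ normalizer (P : Set H) → P ≠ V →
    ∃ u ∈ P, u ∉ V ∧ (u * u = 1 ∨ u * u = z)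

namespace Hyp

variable [Finite H] {z : H} {T : Sylow 2 H} {V : Subgroup H}

/-- The kernel. -/
def ker (z : H) : Subgroup H := Cfsg.oddCore H ⊔ zpowers z

theorem comm (h : Hyp z T V) {a b : H} (ha : a ∈ V) (hb : b ∈ V) : a * b = b * a := by
  have h1 := h.el _ (V.mul_mem ha hb)
  have h2 : (a * b)⁻¹ = a * b := inv_eq_of_mul_eq_one_left h1
  rw [_root_.mul_inv_rev, inv_eq_of_mul_eq_one_left (h.el b hb),
    inv_eq_of_mul_eq_one_left (h.el a ha)] at h2
  exact h2.symm

theorem zpow_normal (h : Hyp z T V) : (zpowers z).Normal := by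
  constructor
  intro x hx g
  rcases (mem_zpowers_iff h.z2).mp hx with rfl | rfl
  · simp
  · rw [h.zc g, mul_inv_cancel_right]
    exact hx

theorem ker_normal (h : Hyp z T V) : (ker z).Normal := by
  have := h.zpow_normal
  have h2 : (Cfsg.oddCore H).Normal := Cfsg.Agent.Lib.Cores.pPrimeCore_normal 2
  exact Subgroup.sup_normal _ _

theorem z_mem_ker : z ∈ ker z := mem_sup_right (mem_zpowers z)

theorem core_le_ker : Cfsg.oddCore H ≤ ker z := le_sup_left

/-- Decomposition of the elements of the kernel. -/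
theorem mem_ker (h : Hyp z T V) {x : H} (hx : x ∈ ker z) :
    ∃ n ∈ Cfsg.oddCore H, x = n ∨ x = n * z := by
  have := h.zpow_normal
  have h2 : (Cfsg.oddCore H).Normal := Cfsg.Agent.Lib.Cores.pPrimeCore_normal 2
  obtain ⟨n, hn, w, hw, rfl⟩ := Subgroup.mem_sup_of_normal_left.mp hx
  refine ⟨n, hn, ?_⟩
  rcases (mem_zpowers_iff h.z2).mp hw with rfl | rfl
  · left; rw [mul_one]
  · right; rfl

theorem core_inf (T : Sylow 2 H) {x : H} (hx : x ∈ Cfsg.oddCore H) (hT : x ∈ (T : Subgroup H)) : x = 1 := by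
  obtain ⟨n, hn⟩ := IsPGroup.iff_card.mp T.isPGroup'
  have h1 : (Nat.card (Cfsg.oddCore H)).Coprime (Nat.card T) := by
    rw [hn]
    exact Nat.Coprime.pow_right _ (Cfsg.Agent.Lib.Cores.pPrimeCore_coprime (G := H) 2)
  have h2 := (disjoint_of_coprime_natCard h1).eq_bot
  have h3 : x ∈ Cfsg.oddCore H ⊓ (T : Subgroup H) := ⟨hx, hT⟩
  rw [h2, mem_bot] at h3
  exact h3

theorem ker_inf (h : Hyp z T V) {x : H} (hx : x ∈ ker z) (hT : x ∈ (T : Subgroup H)) :
    x = 1 ∨ x = z := by
  obtain ⟨n, hn, rfl | rfl⟩ := h.mem_ker hx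
  · left; exact core_inf T hn hT
  · right
    have h1 : n ∈ (T : Subgroup H) := by
      have := mul_mem hT (inv_mem (h.sc.1 h.zV))
      rwa [mul_inv_cancel_right] at this
    rw [core_inf T hn h1, one_mul]

/-- The quotient has trivial core. -/
theorem core_quotient (h : Hyp z T V) :
    haveI := h.ker_normal
    Cfsg.oddCore (H ⧸ ker z) = ⊥ := by
  have hKn := h.ker_normal
  have hOn : (Cfsg.oddCore (H ⧸ ker z)).Normal := Cfsg.Agent.Lib.Cores.pPrimeCore_normal 2
  have h1 := le_core_sup h.zc h.z2 h.z1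
    (L := (Cfsg.oddCore (H ⧸ ker z)).comap (QuotientGroup.mk' (ker z))) inferInstance
    (by
      rw [mem_comap, QuotientGroup.mk'_apply, (QuotientGroup.eq_one_iff z).mpr z_mem_ker]
      exact one_mem _)
    (by
      rw [Cfsg.Agent.Lib.SolvableNormalP.card_comap_mk]
      have h2 : (Nat.card (Cfsg.oddCore (H ⧸ ker z))).Coprime 2 :=
        Cfsg.Agent.Lib.Cores.pPrimeCore_coprime 2
      have h3 : (Nat.card (Cfsg.oddCore H)).Coprime 2 := Cfsg.Agent.Lib.Cores.pPrimeCore_coprime 2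
      have h4 : Nat.card (ker z) ∣ Nat.card (Cfsg.oddCore H) * 2 := by
        rw [← card_zpowers h.z2 h.z1]
        exact Cfsg.Agent.Lib.Cores.card_sup_dvd _ _ (Cfsg.Agent.Lib.Cores.pPrimeCore_normal 2)
      intro h5
      have h6 : 4 ∣ Nat.card (Cfsg.oddCore (H ⧸ ker z)) * Nat.card (Cfsg.oddCore H) * 2 := by
        rw [mul_assoc]
        exact h5.trans (Nat.mul_dvd_mul_left _ h4)
      have h7 : 2 ∣ Nat.card (Cfsg.oddCore (H ⧸ ker z)) * Nat.card (Cfsg.oddCore H) := by
        obtain ⟨c, hc⟩ := h6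
        exact ⟨c, by omega⟩
      have h8 := Nat.Coprime.mul_left h2 h3
      rw [Nat.coprime_comm] at h8
      exact (Nat.Prime.coprime_iff_not_dvd Nat.prime_two).mp h8 h7)
  rw [eq_bot_iff]
  intro x hx
  obtain ⟨g, rfl⟩ := QuotientGroup.mk'_surjective _ x
  have h2 : g ∈ ker z := h1 hx
  rw [mem_bot, QuotientGroup.mk'_apply, QuotientGroup.eq_one_iff]
  exact h2

/-- Elements that centralise `v` modulo the kernel. -/
theorem exists_core_mul (h : Hyp z T V) {v : H} (hv : v ∈ V) (hv1 : v ≠ 1) (hvz : v ≠ z) {g : H}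
    (hg : g * v * g⁻¹ * v⁻¹ ∈ ker z) : ∃ k ∈ Cfsg.oddCore H,
      (k * g) * v * (k * g)⁻¹ = v ∨ (k * g) * v * (k * g)⁻¹ = v * z := by
  have : Fact (Nat.Prime 2) := ⟨Nat.prime_two⟩
  have hzn := h.zpow_normal
  have hOn : (Cfsg.oddCore H).Normal := Cfsg.Agent.Lib.Cores.pPrimeCore_normal 2
  have hPm : ∀ x, x ∈ zpowers v ⊔ zpowers z ↔ ∃ a ∈ zpowers v, ∃ b ∈ zpowers z, a * b = x :=
    fun x => Subgroup.mem_sup_of_normal_right
  have hPV : zpowers v ⊔ zpowers z ≤ V :=
    sup_le ((zpowers_le).mpr hv) ((zpowers_le).mpr h.zV)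
  have hVP : IsPGroup 2 V := T.isPGroup'.to_le h.sc.1
  have hzP : z ∈ zpowers v ⊔ zpowers z := mem_sup_right (mem_zpowers z)
  have hvP : v ∈ zpowers v ⊔ zpowers z := mem_sup_left (mem_zpowers v)
  have hgv : g * v * g⁻¹ ∈ (zpowers v ⊔ zpowers z) ⊔ Cfsg.oddCore H := by
    have e : g * v * g⁻¹ = (g * v * g⁻¹ * v⁻¹) * v := by group
    rw [e]
    obtain ⟨n, hn, h1 | h1⟩ := h.mem_ker hg
    · rw [h1]
      exact mul_mem (mem_sup_right hn) (mem_sup_left hvP)
    · rw [h1]
      exact mul_mem (mul_mem (mem_sup_right hn) (mem_sup_left hzP)) (mem_sup_left hvP)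
  obtain ⟨k, hk, hkn⟩ := Cfsg.Agent.Lib.LocalCore.exists_mul_mem_normalizer 2 (Cfsg.oddCore H)
    (zpowers v ⊔ zpowers z) (Cfsg.Agent.Lib.Cores.pPrimeCore_coprime 2) (hVP.to_le hPV) (g := g) (by
      intro x hx
      obtain ⟨a, ha, b, hb, rfl⟩ := (hPm x).mp hx
      have e : g * (a * b) * g⁻¹ = (g * a * g⁻¹) * (g * b * g⁻¹) := by group
      rw [e]
      apply mul_mem
      · rcases (mem_zpowers_iff (h.el v hv)).mp ha with rfl | rfl
        · simp
        · exact hgv
      · rcases (mem_zpowers_iff h.z2).mp hb with rfl | rfl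
        · simp
        · rw [h.zc g, mul_inv_cancel_right]
          exact mem_sup_left hzP)
  refine ⟨k, hk, ?_⟩
  have h1 := (mem_normalizer_iff.mp hkn v).mp hvP
  obtain ⟨a, ha, b, hb, hab⟩ := (hPm _).mp h1
  rcases (mem_zpowers_iff (h.el v hv)).mp ha with rfl | rfl
  · exfalso
    rw [one_mul] at hab
    rcases (mem_zpowers_iff h.z2).mp hb with rfl | rfl
    · have h2 : (k * g) * v = k * g := by
        rw [eq_mul_inv_iff_mul_eq, one_mul] at hab
        exact hab.symm
      exact hv1 (mul_eq_left.mp h2)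
    · apply hvz
      have h2 : b * (k * g) = (k * g) * v := by
        rw [eq_mul_inv_iff_mul_eq] at hab
        exact hab
      rw [← h.zc] at h2
      exact (mul_left_cancel h2).symm
  · rcases (mem_zpowers_iff h.z2).mp hb with rfl | rfl
    · left; rw [← hab, mul_one]
    · right; exact hab.symm

/-- The centraliser of `v` modulo the central subgroup `⟨z⟩` is solvable if the centraliser of `v`
is. -/
theorem solvable_modCent (hz : ∀ g : H, g * z = z * g) (hz2 : z * z = 1) {v : H}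
    (hsol : Group.IsSolvable (centralizer ({v} : Set H))) (W : Subgroup H)
    (hW : ∀ g ∈ W, g * v * g⁻¹ = v ∨ g * v * g⁻¹ = v * z) : Group.IsSolvable W := by
  have hm : ∀ g ∈ W, g * v * g⁻¹ * v⁻¹ ∈ zpowers z := by
    intro g hg
    rcases hW g hg with h1 | h1
    · rw [h1, mul_inv_cancel]; exact one_mem _
    · rw [h1, hz v, mul_inv_cancel_right]; exact mem_zpowers z
  let χ : W →* zpowers z :=
    { toFun := fun g => ⟨(g : H) * v * (g : H)⁻¹ * v⁻¹, hm g g.2⟩
      map_one' := by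
        apply Subtype.ext
        change (1 : H) * v * (1 : H)⁻¹ * v⁻¹ = 1
        group
      map_mul' := by
        intro a b
        apply Subtype.ext
        change ((a : H) * b) * v * ((a : H) * b)⁻¹ * v⁻¹ =
          ((a : H) * v * (a : H)⁻¹ * v⁻¹) * ((b : H) * v * (b : H)⁻¹ * v⁻¹)
        have h1 : (a : H) * ((b : H) * v * (b : H)⁻¹ * v⁻¹) * (a : H)⁻¹ =
            (b : H) * v * (b : H)⁻¹ * v⁻¹ := by
          rcases (mem_zpowers_iff hz2).mp (hm b b.2) with h2 | h2
          · rw [h2]; simp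
          · rw [h2, hz, mul_inv_cancel_right]
        have h3 : ((b : H) * v * (b : H)⁻¹ * v⁻¹) * ((a : H) * v * (a : H)⁻¹ * v⁻¹) =
            ((a : H) * v * (a : H)⁻¹ * v⁻¹) * ((b : H) * v * (b : H)⁻¹ * v⁻¹) := by
          rcases (mem_zpowers_iff hz2).mp (hm b b.2) with h2 | h2
          · rw [h2]; simp
          · rw [h2, hz]
        calc ((a : H) * b) * v * ((a : H) * b)⁻¹ * v⁻¹
            = ((a : H) * ((b : H) * v * (b : H)⁻¹ * v⁻¹) * (a : H)⁻¹) *
              ((a : H) * v * (a : H)⁻¹ * v⁻¹) := by group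
          _ = _ := by rw [h1, h3] }
  have hcs : Group.IsSolvable (zpowers z) := by
    apply Group.isSolvable_of_comm
    intro a b
    apply Subtype.ext
    rcases (mem_zpowers_iff hz2).mp b.2 with h2 | h2
    · change (a : H) * b = b * a
      rw [h2]; simp
    · change (a : H) * b = b * a
      rw [h2, hz]
  have hk : Group.IsSolvable (W.subgroupOf (centralizer ({v} : Set H))) := inferInstance
  let f : W.subgroupOf (centralizer ({v} : Set H)) →* W :=
    { toFun := fun g => ⟨((g : centralizer ({v} : Set H)) : H), g.2⟩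
      map_one' := rfl
      map_mul' := fun _ _ => rfl }
  apply Group.isSolvable_of_ker_le_range f χ
  intro g hg
  have h1 : (g : H) * v * (g : H)⁻¹ * v⁻¹ = 1 := congrArg Subtype.val (MonoidHom.mem_ker.mp hg)
  have h2 : (g : H) ∈ centralizer ({v} : Set H) := by
    rw [mem_centralizer_singleton_iff]
    rw [mul_inv_eq_one, mul_inv_eq_iff_eq_mul] at h1
    exact h1
  exact ⟨⟨⟨g, h2⟩, g.2⟩, rfl⟩

/-- Centralisers in the quotient are solvable. -/
theorem sol_quotient (h : Hyp z T V) {v : H} (hv : v ∈ V) (hv1 : v ≠ 1) (hvz : v ≠ z) :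
    haveI := h.ker_normal
    Group.IsSolvable (centralizer ({QuotientGroup.mk' (ker z) v} : Set (H ⧸ ker z))) := by
  have hKn := h.ker_normal
  have hzn := h.zpow_normal
  set W : Subgroup H := (centralizer ({QuotientGroup.mk' (zpowers z) v} : Set (H ⧸ zpowers z))).comap
    (QuotientGroup.mk' (zpowers z)) with hWdef
  have hmem : ∀ g : H, g ∈ W ↔ (g * v * g⁻¹ = v ∨ g * v * g⁻¹ = v * z) := by
    intro g
    have h1 : g ∈ W ↔ g * v * g⁻¹ * v⁻¹ ∈ zpowers z := by
      rw [hWdef, mem_comap, mem_centralizer_singleton_iff, ← map_mul, ← map_mul]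
      change (QuotientGroup.mk (g * v) : H ⧸ zpowers z) = QuotientGroup.mk (v * g) ↔ _
      rw [eq_comm, QuotientGroup.eq]
      constructor
      · intro h2
        have h3 := hzn.conj_mem _ h2 (v * g)
        have e : v * g * ((v * g)⁻¹ * (g * v)) * (v * g)⁻¹ = g * v * g⁻¹ * v⁻¹ := by group
        rwa [e] at h3
      · intro h2
        have h3 := hzn.conj_mem _ h2 (v * g)⁻¹
        have e : (v * g)⁻¹ * (g * v * g⁻¹ * v⁻¹) * (v * g)⁻¹⁻¹ = (v * g)⁻¹ * (g * v) := by group
        rwa [e] at h3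
    rw [h1, mem_zpowers_iff h.z2]
    constructor
    · rintro (h2 | h2)
      · left; exact mul_inv_eq_one.mp h2
      · right
        rw [mul_inv_eq_iff_eq_mul] at h2
        rw [h2, h.zc]
    · rintro (h2 | h2)
      · left; rw [h2, mul_inv_cancel]
      · right; rw [h2, h.zc, mul_inv_cancel_right]
  have hWs : Group.IsSolvable W := solvable_modCent h.zc h.z2 (h.sol v hv hv1 hvz) W
    fun g hg => (hmem g).mp hg
  have hmap : Group.IsSolvable (W.map (QuotientGroup.mk' (ker z))) := by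
    exact Group.isSolvable_of_surjective (f := (QuotientGroup.mk' (ker z)).subgroupMap W)
      (MonoidHom.subgroupMap_surjective _ _)
  have hle : centralizer ({QuotientGroup.mk' (ker z) v} : Set (H ⧸ ker z)) ≤
      W.map (QuotientGroup.mk' (ker z)) := by
    intro x hx
    obtain ⟨g, rfl⟩ := QuotientGroup.mk'_surjective _ x
    rw [mem_centralizer_singleton_iff, ← map_mul, ← map_mul] at hx
    have hg : g * v * g⁻¹ * v⁻¹ ∈ ker z := by
      rw [← QuotientGroup.ker_mk' (ker z), MonoidHom.mem_ker]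
      have e : g * v * g⁻¹ * v⁻¹ = (g * v) * (v * g)⁻¹ := by group
      rw [e, map_mul, hx, ← map_mul, mul_inv_cancel, map_one]
    obtain ⟨k, hk, hkg⟩ := h.exists_core_mul hv hv1 hvz hg
    refine ⟨k * g, (hmem _).mpr hkg, ?_⟩
    rw [map_mul]
    have : QuotientGroup.mk' (ker z) k = 1 := (QuotientGroup.eq_one_iff k).mpr (core_le_ker hk)
    rw [this, one_mul]
  exact Group.isSolvable_of_isSolvable_injective (f := Subgroup.inclusion hle)
    (Subgroup.inclusion_injective hle)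

/-- `V` becomes normal modulo the kernel. -/
theorem map_normal (hG : ∀ (L : Type u) [Group L] [Finite L] [IsSimpleGroup L], XKill.Gold L)
    (h : Hyp z T V) :
    haveI := h.ker_normal
    (V.map (QuotientGroup.mk' (ker z))).Normal := by
  have : Fact (Nat.Prime 2) := ⟨Nat.prime_two⟩
  have hKn := h.ker_normal
  set π := QuotientGroup.mk' (ker z) with hπ
  have hπs : Function.Surjective π := QuotientGroup.mk'_surjective _
  have hπ1 : ∀ x, π x = 1 ↔ x ∈ ker z := fun x => QuotientGroup.eq_one_iff x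
  have hπe : ∀ x y, π x = π y ↔ x * y⁻¹ ∈ ker z := by
    intro x y
    rw [← hπ1, map_mul, map_inv, mul_inv_eq_one]
  have hπz : π z = 1 := (hπ1 z).mpr z_mem_ker
  have hzT : z ∈ (T : Subgroup H) := h.sc.1 h.zV
  -- elements of `V` with the same image
  have hV1 : ∀ v ∈ V, π v = 1 → v = 1 ∨ v = z := fun v hv h1 => h.ker_inf ((hπ1 v).mp h1) (h.sc.1 hv)
  have hTe : ∀ s ∈ (T : Subgroup H), ∀ v ∈ (T : Subgroup H), π s = π v → s = v ∨ s = v * z := by
    intro s hs v hv he
    rcases h.ker_inf ((hπe s v).mp he) (mul_mem hs (inv_mem hv)) with h1 | h1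
    · left; exact mul_inv_eq_one.mp h1
    · right
      rw [mul_inv_eq_iff_eq_mul] at h1
      rw [h1, h.zc]
  have hmem : ∀ x, x ∈ V.map π ↔ ∃ v ∈ V, π v = x := fun x => mem_map
  have hTA : ∀ s ∈ (T : Subgroup H), π s ∈ V.map π → s ∈ V := by
    intro s hs hsA
    obtain ⟨v, hv, he⟩ := (hmem _).mp hsA
    rcases hTe s hs v (h.sc.1 hv) he.symm with rfl | rfl
    · exact hv
    · exact V.mul_mem hv h.zV
  have hcard : Nat.card (V.map π) = 8 := by
    have h1 := Cfsg.Agent.Lib.SylowNormalInf.card_inf_mul_relIndex (ker z) V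
    have h2 : (ker z).relIndex V = Nat.card (V.map π) := by
      have h0 := Subgroup.relIndex_ker V π
      rwa [hπ, QuotientGroup.ker_mk'] at h0
    have h3 : ker z ⊓ V = zpowers z := by
      ext x
      rw [mem_zpowers_iff h.z2]
      constructor
      · rintro ⟨hx1, hx2⟩
        exact h.ker_inf hx1 (h.sc.1 hx2)
      · rintro (rfl | rfl)
        · exact one_mem _
        · exact ⟨z_mem_ker, h.zV⟩
    rw [h2, h3, card_zpowers h.z2 h.z1, h.card] at h1
    omega
  set T' : Sylow 2 (H ⧸ ker z) := T.mapSurjective hπs with hT'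
  have hT'm : ∀ x, x ∈ (T' : Subgroup (H ⧸ ker z)) ↔ ∃ s ∈ (T : Subgroup H), π s = x := fun x => mem_map
  have hsc : Cfsg.IsStronglyClosed (V.map π) (T' : Subgroup (H ⧸ ker z)) :=
    Cfsg.Agent.S1250.result T V h.sc (ker z)
  have hab : ∀ a ∈ V.map π, ∀ b ∈ V.map π, a * b = b * a := by
    intro a ha b hb
    obtain ⟨v, hv, rfl⟩ := (hmem _).mp ha
    obtain ⟨w, hw, rfl⟩ := (hmem _).mp hb
    rw [← map_mul, ← map_mul, h.comm hv hw]
  have hTnorm : (T' : Subgroup (H ⧸ ker z)) ≤ normalizer ((V.map π : Subgroup _) : Set (H ⧸ ker z)) := by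
    intro t ht
    rw [mem_normalizer_iff]
    intro a
    constructor
    · intro ha
      exact hsc.2 a ha t (mul_mem (mul_mem ht (hsc.1 ha)) (inv_mem ht))
    · intro ha
      have h1 := hsc.2 _ ha t⁻¹ (by
        rw [inv_inv]
        exact mul_mem (mul_mem (inv_mem ht) (hsc.1 ha)) ht)
      simpa [mul_assoc] using h1
  have hnorm : ∀ n ∈ normalizer (V : Set H), π n ∈ normalizer ((V.map π : Subgroup _) : Set (H ⧸ ker z)) := by
    intro n hn
    have h1 : ∀ m ∈ normalizer (V : Set H), ∀ a ∈ V.map π, π m * a * (π m)⁻¹ ∈ V.map π := by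
      intro m hm a ha
      obtain ⟨v, hv, rfl⟩ := (hmem _).mp ha
      rw [← map_inv, ← map_mul, ← map_mul]
      exact mem_map_of_mem π ((mem_normalizer_iff.mp hm v).mp hv)
    rw [mem_normalizer_iff]
    intro a
    refine ⟨h1 n hn a, fun ha => ?_⟩
    have h2 := h1 n⁻¹ (inv_mem hn) _ ha
    rw [map_inv] at h2
    simpa [mul_assoc] using h2
  have htr : ∀ a ∈ V.map π, a ≠ 1 → ∀ b ∈ V.map π, b ≠ 1 →
      ∃ n ∈ normalizer ((V.map π : Subgroup _) : Set (H ⧸ ker z)), n * a * n⁻¹ = b := by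
    intro a ha ha1 b hb hb1
    obtain ⟨v, hv, rfl⟩ := (hmem _).mp ha
    obtain ⟨w, hw, rfl⟩ := (hmem _).mp hb
    obtain ⟨n, hn, hnv⟩ := h.tr v hv (fun e => ha1 (by rw [e, map_one])) (fun e => ha1 (by rw [e, hπz]))
      w hw (fun e => hb1 (by rw [e, map_one])) (fun e => hb1 (by rw [e, hπz]))
    exact ⟨π n, hnorm n hn, by rw [← map_inv, ← map_mul, ← map_mul, hnv]⟩
  obtain ⟨t, htT, c, hcV, hc1, hcz, ht1, ⟨a, haV, hta⟩, b, hbV, hb1, hbz, hbc, hbcz, htb⟩ := h.tv
  refine SevenAbs.normal_of_closed hG h.core_quotient T' hsc hab ?_ ?_ ?_ ?_ ?_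
  · -- self
    intro s hs hcom
    obtain ⟨s, hs2, rfl⟩ := (hT'm _).mp hs
    apply mem_map_of_mem π
    apply h.self s hs2
    intro v hv
    apply hTe _ (mul_mem (mul_mem hs2 (h.sc.1 hv)) (inv_mem hs2)) _ (h.sc.1 hv)
    rw [map_mul, map_mul, hcom _ (mem_map_of_mem π hv), map_inv, mul_inv_cancel_right]
  · intro x hx hx1
    obtain ⟨v, hv, rfl⟩ := (hmem _).mp hx
    exact h.sol_quotient hv (fun e => hx1 (by rw [e, map_one])) (fun e => hx1 (by rw [e, hπz]))
  · intro B hB hBn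
    by_cases hB1 : B = ⊥
    · left; exact hB1
    · right
      obtain ⟨x, hx, hx1⟩ := B.bot_or_exists_ne_one.resolve_left hB1
      apply le_antisymm hB
      intro y hy
      by_cases hy1 : y = 1
      · rw [hy1]; exact one_mem _
      · obtain ⟨n, hn, hnx⟩ := htr x (hB hx) hx1 y hy hy1
        rw [← hnx]
        exact (mem_normalizer_iff.mp (hBn hn) x).mp hx
  · intro M hM hMn hMT
    have hπne : ∀ x ∈ V, x ≠ 1 → x ≠ z → π x ≠ 1 := by
      intro x hx h1 h2 h3
      rcases hV1 x hx h3 with h4 | h4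
      · exact h1 h4
      · exact h2 h4
    refine SevenOdd.cent_of_transvection T' hcard hab hTnorm htr (t := π t) (c := π c) (a0 := π a)
      (b := π b) ((hT'm _).mpr ⟨t, htT, rfl⟩) (mem_map_of_mem π hcV) (hπne c hcV hc1 hcz) ?_ ?_
      (mem_map_of_mem π haV) ?_ (mem_map_of_mem π hbV) (hπne b hbV hb1 hbz) ?_ ?_ M hM hMn hMT
    · rw [← map_mul, h.el c hcV, map_one]
    · intro x hx
      obtain ⟨v, hv, rfl⟩ := (hmem _).mp hx
      have e : π t * π v * (π t)⁻¹ = π (t * v * t⁻¹) := by rw [map_mul, map_mul, map_inv]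
      rw [e]
      rcases ht1 v hv with h1 | h1 | h1 | h1
      · left; rw [h1]
      · left; rw [h1, map_mul, hπz, mul_one]
      · right; rw [h1, map_mul]
      · right; rw [h1, map_mul, hπz, mul_one, map_mul]
    · rw [← map_inv, ← map_mul, ← map_mul, hta, map_mul]
    · intro e
      rcases hTe b (h.sc.1 hbV) c (h.sc.1 hcV) e with h1 | h1
      · exact hbc h1
      · exact hbcz h1
    · rw [← map_inv, ← map_mul, ← map_mul, htb]
  · intro P hPT hAP hTP hPA
    have hVP : V ≤ (T : Subgroup H) ⊓ P.comap π := le_inf h.sc.1 (by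
      intro v hv
      exact hAP (mem_map_of_mem π hv))
    obtain ⟨u, hu, huV, hu2⟩ := h.inv ((T : Subgroup H) ⊓ P.comap π) inf_le_left hVP (by
      apply le_normalizer_inf (T : Subgroup H).le_normalizer
      intro s hs
      have hs' := hTP ((hT'm _).mpr ⟨s, hs, rfl⟩)
      rw [mem_normalizer_iff] at hs' ⊢
      intro x
      rw [mem_comap, mem_comap, map_mul, map_mul, map_inv]
      exact hs' (π x)) (by
      intro e
      apply hPA
      apply le_antisymm _ hAP
      intro x hx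
      obtain ⟨s, hs, rfl⟩ := (hT'm _).mp (hPT hx)
      have : s ∈ (T : Subgroup H) ⊓ P.comap π := ⟨hs, hx⟩
      rw [e] at this
      exact mem_map_of_mem π this)
    refine ⟨π u, hu.2, fun hA => huV (hTA u hu.1 hA), ?_⟩
    apply orderOf_eq_prime
    · rw [pow_two, ← map_mul]
      rcases hu2 with h1 | h1
      · rw [h1, map_one]
      · rw [h1, hπz]
    · intro h1
      apply huV
      apply hTA u hu.1
      rw [h1]
      exact one_mem _

/-- **The theorem**: `H = O(H) N(V)`. -/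
theorem exists_mul (hG : ∀ (L : Type u) [Group L] [Finite L] [IsSimpleGroup L], XKill.Gold L)
    (h : Hyp z T V) (g : H) : ∃ k ∈ Cfsg.oddCore H, ∃ n ∈ normalizer (V : Set H), g = k * n := by
  have : Fact (Nat.Prime 2) := ⟨Nat.prime_two⟩
  have hKn := h.ker_normal
  have hAn := h.map_normal hG
  set π := QuotientGroup.mk' (ker z) with hπ
  have hOn : (Cfsg.oddCore H).Normal := Cfsg.Agent.Lib.Cores.pPrimeCore_normal 2
  have hNn : ((V.map π).comap π).Normal := inferInstance
  have hN : ∀ x ∈ (V.map π).comap π, ∃ v ∈ V, v⁻¹ * x ∈ ker z := by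
    intro x hx
    obtain ⟨v, hv, he⟩ := mem_map.mp (mem_comap.mp hx)
    exact ⟨v, hv, QuotientGroup.eq.mp he⟩
  have hTN : (T : Subgroup H) ⊓ (V.map π).comap π = V := by
    apply le_antisymm
    · rintro s ⟨hs, hsN⟩
      obtain ⟨v, hv, hk⟩ := hN s hsN
      have h1 := V.mul_mem hv (x := v) (y := v⁻¹ * s) (by
        rcases h.ker_inf hk (mul_mem (inv_mem (h.sc.1 hv)) hs) with h2 | h2
        · rw [h2]; exact one_mem _
        · rw [h2]; exact h.zV)
      rwa [mul_inv_cancel_left] at h1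
    · intro v hv
      exact ⟨h.sc.1 hv, mem_comap.mpr (mem_map_of_mem π hv)⟩
  have hF := Cfsg.Agent.Lib.SylowNormalInf.normalizer_inf_sup_eq_top T ((V.map π).comap π)
  rw [hTN] at hF
  have hg : g ∈ normalizer (V : Set H) ⊔ (V.map π).comap π := by rw [hF]; exact mem_top g
  obtain ⟨a, ha, b, hb, rfl⟩ := Subgroup.mem_sup_of_normal_right.mp hg
  obtain ⟨v, hv, hk⟩ := hN b hb
  have hvN : v ∈ normalizer (V : Set H) := V.le_normalizer hv
  have hzN : z ∈ normalizer (V : Set H) := V.le_normalizer h.zV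
  obtain ⟨n, hn, h1 | h1⟩ := h.mem_ker hk
  · refine ⟨(a * v) * n * (a * v)⁻¹, hOn.conj_mem n hn _, a * v, mul_mem ha hvN, ?_⟩
    rw [← h1]; group
  · refine ⟨(a * v) * n * (a * v)⁻¹, hOn.conj_mem n hn _, a * v * z, mul_mem (mul_mem ha hvN) hzN, ?_⟩
    have e : b = v * (n * z) := by rw [← h1, mul_inv_cancel_left]
    rw [e]
    group

end Hyp

end Cfsg.Agent.LFourB.SevenCore
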