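import Cfsg.Agent.LFourB.OddInv
import Cfsg.Prelude.Def_TwoFusion
import Cfsg.Prelude.Def_CaseTheorems
import Mathlib.GroupTheory.Transfer
import Cfsg.Agent.Lib.Cores

/-!
# Lines in an abelian Sylow 2-subgroup that are preserved by its normaliser

`K` finite with abelian Sylow 2-subgroup `E`, a family of subgroups `L i` of `E`, each of them
normalised by `N(E)`, two by two disjoint and generating `E`. Each `L i` is strongly closed (Burnside),
so by the commutator part of Goldschmidt's product theorem the normal closure of `E` is abelian modulo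
`O(K)`, and `K` is solvable by the Odd Order Theorem.
-/

set_option autoImplicit false

namespace Cfsg.Agent.LFourB.SevenLines

open Subgroup
open scoped commutatorElement

universe u

/-- The commutator part of Goldschmidt's product theorem
(`Cfsg.Agent.TwoFusion.ClosedCommutator.commutator_le`) for one group. -/
def GoldTwo (G : Type u) [Group G] [Finite G] : Prop :=
  ∀ (P : Sylow 2 G) (A B : Subgroup G), A ⊓ B = ⊥ → Cfsg.IsStronglyClosed A (P : Subgroup G) →
    Cfsg.IsStronglyClosed B (P : Subgroup G) →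
    ⁅normalClosure (A : Set G), normalClosure (B : Set G)⁆ ≤ Cfsg.oddCore G

variable {K : Type u} [Group K] [Finite K]

/-- Burnside: a subgroup of an abelian Sylow subgroup normalised by its normaliser is strongly
closed. -/
theorem stronglyClosed_of_abelian (E : Sylow 2 K) (hab : ∀ a ∈ E, ∀ b ∈ E, a * b = b * a)
    {L : Subgroup K} (hL : L ≤ E) (hn : normalizer (E : Set K) ≤ normalizer (L : Set K)) :
    Cfsg.IsStronglyClosed L (E : Subgroup K) := by
  have : Fact (Nat.Prime 2) := ⟨Nat.prime_two⟩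
  refine ⟨hL, fun x hx g hg => ?_⟩
  have hc : ((E : Subgroup K) : Set K) ⊆ centralizer ((E : Subgroup K) : Set K) := by
    intro a ha
    rw [SetLike.mem_coe, mem_centralizer_iff]
    intro b hb
    exact hab b hb a ha
  have : IsMulCommutative E := ⟨⟨fun a b => Subtype.ext (hab a a.2 b b.2)⟩⟩
  obtain ⟨n, hn1, hn2⟩ := Sylow.conj_eq_normalizer_conj_of_mem E x g⁻¹ (hL hx) (by
    rw [inv_inv]
    exact hg)
  rw [inv_inv] at hn2
  rw [hn2]
  have h2 := (mem_normalizer_iff.mp (inv_mem (hn hn1)) x).mp hx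
  rwa [inv_inv] at h2

/-- **The lines.** -/
theorem commutator_le (hGT : GoldTwo K) (E : Sylow 2 K) (hab : ∀ a ∈ E, ∀ b ∈ E, a * b = b * a)
    (L : Fin 3 → Subgroup K) (hL : ∀ i, L i ≤ E)
    (hn : ∀ i, normalizer (E : Set K) ≤ normalizer (L i : Set K))
    (hinf : ∀ i j, i ≠ j → L i ⊓ L j = ⊥) (hsup : ∀ i j, i ≠ j → (E : Subgroup K) ≤ L i ⊔ L j) :
    ⁅normalClosure (E : Set K), normalClosure (E : Set K)⁆ ≤ Cfsg.oddCore K := by
  have hOn : (Cfsg.oddCore K).Normal := Cfsg.Agent.Lib.Cores.pPrimeCore_normal 2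
  set π := QuotientGroup.mk' (Cfsg.oddCore K) with hπ
  set N : Fin 3 → Subgroup K := fun i => normalClosure (L i : Set K) with hN
  have hc : ∀ i j, i ≠ j → (N i).map π ≤ centralizer ((N j).map π : Set (K ⧸ Cfsg.oddCore K)) := by
    intro i j hij
    rw [← commutator_eq_bot_iff_le_centralizer, ← map_commutator, Subgroup.map_eq_bot_iff,
      hπ, QuotientGroup.ker_mk']
    exact hGT E (L i) (L j) (hinf i j hij) (stronglyClosed_of_abelian E hab (hL i) (hn i))
      (stronglyClosed_of_abelian E hab (hL j) (hn j))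
  have hle : ∀ i j, i ≠ j → normalClosure (E : Set K) ≤ N i ⊔ N j := by
    intro i j hij
    apply normalClosure_le_normal
    exact (hsup i j hij).trans (sup_le_sup subset_normalClosure subset_normalClosure)
  have hN01 : ∀ i j k, i ≠ j → i ≠ k → j ≠ k →
      (normalClosure (E : Set K)).map π ≤ centralizer ((N i).map π : Set (K ⧸ Cfsg.oddCore K)) := by
    intro i j k hij hik hjk
    refine (map_mono (hle j k hjk)).trans ?_
    rw [Subgroup.map_sup]
    exact sup_le (hc j i hij.symm) (hc k i hik.symm)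
  rw [← QuotientGroup.ker_mk' (Cfsg.oddCore K), ← hπ, ← Subgroup.map_eq_bot_iff, map_commutator,
    commutator_eq_bot_iff_le_centralizer, le_centralizer_iff]
  refine (map_mono (hle 0 1 (by decide))).trans ?_
  rw [Subgroup.map_sup]
  refine sup_le ?_ ?_
  · rw [le_centralizer_iff]
    exact hN01 0 1 2 (by decide) (by decide) (by decide)
  · rw [le_centralizer_iff]
    exact hN01 1 0 2 (by decide) (by decide) (by decide)

/-- `K` is solvable. -/
theorem isSolvable (hFT : ∀ (H : Type u) [Group H] [Finite H], Odd (Nat.card H) → Group.IsSolvable H)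
    (hGT : GoldTwo K) (E : Sylow 2 K) (hab : ∀ a ∈ E, ∀ b ∈ E, a * b = b * a)
    (L : Fin 3 → Subgroup K) (hL : ∀ i, L i ≤ E)
    (hn : ∀ i, normalizer (E : Set K) ≤ normalizer (L i : Set K))
    (hinf : ∀ i j, i ≠ j → L i ⊓ L j = ⊥) (hsup : ∀ i j, i ≠ j → (E : Subgroup K) ≤ L i ⊔ L j) :
    Group.IsSolvable K := by
  have : Fact (Nat.Prime 2) := ⟨Nat.prime_two⟩
  have h1 := commutator_le hGT E hab L hL hn hinf hsup
  have hOn : (Cfsg.oddCore K).Normal := Cfsg.Agent.Lib.Cores.pPrimeCore_normal 2
  have hO : Group.IsSolvable (Cfsg.oddCore K) := by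
    apply hFT
    exact (Nat.coprime_two_left).mp ((Cfsg.Agent.Lib.Cores.pPrimeCore_coprime (G := K) 2).symm)
  set R := normalClosure (E : Set K) with hR
  refine (Group.isSolvable_iff_subgroup_quotient (Cfsg.oddCore K)).mpr ⟨hO, ?_⟩
  have hπs := QuotientGroup.mk'_surjective (Cfsg.oddCore K)
  have hRn : (R.map (QuotientGroup.mk' (Cfsg.oddCore K))).Normal :=
    Subgroup.Normal.map inferInstance _ hπs
  refine (Group.isSolvable_iff_subgroup_quotient (R.map (QuotientGroup.mk' (Cfsg.oddCore K)))).mpr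
    ⟨?_, ?_⟩
  · apply Group.isSolvable_of_comm
    have h2 : ⁅R.map (QuotientGroup.mk' (Cfsg.oddCore K)), R.map (QuotientGroup.mk' (Cfsg.oddCore K))⁆
        = ⊥ := by
      rw [← map_commutator, Subgroup.map_eq_bot_iff, QuotientGroup.ker_mk']
      exact h1
    rw [commutator_eq_bot_iff_le_centralizer] at h2
    intro a b
    exact Subtype.ext (mem_centralizer_iff.mp (h2 b.2) a a.2)
  · apply hFT
    rw [← Nat.not_even_iff_odd, even_iff_two_dvd]
    intro h2
    have h3 : ((E.mapSurjective hπs : Sylow 2 (K ⧸ Cfsg.oddCore K)) : Subgroup (K ⧸ Cfsg.oddCore K)) ≤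
        R.map (QuotientGroup.mk' (Cfsg.oddCore K)) := by
      change (E : Subgroup K).map _ ≤ _
      exact map_mono subset_normalClosure
    exact Sylow.not_dvd_index (E.mapSurjective hπs) (h2.trans (index_dvd_of_le h3))

end Cfsg.Agent.LFourB.SevenLines
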