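import Cfsg.Agent.LFourB.SevenCon
import Cfsg.Agent.LFourB.SevenCmp
import Cfsg.Agent.SylowL.CoreFunctor
import Cfsg.Agent.J2Sylow.BalancedEnd
import Cfsg.Prelude.Def_TwoFusion

/-!
# Type B5, cases (a1), (b1): the end (`M₂₂`, `M₂₃`)

`G` simple, `S` a Sylow 2-subgroup of order `2 ^ 7`, `A`, `B` the only elementary abelian subgroups of order 16 of `S`,
not conjugate in `G`, `N(A)` transitive on `A#`, `C(z) = O(C(z)) (C(z) ∩ N(A))`. Then the cores of the centralizers of
involutions are trivial and `A` satisfies the hypothesis of Timmesfeld's theorem.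
-/

set_option autoImplicit false
set_option linter.unusedSectionVars false

namespace Cfsg.Agent.LFourB.StepEight

open Subgroup Cfsg
open Cfsg.Agent.SylowL.CoreFunctor

universe u

variable {G : Type u} [Group G]

/-- S0205 for the subgroups of `G` -/
def OddSolv (G : Type u) [Group G] : Prop := ∀ X : Subgroup G, Odd (Nat.card X) → Group.IsSolvable X

/-- S1174 for `G` -/
def Gen (G : Type u) [Group G] : Prop :=
  ∀ (S : Sylow 2 G) (T : Subgroup G), T ≠ ⊥ → Cfsg.IsStronglyClosed T (S : Subgroup G) →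
    (⨆ t : {t : G // t ∈ T ∧ orderOf t = 2}, Subgroup.centralizer ({(t : G)} : Set G)) ≠ ⊤ →
    ∃ H : Subgroup G, Cfsg.IsStronglyEmbedded H

/-- S0222 for `G` -/
def Bender (G : Type u) [Group G] : Prop :=
  ∀ H : Subgroup G, Cfsg.IsStronglyEmbedded H →
    (∃ (F : Type) (_ : Field F) (_ : Fintype F), CharP F 2 ∧ 4 ≤ Fintype.card F ∧
      Nonempty (G ≃* Matrix.ProjectiveSpecialLinearGroup (Fin 2) F)) ∨ Cfsg.IsSuzuki G ∨
      (∃ (F : Type) (_ : Field F) (_ : Fintype F) (q : ℕ), Fintype.card F = q ^ 2 ∧ Even q ∧ 4 ≤ q ∧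
        Nonempty (G ≃* Cfsg.PSU 3 F q))

/-- S1179 for `G` -/
def Timm (G : Type u) [Group G] : Prop :=
  ∀ A : Subgroup G, Cfsg.IsElementaryAbelian 2 A → A ≠ ⊥ →
    (∀ a ∈ A, a ≠ 1 → ∀ g : G, A.map (MulAut.conj g).toMonoidHom ≤ Subgroup.centralizer ({a} : Set G) →
      A.map (MulAut.conj g).toMonoidHom = A) →
    (∃ (n : ℕ) (F : Type) (_ : Field F) (_ : Fintype F), 2 ≤ n ∧ CharP F 2 ∧
        Nonempty (G ≃* Matrix.ProjectiveSpecialLinearGroup (Fin n) F)) ∨ Cfsg.IsSuzuki G ∨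
      (∃ (F : Type) (_ : Field F) (_ : Fintype F) (q : ℕ), Fintype.card F = q ^ 2 ∧ Even q ∧
        4 ≤ q ∧ Nonempty (G ≃* Cfsg.PSU 3 F q)) ∨
      (∃ n : ℕ, 6 ≤ n ∧ n ≤ 9 ∧ Nonempty (G ≃* alternatingGroup (Fin n))) ∨
      Cfsg.IsM22 G ∨ Cfsg.IsM23 G ∨ Cfsg.IsM24 G ∨ Cfsg.IsHe G

/-- every 2-subgroup of `M ≥ S` is `M`-conjugate into `S` -/
theorem exists_conj_mem [Finite G] {S : Sylow 2 G} {M : Subgroup G} (hM : (S : Subgroup G) ≤ M) {P : Subgroup G}
    (hP : IsPGroup 2 P) (hPM : P ≤ M) : ∃ m ∈ M, ∀ x ∈ P, m * x * m⁻¹ ∈ (S : Subgroup G) := by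
  haveI : Fact (Nat.Prime 2) := ⟨Nat.prime_two⟩
  have hP' : IsPGroup 2 (P.subgroupOf M) := hP.comap_of_injective M.subtype M.subtype_injective
  obtain ⟨Q, hQ⟩ := hP'.exists_le_sylow
  obtain ⟨m, hm⟩ := MulAction.exists_smul_eq M Q (S.subtype hM)
  refine ⟨m, m.2, ?_⟩
  intro x hx
  have h1 : (⟨x, hPM hx⟩ : M) ∈ (Q : Subgroup M) := hQ (mem_subgroupOf.2 hx)
  have h2 : m * ⟨x, hPM hx⟩ * m⁻¹ ∈ ((m • Q : Sylow 2 M) : Subgroup M) := by
    have : ((m • Q : Sylow 2 M) : Subgroup M) = (Q : Subgroup M).map (MulAut.conj m).toMonoidHom := rfl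
    rw [this]
    exact ⟨_, h1, rfl⟩
  rw [hm] at h2
  exact h2

/-- the situation of cases (a1) and (b1) -/
structure Eight (S : Sylow 2 G) (A B Z : Subgroup G) (z : G) : Prop where
  elA : IsElementaryAbelian 2 A
  elB : IsElementaryAbelian 2 B
  cardA : Nat.card A = 16
  cardB : Nat.card B = 16
  AS : A ≤ (S : Subgroup G)
  BS : B ≤ (S : Subgroup G)
  ZA : Z ≤ A
  ZB : Z ≤ B
  cardZ : 4 ≤ Nat.card Z
  zZ : z ∈ Z
  z1 : z ≠ 1
  Sz : (S : Subgroup G) ≤ centralizer ({z} : Set G)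
  cardS : Nat.card (S : Subgroup G) = 2 ^ 7
  sixteen : ∀ D : Subgroup G, D ≤ (S : Subgroup G) → IsElementaryAbelian 2 D → Nat.card D = 16 → D = A ∨ D = B
  not_conj : ∀ g : G, A.map (MulAut.conj g).toMonoidHom ≠ B
  centA : ∀ x ∈ (S : Subgroup G), (∀ a ∈ A, x * a = a * x) → x ∈ A
  fusA : ∀ a ∈ A, a ≠ 1 → ∃ g ∈ normalizer (A : Set G), g * a * g⁻¹ = z
  phi : ∀ t ∈ (S : Subgroup G), orderOf t = 2 → t ∉ A → t ∉ B →
    ∃ g ∈ centralizer ({z} : Set G), g * t * g⁻¹ ∈ B ∧ g * t * g⁻¹ ∉ A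
  CZ : ∀ c ∈ centralizer ({z} : Set G), ∃ o ∈ centralizerPPrimeCore 2 z, ∃ n ∈ normalizer (A : Set G), c = o * n

namespace Eight

variable {S : Sylow 2 G} {A B Z : Subgroup G} {z : G} (h : Eight S A B Z z)

include h

theorem zA : z ∈ A := h.ZA h.zZ

theorem commA : ∀ a ∈ A, ∀ b ∈ A, a * b = b * a := fun a ha b hb =>
  congrArg Subtype.val (h.elA.1.1.1 (⟨a, ha⟩ : A) (⟨b, hb⟩ : A))

theorem isPGroupA : IsPGroup 2 A := fun x =>
  ⟨1, Subtype.ext (by rw [pow_one]; exact h.elA.2 x x.2)⟩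

theorem elA_conj (g : G) : IsElementaryAbelian 2 (A.map (MulAut.conj g).toMonoidHom) ∧
    Nat.card (A.map (MulAut.conj g).toMonoidHom) = 16 := by
  refine ⟨⟨⟨⟨?_⟩⟩, ?_⟩, ?_⟩
  · rintro ⟨_, a, ha, rfl⟩ ⟨_, b, hb, rfl⟩
    apply Subtype.ext
    show (MulAut.conj g).toMonoidHom a * (MulAut.conj g).toMonoidHom b =
      (MulAut.conj g).toMonoidHom b * (MulAut.conj g).toMonoidHom a
    rw [← map_mul, ← map_mul, h.commA a ha b hb]
  · rintro _ ⟨a, ha, rfl⟩
    rw [← map_pow, h.elA.2 a ha, map_one]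
  · rw [Subgroup.card_map_of_injective (MulAut.conj g).injective, h.cardA]

/-- a conjugate of `A` inside `S` is `A` -/
theorem wc {g : G} (hg : A.map (MulAut.conj g).toMonoidHom ≤ (S : Subgroup G)) :
    g ∈ normalizer (A : Set G) := by
  have h1 : A.map (MulAut.conj g).toMonoidHom = A :=
    (h.sixteen _ hg (h.elA_conj g).1 (h.elA_conj g).2).resolve_right (h.not_conj g)
  rw [Subgroup.mem_normalizer_iff]
  intro x
  constructor
  · intro hx
    rw [← h1]
    exact ⟨x, hx, rfl⟩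
  · intro hx
    rw [← h1] at hx
    obtain ⟨y, hy, hyx⟩ := hx
    have h2 : g * y * g⁻¹ = g * x * g⁻¹ := hyx
    have h3 : y = x := by
      have := congrArg (fun w => g⁻¹ * w * g) h2
      simpa [mul_assoc] using this
    rwa [← h3]

theorem normalizer_S_le : normalizer ((S : Subgroup G) : Set G) ≤ normalizer (A : Set G) := by
  intro g hg
  apply h.wc
  rintro _ ⟨a, ha, rfl⟩
  exact (Subgroup.mem_normalizer_iff.1 hg a).1 (h.AS ha)

theorem S_le : (S : Subgroup G) ≤ normalizer (A : Set G) := Subgroup.le_normalizer.trans h.normalizer_S_le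

/-- `S` is not abelian -/
theorem nonabelian : ∃ a ∈ (S : Subgroup G), ∃ b ∈ (S : Subgroup G), a * b ≠ b * a := by
  by_contra hcon
  push Not at hcon
  have h1 : (S : Subgroup G) ≤ A := fun x hx => h.centA x hx fun a ha => hcon x hx a (h.AS ha)
  have h2 : (S : Subgroup G) = A := le_antisymm h1 h.AS
  have h3 := h.cardS
  rw [h2, h.cardA] at h3
  norm_num at h3

variable [Finite G]

theorem constrained_z : IsPConstrained 2 (centralizer ({z} : Set G)) := by
  have : Fact (Nat.Prime 2) := ⟨Nat.prime_two⟩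
  let C : Subgroup G := centralizer ({z} : Set G)
  have hAC : A ≤ C := h.AS.trans h.Sz
  refine SevenCon.isPConstrained_of_frattini (C := C) (S.subtype h.Sz) (A := A.subgroupOf C) ?_ ?_ ?_ ?_ ?_
  · exact h.isPGroupA.comap_of_injective _ (Subgroup.subtype_injective _)
  · intro a ha b hb
    exact Subtype.ext (h.commA a ha b hb)
  · intro x hx
    have h1 : (x : G) ∈ normalizer (A : Set G) := h.S_le hx
    rw [← Subgroup.subgroupOf_normalizer_eq hAC]
    exact h1
  · intro x hx hc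
    refine h.centA x hx fun a ha => ?_
    exact congrArg Subtype.val (hc ⟨a, hAC ha⟩ ha)
  · intro c
    obtain ⟨o, ho, n, hn, e⟩ := h.CZ c c.2
    obtain ⟨o', ho', rfl⟩ := ho
    have hnC : n ∈ C := by
      have h1 : n = (o' : G)⁻¹ * c := by rw [e]; exact (inv_mul_cancel_left _ _).symm
      rw [h1]
      exact mul_mem (inv_mem o'.2) c.2
    refine ⟨o', ho', ⟨n, hnC⟩, ?_, Subtype.ext e⟩
    rw [← Subgroup.subgroupOf_normalizer_eq hAC]
    exact hn

theorem constrained_A {a : G} (ha : a ∈ A) (ha1 : a ≠ 1) : IsPConstrained 2 (centralizer ({a} : Set G)) := by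
  obtain ⟨g, -, hg⟩ := h.fusA a ha ha1
  apply constrained_conj (g := g)
  rw [hg]
  exact h.constrained_z

theorem completeA (hodd : OddSolv G) : ¬ 2 ∣ Nat.card (WW A) ∧
    (∀ a ∈ A, a ≠ 1 → WW A ⊓ centralizer {a} = centralizerPPrimeCore 2 a) ∧ WW Z = WW A :=
  complete hodd h.elA (by rw [h.cardA]; norm_num) (fun _ ha ha1 => h.constrained_A ha ha1) h.ZA h.cardZ

theorem centralizer_le_of {M : Subgroup G} (hM : normalizer (A : Set G) ≤ M)
    (hz : centralizer ({z} : Set G) ≤ M) {a : G} (ha : a ∈ A) (ha1 : a ≠ 1) :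
    centralizer ({a} : Set G) ≤ M := by
  obtain ⟨g, hg, hga⟩ := h.fusA a ha ha1
  intro c hc
  rw [mem_centralizer_singleton_iff] at hc
  have h1 : g * c * g⁻¹ ∈ centralizer ({z} : Set G) := by
    rw [mem_centralizer_singleton_iff, ← hga]
    calc g * c * g⁻¹ * (g * a * g⁻¹) = g * (c * a) * g⁻¹ := by group
      _ = g * (a * c) * g⁻¹ := by rw [hc]
      _ = g * a * g⁻¹ * (g * c * g⁻¹) := by group
  have h3 : c = g⁻¹ * (g * c * g⁻¹) * g := by group
  rw [h3]
  exact mul_mem (mul_mem (inv_mem (hM hg)) (hz h1)) (hM hg)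

theorem centralizer_z_le_WW : centralizer ({z} : Set G) ≤ normalizer (WW A : Set G) := by
  intro c hc
  obtain ⟨o, ho, n, hn, rfl⟩ := h.CZ c hc
  exact mul_mem (Subgroup.le_normalizer (le_WW h.zA h.z1 ho)) (normalizer_le_normalizer_WW A hn)

theorem centralizer_z_le (hW : WW A = ⊥) : centralizer ({z} : Set G) ≤ normalizer (A : Set G) := by
  intro c hc
  obtain ⟨o, ho, n, hn, rfl⟩ := h.CZ c hc
  have h1 : o ∈ WW A := le_WW h.zA h.z1 ho
  rw [hW, mem_bot] at h1
  rw [h1, one_mul]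
  exact hn

/-- a group containing the relevant local subgroups contains the centralizers of all its involutions, or is `G` -/
theorem eq_top_or_se [IsSimpleGroup G] {M : Subgroup G} (hM : normalizer (A : Set G) ≤ M)
    (hz : centralizer ({z} : Set G) ≤ M) (hB : normalizer (B : Set G) ≤ M)
    (fusB : ∀ b ∈ B, b ≠ 1 → ∃ g ∈ normalizer (B : Set G), g * b * g⁻¹ = z) (hne : M ≠ ⊤) :
    IsStronglyEmbedded M := by
  have : Fact (Nat.Prime 2) := ⟨Nat.prime_two⟩
  have hSM : (S : Subgroup G) ≤ M := h.S_le.trans hM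
  have hCz : ∀ g ∈ M, ∀ t : G, g * t * g⁻¹ = z → centralizer ({t} : Set G) ≤ M := by
    intro g hg t ht c hc
    rw [mem_centralizer_singleton_iff] at hc
    have h1 : g * c * g⁻¹ ∈ centralizer ({z} : Set G) := by
      rw [mem_centralizer_singleton_iff, ← ht]
      calc g * c * g⁻¹ * (g * t * g⁻¹) = g * (c * t) * g⁻¹ := by group
        _ = g * (t * c) * g⁻¹ := by rw [hc]
        _ = g * t * g⁻¹ * (g * c * g⁻¹) := by group
    have h3 : c = g⁻¹ * (g * c * g⁻¹) * g := by group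
    rw [h3]
    exact mul_mem (mul_mem (inv_mem hg) (hz h1)) hg
  have h1ne : ∀ t : G, orderOf t = 2 → t ≠ 1 := by
    rintro t ht rfl
    rw [orderOf_one] at ht
    exact absurd ht (by norm_num)
  -- every involution of `S` is conjugate to `z` in `M`
  have hS : ∀ t ∈ (S : Subgroup G), orderOf t = 2 → ∃ g ∈ M, g * t * g⁻¹ = z := by
    intro t ht ht2
    by_cases hA : t ∈ A
    · obtain ⟨g, hg, e⟩ := h.fusA t hA (h1ne t ht2)
      exact ⟨g, hM hg, e⟩
    · by_cases hBt : t ∈ B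
      · obtain ⟨g, hg, e⟩ := fusB t hBt (h1ne t ht2)
        exact ⟨g, hB hg, e⟩
      · obtain ⟨g, hg, h1, -⟩ := h.phi t ht ht2 hA hBt
        have h2 : g * t * g⁻¹ ≠ 1 := by
          intro h2
          apply h1ne t ht2
          rwa [mul_inv_eq_one, mul_eq_left] at h2
        obtain ⟨k, hk, e⟩ := fusB _ h1 h2
        refine ⟨k * g, mul_mem (hB hk) (hz hg), ?_⟩
        rw [← e]; group
  refine Cfsg.Agent.J2Sylow.BalancedEnd.stronglyEmbedded_of_centralizer S hne hSM
    (h.normalizer_S_le.trans hM) ?_ ?_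
  · rw [even_iff_two_dvd]
    have h1 : 2 ∣ Nat.card (S : Subgroup G) := by rw [h.cardS]; norm_num
    exact h1.trans (Subgroup.card_dvd_of_le hSM)
  · intro t htM ht2
    have hP : IsPGroup 2 (zpowers t) := by
      rw [IsPGroup.iff_card]
      exact ⟨1, by rw [Nat.card_zpowers, ht2, pow_one]⟩
    obtain ⟨m, hm, hmx⟩ := exists_conj_mem hSM hP (by rw [zpowers_le]; exact htM)
    obtain ⟨g, hg, e⟩ := hS _ (hmx t (mem_zpowers t)) (by
      rw [← ht2]
      exact orderOf_injective (MulAut.conj m).toMonoidHom (MulAut.conj m).injective t)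
    refine hCz (g * m) (mul_mem hg hm) t ?_
    rw [← e]; group

/-- the proper subgroup `M` containing all `C(a)`, `a ∈ A#` -/
theorem WW_A_normalizer_ne_top [IsSimpleGroup G] (hodd : OddSolv G) (hW : WW A ≠ ⊥) :
    normalizer (WW A : Set G) ≠ ⊤ := by
  intro htop
  have hn : (WW A).Normal := Subgroup.normalizer_eq_top_iff.1 htop
  rcases hn.eq_bot_or_eq_top with h1 | h1
  · exact hW h1
  · apply (h.completeA hodd).1
    rw [h1, Subgroup.card_top]
    have h2 : 2 ∣ Nat.card (S : Subgroup G) := by rw [h.cardS]; norm_num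
    exact h2.trans (Subgroup.card_subgroup_dvd_card _)

theorem A_ne_bot : A ≠ ⊥ := by
  rintro rfl
  have := h.cardA
  rw [Subgroup.card_bot] at this
  norm_num at this

theorem A_normalizer_ne_top [IsSimpleGroup G] : normalizer (A : Set G) ≠ ⊤ := by
  intro htop
  have hn : A.Normal := Subgroup.normalizer_eq_top_iff.1 htop
  rcases hn.eq_bot_or_eq_top with h1 | h1
  · exact h.A_ne_bot h1
  · have h2 : (S : Subgroup G) ≤ A := by rw [h1]; exact le_top
    have h3 : (S : Subgroup G) = A := le_antisymm h2 h.AS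
    have h4 := h.cardS
    rw [h3, h.cardA] at h4
    norm_num at h4

/-- a proper subgroup containing `N(A)` and `C(z)` -/
theorem exists_M [IsSimpleGroup G] (hodd : OddSolv G) : ∃ M : Subgroup G, M ≠ ⊤ ∧
    ∀ a ∈ A, a ≠ 1 → centralizer ({a} : Set G) ≤ M := by
  by_cases hW : WW A = ⊥
  · exact ⟨_, h.A_normalizer_ne_top, fun a ha ha1 => h.centralizer_le_of le_rfl (h.centralizer_z_le hW) ha ha1⟩
  · exact ⟨_, h.WW_A_normalizer_ne_top hodd hW, fun a ha ha1 =>
      h.centralizer_le_of (normalizer_le_normalizer_WW A) h.centralizer_z_le_WW ha ha1⟩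

theorem not_se (hben : Bender G) (H : Subgroup G) : ¬ IsStronglyEmbedded H := fun hH =>
  SevenCmp.not_bender S h.cardS h.nonabelian (hben H hH)

/-- the case in which `z` is not conjugate to an element of `B ∖ A` is impossible -/
theorem exists_isConj [IsSimpleGroup G] (hodd : OddSolv G) (hgen : Gen G) (hben : Bender G) :
    ∃ b ∈ B, b ∉ A ∧ IsConj z b := by
  by_contra hcon
  push Not at hcon
  have hsc : IsStronglyClosed A (S : Subgroup G) := by
    refine ⟨h.AS, fun x hx g hg => ?_⟩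
    by_cases h1 : x = 1
    · rw [h1]; simp
    obtain ⟨k, -, hk⟩ := h.fusA x hx h1
    have hzx : IsConj z (g * x * g⁻¹) := by
      rw [isConj_iff]
      refine ⟨g * k⁻¹, ?_⟩
      rw [← hk]; group
    by_contra hA
    by_cases hB : g * x * g⁻¹ ∈ B
    · exact hcon _ hB hA hzx
    · have h2 : orderOf (g * x * g⁻¹) = 2 := by
        have h3 : orderOf (g * x * g⁻¹) = orderOf x :=
          orderOf_injective (MulAut.conj g).toMonoidHom (MulAut.conj g).injective x
        rw [h3]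
        exact orderOf_eq_prime (h.elA.2 x hx) h1
      obtain ⟨l, hl, hlB, hlA⟩ := h.phi _ hg h2 hA hB
      exact hcon _ hlB hlA (hzx.trans (isConj_iff.2 ⟨l, rfl⟩))
  obtain ⟨M, hM, hC⟩ := h.exists_M hodd
  obtain ⟨H, hH⟩ := hgen S A h.A_ne_bot hsc (by
    intro htop
    apply hM
    rw [eq_top_iff, ← htop]
    refine iSup_le ?_
    rintro ⟨t, ht, ht2⟩
    refine hC t ht ?_
    rintro rfl
    rw [orderOf_one] at ht2
    exact absurd ht2 (by norm_num))
  exact h.not_se hben H hH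

/-- the cores are trivial -/
theorem WW_eq_bot [IsSimpleGroup G] (hodd : OddSolv G) (hben : Bender G)
    (fusB : ∀ b ∈ B, b ≠ 1 → ∃ g ∈ normalizer (B : Set G), g * b * g⁻¹ = z) : WW A = ⊥ := by
  by_contra hW
  have hBc : ∀ b ∈ B, b ≠ 1 → IsPConstrained 2 (centralizer ({b} : Set G)) := by
    intro b hb hb1
    obtain ⟨g, -, hg⟩ := fusB b hb hb1
    apply constrained_conj (g := g)
    rw [hg]
    exact h.constrained_z
  have hcB := complete hodd h.elB (by rw [h.cardB]; norm_num) hBc h.ZB h.cardZ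
  have hAB : WW A = WW B := (h.completeA hodd).2.2.symm.trans hcB.2.2
  refine h.not_se hben _ (h.eq_top_or_se (M := normalizer (WW A : Set G)) (normalizer_le_normalizer_WW A)
    h.centralizer_z_le_WW ?_ fusB (h.WW_A_normalizer_ne_top hodd hW))
  rw [hAB]
  exact normalizer_le_normalizer_WW B

/-- `A` satisfies the hypothesis of Timmesfeld's theorem. -/
theorem timmesfeld (hW : WW A = ⊥) : ∀ a ∈ A, a ≠ 1 → ∀ g : G,
    A.map (MulAut.conj g).toMonoidHom ≤ centralizer ({a} : Set G) →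
      A.map (MulAut.conj g).toMonoidHom = A := by
  intro a ha ha1 g hg
  obtain ⟨n, hn, hna⟩ := h.fusA a ha ha1
  have hP : IsPGroup 2 (A.map (MulAut.conj (n * g)).toMonoidHom) := h.isPGroupA.map _
  have hPC : A.map (MulAut.conj (n * g)).toMonoidHom ≤ centralizer ({z} : Set G) := by
    rintro _ ⟨x, hx, rfl⟩
    have h1 : g * x * g⁻¹ ∈ centralizer ({a} : Set G) := hg ⟨x, hx, rfl⟩
    rw [mem_centralizer_singleton_iff] at h1 ⊢
    change (n * g) * x * (n * g)⁻¹ * z = z * ((n * g) * x * (n * g)⁻¹)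
    rw [← hna]
    calc (n * g) * x * (n * g)⁻¹ * (n * a * n⁻¹) = n * (g * x * g⁻¹ * a) * n⁻¹ := by group
      _ = n * (a * (g * x * g⁻¹)) * n⁻¹ := by rw [h1]
      _ = n * a * n⁻¹ * ((n * g) * x * (n * g)⁻¹) := by group
  obtain ⟨c, hc, hcx⟩ := exists_conj_mem h.Sz hP hPC
  have h2 : c * (n * g) ∈ normalizer (A : Set G) := by
    apply h.wc
    rintro _ ⟨x, hx, rfl⟩
    have := hcx _ ⟨x, hx, rfl⟩
    have h3 : (MulAut.conj (c * (n * g))).toMonoidHom x = c * ((MulAut.conj (n * g)).toMonoidHom x) * c⁻¹ := by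
      change c * (n * g) * x * (c * (n * g))⁻¹ = c * ((n * g) * x * (n * g)⁻¹) * c⁻¹
      group
    rw [h3]
    exact this
  have h4 : c ∈ normalizer (A : Set G) := h.centralizer_z_le hW hc
  have h5 : g ∈ normalizer (A : Set G) := by
    have : g = n⁻¹ * (c⁻¹ * (c * (n * g))) := by group
    rw [this]
    exact mul_mem (inv_mem hn) (mul_mem (inv_mem h4) h2)
  exact map_eq_of_mem_normalizer h5

/-- **Step 8**: `G` is `M₂₂` or `M₂₃`. -/
theorem mathieu [IsSimpleGroup G] (hodd : OddSolv G) (hgen : Gen G) (hben : Bender G) (htim : Timm G)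
    (dich : (∀ b ∈ B, b ≠ 1 → ∃ g ∈ normalizer (B : Set G), g * b * g⁻¹ = z) ∨
      (∀ b ∈ B, IsConj z b → b ∈ A)) : Cfsg.IsM22 G ∨ Cfsg.IsM23 G := by
  rcases dich with fusB | hno
  · exact SevenCmp.mathieu S h.cardS h.nonabelian
      (htim A h.elA h.A_ne_bot (h.timmesfeld (h.WW_eq_bot hodd hben fusB)))
  · exfalso
    obtain ⟨b, hb, hbA, hzb⟩ := h.exists_isConj hodd hgen hben
    exact hbA (hno b hb hzb)

end Eight

end Cfsg.Agent.LFourB.StepEight
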