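import Cfsg.Agent.LFourB.MSevenSigma
import Cfsg.Agent.LFourB.KTenMain
import Cfsg.Agent.LFourB.XKill
import Cfsg.Agent.Lib.SylowNormalInf
import Cfsg.Agent.S1250

/-!
# S0510, type `|S| = 2 ^ 7`, case (b1): `C_G(z) = O(C_G(z)) N(V1)`

* `closed`: `V1` is strongly closed in the Sylow 2-subgroup with respect to `C_G(z)`;
* `exists_mul`: hence (Goldschmidt) `C_G(z) = O(C_G(z)) (N(V1) ∩ C_G(z))`.
-/

set_option autoImplicit false

open Cfsg Subgroup

universe u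

namespace Cfsg.Agent.LFourB.StepSeven

open M7 K4 MQ
open Cfsg.Agent.LFourB.KTenCore Cfsg.Agent.LFourB.KTenModel Cfsg.Agent.LFourB.KTenMain

theorem inv_cases : ∀ s : M7, s * s = 1 → s ∉ Q → s ∉ V1 → s ∈ V2 := by decide +kernel
theorem mem_Z_of_comm : ∀ e : M7, e * x1 = x1 * e → e * x2 = x2 * e → e * y1 = y1 * e →
    e * y2 = y2 * e → e ∈ Z := by decide +kernel
theorem ze_comm : ∀ m : M7, (m ∈ V1 ∨ m ∈ V2) → m * ze = ze * m := by decide +kernel
theorem mem_facts : ze ∈ Q ∧ ze ∈ V1 ∧ ze ∉ Z1 ∧ x1 ∈ V1 ∧ x2 ∈ V1 ∧ y1 ∈ V2 ∧ y2 ∈ V2 ∧ z ∈ V1 ∧ z ∈ Z ∧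
    ze ∈ Z ∧ y1 * y1 = 1 ∧ x1 * y1 ≠ y1 * x1 := by decide +kernel
theorem y1_V1 : ∀ m ∈ V1, eqz y1 m = false := by decide +kernel
theorem Z_le : ∀ m : M7, m ∈ Z → m ∈ V1 := by decide +kernel
theorem Z_cases : ∀ m : M7, m ∈ Z → m = 1 ∨ m = z ∨ m = ze ∨ m = z * ze := by decide +kernel
theorem Z1_mul_V1 : ∀ s m : M7, m ∈ Z1 → m * s ∈ V1 → s ∈ V1 := by
  intro s m hm h
  have h1 : m ∈ V1 := by
    rcases Z1_cases m hm with rfl | rfl
    · exact one_mem _
    · exact mem_facts.2.2.2.2.2.2.2.1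
  have h2 := V1.mul_mem (V1.inv_mem h1) h
  rwa [inv_mul_cancel_left] at h2

section fusion

variable {G : Type*} [Group G] [Finite G] {P : Sylow 2 G} {φ : M7 →* G}

/-- Control of fusion in `Q` modulo `⟨z⟩`. -/
theorem control_Q (h : Emb7 (P : Subgroup G) φ) {x y : M7} (hx : x ∈ Q) (hy : y ∈ Q) {k : G}
    (hk : k ∈ Cz φ) (hkx : k * φ x * k⁻¹ = φ y) :
    ∃ n ∈ Cz φ, Nm φ Q n ∧ ∃ m ∈ Z1, n * φ x * n⁻¹ = φ (m * y) := by
  obtain ⟨c, hc, hcQ⟩ := RelExt.exists_fix (N := Cz φ) (R := (P : Subgroup G)) (A := Q.map φ) P.isPGroup'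
    (not_dvd_Cz h) (map_le h Q) (fun g hg hgP => Q_weak h hg hgP)
    (C := Kz φ (φ y)) (fun _ hc => hc.1)
    (by
      rintro _ ⟨q, hq, rfl⟩
      refine ⟨image_mem_Cz φ q, ?_⟩
      rw [← map_mul, ← map_inv, ← map_mul, ← map_inv, ← map_mul]
      exact mem_map_of_mem φ (Q_comm q y hq hy))
    (g := k) hk
    (by
      rintro _ ⟨_, ⟨q, hq, rfl⟩, rfl⟩
      refine ⟨mul_mem (mul_mem hk (image_mem_Cz φ q)) (inv_mem hk), ?_⟩
      have h2 := Q_comm q x hq hx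
      have h3 : MulEquiv.toMonoidHom (MulAut.conj k) (φ q) * φ y *
          (MulEquiv.toMonoidHom (MulAut.conj k) (φ q))⁻¹ * (φ y)⁻¹ = φ (q * x * q⁻¹ * x⁻¹) := by
        rw [← conj_Z1 hk h2, ← hkx]
        change k * φ q * k⁻¹ * (k * φ x * k⁻¹) * (k * φ q * k⁻¹)⁻¹ * (k * φ x * k⁻¹)⁻¹ = _
        simp only [map_mul, map_inv]
        group
      rw [h3]
      exact mem_map_of_mem φ h2)
  obtain ⟨m, hm, hm'⟩ := hc.2
  refine ⟨c * k, mul_mem hc.1 hk, hcQ, m, hm, ?_⟩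
  rw [map_mul, hm', ← hkx]
  group

/-- **`V1` is strongly closed with respect to `C(z)`**. -/
theorem closed (h : Emb7 (P : Subgroup G) φ) (hw1 : WC (P : Subgroup G) φ V1)
    (hw2 : WC (P : Subgroup G) φ V2)
    (tr : ∀ v ∈ V1, v ∉ Z1 → ∃ n ∈ Cz φ, n * φ ze * n⁻¹ = φ v)
    (nQ : ∀ n ∈ Cz φ, Nm φ Q n → n * φ ze * n⁻¹ ∈ V1.map φ)
    (nV2 : ∀ n ∈ Cz φ, Nm φ V2 n → n * φ ze * n⁻¹ ∈ Z.map φ)
    {v : M7} (hv : v ∈ V1) {k : G} (hk : k ∈ Cz φ) (hkP : k * φ v * k⁻¹ ∈ (P : Subgroup G)) :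
    k * φ v * k⁻¹ ∈ V1.map φ := by
  have hinj : ∀ m n : M7, φ m = φ n → m = n := fun m n hmn => h.inj hmn
  obtain ⟨hzeQ, hzeV, hzeZ, hx1, hx2, hy1, hy2, hzV, hzZ, hzeZ', -, -⟩ := mem_facts
  by_cases hvZ : v ∈ Z1
  · rw [conj_Z1 hk hvZ]
    exact mem_map_of_mem φ hv
  obtain ⟨n, hn, hnv⟩ := tr v hv hvZ
  obtain ⟨s, hs⟩ := h.exists_eq hkP
  have hks : (k * n) * φ ze * (k * n)⁻¹ = φ s := by
    rw [hs, ← hnv]; group
  have hkn : k * n ∈ Cz φ := mul_mem hk hn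
  have hss : s * s = 1 := by
    apply hinj
    rw [map_mul, ← hks, map_one]
    calc (k * n) * φ ze * (k * n)⁻¹ * ((k * n) * φ ze * (k * n)⁻¹)
        = (k * n) * φ (ze * ze) * (k * n)⁻¹ := by rw [map_mul]; group
      _ = 1 := by rw [show ze * ze = 1 by decide, map_one]; group
  rw [← hs]
  by_cases hsV : s ∈ V1
  · exact mem_map_of_mem φ hsV
  exfalso
  by_cases hsQ : s ∈ Q
  · -- inside `Q`
    obtain ⟨g, hg, hgQ, m, hm, hgm⟩ := control_Q h hzeQ hsQ hkn hks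
    have h1 := nQ g hg hgQ
    rw [hgm, h.mem_map] at h1
    exact hsV (Z1_mul_V1 s m hm h1)
  · -- in `V2`
    have hsV2 := inv_cases s hss hsQ hsV
    obtain ⟨g0, hg0, hg0P, hext⟩ := RelExt.exists_extremal (N := Cz φ) (R := (P : Subgroup G))
      P.isPGroup' (le_Cz h) (not_dvd_Cz h) (h.mem ze)
    obtain ⟨e, he⟩ := h.exists_eq hg0P
    obtain ⟨g1, hg1, hg1w, hg1y⟩ := hext (φ ze) (h.mem ze) ⟨1, one_mem _, by group⟩
    obtain ⟨g2, hg2, hg2w, hg2y⟩ := hext (φ s) (h.mem s) ⟨k * n, hkn, hks⟩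
    -- `e ∈ Z`
    have hWV : ∀ V : Subgroup M7, WC (P : Subgroup G) φ V → (∀ m ∈ V, m * ze = ze * m) →
        ∀ m ∈ V, e * m = m * e := by
      intro V hw hV m hm
      have h1 : (V.map φ).map (MulAut.conj g1).toMonoidHom = V.map φ := by
        apply hw
        rintro _ ⟨_, ⟨m, hm, rfl⟩, rfl⟩
        exact hg1y (φ m) (h.mem m) (by rw [← map_mul, ← map_mul, hV m hm])
      have h2 : φ m ∈ (V.map φ).map (MulAut.conj g1).toMonoidHom := by
        rw [h1]; exact mem_map_of_mem φ hm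
      obtain ⟨_, ⟨m', hm', rfl⟩, hmm⟩ := h2
      have hmm' : g1 * φ m' * g1⁻¹ = φ m := hmm
      apply hinj
      rw [map_mul, map_mul, he, ← hg1w, ← hmm']
      calc g1 * φ ze * g1⁻¹ * (g1 * φ m' * g1⁻¹) = g1 * φ (ze * m') * g1⁻¹ := by rw [map_mul]; group
        _ = g1 * φ (m' * ze) * g1⁻¹ := by rw [hV m' hm']
        _ = g1 * φ m' * g1⁻¹ * (g1 * φ ze * g1⁻¹) := by rw [map_mul]; group
    have h1 := hWV V1 hw1 (fun m hm => ze_comm m (Or.inl hm))
    have h2 := hWV V2 hw2 (fun m hm => ze_comm m (Or.inr hm))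
    have heZ : e ∈ Z := mem_Z_of_comm e (h1 _ hx1) (h1 _ hx2) (h2 _ hy1) (h2 _ hy2)
    -- `g2` normalises `V2`
    have hgV2 : Nm φ V2 g2 := by
      apply hw2
      rintro _ ⟨_, ⟨m, hm, rfl⟩, rfl⟩
      exact hg2y (φ m) (h.mem m) (by rw [← map_mul, ← map_mul, V2_comm m s hm hsV2])
    have hg2' : g2⁻¹ * φ e * g2⁻¹⁻¹ = φ s := by rw [he, ← hg2w]; group
    have h3 : g2⁻¹ * φ ze * g2⁻¹⁻¹ ∈ Z.map φ := nV2 g2⁻¹ (inv_mem hg2) hgV2.inv
    have hzi : g2⁻¹ * φ z * g2⁻¹⁻¹ = φ z := conj_of_mem_Cz (inv_mem hg2)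
    have h4 : φ s ∈ Z.map φ := by
      rw [← hg2']
      rcases Z_cases e heZ with rfl | rfl | rfl | rfl
      · simp
      · rw [hzi]; exact mem_map_of_mem φ hzZ
      · exact h3
      · have e1 : g2⁻¹ * φ (z * ze) * g2⁻¹⁻¹ = (g2⁻¹ * φ z * g2⁻¹⁻¹) * (g2⁻¹ * φ ze * g2⁻¹⁻¹) := by
          rw [map_mul]; group
        rw [e1, hzi]
        exact mul_mem (mem_map_of_mem φ hzZ) h3
    rw [h.mem_map] at h4
    exact hsV (Z_le s h4)

end fusion

/-- Strong closure passes to surjective images. -/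
theorem closed_map {X : Type*} [Group X] [Finite X] {K : Type*} [Group K] {F : X →* K}
    (hF : Function.Surjective F) (T : Sylow 2 X) {V : Subgroup X}
    (h : Cfsg.IsStronglyClosed V (T : Subgroup X)) :
    Cfsg.IsStronglyClosed (V.map F) ((T : Subgroup X).map F) := by
  have h2 : Fact (Nat.Prime 2) := ⟨Nat.prime_two⟩
  have h1 := Cfsg.Agent.S1250.result T V h F.ker
  have hm : ∀ (A : Subgroup X) (a : X), F a ∈ A.map F ↔
      QuotientGroup.mk' F.ker a ∈ A.map (QuotientGroup.mk' F.ker) := by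
    intro A a
    rw [mem_map, mem_map]
    refine exists_congr fun b => and_congr_right fun _ => ?_
    change F b = F a ↔ (QuotientGroup.mk b : X ⧸ F.ker) = QuotientGroup.mk a
    rw [QuotientGroup.eq, MonoidHom.mem_ker, map_mul, map_inv, inv_mul_eq_one]
  refine ⟨map_mono h.1, ?_⟩
  rintro _ ⟨v, hv, rfl⟩ g hg
  obtain ⟨g, rfl⟩ := hF g
  have e1 : F g * F v * (F g)⁻¹ = F (g * v * g⁻¹) := by rw [map_mul, map_mul, map_inv]
  have e2 : QuotientGroup.mk' F.ker g * QuotientGroup.mk' F.ker v * (QuotientGroup.mk' F.ker g)⁻¹ =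
      QuotientGroup.mk' F.ker (g * v * g⁻¹) := by rw [map_mul, map_mul, map_inv]
  rw [e1, hm] at hg
  rw [e1, hm]
  have h3 := h1.2 _ (mem_map_of_mem (QuotientGroup.mk' F.ker) hv) (QuotientGroup.mk' F.ker g)
  rw [e2] at h3
  exact h3 hg

/-- The quotient: `V1` becomes normal. -/
theorem map_normal (hG : ∀ (L : Type u) [Group L] [Finite L] [IsSimpleGroup L], XKill.Gold L)
    {K : Type u} [Group K] [Finite K] {π : M7 →* K} (T : Sylow 2 K) (h : KerZ π)
    (hr : π.range = (T : Subgroup K)) (hO : oddCore K = ⊥)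
    (htr : ∀ u v : M7, u ∈ V1 → eqz u 1 = false → v ∈ V1 → eqz v 1 = false →
      ∃ k ∈ normalizer ((V1.map π : Subgroup K) : Set K), k * π u * k⁻¹ = π v)
    (hsc : Cfsg.IsStronglyClosed (V1.map π) (T : Subgroup K)) : (V1.map π).Normal := by
  have hcfg := cfg_of T h hr hO htr
  rcases hcfg.dichotomy with hE | ⟨N, hN, hNs, hTN, -⟩
  · exact hE
  exfalso
  obtain ⟨PN, hPN⟩ := exists_sylow_normal T N hN
  have hmemT : ∀ x : M7, π x ∈ (T : Subgroup K) := fun x => by rw [← hr]; exact ⟨x, rfl⟩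
  have hmemN : ∀ x : M7, π x ∈ N := fun x => hTN (hmemT x)
  have hmP : ∀ y : N, y ∈ (PN : Subgroup N) ↔ (y : K) ∈ (T : Subgroup K) := by
    intro y
    rw [hPN, mem_subgroupOf]
  obtain ⟨-, hzeV, -, -, -, -, -, -, -, -, hyy, hxy⟩ := mem_facts
  have hne : ∀ x : M7, x ≠ 1 → x ≠ z → π x ≠ 1 := by
    intro x h1 h2 h3
    rcases (h x).1 h3 with h4 | h4
    · exact h1 h4
    · exact h2 h4
  have hsc' : Cfsg.IsStronglyClosed ((V1.map π).subgroupOf N) (PN : Subgroup N) := by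
    refine ⟨fun y hy => (hmP y).mpr (hsc.1 hy), fun y hy g hg => ?_⟩
    rw [mem_subgroupOf] at hy ⊢
    exact hsc.2 _ hy _ ((hmP _).mp hg)
  have hconj := XKill.isConj_of_stronglyClosed (hG N) PN (V := (V1.map π).subgroupOf N) (by
      intro hb
      have h1 : (⟨π ze, hmemN ze⟩ : N) ∈ (V1.map π).subgroupOf N := by
        rw [mem_subgroupOf]; exact mem_map_of_mem π hzeV
      rw [hb, mem_bot] at h1
      exact hne ze (by decide) (by decide) (congrArg Subtype.val h1))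
    (by
      rintro ⟨_, -⟩ ⟨a, ha, rfl⟩ ⟨_, -⟩ ⟨b, hb, rfl⟩
      apply Subtype.ext
      change π a * π b = π b * π a
      rw [← map_mul, ← map_mul, V1_comm a b ha hb]) hsc'
    (a := ⟨π r1, hmemN r1⟩) (b := ⟨π q1, hmemN q1⟩) ((hmP _).mpr (hmemT r1)) ((hmP _).mpr (hmemT q1))
    (by
      intro h1
      have h3 : π (r1 * q1) = π (q1 * r1) := by
        rw [map_mul, map_mul]
        exact congrArg Subtype.val h1
      have h4 := (map_eq_iff h).1 h3
      rw [ze_mem.2.2.2.2.2] at h4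
      exact absurd h4 (by decide))
    (⟨π ze, hmemN ze⟩ : N) (⟨π y1, hmemN y1⟩ : N)
    (orderOf_eq_prime (by
      apply Subtype.ext
      change (π ze) ^ 2 = 1
      rw [← map_pow, show ze ^ 2 = 1 by decide, map_one])
      (fun h1 => hne ze (by decide) (by decide) (congrArg Subtype.val h1)))
    (orderOf_eq_prime (by
      apply Subtype.ext
      change (π y1) ^ 2 = 1
      rw [← map_pow, pow_two, hyy, map_one])
      (fun h1 => hne y1 (by decide) (by decide) (congrArg Subtype.val h1)))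
  obtain ⟨g, hg⟩ := isConj_iff.mp hconj
  have hg' : (g : K) * π ze * (g : K)⁻¹ = π y1 := congrArg Subtype.val hg
  have h5 := hsc.2 (π ze) (mem_map_of_mem π hzeV) g (by rw [hg']; exact hmemT y1)
  rw [hg'] at h5
  obtain ⟨m, hm, hmy⟩ := h5
  have h6 := (map_eq_iff h).1 hmy.symm
  rw [y1_V1 m hm] at h6
  exact absurd h6 (by decide)

/-- The theorem for a group with central involution `φ z`. -/
theorem exists_mul_aux (hG : ∀ (L : Type u) [Group L] [Finite L] [IsSimpleGroup L], XKill.Gold L)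
    {X : Type u} [Group X] [Finite X] {S : Sylow 2 X} {φ : M7 →* X} (hφ : Emb7 (S : Subgroup X) φ)
    (hz : ∀ x, x * φ z = φ z * x)
    (htr : ∀ u v : M7, u ∈ V1 → eqz u 1 = false → v ∈ V1 → eqz v 1 = false →
      ∃ h ∈ normalizer ((V1.map φ : Subgroup X) : Set X),
        h * φ u * h⁻¹ = φ v ∨ h * φ u * h⁻¹ = φ (v * z))
    (hsc : Cfsg.IsStronglyClosed (V1.map φ) (S : Subgroup X)) (c : X) :
    ∃ o ∈ oddCore X, ∃ n ∈ normalizer ((V1.map φ : Subgroup X) : Set X), c = o * n := by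
  have h2 : Fact (Nat.Prime 2) := ⟨Nat.prime_two⟩
  obtain ⟨K, _, _, F, hF, hker, hO⟩ := exists_quot (φ := φ) hz
  have hkz := kerZ_of hφ hker
  let T : Sylow 2 K := S.mapSurjective hF
  have hr : (F.comp φ).range = (T : Subgroup K) := by
    rw [MonoidHom.range_comp, hφ.range]
    rfl
  have hmap : V1.map (F.comp φ) = (V1.map φ).map F := (Subgroup.map_map _ _ _).symm
  have hn : (V1.map (F.comp φ)).Normal := by
    refine map_normal hG T hkz hr hO (fun u v hu hu1 hv hv1 => trans_of hker (htr u v hu hu1 hv hv1)) ?_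
    rw [hmap]
    exact closed_map hF S hsc
  rw [hmap] at hn
  have hNn : (((V1.map φ).map F).comap F).Normal := inferInstance
  have hzz : φ z * φ z = 1 := by rw [← map_mul, show z * z = 1 by decide, map_one]
  have hzV : φ z ∈ V1.map φ := mem_map_of_mem φ mem_facts.2.2.2.2.2.2.2.1
  -- elements of the preimage
  have hN : ∀ x ∈ ((V1.map φ).map F).comap F, ∃ v ∈ V1.map φ, v⁻¹ * x ∈ oddCore X := by
    intro x hx
    obtain ⟨v, hv, he⟩ := mem_map.mp (mem_comap.mp hx)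
    have h1 : F (v⁻¹ * x) = 1 := by rw [map_mul, map_inv, he, inv_mul_cancel]
    rcases (hker _).1 h1 with h3 | h3
    · exact ⟨v, hv, h3⟩
    · refine ⟨v * φ z, mul_mem hv hzV, ?_⟩
      have e : (v * φ z)⁻¹ * x = v⁻¹ * x * φ z := by
        rw [_root_.mul_inv_rev, inv_eq_of_mul_eq_one_left hzz, ← hz, mul_assoc, ← hz, ← mul_assoc]
      rw [e]
      exact h3
  have hSN : (S : Subgroup X) ⊓ ((V1.map φ).map F).comap F = V1.map φ := by
    apply le_antisymm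
    · rintro s ⟨hs, hsN⟩
      obtain ⟨v, hv, hk⟩ := hN s hsN
      have h1 := inf_core_eq_one S (mul_mem (inv_mem (hsc.1 hv)) hs) hk
      rw [inv_mul_eq_one] at h1
      rw [← h1]
      exact hv
    · intro v hv
      exact ⟨hsc.1 hv, mem_comap.mpr (mem_map_of_mem F hv)⟩
  have hFr := Cfsg.Agent.Lib.SylowNormalInf.normalizer_inf_sup_eq_top S (((V1.map φ).map F).comap F)
  rw [hSN] at hFr
  have hOn : (oddCore X).Normal := Cfsg.Agent.Lib.Cores.pPrimeCore_normal 2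
  have hc : c ∈ normalizer ((V1.map φ : Subgroup X) : Set X) ⊔ ((V1.map φ).map F).comap F := by
    rw [hFr]; exact mem_top c
  obtain ⟨a, ha, b, hb, rfl⟩ := Subgroup.mem_sup_of_normal_right.mp hc
  obtain ⟨v, hv, hk⟩ := hN b hb
  have hvN : v ∈ normalizer ((V1.map φ : Subgroup X) : Set X) := (V1.map φ).le_normalizer hv
  refine ⟨(a * v) * (v⁻¹ * b) * (a * v)⁻¹, hOn.conj_mem _ hk _, a * v, mul_mem ha hvN, ?_⟩
  group

/-- **Step 7**: `C_G(z) = O(C_G(z)) N(V1)` in case (b1). -/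
theorem exists_mul (hG : ∀ (L : Type u) [Group L] [Finite L] [IsSimpleGroup L], XKill.Gold L)
    {G : Type u} [Group G] [Finite G] {P : Sylow 2 G} {φ : M7 →* G} (h : Emb7 (P : Subgroup G) φ)
    (hw1 : WC (P : Subgroup G) φ V1) (hw2 : WC (P : Subgroup G) φ V2)
    (tr : ∀ v ∈ V1, v ∉ Z1 → ∃ n ∈ Cz φ, Nm φ V1 n ∧ n * φ ze * n⁻¹ = φ v)
    (nQ : ∀ n ∈ Cz φ, Nm φ Q n → n * φ ze * n⁻¹ ∈ V1.map φ)
    (nV2 : ∀ n ∈ Cz φ, Nm φ V2 n → n * φ ze * n⁻¹ ∈ Z.map φ)
    (c : G) (hc : c ∈ centralizer ({φ z} : Set G)) :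
    ∃ o ∈ centralizerPPrimeCore 2 (φ z), ∃ n ∈ normalizer ((V1.map φ : Subgroup G) : Set G), c = o * n := by
  have hzc : ∀ x : M7, φ x * φ z = φ z * φ x := fun x => by rw [← map_mul, ← map_mul, z_comm]
  have hmem : ∀ x : M7, φ x ∈ centralizer ({φ z} : Set G) := fun x =>
    mem_centralizer_singleton_iff.2 (hzc x)
  have hSX : (P : Subgroup G) ≤ centralizer ({φ z} : Set G) := by
    rw [← h.range]
    rintro _ ⟨x, rfl⟩
    exact hmem x
  let φX : M7 →* centralizer ({φ z} : Set G) := φ.codRestrict _ hmem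
  let SX : Sylow 2 (centralizer ({φ z} : Set G)) := P.subtype hSX
  have hSXm : ∀ y : centralizer ({φ z} : Set G), y ∈ (SX : Subgroup (centralizer ({φ z} : Set G))) ↔
      (y : G) ∈ (P : Subgroup G) := fun y => Iff.rfl
  have hEX : Emb7 (SX : Subgroup (centralizer ({φ z} : Set G))) φX := by
    constructor
    · intro x y hxy
      exact h.inj (congrArg Subtype.val hxy)
    · ext y
      constructor
      · rintro ⟨x, rfl⟩
        exact h.mem x
      · intro hy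
        obtain ⟨x, hx⟩ := h.exists_eq (g := (y : G)) hy
        exact ⟨x, Subtype.ext hx⟩
  have hiff : ∀ g : centralizer ({φ z} : Set G), g ∈ V1.map φX ↔ (g : G) ∈ V1.map φ := by
    intro g
    constructor
    · rintro ⟨x, hx, rfl⟩
      exact ⟨x, hx, rfl⟩
    · rintro ⟨x, hx, hxg⟩
      exact ⟨x, hx, Subtype.ext hxg⟩
  have hnorm : ∀ g : centralizer ({φ z} : Set G), g ∈ normalizer ((V1.map φX : Subgroup _) : Set _) ↔
      (g : G) ∈ normalizer ((V1.map φ : Subgroup G) : Set G) := by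
    intro g
    rw [mem_normalizer_iff, mem_normalizer_iff]
    constructor
    · intro hg x
      constructor
      · intro hx
        have hxc : x ∈ centralizer ({φ z} : Set G) := by
          obtain ⟨m, -, rfl⟩ := hx
          exact hmem m
        exact (hiff _).1 ((hg ⟨x, hxc⟩).1 ((hiff _).2 hx))
      · intro hx
        have hxc' : (g : G) * x * (g : G)⁻¹ ∈ centralizer ({φ z} : Set G) := by
          obtain ⟨m, -, hm⟩ := hx
          rw [← hm]
          exact hmem m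
        have hxc : x ∈ centralizer ({φ z} : Set G) := by
          have h1 := mul_mem (mul_mem (inv_mem g.2) hxc') g.2
          have e : (g : G)⁻¹ * ((g : G) * x * (g : G)⁻¹) * g = x := by group
          rwa [e] at h1
        exact (hiff _).1 ((hg ⟨x, hxc⟩).2 ((hiff _).2 hx))
    · intro hg x
      rw [hiff, hiff]
      exact hg x
  have htr1 : ∀ u ∈ V1, u ∉ Z1 → ∀ v ∈ V1, v ∉ Z1 → ∃ n ∈ Cz φ, Nm φ V1 n ∧ n * φ u * n⁻¹ = φ v := by
    intro u hu hu1 v hv hv1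
    obtain ⟨n, hn, hnV, hnu⟩ := tr u hu hu1
    obtain ⟨m, hm, hmV, hmv⟩ := tr v hv hv1
    refine ⟨m * n⁻¹, mul_mem hm (inv_mem hn), hmV.mul hnV.inv, ?_⟩
    rw [← hnu, ← hmv]
    group
  have hZ1 : ∀ u : M7, eqz u 1 = false → u ∉ Z1 := by
    intro u hu hu1
    rcases Z1_cases u hu1 with rfl | rfl <;> exact absurd hu (by decide)
  obtain ⟨o, ho, n, hn, hcn⟩ := exists_mul_aux hG hEX (fun x =>
      Subtype.ext (mem_centralizer_singleton_iff.1 x.2)) (fun u v hu hu1 hv hv1 => by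
        obtain ⟨n, hn, hnV, hnu⟩ := htr1 u hu (hZ1 u hu1) v hv (hZ1 v hv1)
        refine ⟨⟨n, hn⟩, (hnorm _).2 ?_, Or.inl (Subtype.ext hnu)⟩
        rw [mem_normalizer_iff]
        have key : ∀ k, Nm φ V1 k → ∀ x, x ∈ V1.map φ → k * x * k⁻¹ ∈ V1.map φ := by
          rintro k hk _ ⟨m, hm, rfl⟩
          obtain ⟨m', hm', hmm⟩ := hk.exists hm
          rw [hmm]
          exact mem_map_of_mem φ hm'
        intro x
        refine ⟨key n hnV x, fun hx => ?_⟩
        have h1 := key _ hnV.inv _ hx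
        have e : n⁻¹ * (n * x * n⁻¹) * n⁻¹⁻¹ = x := by group
        rwa [e] at h1)
    (by
      refine ⟨?_, ?_⟩
      · intro y hy
        obtain ⟨m, -, hm⟩ := (hiff y).1 hy
        rw [hSXm, ← hm]
        exact h.mem m
      · rintro y hy g hg
        obtain ⟨m, hm, hmy⟩ := (hiff y).1 hy
        rw [hiff]
        have h1 := closed h hw1 hw2 (fun v hv hv1 => by
          obtain ⟨n, hn, -, hnv⟩ := tr v hv hv1
          exact ⟨n, hn, hnv⟩) nQ nV2 hm (k := (g : G)) g.2 (by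
            rw [hmy]
            exact hg)
        rw [hmy] at h1
        exact h1) ⟨c, hc⟩
  exact ⟨o, mem_map_of_mem _ ho, n, (hnorm n).1 hn, congrArg Subtype.val hcn⟩

end Cfsg.Agent.LFourB.StepSeven
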