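import Cfsg.Agent.LFourB.StepSixModel
import Cfsg.Agent.SylowSp4.Extremal

/-!
# Separated involutions `x2`, `y2` (S0510, type B5, step 6)

`X` is a finite group with a Sylow 2-subgroup `P ≅ M7`, in which `z` is central and the conjugates of `x2` (of `y2`) in
`P` are the conjugates in `P`. Then `Q` is the Sylow 2-subgroup of a normal subgroup of index 4, `Q` is weakly closed,
and the normaliser of `Q` controls fusion in `Q / ⟨z⟩`, in every subgroup containing `Q`.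
-/

set_option autoImplicit false

namespace Cfsg.Agent.LFourB.StepSix

open Subgroup Cfsg.Agent.LFourB M7 StepSixModel

variable {X : Type*} [Group X]

structure Sep (P : Subgroup X) (ψ : M7 →* X) : Prop where
  emb : Emb7 P ψ
  cen : ∀ g, g * ψ z = ψ z * g
  sx : ∀ g m, g * ψ x2 * g⁻¹ = ψ m → cx m = true
  sy : ∀ g m, g * ψ y2 * g⁻¹ = ψ m → cy m = true

namespace Sep

section

variable {P : Subgroup X} {ψ : M7 →* X} (h : Sep P ψ)

include h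

theorem psi_inj {m n : M7} (e : ψ m = ψ n) : m = n := h.emb.inj e

theorem cx_conj {g : X} {m n : M7} (e : g * ψ m * g⁻¹ = ψ n) (hm : cx m = true) : cx n = true := by
  have h1 := congrArg ψ (conj_kx m hm)
  rw [map_mul, map_mul, map_inv] at h1
  apply h.sx (g * ψ (kx m))
  rw [← e, ← h1]
  group

theorem cy_conj {g : X} {m n : M7} (e : g * ψ m * g⁻¹ = ψ n) (hm : cy m = true) : cy n = true := by
  have h1 := congrArg ψ (conj_ky m hm)
  rw [map_mul, map_mul, map_inv] at h1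
  apply h.sy (g * ψ (ky m))
  rw [← e, ← h1]
  group

omit h in
theorem symm_conj {g x y : X} (e : g * x * g⁻¹ = y) : g⁻¹ * y * g⁻¹⁻¹ = x := by rw [← e]; group

theorem sq_conj {g : X} {m n : M7} (e : g * ψ m * g⁻¹ = ψ n) (hm : m * m = 1) : n * n = 1 := by
  apply h.psi_inj
  rw [map_mul, ← e, map_one]
  have h1 : g * ψ m * g⁻¹ * (g * ψ m * g⁻¹) = g * (ψ (m * m)) * g⁻¹ := by rw [map_mul]; group
  rw [h1, hm, map_one]
  group

/-- involutions of `Q` stay in `Q` -/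
theorem invol_Q {g : X} {m n : M7} (e : g * ψ m * g⁻¹ = ψ n) (hm2 : m * m = 1) (hm : m ∈ Q) : n ∈ Q := by
  rcases inv_cases n (h.sq_conj e hm2) with h1 | h1 | h1
  · exact h1
  · exact absurd hm (cx_not_Q m (h.cx_conj (symm_conj e) h1))
  · exact absurd hm (cy_not_Q m (h.cy_conj (symm_conj e) h1))

theorem invol_R1 {g : X} {m n : M7} (e : g * ψ m * g⁻¹ = ψ n) (hm2 : m * m = 1) : n ∈ R1 ↔ m ∈ R1 := by
  rcases inv_cases m hm2 with h1 | h1 | h1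
  · exact iff_of_true ((Q_iff n).1 (h.invol_Q e hm2 h1)).1 ((Q_iff m).1 h1).1
  · exact iff_of_false (cx_not_R1 n (h.cx_conj e h1)) (cx_not_R1 m h1)
  · exact iff_of_true (cy_R1 n (h.cy_conj e h1)) (cy_R1 m h1)

theorem invol_R2 {g : X} {m n : M7} (e : g * ψ m * g⁻¹ = ψ n) (hm2 : m * m = 1) : n ∈ R2 ↔ m ∈ R2 := by
  rcases inv_cases m hm2 with h1 | h1 | h1
  · exact iff_of_true ((Q_iff n).1 (h.invol_Q e hm2 h1)).2 ((Q_iff m).1 h1).2
  · exact iff_of_true (cx_R2 n (h.cx_conj e h1)) (cx_R2 m h1)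
  · exact iff_of_false (cy_not_R2 n (h.cy_conj e h1)) (cy_not_R2 m h1)

end

section transfer

variable [Finite X] {P : Sylow 2 X} {ψ : M7 →* X} (h : Sep (P : Subgroup X) ψ)

include h

omit [Finite X] in
theorem relIndex_map {R : Subgroup M7} (hR : R.index = 2) : (R.map ψ).relIndex (P : Subgroup X) = 2 := by
  rw [← h.emb.range, MonoidHom.range_eq_map, Subgroup.relIndex_map_map_of_injective _ _ h.emb.inj,
    Subgroup.relIndex_top_right, hR]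

theorem exists_transfer {R : Subgroup M7} (hR : R.index = 2)
    (hf : ∀ (g : X) (m n : M7), g * ψ m * g⁻¹ = ψ n → m * m = 1 → (n ∈ R ↔ m ∈ R)) :
    ∃ V : X →* ℤˣ, ∀ m : M7, m * m = 1 → (V (ψ m) = 1 ↔ m ∈ R) := by
  obtain ⟨V, hV⟩ := Cfsg.Agent.SylowSp4.Extremal.exists_transfer P (R.map ψ) (h.relIndex_map hR)
  refine ⟨V, fun m hm => ?_⟩
  rw [hV (ψ m) (h.emb.mem m), h.emb.mem_map]
  intro k g hg
  obtain ⟨n, hn⟩ := h.emb.exists_eq hg
  rw [← map_pow] at hn ⊢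
  rw [← hn, h.emb.mem_map, h.emb.mem_map]
  refine hf g _ _ hn.symm ?_
  rw [← pow_add, ← two_mul, pow_mul, pow_two, hm, one_pow]

theorem exists_V1 : ∃ V : X →* ℤˣ, ∀ m : M7, V (ψ m) = 1 ↔ m ∈ R1 := by
  obtain ⟨V, hV⟩ := h.exists_transfer index_R1 (fun g m n e hm => h.invol_R1 e hm)
  refine ⟨V, fun m => ?_⟩
  have h1 := congrArg ψ (decomp m)
  rw [h1, map_mul, map_mul, map_mul, map_mul, map_mul, map_mul,
    (hV _ (sq_c m.c)).2 ((Q_iff _).1 (c_mem m.c)).1, (hV _ (sq_b m.b)).2 (b_mem m.b),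
    (hV _ (sq_e m.e)).2 ((Q_iff _).1 (e_mem m.e)).1, one_mul, one_mul, mul_one, hV _ (sq_a m.a), a_iff]

theorem exists_V2 : ∃ V : X →* ℤˣ, ∀ m : M7, V (ψ m) = 1 ↔ m ∈ R2 := by
  obtain ⟨V, hV⟩ := h.exists_transfer index_R2 (fun g m n e hm => h.invol_R2 e hm)
  refine ⟨V, fun m => ?_⟩
  have h1 := congrArg ψ (decomp m)
  rw [h1, map_mul, map_mul, map_mul, map_mul, map_mul, map_mul,
    (hV _ (sq_c m.c)).2 ((Q_iff _).1 (c_mem m.c)).2, (hV _ (sq_a m.a)).2 (a_mem m.a),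
    (hV _ (sq_e m.e)).2 ((Q_iff _).1 (e_mem m.e)).2, one_mul, mul_one, mul_one, hV _ (sq_b m.b), b_iff]

omit [Finite X] in
theorem Q_conj {q m : M7} (hq : q ∈ Q) (hm : m ∈ Q) :
    ψ q * ψ m * (ψ q)⁻¹ = ψ m ∨ ψ q * ψ m * (ψ q)⁻¹ = ψ m * ψ z := by
  rcases Q_comm q hq m hm with h1 | h1
  · left
    rw [← map_mul, h1, map_mul, mul_inv_cancel_right]
  · right
    rw [← map_mul, h1, map_mul, map_mul, mul_assoc (ψ m), h.cen, ← mul_assoc, mul_inv_cancel_right]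

/-- elements of `Q` stay in `Q` -/
theorem mem_Q {g : X} {m n : M7} (e : g * ψ m * g⁻¹ = ψ n) : n ∈ Q ↔ m ∈ Q := by
  obtain ⟨V, hV⟩ := h.exists_V1
  obtain ⟨W, hW⟩ := h.exists_V2
  have key : ∀ U : X →* ℤˣ, U (ψ n) = U (ψ m) := by
    intro U
    rw [← e, map_mul, map_mul, map_inv, mul_comm (U g), mul_inv_cancel_right]
  rw [Q_iff, Q_iff, ← hV, ← hW, ← hV, ← hW, key, key]

/-- `Q` is weakly closed -/
theorem weak {g : X} (hg : ∀ q ∈ Q, g * ψ q * g⁻¹ ∈ (P : Subgroup X)) (q : M7) (hq : q ∈ Q) :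
    ∃ q' ∈ Q, g * ψ q * g⁻¹ = ψ q' := by
  obtain ⟨q', hq'⟩ := h.emb.exists_eq (hg q hq)
  exact ⟨q', (h.mem_Q hq'.symm).2 hq, hq'.symm⟩

theorem map_Q_eq {g : X} (hg : (Q.map ψ).map (MulAut.conj g).toMonoidHom ≤ P) :
    (Q.map ψ).map (MulAut.conj g).toMonoidHom = Q.map ψ := by
  apply Subgroup.eq_of_le_of_card_ge
  · rintro _ ⟨_, ⟨q, hq, rfl⟩, rfl⟩
    obtain ⟨q', hq', e⟩ := h.weak (g := g) (fun q hq => hg ⟨_, ⟨q, hq, rfl⟩, rfl⟩) q hq
    exact ⟨q', hq', e.symm⟩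
  · have hinj : Function.Injective (MulAut.conj g).toMonoidHom := (MulAut.conj g).injective
    rw [Subgroup.card_map_of_injective hinj]

omit h [Finite X] in
theorem mem_of_map_eq {g : X} (hg : (Q.map ψ).map (MulAut.conj g).toMonoidHom = Q.map ψ) :
    g ∈ normalizer (Q.map ψ : Set X) := by
  rw [Subgroup.mem_normalizer_iff]
  intro x
  constructor
  · intro hx
    rw [← hg]
    exact ⟨x, hx, rfl⟩
  · intro hx
    rw [← hg] at hx
    obtain ⟨y, hy, e⟩ := hx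
    have h1 : y = x := (MulAut.conj g).injective e
    rwa [← h1]

/-- control of fusion in `Q / ⟨z⟩` -/
theorem control {M : Subgroup X} (hM : Q.map ψ ≤ M) {g : X} (hg : g ∈ M) {m n : M7} (hm : m ∈ Q)
    (e : g * ψ m * g⁻¹ = ψ n) :
    ∃ k ∈ M, k ∈ normalizer (Q.map ψ : Set X) ∧ (k * ψ m * k⁻¹ = ψ n ∨ k * ψ m * k⁻¹ = ψ (n * z)) := by
  have hn : n ∈ Q := (h.mem_Q e).2 hm
  have hzz : ψ z * ψ z = 1 := by rw [← map_mul, z_sq, map_one]
  have hz1 : ∀ g, g * ψ z * g⁻¹ = ψ z := fun g => by rw [h.cen, mul_inv_cancel_right]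
  -- the centraliser modulo `z`
  let D : Subgroup X :=
    { carrier := {y | y ∈ M ∧ (y * ψ n * y⁻¹ = ψ n ∨ y * ψ n * y⁻¹ = ψ n * ψ z)}
      one_mem' := ⟨M.one_mem, Or.inl (by group)⟩
      mul_mem' := by
        rintro a b ⟨ha, ha'⟩ ⟨hb, hb'⟩
        refine ⟨M.mul_mem ha hb, ?_⟩
        have h1 : a * b * ψ n * (a * b)⁻¹ = a * (b * ψ n * b⁻¹) * a⁻¹ := by group
        rw [h1]
        rcases hb' with hb' | hb' <;> rw [hb']
        · exact ha'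
        · have h2 : a * (ψ n * ψ z) * a⁻¹ = (a * ψ n * a⁻¹) * (a * ψ z * a⁻¹) := by group
          rw [h2, hz1]
          rcases ha' with ha' | ha' <;> rw [ha']
          · right; rfl
          · left; rw [mul_assoc, hzz, mul_one]
      inv_mem' := by
        rintro a ⟨ha, ha'⟩
        refine ⟨M.inv_mem ha, ?_⟩
        rcases ha' with ha' | ha'
        · left
          exact symm_conj ha'
        · right
          have h1 : ψ n = a⁻¹ * (ψ n * ψ z) * a⁻¹⁻¹ := (symm_conj ha').symm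
          have h2 : a⁻¹ * (ψ n * ψ z) * a⁻¹⁻¹ = (a⁻¹ * ψ n * a⁻¹⁻¹) * (a⁻¹ * ψ z * a⁻¹⁻¹) := by group
          rw [h2, hz1] at h1
          calc a⁻¹ * ψ n * a⁻¹⁻¹ = a⁻¹ * ψ n * a⁻¹⁻¹ * (ψ z * ψ z) := by rw [hzz, mul_one]
            _ = a⁻¹ * ψ n * a⁻¹⁻¹ * ψ z * ψ z := by rw [mul_assoc (a⁻¹ * ψ n * a⁻¹⁻¹)]
            _ = ψ n * ψ z := by rw [← h1] }
  have hQD : Q.map ψ ≤ D := by
    rintro _ ⟨q, hq, rfl⟩
    exact ⟨hM ⟨q, hq, rfl⟩, h.Q_conj hq hn⟩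
  have hQD' : (Q.map ψ).map (MulAut.conj g).toMonoidHom ≤ D := by
    rintro _ ⟨_, ⟨q, hq, rfl⟩, rfl⟩
    change g * ψ q * g⁻¹ ∈ D
    refine ⟨M.mul_mem (M.mul_mem hg (hM ⟨q, hq, rfl⟩)) (M.inv_mem hg), ?_⟩
    have h2 : g * ψ q * g⁻¹ * ψ n * (g * ψ q * g⁻¹)⁻¹ = g * (ψ q * ψ m * (ψ q)⁻¹) * g⁻¹ := by
      rw [← e]; group
    rw [h2]
    rcases h.Q_conj hq hm with h1 | h1 <;> rw [h1]
    · left
      exact e
    · right
      have h3 : g * (ψ m * ψ z) * g⁻¹ = g * ψ m * g⁻¹ * (g * ψ z * g⁻¹) := by group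
      rw [h3, hz1, e]
  have hp : IsPGroup 2 (Q.map ψ : Subgroup X) := P.isPGroup'.to_le (h.emb.map_le Q)
  obtain ⟨R, hQR, hRD, hR, hRi⟩ := Cfsg.Agent.Lib.GoldschmidtFusion.exists_sylow_in (p := 2) hQD hp
  obtain ⟨d, hd, hdR⟩ := Cfsg.Agent.Lib.GoldschmidtFusion.exists_conj_le_in hR hRi hQD' (hp.map _)
  obtain ⟨T, hT⟩ := hR.exists_le_sylow
  obtain ⟨x, hx⟩ := MulAction.exists_smul_eq X T P
  have hxR : ∀ y ∈ R, x * y * x⁻¹ ∈ (P : Subgroup X) := by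
    intro y hy
    rw [← hx, Sylow.coe_subgroup_smul]
    have := Subgroup.smul_mem_pointwise_smul _ (MulAut.conj x) _ (hT hy)
    simpa using this
  have h1 : (Q.map ψ).map (MulAut.conj x).toMonoidHom = Q.map ψ := by
    apply h.map_Q_eq
    rintro _ ⟨y, hy, rfl⟩
    exact hxR y (hQR hy)
  have h2 : (Q.map ψ).map (MulAut.conj (x * (d * g))).toMonoidHom = Q.map ψ := by
    apply h.map_Q_eq
    rintro _ ⟨y, hy, rfl⟩
    have h3 := hxR (d * (g * y * g⁻¹) * d⁻¹) (hdR ⟨_, ⟨y, hy, rfl⟩, rfl⟩)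
    have h4 : x * (d * (g * y * g⁻¹) * d⁻¹) * x⁻¹ = x * (d * g) * y * (x * (d * g))⁻¹ := by group
    rwa [h4] at h3
  have h3 := mem_of_map_eq h1
  have h4 := mem_of_map_eq h2
  have h5 : d * g ∈ normalizer (Q.map ψ : Set X) := by
    have h6 := mul_mem (inv_mem h3) h4
    rwa [inv_mul_cancel_left] at h6
  refine ⟨d * g, M.mul_mem hd.1 hg, h5, ?_⟩
  have h6 : d * g * ψ m * (d * g)⁻¹ = d * (g * ψ m * g⁻¹) * d⁻¹ := by group
  rw [h6, e, map_mul]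
  exact hd.2

end transfer

end Sep

end Cfsg.Agent.LFourB.StepSix
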