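import Cfsg.Agent.LFourB.StepSixInst
import Cfsg.Agent.Lib.AutSL2Out
import Cfsg.Agent.Lib.SylowNormalInf

/-!
# Type B5, case (a2): centralisers of the factors of `C(z)/O(C(z))`

Input: `CZL (φ z) F p K₁ K₂`, `SPos φ p K₁ K₂`.

* `two₁`, `two₂` : a 2-element centralising `K₁` lies in `K₂`, and conversely;
* `ker_cases` : if `|F|` is a prime, the elements normalising `K₁` and `K₂` lie in `K₁K₂ ∪ K₁K₂ s`;
* `cent₁`, `cent₂` : if `|F|` is a prime, `C(K₁) ≤ K₂` and `C(K₂) ≤ K₁`.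
-/

set_option autoImplicit false

namespace Cfsg.Agent.LFourB.StepSixFive

open Subgroup Cfsg.Agent.LFourB M7 StepSixModel StepSixOut
open Cfsg.Agent.LFourA.CzCt
open Cfsg.Agent.Lib.SL2Mat Cfsg.Agent.Lib.AutSL2 Cfsg.Agent.Lib.AutSL2Out

universe u

/-! ### Facts on `M7` -/

theorem cent_Q1 : ∀ m : M7, tU m = true → m * a1 = a1 * m → m * b1 = b1 * m → m ∈ Q2 := by decide +kernel
theorem cent_Q2 : ∀ m : M7, tU m = true → m * a2 = a2 * m → m * b2 = b2 * m → m ∈ Q1 := by decide +kernel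
theorem b1_mem : b1 ∈ Q1 := by decide
theorem a2_mem : a2 ∈ Q2 := by decide
theorem b2_mem : b2 ∈ Q2 := by decide
theorem a1_not : a1 ∉ Q2 := by decide
theorem a2_not : a2 ∉ Q1 := by decide

/-! ### Squares of automorphisms of `SL(2,F)`, `|F|` a prime -/

theorem ringEquiv_eq {F : Type*} [Field F] [Fintype F] (hF : (Fintype.card F).Prime) (σ : F ≃+* F) (x : F) :
    σ x = x := by
  have : Fact (Fintype.card F).Prime := ⟨hF⟩
  let e := ZMod.ringEquivOfPrime F hF rfl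
  have h1 : σ.toRingHom.comp e.toRingHom = e.toRingHom := RingHom.ext_zmod _ _
  have h2 := RingHom.congr_fun h1 (e.symm x)
  have h3 : σ (e (e.symm x)) = e (e.symm x) := h2
  rwa [e.apply_symm_apply] at h3

theorem sq_inner {F : Type*} [Field F] [Fintype F] (hF : (Fintype.card F).Prime)
    (α : MulAut (Matrix.SpecialLinearGroup (Fin 2) F)) :
    ∃ s : Matrix.SpecialLinearGroup (Fin 2) F, ∀ x, α (α x) = s * x * s⁻¹ := by
  obtain ⟨g, σ, rfl⟩ := exists_eq α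
  have h1 : fieldAut σ = 1 := by
    ext x i j
    exact ringEquiv_eq hF σ _
  rw [h1, mul_one]
  obtain ⟨s, hs⟩ := conjGL_of_det_sq (g * g) g.1.det (Matrix.GeneralLinearGroup.det g).ne_zero (by
    rw [pow_two]
    exact Matrix.det_mul _ _)
  refine ⟨s, fun x => ?_⟩
  rw [← hs, map_mul]
  rfl

theorem mem_norm {X : Type*} [Group X] [Finite X] {K : Subgroup X} {g : X} (h : ∀ x ∈ K, g * x * g⁻¹ ∈ K) :
    g ∈ normalizer (K : Set X) := by
  have h1 : K.map (MulAut.conj g).toMonoidHom = K := by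
    apply Subgroup.eq_of_le_of_card_ge
    · rintro _ ⟨x, hx, rfl⟩
      exact h x hx
    · have hinj : Function.Injective (MulAut.conj g).toMonoidHom := (MulAut.conj g).injective
      exact (Subgroup.card_map_of_injective hinj).ge
  rw [Subgroup.mem_normalizer_iff]
  intro x
  constructor
  · exact h x
  · intro hx
    rw [← h1] at hx
    obtain ⟨y, hy, e⟩ := hx
    have e' : g * y * g⁻¹ = g * x * g⁻¹ := e
    have e2 : y = x := mul_left_cancel (mul_right_cancel e')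
    rwa [← e2]

/-- the square of an element normalising `K` acts on `K` as an element of `K` -/
theorem exists_sq {X : Type*} [Group X] [Finite X] {K : Subgroup X} {F : Type*} [Field F] [Fintype F]
    (hF : (Fintype.card F).Prime) (e : K ≃* Matrix.SpecialLinearGroup (Fin 2) F) {g : X}
    (hg : ∀ x ∈ K, g * x * g⁻¹ ∈ K) : ∃ s ∈ K, ∀ y ∈ K, g * g * y * (g * g)⁻¹ = s * y * s⁻¹ := by
  obtain ⟨s, hs⟩ := sq_inner hF ((e.symm.trans (K.normalizerMonoidHom ⟨g, mem_norm hg⟩)).trans e)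
  refine ⟨e.symm s, (e.symm s).2, fun y hy => ?_⟩
  have h1 := congrArg e.symm (hs (e ⟨y, hy⟩))
  rw [map_mul, map_mul, map_inv, e.symm_apply_apply] at h1
  simp only [MulEquiv.trans_apply, MulEquiv.symm_apply_apply] at h1
  have h2 := congrArg Subtype.val h1
  have h3 : g * (g * y * g⁻¹) * g⁻¹ = (e.symm s : X) * y * (e.symm s : X)⁻¹ := h2
  rw [← h3]; group

section

variable {G X : Type*} [Group G] [Group X] [Finite X] {z' : G} {p : centralizer ({z'} : Set G) →* X}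
  {K₁ K₂ : Subgroup X} {F : Type*} [Field F] [Fintype F]

theorem sq_mem (hF : (Fintype.card F).Prime) (hC : CZL z' F p K₁ K₂) {g : X}
    (h1 : ∀ x ∈ K₁, g * x * g⁻¹ ∈ K₁) (h2 : ∀ x ∈ K₂, g * x * g⁻¹ ∈ K₂) : ∃ k₁ ∈ K₁, ∃ k₂ ∈ K₂, g * g = k₁ * k₂ := by
  obtain ⟨e₁⟩ := hC.e₁
  obtain ⟨e₂⟩ := hC.e₂
  obtain ⟨s₁, hs₁, a₁⟩ := exists_sq hF e₁ h1
  obtain ⟨s₂, hs₂, a₂⟩ := exists_sq hF e₂ h2
  have h3 := hC.cent (s₂⁻¹ * s₁⁻¹ * (g * g)) (by
    intro y hy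
    have e3 : s₂⁻¹ * s₁⁻¹ * (g * g) * y = s₂⁻¹ * s₁⁻¹ * (g * g * y * (g * g)⁻¹) * (g * g) := by group
    have e4 := hC.comm y hy (s₂⁻¹) (inv_mem hs₂)
    rw [e3, a₁ y hy]
    calc s₂⁻¹ * s₁⁻¹ * (s₁ * y * s₁⁻¹) * (g * g) = s₂⁻¹ * y * s₁⁻¹ * (g * g) := by group
      _ = y * s₂⁻¹ * s₁⁻¹ * (g * g) := by rw [e4]
      _ = _ := by group) (by
    intro y hy
    have e3 : s₂⁻¹ * s₁⁻¹ * (g * g) * y = s₂⁻¹ * s₁⁻¹ * (g * g * y * (g * g)⁻¹) * (g * g) := by group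
    have e4 := hC.comm (s₁⁻¹) (inv_mem hs₁) (s₂ * y * s₂⁻¹) (mul_mem (mul_mem hs₂ hy) (inv_mem hs₂))
    rw [e3, a₂ y hy]
    calc s₂⁻¹ * s₁⁻¹ * (s₂ * y * s₂⁻¹) * (g * g) = s₂⁻¹ * (s₁⁻¹ * (s₂ * y * s₂⁻¹)) * (g * g) := by group
      _ = s₂⁻¹ * (s₂ * y * s₂⁻¹ * s₁⁻¹) * (g * g) := by rw [e4]
      _ = _ := by group)
  have h4 : ∃ t ∈ K₂, s₂⁻¹ * s₁⁻¹ * (g * g) = t := by
    rcases h3 with h3 | h3
    · exact ⟨1, one_mem _, h3⟩
    · exact ⟨_, hC.z₂, h3⟩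
  obtain ⟨t, ht, e⟩ := h4
  refine ⟨s₁, hs₁, s₂ * t, mul_mem hs₂ ht, ?_⟩
  rw [← e]; group

/-- The join of two commuting subgroups is the set of products. -/
theorem mem_sup_comm {Y : Type*} [Group Y] {A B : Subgroup Y} (comm : ∀ x ∈ A, ∀ y ∈ B, x * y = y * x) {g : Y}
    (hg : g ∈ A ⊔ B) : ∃ x ∈ A, ∃ y ∈ B, g = x * y := by
  let H : Subgroup Y :=
    { carrier := {g | ∃ x ∈ A, ∃ y ∈ B, g = x * y}
      one_mem' := ⟨1, one_mem _, 1, one_mem _, (one_mul 1).symm⟩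
      mul_mem' := by
        rintro _ _ ⟨x, hx, y, hy, rfl⟩ ⟨x', hx', y', hy', rfl⟩
        refine ⟨x * x', mul_mem hx hx', y * y', mul_mem hy hy', ?_⟩
        rw [mul_assoc, ← mul_assoc y, ← comm x' hx' y hy, mul_assoc x' y, mul_assoc]
      inv_mem' := by
        rintro _ ⟨x, hx, y, hy, rfl⟩
        refine ⟨x⁻¹, inv_mem hx, y⁻¹, inv_mem hy, ?_⟩
        rw [mul_inv_rev, comm x⁻¹ (inv_mem hx) y⁻¹ (inv_mem hy)] }
  have h : A ⊔ B ≤ H := by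
    refine sup_le (fun x hx => ⟨x, hx, 1, one_mem _, (mul_one x).symm⟩) (fun y hy => ⟨1, one_mem _, y, hy, (one_mul y).symm⟩)
  exact h hg

end

section

variable {G X : Type*} [Group G] [Finite G] [Group X] [Finite X] {S : Sylow 2 G} {φ : M7 →* G}
  {p : centralizer ({φ z} : Set G) →* X} {K₁ K₂ : Subgroup X} {F : Type*} [Field F] [Fintype F]

omit [Finite G] [Finite X] in
theorem mem₁ (hS : SPos φ p K₁ K₂) {m : M7} (hm : m ∈ Q1) : p (res φ m) ∈ K₁ := by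
  obtain ⟨_, h⟩ := mem_up.1 (hS.q₁ m hm)
  exact h

omit [Finite G] [Finite X] in
theorem mem₂ (hS : SPos φ p K₁ K₂) {m : M7} (hm : m ∈ Q2) : p (res φ m) ∈ K₂ := by
  obtain ⟨_, h⟩ := mem_up.1 (hS.q₂ m hm)
  exact h

omit [Finite G] [Finite X] in
theorem of_mem₁ (hS : SPos φ p K₁ K₂) {m : M7} (hm : p (res φ m) ∈ K₁) : m ∈ Q1 :=
  hS.inf₁ m (mem_up.2 ⟨mem_cent φ m, hm⟩)

omit [Finite G] [Finite X] in
theorem of_mem₂ (hS : SPos φ p K₁ K₂) {m : M7} (hm : p (res φ m) ∈ K₂) : m ∈ Q2 :=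
  hS.inf₂ m (mem_up.2 ⟨mem_cent φ m, hm⟩)

omit [Finite X] in
/-- the Sylow subgroup of the quotient -/
theorem exists_sylow (h : Emb7 (S : Subgroup G) φ) (hp : Function.Surjective p) :
    ∃ P : Sylow 2 X, ∀ x, x ∈ P ↔ ∃ m, p (res φ m) = x := by
  have hle : (S : Subgroup G) ≤ centralizer ({φ z} : Set G) := by
    intro x hx
    obtain ⟨m, rfl⟩ := h.exists_eq hx
    exact mem_cent φ m
  refine ⟨(S.subtype hle).mapSurjective hp, fun x => ?_⟩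
  change x ∈ ((S.subtype hle : Sylow 2 (centralizer ({φ z} : Set G))) : Subgroup _).map p ↔ _
  constructor
  · rintro ⟨y, hy, rfl⟩
    have hy' : (y : G) ∈ (S : Subgroup G) := hy
    obtain ⟨m, hm⟩ := h.exists_eq hy'
    refine ⟨m, ?_⟩
    congr 1
    exact Subtype.ext hm
  · rintro ⟨m, rfl⟩
    exact ⟨res φ m, h.mem m, rfl⟩

omit [Finite G] [Finite X] in
theorem U_of_cent₁ (hS : SPos φ p K₁ K₂) {U : X →* ℤˣ}
    (hU : ∀ g, U g ≠ 1 → ∀ x, (x ∈ K₁ → g * x * g⁻¹ ∈ K₂) ∧ (x ∈ K₂ → g * x * g⁻¹ ∈ K₁)) {g : X}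
    (hg : ∀ x ∈ K₁, g * x = x * g) : U g = 1 := by
  by_contra h1
  have h2 := (hU g h1 _).1 (mem₁ hS a1_mem)
  rw [hg _ (mem₁ hS a1_mem), mul_inv_cancel_right] at h2
  exact a1_not (of_mem₂ hS h2)

omit [Finite G] [Finite X] in
theorem U_of_cent₂ (hS : SPos φ p K₁ K₂) {U : X →* ℤˣ}
    (hU : ∀ g, U g ≠ 1 → ∀ x, (x ∈ K₁ → g * x * g⁻¹ ∈ K₂) ∧ (x ∈ K₂ → g * x * g⁻¹ ∈ K₁)) {g : X}
    (hg : ∀ x ∈ K₂, g * x = x * g) : U g = 1 := by
  by_contra h1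
  have h2 := (hU g h1 _).2 (mem₂ hS a2_mem)
  rw [hg _ (mem₂ hS a2_mem), mul_inv_cancel_right] at h2
  exact a2_not (of_mem₁ hS h2)

/-- a 2-element is conjugate to an element of the Sylow subgroup -/
theorem exists_conj (h : Emb7 (S : Subgroup G) φ) (hp : Function.Surjective p) {x : X} {k : ℕ}
    (hx : x ^ 2 ^ k = 1) : ∃ (g : X) (m : M7), g * x * g⁻¹ = p (res φ m) := by
  obtain ⟨P, hP⟩ := exists_sylow h hp
  have f2 : Fact (Nat.Prime 2) := ⟨Nat.prime_two⟩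
  have h1 : IsPGroup 2 (zpowers x) := by
    obtain ⟨j, -, hj⟩ := (Nat.dvd_prime_pow Nat.prime_two).1 (orderOf_dvd_of_pow_eq_one hx)
    exact IsPGroup.of_card (n := j) (by rw [Nat.card_zpowers, hj])
  obtain ⟨Q, hQ⟩ := h1.exists_le_sylow
  obtain ⟨g, hg⟩ := MulAction.exists_smul_eq X Q P
  have h2 : g * x * g⁻¹ ∈ P := by
    rw [← hg]
    exact ⟨x, hQ (mem_zpowers x), rfl⟩
  obtain ⟨m, hm⟩ := (hP _).1 h2
  exact ⟨g, m, hm.symm⟩

omit [Finite X] in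
theorem comm_of {A : Subgroup X} {g x y : X} (hx : ∀ a ∈ A, x * a = a * x) (hg : g⁻¹ * y * g ∈ A) :
    g * x * g⁻¹ * y = y * (g * x * g⁻¹) := by
  have h1 := hx _ hg
  calc g * x * g⁻¹ * y = g * (x * (g⁻¹ * y * g)) * g⁻¹ := by group
    _ = g * (g⁻¹ * y * g * x) * g⁻¹ := by rw [h1]
    _ = y * (g * x * g⁻¹) := by group

/-- a 2-element centralising `K₁` lies in `K₂` -/
theorem two₁ (h : Emb7 (S : Subgroup G) φ) (hp : Function.Surjective p) (hinj : ∀ m n, p (res φ m) = p (res φ n) → m = n)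
    (hS : SPos φ p K₁ K₂) {x : X} {k : ℕ} (hk : x ^ 2 ^ k = 1) (hx : ∀ a ∈ K₁, x * a = a * x) : x ∈ K₂ := by
  obtain ⟨U, U1, U2, U3, -⟩ := hS.char
  obtain ⟨g, m, e⟩ := exists_conj h hp hk
  have hUx := U_of_cent₁ hS U3 hx
  have hUm : tU m = true := by
    rw [← U1, ← e, map_mul, map_mul, hUx, map_inv, mul_one, mul_inv_cancel]
  have hgi : ∀ y, g⁻¹ * y * g = g⁻¹ * y * g⁻¹⁻¹ := fun y => by rw [inv_inv]
  have back : x = g⁻¹ * p (res φ m) * g⁻¹⁻¹ := by rw [← e]; group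
  have hUg : U g = U g⁻¹ := by rw [map_inv]; rcases Int.units_eq_one_or (U g) with h1 | h1 <;> rw [h1] <;> rfl
  have key : ∀ n : M7, g⁻¹ * p (res φ n) * g ∈ K₁ → m * n = n * m := by
    intro n hn
    have h1 := comm_of hx hn
    rw [e, ← map_mul, ← map_mul, ← map_mul, ← map_mul] at h1
    exact hinj _ _ h1
  by_cases hg : U g = 1
  · have hm : m ∈ Q2 := by
      apply cent_Q1 m hUm
      · exact key _ (by rw [hgi]; exact (U2 g⁻¹ (hUg ▸ hg) _).1 (mem₁ hS a1_mem))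
      · exact key _ (by rw [hgi]; exact (U2 g⁻¹ (hUg ▸ hg) _).1 (mem₁ hS b1_mem))
    rw [back]
    exact (U2 g⁻¹ (hUg ▸ hg) _).2 (mem₂ hS hm)
  · have hm : m ∈ Q1 := by
      apply cent_Q2 m hUm
      · exact key _ (by rw [hgi]; exact (U3 g⁻¹ (hUg ▸ hg) _).2 (mem₂ hS a2_mem))
      · exact key _ (by rw [hgi]; exact (U3 g⁻¹ (hUg ▸ hg) _).2 (mem₂ hS b2_mem))
    rw [back]
    exact (U3 g⁻¹ (hUg ▸ hg) _).1 (mem₁ hS hm)

/-- a 2-element centralising `K₂` lies in `K₁` -/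
theorem two₂ (h : Emb7 (S : Subgroup G) φ) (hp : Function.Surjective p) (hinj : ∀ m n, p (res φ m) = p (res φ n) → m = n)
    (hS : SPos φ p K₁ K₂) {x : X} {k : ℕ} (hk : x ^ 2 ^ k = 1) (hx : ∀ a ∈ K₂, x * a = a * x) : x ∈ K₁ := by
  obtain ⟨U, U1, U2, U3, -⟩ := hS.char
  obtain ⟨g, m, e⟩ := exists_conj h hp hk
  have hUx := U_of_cent₂ hS U3 hx
  have hUm : tU m = true := by
    rw [← U1, ← e, map_mul, map_mul, hUx, map_inv, mul_one, mul_inv_cancel]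
  have hgi : ∀ y, g⁻¹ * y * g = g⁻¹ * y * g⁻¹⁻¹ := fun y => by rw [inv_inv]
  have back : x = g⁻¹ * p (res φ m) * g⁻¹⁻¹ := by rw [← e]; group
  have hUg : U g = U g⁻¹ := by rw [map_inv]; rcases Int.units_eq_one_or (U g) with h1 | h1 <;> rw [h1] <;> rfl
  have key : ∀ n : M7, g⁻¹ * p (res φ n) * g ∈ K₂ → m * n = n * m := by
    intro n hn
    have h1 := comm_of hx hn
    rw [e, ← map_mul, ← map_mul, ← map_mul, ← map_mul] at h1
    exact hinj _ _ h1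
  by_cases hg : U g = 1
  · have hm : m ∈ Q1 := by
      apply cent_Q2 m hUm
      · exact key _ (by rw [hgi]; exact (U2 g⁻¹ (hUg ▸ hg) _).2 (mem₂ hS a2_mem))
      · exact key _ (by rw [hgi]; exact (U2 g⁻¹ (hUg ▸ hg) _).2 (mem₂ hS b2_mem))
    rw [back]
    exact (U2 g⁻¹ (hUg ▸ hg) _).1 (mem₁ hS hm)
  · have hm : m ∈ Q2 := by
      apply cent_Q1 m hUm
      · exact key _ (by rw [hgi]; exact (U3 g⁻¹ (hUg ▸ hg) _).1 (mem₁ hS a1_mem))
      · exact key _ (by rw [hgi]; exact (U3 g⁻¹ (hUg ▸ hg) _).1 (mem₁ hS b1_mem))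
    rw [back]
    exact (U3 g⁻¹ (hUg ▸ hg) _).2 (mem₂ hS hm)

omit [Finite X] [Fintype F] in
theorem inj (h : Emb7 (S : Subgroup G) φ) (hC : CZL (φ z) F p K₁ K₂) {m n : M7} (e : p (res φ m) = p (res φ n)) :
    m = n := by
  have h1 : p (res φ (m * n⁻¹)) = 1 := by
    rw [map_mul, map_mul, map_inv, map_inv, e, mul_inv_cancel]
  have h2 : φ (m * n⁻¹) ∈ Cfsg.centralizerPPrimeCore 2 (φ z) := (hC.ker _).1 h1
  have h3 : (orderOf (φ (m * n⁻¹))).Coprime 2 := by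
    obtain ⟨y, hy, e2⟩ := h2
    have h4 : orderOf y ∣ Nat.card (Cfsg.pPrimeCore 2 ↥(centralizer ({φ z} : Set G))) := by
      have := orderOf_dvd_natCard (⟨y, hy⟩ : Cfsg.pPrimeCore 2 ↥(centralizer ({φ z} : Set G)))
      rwa [← Subgroup.orderOf_coe] at this
    have h5 : (Nat.card (Cfsg.pPrimeCore 2 ↥(centralizer ({φ z} : Set G)))).Coprime 2 :=
      Cfsg.Agent.Lib.Cores.pPrimeCore_coprime 2
    rw [← e2, Subgroup.coe_subtype, Subgroup.orderOf_coe]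
    exact Nat.Coprime.coprime_dvd_left h4 h5
  have h4 : m * n⁻¹ = 1 := by
    obtain ⟨k, hk⟩ := S.isPGroup' ⟨φ (m * n⁻¹), h.mem _⟩
    have hk' : φ (m * n⁻¹) ^ 2 ^ k = 1 := congrArg Subtype.val hk
    have h5 := orderOf_dvd_of_pow_eq_one hk'
    have h6 : orderOf (φ (m * n⁻¹)) = 1 :=
      Nat.eq_one_of_dvd_coprimes (Nat.Coprime.pow_right k h3) dvd_rfl h5
    exact h.inj (by rw [orderOf_eq_one_iff.1 h6, map_one])
  exact mul_inv_eq_one.1 h4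

theorem two (h : Emb7 (S : Subgroup G) φ) (hC : CZL (φ z) F p K₁ K₂) (hS : SPos φ p K₁ K₂) {x : X} {k : ℕ}
    (hk : x ^ 2 ^ k = 1) : ((∀ a ∈ K₁, x * a = a * x) → x ∈ K₂) ∧ ((∀ a ∈ K₂, x * a = a * x) → x ∈ K₁) :=
  ⟨two₁ h hC.surj (fun _ _ e => inj h hC e) hS hk, two₂ h hC.surj (fun _ _ e => inj h hC e) hS hk⟩

/-- the elements normalising `K₁` and `K₂`, `|F|` a prime -/
theorem ker_cases (hF : (Fintype.card F).Prime) (h : Emb7 (S : Subgroup G) φ) (hC : CZL (φ z) F p K₁ K₂)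
    (hS : SPos φ p K₁ K₂) {g : X} (h1 : ∀ x ∈ K₁, g * x * g⁻¹ ∈ K₁) :
    ∃ k₁ ∈ K₁, ∃ k₂ ∈ K₂, g = k₁ * k₂ ∨ g = k₁ * k₂ * p (res φ s) := by
  obtain ⟨U, U1, U2, U3, -⟩ := hS.char
  have hg : U g = 1 := by
    by_contra h2
    have h3 := (U3 g h2 _).1 (mem₁ hS a1_mem)
    have h4 := h1 _ (mem₁ hS a1_mem)
    have h5 : g * p (res φ a1) * g⁻¹ = g * p (res φ z) * g⁻¹ := by
      rcases hC.inf _ h4 h3 with e | e
      · exfalso
        have h6 : p (res φ a1) = p (res φ 1) := by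
          have h7 : g⁻¹ * (g * p (res φ a1) * g⁻¹) * g = p (res φ a1) := by group
          rw [← h7, e, map_one, map_one, mul_one, inv_mul_cancel]
        exact absurd (inj h hC h6) (by decide)
      · rw [e]
        have h7 : g * p (res φ z) = p (res φ z) * g := by
          obtain ⟨y, rfl⟩ := hC.surj g
          rw [← map_mul, ← map_mul]
          congr 1
          apply Subtype.ext
          exact mem_centralizer_singleton_iff.1 y.2
        rw [h7, mul_inv_cancel_right]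
        rfl
    exact absurd (inj h hC (mul_left_cancel (mul_right_cancel h5))) (by decide)
  obtain ⟨P, hP⟩ := exists_sylow h hC.surj
  have f2 : Fact (Nat.Prime 2) := ⟨Nat.prime_two⟩
  have hn : (K₁ ⊔ K₂).Normal := by
    refine ⟨fun y hy x => ?_⟩
    obtain ⟨a, ha, b, hb, rfl⟩ := mem_sup_comm hC.comm hy
    have e : x * (a * b) * x⁻¹ = (x * a * x⁻¹) * (x * b * x⁻¹) := by group
    rw [e]
    rcases hC.norm x with ⟨i1, i2⟩ | ⟨i1, i2⟩
    · exact mul_mem (mem_sup_left (i1 a ha)) (mem_sup_right (i2 b hb))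
    · exact mul_mem (mem_sup_right (i1 a ha)) (mem_sup_left (i2 b hb))
  have h2 := Cfsg.Agent.Lib.SylowNormalInf.le_sup_inf P U.ker (K₁ ⊔ K₂) (fun x hx => by
    refine ⟨1, ?_⟩
    rw [pow_one, pow_two]
    obtain ⟨k₁, hk₁, k₂, hk₂, e⟩ := sq_mem hF hC (fun y hy => (U2 x hx y).1 hy) (fun y hy => (U2 x hx y).2 hy)
    rw [e]
    exact mul_mem (mem_sup_left hk₁) (mem_sup_right hk₂))
  have h3 : g ∈ K₁ ⊔ K₂ ⊔ ((P : Subgroup X) ⊓ U.ker) := h2 hg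
  obtain ⟨y, hy, u, hu, e⟩ := Subgroup.mem_sup_of_normal_left.1 h3
  obtain ⟨m, hm⟩ := (hP u).1 hu.1
  have hUm : tU m = true := by
    rw [← U1, hm]
    exact hu.2
  have split : ∀ n : M7, n ∈ M7.Q → p (res φ n) ∈ K₁ ⊔ K₂ := by
    intro n hn
    obtain ⟨i1, i2⟩ := Q_split n hn
    have e3 : p (res φ n) = p (res φ (p1 n)) * p (res φ ((p1 n)⁻¹ * n)) := by
      rw [← map_mul, ← map_mul, mul_inv_cancel_left]
    rw [e3]
    exact mul_mem (mem_sup_left (mem₁ hS i1)) (mem_sup_right (mem₂ hS i2))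
  rcases tU_cases m hUm with h4 | h4
  · have h5 : g ∈ K₁ ⊔ K₂ := by
      rw [← e, ← hm]
      exact mul_mem hy (split m h4)
    obtain ⟨k₁, hk₁, k₂, hk₂, e4⟩ := mem_sup_comm hC.comm h5
    exact ⟨k₁, hk₁, k₂, hk₂, Or.inl e4⟩
  · have h5 : g * (p (res φ s))⁻¹ ∈ K₁ ⊔ K₂ := by
      rw [← e, ← hm, mul_assoc, ← map_inv, ← map_mul, ← map_inv, ← map_mul]
      exact mul_mem hy (split _ h4)
    obtain ⟨k₁, hk₁, k₂, hk₂, e4⟩ := mem_sup_comm hC.comm h5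
    exact ⟨k₁, hk₁, k₂, hk₂, Or.inr (by rw [← e4, inv_mul_cancel_right])⟩

/-- `C(K₁) ≤ K₂`, `|F|` a prime -/
theorem cent₁ (hF : (Fintype.card F).Prime) (h : Emb7 (S : Subgroup G) φ) (hC : CZL (φ z) F p K₁ K₂)
    (hS : SPos φ p K₁ K₂) {g : X} (hg : ∀ x ∈ K₁, g * x = x * g) : g ∈ K₂ := by
  obtain ⟨U, U1, U2, U3, -⟩ := hS.char
  have hU := U_of_cent₁ hS U3 hg
  obtain ⟨k₁, hk₁, k₂, hk₂, e⟩ := sq_mem hF hC (fun y hy => (U2 g hU y).1 hy) (fun y hy => (U2 g hU y).2 hy)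
  have h2 : g * g ∈ K₂ := by
    have h3 : k₁ ∈ K₂ := by
      have h4 : k₁ = g * g * k₂⁻¹ := by rw [e, mul_inv_cancel_right]
      have h5 := hC.cent k₁ (fun x hx => by
        have h6 := hC.comm x hx k₂⁻¹ (inv_mem hk₂)
        rw [h4, mul_assoc, ← h6, ← mul_assoc, mul_assoc g, hg x hx, ← mul_assoc, hg x hx, mul_assoc x, mul_assoc x])
        (fun x hx => hC.comm k₁ hk₁ x hx)
      rcases h5 with h5 | h5
      · rw [h5]; exact one_mem _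
      · rw [h5]; exact hC.z₂
    rw [e]
    exact mul_mem h3 hk₂
  obtain ⟨m, k, ⟨j, hj⟩, hk⟩ := MSevenFa.exists_odd_pow g
  have h3 : g ^ m ∈ K₂ := (two h hC hS hk).1 (fun a ha => (Commute.pow_left (hg a ha) m).eq)
  have h4 : g = (g * g) ^ (-(j : ℤ)) * g ^ m := by
    rw [hj, ← pow_two, ← zpow_natCast, ← zpow_natCast, ← zpow_mul, ← zpow_add]
    push_cast
    rw [show (2 : ℤ) * (-j) + (2 * j + 1) = 1 by ring, zpow_one]
  rw [h4]
  exact mul_mem (zpow_mem h2 _) h3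

/-- `C(K₂) ≤ K₁`, `|F|` a prime -/
theorem cent₂ (hF : (Fintype.card F).Prime) (h : Emb7 (S : Subgroup G) φ) (hC : CZL (φ z) F p K₁ K₂)
    (hS : SPos φ p K₁ K₂) {g : X} (hg : ∀ x ∈ K₂, g * x = x * g) : g ∈ K₁ := by
  obtain ⟨U, U1, U2, U3, -⟩ := hS.char
  have hU := U_of_cent₂ hS U3 hg
  obtain ⟨k₁, hk₁, k₂, hk₂, e⟩ := sq_mem hF hC (fun y hy => (U2 g hU y).1 hy) (fun y hy => (U2 g hU y).2 hy)
  have h2 : g * g ∈ K₁ := by
    have h3 : k₂ ∈ K₁ := by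
      have h4 : k₂ = k₁⁻¹ * (g * g) := by rw [e, inv_mul_cancel_left]
      have h5 := hC.cent k₂ (fun x hx => (hC.comm x hx k₂ hk₂).symm) (fun x hx => by
        have h6 := hC.comm k₁⁻¹ (inv_mem hk₁) x hx
        rw [h4, mul_assoc, mul_assoc g, hg x hx, ← mul_assoc g, hg x hx, mul_assoc x, ← mul_assoc, h6, mul_assoc])
      rcases h5 with h5 | h5
      · rw [h5]; exact one_mem _
      · rw [h5]; exact hC.z₁
    rw [e]
    exact mul_mem hk₁ h3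
  obtain ⟨m, k, ⟨j, hj⟩, hk⟩ := MSevenFa.exists_odd_pow g
  have h3 : g ^ m ∈ K₁ := (two h hC hS hk).2 (fun a ha => (Commute.pow_left (hg a ha) m).eq)
  have h4 : g = (g * g) ^ (-(j : ℤ)) * g ^ m := by
    rw [hj, ← pow_two, ← zpow_natCast, ← zpow_natCast, ← zpow_mul, ← zpow_add]
    push_cast
    rw [show (2 : ℤ) * (-j) + (2 * j + 1) = 1 by ring, zpow_one]
  rw [h4]
  exact mul_mem (zpow_mem h2 _) h3

end

end Cfsg.Agent.LFourB.StepSixFive
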