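import Cfsg.Agent.LFourB.StepSix
import Cfsg.Agent.LFourA.OddFree

/-!
# The two quaternion groups are strongly closed (S0510, type B5, step 6)
-/

set_option autoImplicit false

namespace Cfsg.Agent.LFourB.StepSixFus

open Subgroup Cfsg.Agent.LFourB M7 StepSixModel StepSix

/-- a homomorphism onto signs which is trivial on a Sylow 2-subgroup is trivial -/
theorem hom_trivial {Y : Type*} [Group Y] [Finite Y] (P : Sylow 2 Y) (W : Y →* ℤˣ)
    (h : ∀ p ∈ (P : Subgroup Y), W p = 1) (y : Y) : W y = 1 := by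
  have h1 : (P : Subgroup Y) ≤ W.ker := fun p hp => MonoidHom.mem_ker.2 (h p hp)
  have h2 : W.ker.index ∣ (P : Subgroup Y).index := Subgroup.index_dvd_of_le h1
  have h3 : ¬ 2 ∣ W.ker.index := fun h4 => P.not_dvd_index (h4.trans h2)
  have h4 : W.ker.index ∣ 2 := by
    rw [Subgroup.index_ker]
    have h5 : Nat.card W.range ∣ Nat.card ℤˣ := Subgroup.card_subgroup_dvd_card _
    have h6 : Nat.card ℤˣ = 2 := by rw [Nat.card_eq_fintype_card]; rfl
    rwa [h6] at h5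
  have h5 : W.ker.index = 1 := by
    rcases (Nat.dvd_prime Nat.prime_two).1 h4 with h5 | h5
    · exact h5
    · exact absurd (by rw [h5]) h3
  rw [Subgroup.index_eq_one] at h5
  have h6 : y ∈ W.ker := by rw [h5]; exact Subgroup.mem_top y
  exact h6

theorem units_mul {a b : ℤˣ} : a * b = 1 ↔ (a = 1 ↔ b = 1) := by
  rcases Int.units_eq_one_or a with rfl | rfl <;> rcases Int.units_eq_one_or b with rfl | rfl <;> decide

theorem units_eq {a b : ℤˣ} (h : a = 1 ↔ b = 1) : a = b := by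
  rcases Int.units_eq_one_or a with rfl | rfl <;> rcases Int.units_eq_one_or b with rfl | rfl
  · rfl
  · exact absurd (h.1 rfl) (by decide)
  · exact absurd (h.2 rfl) (by decide)
  · rfl

open Classical in
/-- the sign of a proposition -/
noncomputable def sgn (p : Prop) : ℤˣ := if p then 1 else -1

theorem sgn_iff {p : Prop} : sgn p = 1 ↔ p := by
  unfold sgn
  by_cases hp : p
  · simp [hp]
  · rw [if_neg hp]
    simp only [hp, iff_false]
    decide

theorem sgn_mul {p q r : Prop} (h : p ↔ (q ↔ r)) : sgn p = sgn q * sgn r := by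
  apply units_eq
  rw [units_mul, sgn_iff, sgn_iff, sgn_iff, h]

variable {X : Type*} [Group X] [Finite X] {P : Sylow 2 X} {ψ : M7 →* X} (h : Sep (P : Subgroup X) ψ)

/-- `U` is the character with kernel the normaliser of `Q1` in `P` -/
structure IsU (ψ : M7 →* X) (U : X →* ℤˣ) : Prop where
  iff : ∀ m : M7, U (ψ m) = 1 ↔ tU m = true

include h

theorem exists_U : ∃ U : X →* ℤˣ, IsU ψ U := by
  obtain ⟨V, hV⟩ := h.exists_V1
  obtain ⟨W, hW⟩ := h.exists_V2
  refine ⟨V * W, ⟨fun m => ?_⟩⟩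
  rw [MonoidHom.mul_apply, units_mul, hV, hW, tU_iff]

omit [Finite X] in
theorem conj_mul_iff {n : X} {a b a' b' c d c' d' : M7} (ea : n * ψ a * n⁻¹ = ψ a') (eb : n * ψ b * n⁻¹ = ψ b')
    (ec : n * ψ c * n⁻¹ = ψ c') (ed : n * ψ d * n⁻¹ = ψ d') : a * b = c * d ↔ a' * b' = c' * d' := by
  have h1 : ∀ {x y x' y' : M7}, n * ψ x * n⁻¹ = ψ x' → n * ψ y * n⁻¹ = ψ y' → ψ (x' * y') = n * ψ (x * y) * n⁻¹ := by
    intro x y x' y' hx hy
    rw [map_mul, ← hx, ← hy, map_mul]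
    group
  constructor
  · intro e
    apply h.psi_inj
    rw [h1 ea eb, h1 ec ed, e]
  · intro e
    apply h.psi_inj
    have h2 : n * ψ (a * b) * n⁻¹ = n * ψ (c * d) * n⁻¹ := by rw [← h1 ea eb, ← h1 ec ed, e]
    exact mul_left_cancel (mul_right_cancel h2)

omit [Finite X] in
theorem conj_z (n : X) : n * ψ z * n⁻¹ = ψ z := by rw [h.cen, mul_inv_cancel_right]

omit [Finite X] in
theorem sq_z {n : X} {a a' : M7} (ea : n * ψ a * n⁻¹ = ψ a') (ha : a * a = z) : a' * a' = z := by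
  have h1 := (conj_mul_iff h ea ea (conj_z h n) (by rw [map_one]; group : n * ψ 1 * n⁻¹ = ψ 1)).1 (by rw [ha, mul_one])
  rwa [mul_one] at h1

theorem side_conj {n : X} {a b a' b' : M7} (ha : a ∈ Q) (ha2 : a * a = z) (hb : b ∈ Q) (hb2 : b * b = z)
    (ea : n * ψ a * n⁻¹ = ψ a') (eb : n * ψ b * n⁻¹ = ψ b') :
    (a ∈ Q1 ↔ b ∈ Q1) ↔ (a' ∈ Q1 ↔ b' ∈ Q1) := by
  have h1 : n * ψ 1 * n⁻¹ = ψ 1 := by rw [map_one]; group
  rw [side a ha ha2 b hb hb2, side a' ((h.mem_Q ea).2 ha) (sq_z h ea ha2) b' ((h.mem_Q eb).2 hb) (sq_z h eb hb2)]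
  have h2 := conj_mul_iff h ea eb eb ea
  have h3 := conj_mul_iff h eb h1 ea h1
  have h4 := conj_mul_iff h eb h1 ea (conj_z h n)
  rw [mul_one, mul_one, mul_one, mul_one] at h3
  rw [mul_one, mul_one] at h4
  rw [Ne, Ne, h2, h3, h4]

/-- the normaliser of `Q` and its character -/
theorem exists_W : ∃ W : normalizer (Q.map ψ : Set X) →* ℤˣ, ∀ n, (W n = 1 ↔ ∃ b ∈ Q1, (n : X) * ψ a1 * (n : X)⁻¹ = ψ b) := by
  have him : ∀ (n : normalizer (Q.map ψ : Set X)) (a : M7), a ∈ Q → ∃ b ∈ Q, (n : X) * ψ a * (n : X)⁻¹ = ψ b := by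
    intro n a ha
    obtain ⟨b, hb, e⟩ := (Subgroup.mem_normalizer_iff.1 n.2 (ψ a)).1 ⟨a, ha, rfl⟩
    exact ⟨b, hb, e.symm⟩
  refine ⟨{ toFun := fun n => sgn (∃ b ∈ Q1, (n : X) * ψ a1 * (n : X)⁻¹ = ψ b)
            map_one' := sgn_iff.2 ⟨a1, a1_mem, by simp⟩
            map_mul' := ?_ }, ?_⟩
  · intro n n'
    obtain ⟨c, hc, ec⟩ := him n' a1 (Q1_le _ a1_mem)
    obtain ⟨d, hd, ed⟩ := him n c hc
    obtain ⟨b, hb, eb⟩ := him n a1 (Q1_le _ a1_mem)
    have e1 : ((n * n' : normalizer (Q.map ψ : Set X)) : X) * ψ a1 * ((n * n' : normalizer (Q.map ψ : Set X)) : X)⁻¹ = ψ d := by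
      rw [← ed, ← ec, Subgroup.coe_mul]
      group
    have key : ∀ {x : X} {c : M7}, x * ψ a1 * x⁻¹ = ψ c → ((∃ b ∈ Q1, x * ψ a1 * x⁻¹ = ψ b) ↔ c ∈ Q1) := by
      intro x c hx
      constructor
      · rintro ⟨b, hb, e⟩
        rw [hx] at e
        rwa [h.psi_inj e]
      · intro hc
        exact ⟨c, hc, hx⟩
    apply sgn_mul
    rw [key e1, key ec, key eb]
    have h1 := side_conj h (Q1_le _ a1_mem) a1_sq hc (sq_z h ec a1_sq) eb ed
    simp only [a1_mem, true_iff] at h1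
    tauto
  · intro n
    exact sgn_iff

theorem P_le_normalizer : (P : Subgroup X) ≤ normalizer (Q.map ψ : Set X) := by
  intro g hg
  apply Sep.mem_of_map_eq
  apply h.map_Q_eq
  rintro _ ⟨_, ⟨q, hq, rfl⟩, rfl⟩
  exact mul_mem (mul_mem hg (h.emb.mem q)) (inv_mem hg)

/-- elements of the kernel normalising `Q` preserve the two quaternion groups -/
theorem keep {U : X →* ℤˣ} (hU : IsU ψ U) {n : X} (hn : n ∈ normalizer (Q.map ψ : Set X)) (hUn : U n = 1)
    {a a' : M7} (ha : a ∈ Q) (ha2 : a * a = z) (ea : n * ψ a * n⁻¹ = ψ a') : a' ∈ Q1 ↔ a ∈ Q1 := by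
  obtain ⟨W, hW⟩ := exists_W h
  let N : Subgroup X := normalizer (Q.map ψ : Set X)
  have hPN : (P : Subgroup X) ≤ N := P_le_normalizer h
  have h1 := hom_trivial (P.subtype hPN) (W * U.comp N.subtype) (by
    intro p hp
    obtain ⟨m, hm⟩ := h.emb.exists_eq (show (p : X) ∈ (P : Subgroup X) from hp)
    rw [MonoidHom.mul_apply, units_mul, hW, MonoidHom.comp_apply]
    change _ ↔ U (p : X) = 1
    rw [← hm, hU.iff]
    constructor
    · rintro ⟨b, hb, e⟩
      by_contra hcon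
      rw [Bool.not_eq_true] at hcon
      have h2 := swap1 a1 a1_mem m hcon
      rw [← map_inv, ← map_mul, ← map_mul] at e
      rw [h.psi_inj e] at h2
      have h3 : b * b = z := by
        rw [← h.psi_inj e]
        have h4 : m * a1 * m⁻¹ * (m * a1 * m⁻¹) = m * (a1 * a1) * m⁻¹ := by group
        rw [h4, a1_sq, z_comm, mul_inv_cancel_right]
      exact (four_cases b (Q1_le b hb) h3).1 hb h2
    · intro hm'
      exact ⟨m * a1 * m⁻¹, keep1 a1 a1_mem m hm', by rw [map_mul, map_mul, map_inv]⟩) ⟨n, hn⟩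
  rw [MonoidHom.mul_apply, units_mul, hW, MonoidHom.comp_apply] at h1
  obtain ⟨b, hb, eb⟩ := h1.2 hUn
  have h2 := side_conj h ha ha2 (Q1_le _ a1_mem) a1_sq ea eb
  simp only [a1_mem, hb, iff_true] at h2
  exact h2.symm

/-- strong closure of `Q1` and `Q2` modulo `z` -/
theorem closed {U : X →* ℤˣ} (hU : IsU ψ U) {g : X} (hg : U g = 1) {a n : M7} (ha : a ∈ Q)
    (e : g * ψ a * g⁻¹ = ψ n) : (a ∈ Q1 → n ∈ Q1) ∧ (a ∈ Q2 → n ∈ Q2) := by
  have hn : n ∈ Q := (h.mem_Q e).2 ha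
  by_cases h1 : a = 1
  · subst h1
    rw [map_one, mul_one, mul_inv_cancel, ← map_one ψ] at e
    rw [← h.psi_inj e]
    exact ⟨id, id⟩
  by_cases h2 : a = z
  · subst h2
    rw [conj_z h] at e
    rw [← h.psi_inj e]
    exact ⟨id, id⟩
  have hQM : Q.map ψ ≤ U.ker := by
    rintro _ ⟨q, hq, rfl⟩
    exact (hU.iff q).2 (tU_Q q hq)
  have hzz : z * z = 1 := z_sq
  have hnz1 : n * z ∈ Q1 → n ∈ Q1 := fun hh => by
    have h3 := Q1.mul_mem hh z_mem_Q1
    rwa [mul_assoc, hzz, mul_one] at h3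
  have hnz2 : n * z ∈ Q2 → n ∈ Q2 := fun hh => by
    have h3 := Q2.mul_mem hh z_mem_Q2
    rwa [mul_assoc, hzz, mul_one] at h3
  rcases Q_sq a ha with ha2 | ha2
  · exact ⟨fun hh => by rcases Q1_four a hh with h3 | h3 | h3
                        · exact absurd h3 h1
                        · exact absurd h3 h2
                        · rw [ha2] at h3; exact absurd h3.symm z_ne,
      fun hh => by rcases Q2_four a hh with h3 | h3 | h3
                   · exact absurd h3 h1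
                   · exact absurd h3 h2
                   · rw [ha2] at h3; exact absurd h3.symm z_ne⟩
  obtain ⟨k, hk, hkN, hk'⟩ := h.control hQM (show g ∈ U.ker from hg) ha e
  rcases hk' with e' | e'
  · have h3 := keep h hU hkN hk ha ha2 e'
    refine ⟨h3.2, fun hh => ?_⟩
    by_contra hcon
    have h4 := (four_cases n hn (sq_z h e ha2)).2 hcon
    exact (four_cases a ha ha2).1 (h3.1 h4) hh
  · have h3 := keep h hU hkN hk ha ha2 e'
    refine ⟨fun hh => hnz1 (h3.2 hh), fun hh => hnz2 ?_⟩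
    by_contra hcon
    have h4 := (four_cases (n * z) (Q.mul_mem hn z_mem_Q) (sq_z h e' ha2)).2 hcon
    exact (four_cases a ha ha2).1 (h3.1 h4) hh

omit h [Finite X] in
/-- fusion of the involutions of `Q`, in the kernel of `U` -/
theorem invol {U : X →* ℤˣ} (hU : IsU ψ U) (hze : ∃ g : X, g * ψ x1 * g⁻¹ = ψ ze)
    (hy : ∃ g : X, g * ψ x1 * g⁻¹ = ψ y1) (hf : ∃ g : X, g * ψ x1 * g⁻¹ = ψ f)
    {m : M7} (hm : m ∈ Q) (hm2 : m * m = 1) (hm1 : m ≠ 1) (hmz : m ≠ z) :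
    ∃ g : X, U g = 1 ∧ g * ψ x1 * g⁻¹ = ψ m := by
  have key : ∃ g : X, g * ψ x1 * g⁻¹ = ψ m := by
    have h1 : ∀ c : M7, (∃ g : X, g * ψ x1 * g⁻¹ = ψ c) → (∃ t : M7, t * c * t⁻¹ = m) → ∃ g : X, g * ψ x1 * g⁻¹ = ψ m := by
      rintro c ⟨g, hg⟩ ⟨t, rfl⟩
      refine ⟨ψ t * g, ?_⟩
      rw [map_mul, map_mul, map_inv, ← hg]
      group
    rcases classes m hm hm2 hm1 hmz with h2 | h2 | h2 | h2
    · exact h1 _ hze h2
    · exact h1 _ ⟨1, by group⟩ h2
    · exact h1 _ hy h2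
    · exact h1 _ hf h2
  obtain ⟨g, hg⟩ := key
  by_cases hUg : U g = 1
  · exact ⟨g, hUg, hg⟩
  · refine ⟨g * ψ x2, ?_, ?_⟩
    · rw [map_mul, units_mul]
      refine iff_of_false hUg ?_
      rw [hU.iff, tU_x2]
      decide
    · have h2 : g * ψ x2 * ψ x1 * (g * ψ x2)⁻¹ = g * (ψ (x2 * x1) * (ψ x2)⁻¹) * g⁻¹ := by rw [map_mul]; group
      rw [h2, x1_x2, map_mul, mul_inv_cancel_right, hg]

end Cfsg.Agent.LFourB.StepSixFus
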