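import Cfsg.Agent.LFourB.MSevenDef

/-!
# The group `M7`: the two quaternion subgroups of `Q` (S0510, type B5, step 6)
-/

set_option autoImplicit false

namespace Cfsg.Agent.LFourB.StepSixModel

open Cfsg.Agent.LFourB K4 M7

/-- test for the first quaternion group -/
def t1 (x : M7) : Bool := K4.pr x.a && K4.pr x.b && (z0 (x.a + x.b) == !x.e) && (K4.pr x.c == !x.e)
/-- test for the second quaternion group -/
def t2 (x : M7) : Bool := K4.pr x.a && z0 (x.a + x.b) && (K4.pr x.c == (z0 x.a == !x.e))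
/-- test for the class of `x2` -/
def cx (x : M7) : Bool := !K4.pr x.a && z0 x.b && !x.e
/-- test for the class of `y2` -/
def cy (x : M7) : Bool := z0 x.a && !K4.pr x.b && !x.e
/-- test for the subgroup `V1 ⊓ Q` of order 8 -/
def tB (x : M7) : Bool := K4.pr x.a && z0 x.b && !x.e

def Q1 : Subgroup M7 := sub t1 (by decide) (by decide +kernel) (by decide +kernel)
def Q2 : Subgroup M7 := sub t2 (by decide) (by decide +kernel) (by decide +kernel)
def B1 : Subgroup M7 := sub tB (by decide) (by decide +kernel) (by decide +kernel)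

instance : DecidablePred (· ∈ Q1) := fun x => inferInstanceAs (Decidable (t1 x = true))
instance : DecidablePred (· ∈ Q2) := fun x => inferInstanceAs (Decidable (t2 x = true))
instance : DecidablePred (· ∈ B1) := fun x => inferInstanceAs (Decidable (tB x = true))

/-- a conjugating element -/
def kx (m : M7) : M7 := ⟨o, m.c * m.a * m.a, o, z0 (m.a + v)⟩
def ky (m : M7) : M7 := ⟨m.c * m.b * m.b, o, o, z0 (m.b + v)⟩

theorem conj_kx : ∀ m : M7, cx m = true → kx m * x2 * (kx m)⁻¹ = m := by decide +kernel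
theorem conj_ky : ∀ m : M7, cy m = true → ky m * y2 * (ky m)⁻¹ = m := by decide +kernel

theorem inv_cases : ∀ m : M7, m * m = 1 → m ∈ Q ∨ cx m = true ∨ cy m = true := by decide +kernel

theorem cx_not_R1 : ∀ m : M7, cx m = true → m ∉ R1 := by decide +kernel
theorem cx_R2 : ∀ m : M7, cx m = true → m ∈ R2 := by decide +kernel
theorem cy_R1 : ∀ m : M7, cy m = true → m ∈ R1 := by decide +kernel
theorem cy_not_R2 : ∀ m : M7, cy m = true → m ∉ R2 := by decide +kernel
theorem Q_iff : ∀ m : M7, m ∈ Q ↔ m ∈ R1 ∧ m ∈ R2 := by decide +kernel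
theorem cx_not_Q : ∀ m : M7, cx m = true → m ∉ Q := by decide +kernel
theorem cy_not_Q : ∀ m : M7, cy m = true → m ∉ Q := by decide +kernel
theorem cx_not_cy : ∀ m : M7, cx m = true → cy m = false := by decide +kernel
theorem cx_x2 : cx x2 = true := by decide
theorem cy_y2 : cy y2 = true := by decide

/-- decomposition into involutions -/
theorem decomp : ∀ m : M7, m = ⟨o, o, m.c, false⟩ * ⟨o, m.b, o, false⟩ * ⟨m.a, o, o, false⟩ * ⟨o, o, o, m.e⟩ := by
  decide +kernel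
theorem sq_c : ∀ x : K4, (⟨o, o, x, false⟩ : M7) * ⟨o, o, x, false⟩ = 1 := by decide +kernel
theorem sq_b : ∀ x : K4, (⟨o, x, o, false⟩ : M7) * ⟨o, x, o, false⟩ = 1 := by decide +kernel
theorem sq_a : ∀ x : K4, (⟨x, o, o, false⟩ : M7) * ⟨x, o, o, false⟩ = 1 := by decide +kernel
theorem sq_e : ∀ x : Bool, (⟨o, o, o, x⟩ : M7) * ⟨o, o, o, x⟩ = 1 := by decide +kernel
theorem c_mem : ∀ x : K4, (⟨o, o, x, false⟩ : M7) ∈ Q := by decide +kernel
theorem e_mem : ∀ x : Bool, (⟨o, o, o, x⟩ : M7) ∈ Q := by decide +kernel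
theorem b_mem : ∀ x : K4, (⟨o, x, o, false⟩ : M7) ∈ R1 := by decide +kernel
theorem a_mem : ∀ x : K4, (⟨x, o, o, false⟩ : M7) ∈ R2 := by decide +kernel
theorem a_iff : ∀ m : M7, (⟨m.a, o, o, false⟩ : M7) ∈ R1 ↔ m ∈ R1 := by decide +kernel
theorem b_iff : ∀ m : M7, (⟨o, m.b, o, false⟩ : M7) ∈ R2 ↔ m ∈ R2 := by decide +kernel

theorem R1_xor : ∀ m : M7, Xor (m * x2 ∈ R1) (m ∈ R1) := by decide +kernel
theorem R2_xor : ∀ m : M7, Xor (m * y2 ∈ R2) (m ∈ R2) := by decide +kernel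

theorem index_R1 : R1.index = 2 := Subgroup.index_eq_two_iff.2 ⟨x2, fun b => R1_xor b⟩
theorem index_R2 : R2.index = 2 := Subgroup.index_eq_two_iff.2 ⟨y2, fun b => R2_xor b⟩

theorem Q1_le : ∀ m : M7, m ∈ Q1 → m ∈ Q := by decide +kernel
theorem Q2_le : ∀ m : M7, m ∈ Q2 → m ∈ Q := by decide +kernel
theorem B1_le : ∀ m : M7, m ∈ B1 → m ∈ Q := by decide +kernel
theorem B1_le_V1 : ∀ m : M7, m ∈ B1 → m ∈ V1 := by decide +kernel
theorem z_mem_Q1 : z ∈ Q1 := by decide
theorem z_mem_Q2 : z ∈ Q2 := by decide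
theorem z_mem_B1 : z ∈ B1 := by decide
theorem z_mem_Q : z ∈ Q := by decide
theorem z_ne : z ≠ 1 := by decide
theorem z_sq : z * z = 1 := by decide
theorem z_comm : ∀ m : M7, m * z = z * m := by decide +kernel
theorem Q_sq : ∀ m : M7, m ∈ Q → m * m = 1 ∨ m * m = z := by decide +kernel
theorem Q1_Q2 : ∀ m : M7, m ∈ Q1 → m ∈ Q2 → m = 1 ∨ m = z := by decide +kernel
theorem Q1_B1 : ∀ m : M7, m ∈ Q1 → m ∈ B1 → m = 1 ∨ m = z := by decide +kernel
theorem Q2_B1 : ∀ m : M7, m ∈ Q2 → m ∈ B1 → m = 1 ∨ m = z := by decide +kernel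
theorem Q1_four : ∀ m : M7, m ∈ Q1 → m = 1 ∨ m = z ∨ m * m = z := by decide +kernel
theorem Q2_four : ∀ m : M7, m ∈ Q2 → m = 1 ∨ m = z ∨ m * m = z := by decide +kernel
theorem four_cases : ∀ m : M7, m ∈ Q → m * m = z → (m ∈ Q1 ↔ m ∉ Q2) := by decide +kernel

set_option maxRecDepth 10000 in
theorem side : ∀ x : M7, x ∈ Q → x * x = z → ∀ y : M7, y ∈ Q → y * y = z →
    ((x ∈ Q1 ↔ y ∈ Q1) ↔ (x * y ≠ y * x ∨ y = x ∨ y = x * z)) := by decide +kernel

set_option maxRecDepth 10000 in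
theorem Q_comm : ∀ x : M7, x ∈ Q → ∀ y : M7, y ∈ Q → x * y = y * x ∨ x * y = y * x * z := by decide +kernel

theorem card_filter {p : M7 → Prop} [DecidablePred p] (A : Subgroup M7) (h : ∀ m, m ∈ A ↔ p m) :
    Nat.card A = (Finset.univ.filter p).card := by
  have h1 : Nat.card A = Nat.card {m // p m} := Nat.card_congr (Equiv.subtypeEquivRight h)
  rw [h1, Nat.card_eq_fintype_card, Fintype.card_subtype]

theorem card_le_filter {p : M7 → Prop} [DecidablePred p] (A : Subgroup M7) (h : ∀ m ∈ A, p m) :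
    Nat.card A ≤ (Finset.univ.filter p).card := by
  classical
  have h1 : Nat.card A = (Finset.univ.filter (· ∈ A)).card := card_filter A (fun _ => Iff.rfl)
  rw [h1]
  refine Finset.card_le_card fun m hm => ?_
  rw [Finset.mem_filter] at hm ⊢
  exact ⟨hm.1, h m hm.2⟩

theorem card_Q : Nat.card Q = 32 := by
  rw [card_filter Q (p := (· ∈ Q)) (fun _ => Iff.rfl)]; decide +kernel
theorem card_V1 : Nat.card V1 = 16 := by
  rw [card_filter V1 (p := (· ∈ V1)) (fun _ => Iff.rfl)]; decide +kernel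

theorem card_T : ∀ m : M7, m ∉ Q → (m * m = 1 ∨ m * m = z) →
    (Finset.univ.filter (fun n : M7 => (n * n = 1 ∨ n * n = z) ∧ (m * n = n * m ∨ m * n = n * m * z))).card < 32 := by
  decide +kernel

/-- `Q / ⟨z⟩` is the only elementary abelian subgroup of order 16 of `M7 / ⟨z⟩` -/
theorem Q_unique (A : Subgroup M7) (hA : ∀ a ∈ A, a * a = 1 ∨ a * a = z)
    (hcomm : ∀ a ∈ A, ∀ b ∈ A, a * b = b * a ∨ a * b = b * a * z) (hc : 32 ≤ Nat.card A) : A = Q := by
  refine Subgroup.eq_of_le_of_card_ge ?_ ?_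
  · intro m hm
    by_contra hmQ
    have h1 := card_T m hmQ (hA m hm)
    have h2 := card_le_filter A
      (p := fun n : M7 => (n * n = 1 ∨ n * n = z) ∧ (m * n = n * m ∨ m * n = n * m * z))
      (fun n hn => ⟨hA n hn, hcomm m hm n hn⟩)
    omega
  · rw [card_Q]
    exact hc

/-! ### Pure elements -/

/-- normalising the two quaternion groups -/
def tU (x : M7) : Bool := K4.pr x.a == K4.pr x.b

theorem tU_iff : ∀ m : M7, tU m = true ↔ (m ∈ R1 ↔ m ∈ R2) := by decide +kernel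
theorem tU_Q : ∀ m : M7, m ∈ Q → tU m = true := by decide +kernel
theorem tU_x2 : tU x2 = false := by decide

set_option maxRecDepth 10000 in
theorem keep1 : ∀ q : M7, q ∈ Q1 → ∀ m : M7, tU m = true → m * q * m⁻¹ ∈ Q1 := by decide +kernel
set_option maxRecDepth 10000 in
theorem keep2 : ∀ q : M7, q ∈ Q2 → ∀ m : M7, tU m = true → m * q * m⁻¹ ∈ Q2 := by decide +kernel
set_option maxRecDepth 10000 in
theorem swap1 : ∀ q : M7, q ∈ Q1 → ∀ m : M7, tU m = false → m * q * m⁻¹ ∈ Q2 := by decide +kernel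
set_option maxRecDepth 10000 in
theorem swap2 : ∀ q : M7, q ∈ Q2 → ∀ m : M7, tU m = false → m * q * m⁻¹ ∈ Q1 := by decide +kernel

/-- an element of order 4 of `Q1` -/
def a1 : M7 := ⟨i, i, o, false⟩
def b1 : M7 := ⟨o, i, w, true⟩
def a2 : M7 := ⟨i, i, v, false⟩
def b2 : M7 := ⟨o, o, w, true⟩
def s : M7 := ⟨w, w, o, false⟩

theorem a1_mem : a1 ∈ Q1 := by decide
theorem a1_sq : a1 * a1 = z := by decide
theorem x1_x2 : x2 * x1 = x1 * x2 := by decide

local instance (priority := high) decExists (p : M7 → Prop) [DecidablePred p] : Decidable (∃ x, p x) :=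
  decidable_of_iff (∃ a b c : K4, p ⟨a, b, c, false⟩ ∨ p ⟨a, b, c, true⟩)
    ⟨fun ⟨a, b, c, h⟩ => by
      rcases h with h | h
      · exact ⟨_, h⟩
      · exact ⟨_, h⟩,
      fun ⟨⟨a, b, c, e⟩, h⟩ => by
        cases e
        · exact ⟨a, b, c, Or.inl h⟩
        · exact ⟨a, b, c, Or.inr h⟩⟩

theorem classes : ∀ m : M7, m ∈ Q → m * m = 1 → m ≠ 1 → m ≠ z →
    (∃ t : M7, t * ze * t⁻¹ = m) ∨ (∃ t : M7, t * x1 * t⁻¹ = m) ∨ (∃ t : M7, t * y1 * t⁻¹ = m) ∨
      (∃ t : M7, t * f * t⁻¹ = m) := by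
  decide +kernel

/-! ### The homomorphisms from the quaternion group -/

/-- the first quaternion group -/
def fq1 : QuaternionGroup (2 ^ 1) → M7
  | .a j => a1 ^ (ZMod.val j)
  | .xa j => b1 * a1 ^ (ZMod.val j)

/-- the second quaternion group -/
def fq2 : QuaternionGroup (2 ^ 1) → M7
  | .a j => a2 ^ (ZMod.val j)
  | .xa j => b2 * a2 ^ (ZMod.val j)

instance : NeZero (2 * 2 ^ 1) := ⟨by decide⟩

def q1 : QuaternionGroup (2 ^ 1) →* M7 where
  toFun := fq1
  map_one' := by decide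
  map_mul' := by
    rintro (x | x) (y | y)
    · revert x y; decide +kernel
    · revert x y; decide +kernel
    · revert x y; decide +kernel
    · revert x y; decide +kernel

def q2 : QuaternionGroup (2 ^ 1) →* M7 where
  toFun := fq2
  map_one' := by decide
  map_mul' := by
    rintro (x | x) (y | y)
    · revert x y; decide +kernel
    · revert x y; decide +kernel
    · revert x y; decide +kernel
    · revert x y; decide +kernel

theorem q1_inj : Function.Injective q1 := by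
  rw [injective_iff_map_eq_one]
  rintro (x | x)
  · revert x; decide +kernel
  · revert x; decide +kernel
theorem q2_inj : Function.Injective q2 := by
  rw [injective_iff_map_eq_one]
  rintro (x | x)
  · revert x; decide +kernel
  · revert x; decide +kernel
theorem q1_z : q1 (.a ((2 ^ 1 : ℕ) : ZMod (2 * 2 ^ 1))) = z := by decide
theorem q2_z : q2 (.a ((2 ^ 1 : ℕ) : ZMod (2 * 2 ^ 1))) = z := by decide
theorem q1_mem : ∀ x, q1 x ∈ Q1 := by
  rintro (x | x)
  · revert x; decide +kernel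
  · revert x; decide +kernel
theorem q2_mem : ∀ x, q2 x ∈ Q2 := by
  rintro (x | x)
  · revert x; decide +kernel
  · revert x; decide +kernel
theorem Q1_cases : ∀ m : M7, m ∈ Q1 → ∃ (e : Bool) (j : ZMod (2 * 2 ^ 1)), m = b1 ^ (e.toNat) * a1 ^ (ZMod.val j) := by
  decide +kernel
theorem Q2_cases : ∀ m : M7, m ∈ Q2 → ∃ (e : Bool) (j : ZMod (2 * 2 ^ 1)), m = b2 ^ (e.toNat) * a2 ^ (ZMod.val j) := by
  decide +kernel
theorem exists_q1 {m : M7} (hm : m ∈ Q1) : ∃ x, q1 x = m := by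
  obtain ⟨e, j, rfl⟩ := Q1_cases m hm
  cases e
  · exact ⟨.a j, (one_mul _).symm⟩
  · exact ⟨.xa j, rfl⟩
theorem exists_q2 {m : M7} (hm : m ∈ Q2) : ∃ x, q2 x = m := by
  obtain ⟨e, j, rfl⟩ := Q2_cases m hm
  cases e
  · exact ⟨.a j, (one_mul _).symm⟩
  · exact ⟨.xa j, rfl⟩
theorem s_a1 : ∀ j, s * q1 (.a j) * s⁻¹ = q1 (.a j) := by decide +kernel
theorem s_a2 : ∀ j, s * q2 (.a j) * s⁻¹ = q2 (.a j) := by decide +kernel
theorem s_b1 : ∀ j, s * q1 (.xa j) * s⁻¹ = q1 (.xa (j - 1)) := by decide +kernel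
theorem s_b2 : ∀ j, s * q2 (.xa j) * s⁻¹ = q2 (.xa (j - 1)) := by decide +kernel
set_option maxRecDepth 10000 in
theorem Q1_Q2_comm : ∀ x : M7, x ∈ Q1 → ∀ y : M7, y ∈ Q2 → x * y = y * x := by decide +kernel
/-- the `Q1`-part of an element of `Q` -/
def p1 (m : M7) : M7 :=
  if m ∈ Q2 then 1 else if a1 * m ∈ Q2 then a1 else if b1 * m ∈ Q2 then b1 else a1 * b1
theorem Q_split : ∀ m : M7, m ∈ Q → p1 m ∈ Q1 ∧ (p1 m)⁻¹ * m ∈ Q2 := by decide +kernel
/-- the `B1`-part of an element of `Q1` -/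
def pB (m : M7) : M7 := if m ∈ Q2 then 1 else if x1 * m ∈ Q2 then x1 else if ze * m ∈ Q2 then ze else x1 * ze
theorem Q1_split : ∀ m : M7, m ∈ Q1 → pB m ∈ B1 ∧ (pB m)⁻¹ * m ∈ Q2 := by decide +kernel
/-- the `B1`-part of an element of `Q2` -/
def pC (m : M7) : M7 := if m ∈ Q1 then 1 else if x1 * m ∈ Q1 then x1 else if ze * m ∈ Q1 then ze else x1 * ze
theorem Q2_split : ∀ m : M7, m ∈ Q2 → pC m ∈ B1 ∧ (pC m)⁻¹ * m ∈ Q1 := by decide +kernel
theorem cent_B1 : ∀ m : M7, m * ze = ze * m → m * x1 = x1 * m → m ∈ V1 := by decide +kernel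
theorem ze_mem_B1 : ze ∈ B1 := by decide
theorem x1_mem_B1 : x1 ∈ B1 := by decide
set_option maxRecDepth 10000 in
theorem V1_comm : ∀ m : M7, m ∈ V1 → ∀ n : M7, n ∈ V1 → m * n = n * m := by decide +kernel
set_option maxRecDepth 10000 in
theorem Q_B1 : ∀ m : M7, m ∈ Q → ∀ n : M7, n ∈ B1 → m * n * m⁻¹ ∈ B1 := by decide +kernel
theorem cent_B1_Q : ∀ m : M7, m ∈ Q → m ∈ V1 → m ∈ B1 := by decide +kernel
theorem B1_sq : ∀ m : M7, m ∈ B1 → m * m = 1 := by decide +kernel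
theorem cent_Q : ∀ m : M7, m * x1 = x1 * m → m * y1 = y1 * m → m * f = f * m → m * ze = ze * m → m = 1 ∨ m = z := by
  decide +kernel
theorem gen_mem_Q : x1 ∈ Q ∧ y1 ∈ Q ∧ f ∈ Q ∧ ze ∈ Q := by decide

theorem tU_cases : ∀ m : M7, tU m = true → m ∈ Q ∨ m * s⁻¹ ∈ Q := by decide +kernel
theorem tU_s : tU s = true := by decide

end Cfsg.Agent.LFourB.StepSixModel
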