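import Cfsg.Agent.LFourB.StepSixFus
import Cfsg.Agent.TwoFusion.QuatQuotient
import Cfsg.Prelude.Def_TwoFusion

/-!
# Type B5, step 6, case (a1): `V1` is normal modulo the odd core

`X` has trivial odd core, `z` is central, and the normaliser of `Q` normalises `V1 ⊓ Q`.
-/

set_option autoImplicit false

namespace Cfsg.Agent.LFourB.StepSixOne

open Subgroup Cfsg.Agent.LFourB M7 StepSixModel StepSix StepSixFus
open Cfsg.Agent.LFourA.OddFree

universe u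

/-- Three strongly closed subgroups, pairwise with trivial intersection. -/
theorem normal_of_three
    (hC1 : ∀ (G : Type u) [Group G] [Finite G] (P : Sylow 2 G) (A B : Subgroup G), A ⊓ B = ⊥ →
      Cfsg.IsStronglyClosed A (P : Subgroup G) → Cfsg.IsStronglyClosed B (P : Subgroup G) →
      ⁅Subgroup.normalClosure (A : Set G), Subgroup.normalClosure (B : Set G)⁆ ≤ Cfsg.oddCore G)
    {Y : Type u} [Group Y] [Finite Y] (hO : Cfsg.oddCore Y = ⊥) (P : Sylow 2 Y) {A B C : Subgroup Y}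
    (hA : Cfsg.IsStronglyClosed A (P : Subgroup Y)) (hB : Cfsg.IsStronglyClosed B (P : Subgroup Y))
    (hC : Cfsg.IsStronglyClosed C (P : Subgroup Y)) (hAB : A ⊓ B = ⊥) (hAC : A ⊓ C = ⊥) (hBC : B ⊓ C = ⊥)
    (hA' : A ≤ B ⊔ C) (hB' : B ≤ A ⊔ C) (hP : (P : Subgroup Y) ≤ A ⊔ B) : (P : Subgroup Y).Normal := by
  have key : ∀ {A B C : Subgroup Y}, Cfsg.IsStronglyClosed A (P : Subgroup Y) → Cfsg.IsStronglyClosed B (P : Subgroup Y) →
      Cfsg.IsStronglyClosed C (P : Subgroup Y) → A ⊓ B = ⊥ → A ⊓ C = ⊥ → A ≤ B ⊔ C →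
      Subgroup.normalClosure (A : Set Y) ≤ P := by
    intro A B C hA hB hC hAB hAC hA'
    have h1 := hC1 Y P A B hAB hA hB
    have h2 := hC1 Y P A C hAC hA hC
    rw [hO, le_bot_iff, Subgroup.commutator_eq_bot_iff_le_centralizer] at h1 h2
    have h3 : ∀ {D : Subgroup Y}, Subgroup.normalClosure (A : Set Y) ≤ centralizer (Subgroup.normalClosure (D : Set Y) : Set Y) →
        D ≤ centralizer (Subgroup.normalClosure (A : Set Y) : Set Y) := by
      intro D h d hd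
      rw [Subgroup.mem_centralizer_iff]
      intro y hy
      exact (Subgroup.mem_centralizer_iff.1 (h hy) d (Subgroup.subset_normalClosure hd)).symm
    have h4 : A ≤ centralizer (Subgroup.normalClosure (A : Set Y) : Set Y) := hA'.trans (sup_le (h3 h1) (h3 h2))
    have h5 : Subgroup.normalClosure (A : Set Y) ≤ centralizer (Subgroup.normalClosure (A : Set Y) : Set Y) :=
      Subgroup.normalClosure_le_normal h4
    apply le_of_central hO P
    intro y hy _ g hg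
    exact Subgroup.mem_centralizer_iff.1 (h5 hy) g hg
  have h1 := key hA hB hC hAB hAC hA'
  have h2 := key hB hA hC (by rw [inf_comm]; exact hAB) hBC hB'
  have h3 : (P : Subgroup Y) = Subgroup.normalClosure (A : Set Y) ⊔ Subgroup.normalClosure (B : Set Y) := by
    apply le_antisymm
    · exact hP.trans (sup_le_sup Subgroup.subset_normalClosure Subgroup.subset_normalClosure)
    · exact sup_le h1 h2
  rw [h3]
  infer_instance

section

variable {X : Type u} [Group X] [Finite X]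

/-- a normal 2-subgroup is contained in every Sylow 2-subgroup -/
theorem le_sylow (P : Sylow 2 X) (N : Subgroup X) [hN : N.Normal] (h : IsPGroup 2 N) : N ≤ P := by
  obtain ⟨T, hT⟩ := h.exists_le_sylow
  obtain ⟨x, hx⟩ := MulAction.exists_smul_eq X T P
  intro n hn
  have h1 : x⁻¹ * n * x⁻¹⁻¹ ∈ N := hN.conj_mem n hn x⁻¹
  have h2 := Subgroup.smul_mem_pointwise_smul _ (MulAut.conj x) _ (hT h1)
  rw [← hx, Sylow.coe_subgroup_smul]
  have h3 : (MulAut.conj x) • (x⁻¹ * n * x⁻¹⁻¹) = n := by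
    rw [MulAut.smul_def, MulAut.conj_apply]; group
  rwa [h3] at h2

variable {P : Sylow 2 X} {ψ : M7 →* X} (h : Sep (P : Subgroup X) ψ)

include h

theorem Q_normal
    (hC1 : ∀ (G : Type u) [Group G] [Finite G] (P : Sylow 2 G) (A B : Subgroup G), A ⊓ B = ⊥ →
      Cfsg.IsStronglyClosed A (P : Subgroup G) → Cfsg.IsStronglyClosed B (P : Subgroup G) →
      ⁅Subgroup.normalClosure (A : Set G), Subgroup.normalClosure (B : Set G)⁆ ≤ Cfsg.oddCore G)
    (hO : Cfsg.oddCore X = ⊥)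
    (hN : ∀ n ∈ normalizer (Q.map ψ : Set X), ∀ m ∈ B1, ∃ m' ∈ B1, n * ψ m * n⁻¹ = ψ m') :
    (Q.map ψ).Normal := by
  obtain ⟨V, hV⟩ := h.exists_V1
  obtain ⟨W, hW⟩ := h.exists_V2
  have hU : IsU ψ (V * W) := ⟨fun m => by rw [MonoidHom.mul_apply, units_mul, hV, hW, tU_iff]⟩
  let K : Subgroup X := V.ker ⊓ W.ker
  have hKn : K.Normal := inferInstance
  have hKQ : ∀ m, ψ m ∈ K ↔ m ∈ Q := by
    intro m
    rw [Q_iff, ← hV, ← hW]
    exact Iff.rfl
  have hKU : ∀ k : K, (V * W) (k : X) = 1 := by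
    intro k
    rw [MonoidHom.mul_apply, (MonoidHom.mem_ker.1 k.2.1), (MonoidHom.mem_ker.1 k.2.2), one_mul]
  have hQK : Q.map ψ ≤ K := by
    rintro _ ⟨q, hq, rfl⟩
    exact (hKQ q).2 hq
  have hOK : Cfsg.oddCore K = ⊥ := oddCore_eq_bot hO K
  let PK : Sylow 2 K := sylN P K
  have hPK : ∀ k : K, k ∈ (PK : Subgroup K) ↔ ∃ m ∈ Q, ψ m = k := by
    intro k
    rw [mem_sylN]
    constructor
    · intro hk
      obtain ⟨m, hm⟩ := h.emb.exists_eq hk
      exact ⟨m, (hKQ m).1 (by rw [hm]; exact k.2), hm⟩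
    · rintro ⟨m, -, hm⟩
      rw [← hm]
      exact h.emb.mem m
  let t : K := ⟨ψ z, (hKQ z).2 z_mem_Q⟩
  have htc : t ∈ Subgroup.center K := by
    rw [Subgroup.mem_center_iff]
    intro g
    exact Subtype.ext (h.cen _)
  have hto : orderOf t = 2 := by
    apply orderOf_eq_prime
    · apply Subtype.ext
      rw [pow_two]
      change ψ z * ψ z = 1
      rw [← map_mul, z_sq, map_one]
    · intro h1
      have h2 : ψ z = 1 := congrArg Subtype.val h1
      rw [← map_one ψ] at h2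
      exact z_ne (h.emb.inj h2)
  have htn : (zpowers t).Normal := by
    refine ⟨fun x hx g => ?_⟩
    have h1 : x ∈ Subgroup.center K := (Subgroup.zpowers_le.2 htc) hx
    rw [Subgroup.mem_center_iff.1 h1 g, mul_inv_cancel_right]
    exact hx
  have htz : ∀ x : K, x ∈ zpowers t ↔ x = 1 ∨ x = t := by
    intro x
    constructor
    · rintro ⟨n, rfl⟩
      have h2 : t ^ (2 : ℤ) = 1 := by
        have := pow_orderOf_eq_one t
        rw [hto] at this
        exact_mod_cast this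
      rcases Int.even_or_odd' n with ⟨c, rfl | rfl⟩
      · left
        change t ^ (2 * c) = 1
        rw [zpow_mul, h2, one_zpow]
      · right
        change t ^ (2 * c + 1) = t
        rw [zpow_add, zpow_mul, h2, one_zpow, one_mul, zpow_one]
    · rintro (rfl | rfl)
      · exact one_mem _
      · exact Subgroup.mem_zpowers _
  have hOY : Cfsg.oddCore (K ⧸ zpowers t) = ⊥ :=
    Cfsg.Agent.TwoFusion.QuatQuotient.oddCore_quotient_eq_bot hOK t htc hto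
  let π : K →* K ⧸ zpowers t := QuotientGroup.mk' (zpowers t)
  have hπ : Function.Surjective π := QuotientGroup.mk'_surjective _
  have hπe : ∀ x y : K, π x = π y ↔ y = x ∨ y = x * t := by
    intro x y
    have h1 : π x = π y ↔ x⁻¹ * y ∈ zpowers t := QuotientGroup.eq
    rw [h1, htz]
    constructor
    · rintro (h2 | h2)
      · left; rw [← mul_one x, ← h2, mul_inv_cancel_left]
      · right; rw [← h2, mul_inv_cancel_left]
    · rintro (rfl | rfl)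
      · left; group
      · right; group
  let PY : Sylow 2 (K ⧸ zpowers t) := PK.mapSurjective hπ
  have hPY : ∀ y, y ∈ (PY : Subgroup (K ⧸ zpowers t)) ↔ ∃ x ∈ (PK : Subgroup K), π x = y := by
    intro y
    rw [Sylow.coe_mapSurjective]
    exact Iff.rfl
  -- images of subgroups of `Q`
  let S : Subgroup M7 → Subgroup (K ⧸ zpowers t) := fun A => ((A.map ψ).subgroupOf K).map π
  have hS : ∀ (A : Subgroup M7) (y), y ∈ S A ↔ ∃ x : K, (∃ m ∈ A, ψ m = x) ∧ π x = y := by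
    intro A y
    constructor
    · rintro ⟨x, ⟨m, hm, hmx⟩, rfl⟩
      exact ⟨x, ⟨m, hm, hmx⟩, rfl⟩
    · rintro ⟨x, ⟨m, hm, hmx⟩, rfl⟩
      exact ⟨x, ⟨m, hm, hmx⟩, rfl⟩
  have hclosed : ∀ A : Subgroup M7, (∀ m ∈ A, m ∈ Q) → z ∈ A →
      (∀ (g : K) (a n : M7), a ∈ A → (g : X) * ψ a * (g : X)⁻¹ = ψ n → n ∈ A) →
      Cfsg.IsStronglyClosed (S A) (PY : Subgroup (K ⧸ zpowers t)) := by
    intro A hAQ hzA hA
    refine ⟨?_, ?_⟩
    · intro y hy
      obtain ⟨x, ⟨m, hm, hmx⟩, rfl⟩ := (hS A y).1 hy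
      exact (hPY _).2 ⟨x, (hPK x).2 ⟨m, hAQ m hm, hmx⟩, rfl⟩
    · intro y hy g hg
      obtain ⟨x, ⟨m, hm, hmx⟩, rfl⟩ := (hS A y).1 hy
      obtain ⟨k, rfl⟩ := hπ g
      obtain ⟨x', hx', hxe⟩ := (hPY _).1 hg
      rw [← map_inv, ← map_mul, ← map_mul, hπe] at hxe
      obtain ⟨n, hn, hnx⟩ := (hPK x').1 hx'
      have h1 : ∃ n' ∈ Q, ψ n' = ((k * x * k⁻¹ : K) : X) := by
        rcases hxe with h2 | h2
        · exact ⟨n, hn, by rw [h2, hnx]⟩
        · refine ⟨n * z, Q.mul_mem hn z_mem_Q, ?_⟩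
          rw [h2, map_mul, hnx]
          rfl
      obtain ⟨n', hn', e⟩ := h1
      rw [← map_inv, ← map_mul, ← map_mul]
      refine (hS A _).2 ⟨_, ⟨n', ?_, e⟩, rfl⟩
      apply hA k m n' hm
      rw [hmx, e]
      rfl
  have hinf : ∀ A B : Subgroup M7, (∀ m, m ∈ A → m ∈ B → m = 1 ∨ m = z) → z ∈ B → S A ⊓ S B = ⊥ := by
    intro A B hAB hzB
    rw [eq_bot_iff]
    rintro y ⟨hyA, hyB⟩
    obtain ⟨x, ⟨m, hm, hmx⟩, rfl⟩ := (hS A y).1 hyA
    obtain ⟨x', ⟨n, hn, hnx⟩, hxx⟩ := (hS B _).1 hyB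
    rw [hπe] at hxx
    have h1 : m ∈ B := by
      rcases hxx with h2 | h2
      · have h3 : ψ m = ψ n := by rw [hmx, h2, hnx]
        rw [h.emb.inj h3]
        exact hn
      · have h3 : ψ m = ψ (n * z) := by
          rw [hmx, h2, map_mul, hnx]
          rfl
        rw [h.emb.inj h3]
        exact B.mul_mem hn hzB
    rw [Subgroup.mem_bot]
    have h2 : π x = π 1 := by
      rw [hπe]
      rcases hAB m hm h1 with rfl | rfl
      · left
        apply Subtype.ext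
        rw [← hmx, map_one]
        rfl
      · right
        have h3 : x = t := Subtype.ext hmx.symm
        have h4 : t * t = 1 := by rw [← pow_two, ← hto, pow_orderOf_eq_one]
        rw [h3, h4]
    rw [h2, map_one]
  have hle : ∀ A B C : Subgroup M7, (∀ m ∈ B, m ∈ Q) → (∀ m ∈ C, m ∈ Q) →
      (∀ m ∈ A, ∃ b ∈ B, ∃ c ∈ C, m = b * c) → S A ≤ S B ⊔ S C := by
    intro A B C hB hC hABC y hy
    obtain ⟨x, ⟨m, hm, hmx⟩, rfl⟩ := (hS A y).1 hy
    obtain ⟨b, hb, c, hc, rfl⟩ := hABC m hm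
    have h1 : x = ⟨ψ b, (hKQ b).2 (hB b hb)⟩ * ⟨ψ c, (hKQ c).2 (hC c hc)⟩ := by
      apply Subtype.ext
      rw [← hmx, map_mul]
      rfl
    rw [h1, map_mul]
    exact mul_mem (mem_sup_left ((hS B _).2 ⟨_, ⟨b, hb, rfl⟩, rfl⟩)) (mem_sup_right ((hS C _).2 ⟨_, ⟨c, hc, rfl⟩, rfl⟩))
  have hQ1 : Cfsg.IsStronglyClosed (S Q1) (PY : Subgroup (K ⧸ zpowers t)) :=
    hclosed Q1 Q1_le z_mem_Q1 (fun g a n ha e => (closed h hU (hKU g) (Q1_le a ha) e).1 ha)
  have hQ2 : Cfsg.IsStronglyClosed (S Q2) (PY : Subgroup (K ⧸ zpowers t)) :=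
    hclosed Q2 Q2_le z_mem_Q2 (fun g a n ha e => (closed h hU (hKU g) (Q2_le a ha) e).2 ha)
  have hB1 : Cfsg.IsStronglyClosed (S B1) (PY : Subgroup (K ⧸ zpowers t)) := by
    refine hclosed B1 B1_le z_mem_B1 (fun g a n ha e => ?_)
    obtain ⟨k, -, hkN, hk⟩ := h.control hQK g.2 (B1_le a ha) e
    obtain ⟨m', hm', e'⟩ := hN k hkN a ha
    rcases hk with hk | hk
    · rw [e'] at hk
      rw [← h.emb.inj hk]
      exact hm'
    · rw [e'] at hk
      have h1 : n = m' * z := by rw [h.emb.inj hk, mul_assoc, z_sq, mul_one]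
      rw [h1]
      exact B1.mul_mem hm' z_mem_B1
  have hPle : (PY : Subgroup (K ⧸ zpowers t)) ≤ S Q1 ⊔ S Q2 := by
    intro y hy
    obtain ⟨x, hx, rfl⟩ := (hPY y).1 hy
    obtain ⟨m, hm, hmx⟩ := (hPK x).1 hx
    apply hle Q Q1 Q2 Q1_le Q2_le (fun m hm => ?_) ((hS Q _).2 ⟨x, ⟨m, hm, hmx⟩, rfl⟩)
    obtain ⟨h1, h2⟩ := Q_split m hm
    exact ⟨_, h1, _, h2, by rw [mul_inv_cancel_left]⟩
  have hsp : ∀ m ∈ Q1, ∃ b ∈ Q2, ∃ c ∈ B1, m = b * c := by
    intro m hm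
    obtain ⟨h1, h2⟩ := Q1_split m⁻¹ (Q1.inv_mem hm)
    refine ⟨_, Q2.inv_mem h2, _, B1.inv_mem h1, ?_⟩
    group
  have hsp' : ∀ m ∈ Q2, ∃ b ∈ Q1, ∃ c ∈ B1, m = b * c := by
    intro m hm
    obtain ⟨h1, h2⟩ := Q2_split m⁻¹ (Q2.inv_mem hm)
    refine ⟨_, Q1.inv_mem h2, _, B1.inv_mem h1, ?_⟩
    group
  have hnorm := normal_of_three hC1 hOY PY hQ1 hQ2 hB1 (hinf _ _ Q1_Q2 z_mem_Q2) (hinf _ _ Q1_B1 z_mem_B1)
    (hinf _ _ Q2_B1 z_mem_B1) (hle _ _ _ Q2_le B1_le hsp) (hle _ _ _ Q1_le B1_le hsp') hPle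
  -- back to `K`
  have hK1 : ∀ (k : K) (m : M7), m ∈ Q → ∃ n ∈ Q, (k : X) * ψ m * (k : X)⁻¹ = ψ n := by
    intro k m hm
    have h1 : π ⟨ψ m, (hKQ m).2 hm⟩ ∈ (PY : Subgroup (K ⧸ zpowers t)) := (hPY _).2 ⟨_, (hPK _).2 ⟨m, hm, rfl⟩, rfl⟩
    have h2 := hnorm.conj_mem _ h1 (π k)
    obtain ⟨x', hx', hxe⟩ := (hPY _).1 h2
    rw [← map_inv, ← map_mul, ← map_mul, hπe] at hxe
    obtain ⟨n, hn, hnx⟩ := (hPK x').1 hx'
    rcases hxe with h3 | h3
    · refine ⟨n, hn, ?_⟩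
      rw [hnx, ← h3]
      rfl
    · refine ⟨n * z, Q.mul_mem hn z_mem_Q, ?_⟩
      have h4 := congrArg Subtype.val h3
      change (k : X) * ψ m * (k : X)⁻¹ = (x' : X) * ψ z at h4
      rw [h4, map_mul, hnx]
  have hrel : ¬ 2 ∣ (Q.map ψ).relIndex K := by
    have h1 := Cfsg.Agent.Lib.SylowNormalInf.not_dvd_relIndex P K
    have h2 : (P : Subgroup X).subgroupOf K = (Q.map ψ).subgroupOf K := by
      ext k
      rw [Subgroup.mem_subgroupOf, Subgroup.mem_subgroupOf]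
      have h3 := hPK k
      rw [mem_sylN] at h3
      exact h3
    rw [Subgroup.relIndex] at h1 ⊢
    rwa [h2] at h1
  refine ⟨?_⟩
  rintro _ ⟨m, hm, rfl⟩ g
  have hp : IsPGroup 2 (Q.map ψ : Subgroup X) := P.isPGroup'.to_le (h.emb.map_le Q)
  have h1 : (Q.map ψ).map (MulAut.conj g).toMonoidHom ≤ K := by
    rintro _ ⟨x, hx, rfl⟩
    exact hKn.conj_mem x (hQK hx) g
  obtain ⟨k, hk, hkQ⟩ := Cfsg.Agent.Lib.GoldschmidtFusion.exists_conj_le_in (p := 2) hp hrel h1 (hp.map _)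
  obtain ⟨n, hn, e⟩ := hkQ ⟨_, ⟨_, ⟨m, hm, rfl⟩, rfl⟩, rfl⟩
  obtain ⟨n', hn', e'⟩ := hK1 ⟨k⁻¹, K.inv_mem hk⟩ n hn
  refine ⟨n', hn', ?_⟩
  rw [← e']
  change k⁻¹ * ψ n * k⁻¹⁻¹ = g * ψ m * g⁻¹
  rw [e]
  change k⁻¹ * (k * (g * ψ m * g⁻¹) * k⁻¹) * k⁻¹⁻¹ = g * ψ m * g⁻¹
  group

/-- case (a1): `V1` is normal -/
theorem V1_normal
    (hC1 : ∀ (G : Type u) [Group G] [Finite G] (P : Sylow 2 G) (A B : Subgroup G), A ⊓ B = ⊥ →
      Cfsg.IsStronglyClosed A (P : Subgroup G) → Cfsg.IsStronglyClosed B (P : Subgroup G) →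
      ⁅Subgroup.normalClosure (A : Set G), Subgroup.normalClosure (B : Set G)⁆ ≤ Cfsg.oddCore G)
    (hO : Cfsg.oddCore X = ⊥)
    (hN : ∀ n ∈ normalizer (Q.map ψ : Set X), ∀ m ∈ B1, ∃ m' ∈ B1, n * ψ m * n⁻¹ = ψ m') :
    (V1.map ψ).Normal := by
  have hQn : (Q.map ψ).Normal := Q_normal h hC1 hO hN
  have hN' : ∀ n : X, ∀ m ∈ B1, ∃ m' ∈ B1, n * ψ m * n⁻¹ = ψ m' := by
    intro n
    apply hN
    rw [Subgroup.normalizer_eq_top]
    exact Subgroup.mem_top n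
  -- the centraliser of `Q`
  let D : Subgroup X := centralizer (Q.map ψ : Set X)
  have hD : D ≤ P := by
    have hDn : D.Normal := inferInstance
    apply le_of_central hO P D
    intro y hy hyP g hg
    obtain ⟨m, rfl⟩ := h.emb.exists_eq hyP
    have key : ∀ q ∈ Q, m * q = q * m := by
      intro q hq
      apply h.emb.inj
      rw [map_mul, map_mul]
      exact (Subgroup.mem_centralizer_iff.1 hy (ψ q) ⟨q, hq, rfl⟩).symm
    obtain ⟨g1, g2, g3, g4⟩ := gen_mem_Q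
    rcases cent_Q m (key _ g1) (key _ g2) (key _ g3) (key _ g4) with rfl | rfl
    · rw [map_one, mul_one, one_mul]
    · exact h.cen g
  -- the centraliser of `B1`
  let C : Subgroup X := centralizer (B1.map ψ : Set X)
  have hB1n : (B1.map ψ).Normal := by
    refine ⟨?_⟩
    rintro _ ⟨m, hm, rfl⟩ n
    obtain ⟨m', hm', e⟩ := hN' n m hm
    exact ⟨m', hm', e.symm⟩
  have hCn : C.Normal := inferInstance
  have hVC : V1.map ψ ≤ C := by
    rintro _ ⟨m, hm, rfl⟩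
    rw [Subgroup.mem_centralizer_iff]
    rintro _ ⟨b, hb, rfl⟩
    rw [← map_mul, ← map_mul, V1_comm b (B1_le_V1 b hb) m hm]
  have hCP : ∀ m : M7, ψ m ∈ C → m ∈ V1 := by
    intro m hm
    have key : ∀ q ∈ B1, m * q = q * m := by
      intro q hq
      apply h.emb.inj
      rw [map_mul, map_mul]
      exact (Subgroup.mem_centralizer_iff.1 hm (ψ q) ⟨q, hq, rfl⟩).symm
    exact cent_B1 m (key _ ze_mem_B1) (key _ x1_mem_B1)
  -- elements of `C` have 2-power order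
  have hsq : ∀ c ∈ C, c * c ∈ D := by
    intro c hc
    rw [Subgroup.mem_centralizer_iff]
    rintro _ ⟨q, hq, rfl⟩
    have hcb : ∀ b ∈ B1, c * ψ b * c⁻¹ = ψ b := by
      intro b hb
      rw [← Subgroup.mem_centralizer_iff.1 hc (ψ b) ⟨b, hb, rfl⟩, mul_inv_cancel_right]
    obtain ⟨q', hq', e⟩ := hQn.conj_mem (ψ q) ⟨q, hq, rfl⟩ c
    -- `q⁻¹ q'` centralises `B1`
    have h1 : ψ (q⁻¹ * q') ∈ C := by
      rw [Subgroup.mem_centralizer_iff]
      rintro _ ⟨b, hb, rfl⟩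
      have h2 := hcb (q * b * q⁻¹) (Q_B1 q hq b hb)
      have h3 : c * ψ (q * b * q⁻¹) * c⁻¹ = (c * ψ q * c⁻¹) * (c * ψ b * c⁻¹) * (c * ψ q * c⁻¹)⁻¹ := by
        rw [map_mul, map_mul, map_inv]; group
      rw [h3, hcb b hb, ← e, ← map_inv, ← map_mul, ← map_mul] at h2
      have h4 := h.emb.inj h2
      rw [← map_mul, ← map_mul]
      congr 1
      calc b * (q⁻¹ * q') = q⁻¹ * (q * b * q⁻¹) * q' := by group
        _ = q⁻¹ * (q' * b * q'⁻¹) * q' := by rw [h4]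
        _ = q⁻¹ * q' * b := by group
    have h2 : q⁻¹ * q' ∈ B1 := cent_B1_Q _ (Q.mul_mem (Q.inv_mem hq) hq') (hCP _ h1)
    have h3 := B1_sq _ h2
    -- `c² q c⁻² = q`
    have h4 : c * ψ q * c⁻¹ = ψ q * ψ (q⁻¹ * q') := by
      rw [← e, ← map_mul, mul_inv_cancel_left]
    have h5 : c * c * ψ q * (c * c)⁻¹ = ψ q := by
      calc c * c * ψ q * (c * c)⁻¹ = c * (c * ψ q * c⁻¹) * c⁻¹ := by group
        _ = c * (ψ q * ψ (q⁻¹ * q')) * c⁻¹ := by rw [h4]
        _ = (c * ψ q * c⁻¹) * (c * ψ (q⁻¹ * q') * c⁻¹) := by group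
        _ = ψ q * ψ (q⁻¹ * q') * ψ (q⁻¹ * q') := by rw [hcb _ h2, h4]
        _ = ψ q * ψ (q⁻¹ * q' * (q⁻¹ * q')) := by rw [map_mul ψ (q⁻¹ * q') (q⁻¹ * q'), mul_assoc]
        _ = ψ q := by rw [h3, map_one, mul_one]
    rw [mul_inv_eq_iff_eq_mul] at h5
    exact h5.symm
  have hCp : IsPGroup 2 C := by
    rw [IsPGroup.iff_orderOf]
    intro c
    have h1 := hD (hsq c c.2)
    obtain ⟨k, hk⟩ := IsPGroup.iff_orderOf.1 P.isPGroup' ⟨_, h1⟩
    rw [← orderOf_coe] at hk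
    change orderOf ((c : X) * c) = 2 ^ k at hk
    have h2 : orderOf c ∣ 2 ^ (k + 1) := by
      rw [← orderOf_coe]
      apply orderOf_dvd_of_pow_eq_one
      rw [pow_succ', pow_mul, pow_two, ← hk, pow_orderOf_eq_one]
    obtain ⟨j, -, hj⟩ := (Nat.dvd_prime_pow Nat.prime_two).1 h2
    exact ⟨j, hj⟩
  have hCle := le_sylow P C hCp
  have hCV : C = V1.map ψ := by
    apply le_antisymm _ hVC
    intro c hc
    obtain ⟨m, rfl⟩ := h.emb.exists_eq (hCle hc)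
    exact ⟨m, hCP m hc, rfl⟩
  rw [← hCV]
  exact hCn

end

end Cfsg.Agent.LFourB.StepSixOne
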