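import Cfsg.Agent.LFourB.StepSixFus
import Cfsg.Agent.LFourA.CzMain

/-!
# Type B5, step 6, case (a2): two normal subgroups `SL(2, F)` in a subgroup of index two

The group has trivial odd core, `z` is central and the involutions `x1, y1, ze, f` are conjugate.
-/

set_option autoImplicit false

namespace Cfsg.Agent.LFourB.StepSixTwo

open Subgroup Cfsg.Agent.LFourB M7 StepSixModel StepSix StepSixFus
open Cfsg.Agent.LFourA.OddFree Cfsg.Agent.LFourA.CzSwap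
open Cfsg.Agent.ClassificationK Cfsg.Agent.ClassificationK.GTwoConf

universe u

/-- The structure of `C(z)/O(C(z))`, case (a2): `U` is the homomorphism with kernel the normaliser of the factors. -/
structure Out {X : Type u} [Group X] (ψ : M7 →* X) (U : X →* ℤˣ) (L₁ L₂ : Subgroup X) : Prop where
  U_iff : IsU ψ U
  U_L₁ : ∀ a ∈ L₁, U a = 1
  U_L₂ : ∀ a ∈ L₂, U a = 1
  norm₁ : ∀ g, U g = 1 → ∀ a ∈ L₁, g * a * g⁻¹ ∈ L₁
  norm₂ : ∀ g, U g = 1 → ∀ a ∈ L₂, g * a * g⁻¹ ∈ L₂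
  swap₁ : ∀ g, U g ≠ 1 → ∀ a ∈ L₁, g * a * g⁻¹ ∈ L₂
  swap₂ : ∀ g, U g ≠ 1 → ∀ a ∈ L₂, g * a * g⁻¹ ∈ L₁
  comm : ∀ a ∈ L₁, ∀ b ∈ L₂, a * b = b * a
  comm_le : ∀ g g', U g = 1 → U g' = 1 → g * g' * g⁻¹ * g'⁻¹ ∈ L₁ ⊔ L₂
  le₁ : ∀ m ∈ Q1, ψ m ∈ L₁
  le₂ : ∀ m ∈ Q2, ψ m ∈ L₂
  inf₁ : ∀ m, ψ m ∈ L₁ → m ∈ Q1
  inf₂ : ∀ m, ψ m ∈ L₂ → m ∈ Q2
  iso : ∃ (F : Type) (_ : Field F) (_ : Fintype F), Odd (Fintype.card F) ∧
    Nonempty (L₁ ≃* Matrix.SpecialLinearGroup (Fin 2) F) ∧ Nonempty (L₂ ≃* Matrix.SpecialLinearGroup (Fin 2) F)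
  cent : ∀ g, (∀ a ∈ L₁, g * a = a * g) → (∀ b ∈ L₂, g * b = b * g) → g = 1 ∨ g = ψ z

section

variable {X : Type u} [Group X] [Finite X]

theorem units_mul' {a b : ℤˣ} (ha : a ≠ 1) (hb : b ≠ 1) : a * b = 1 := units_mul.2 (iff_of_false ha hb)

/-- the configuration of the two quaternion groups -/
theorem conf (hO : Cfsg.oddCore X = ⊥) {P : Sylow 2 X} {ψ : M7 →* X} (h : Sep (P : Subgroup X) ψ)
    (hze : ∃ g : X, g * ψ x1 * g⁻¹ = ψ ze) (hy : ∃ g : X, g * ψ x1 * g⁻¹ = ψ y1)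
    (hf : ∃ g : X, g * ψ x1 * g⁻¹ = ψ f) {U : X →* ℤˣ} (hU : IsU ψ U)
    (φ₁ φ₂ : QuaternionGroup (2 ^ 1) →* U.ker) (h₁ : ∀ x, (φ₁ x : X) = ψ (q1 x)) (h₂ : ∀ x, (φ₂ x : X) = ψ (q2 x))
    (hs : ψ s ∈ U.ker) :
    Conf 1 (sylN P U.ker) ⟨ψ s, hs⟩ φ₁ φ₂ where
  hk := le_rfl
  hO := oddCore_eq_bot hO _
  inj₁ := by
    intro x y hxy
    have h1 := congrArg Subtype.val hxy
    rw [h₁, h₁] at h1
    exact q1_inj (h.emb.inj h1)
  inj₂ := by
    intro x y hxy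
    have h1 := congrArg Subtype.val hxy
    rw [h₂, h₂] at h1
    exact q2_inj (h.emb.inj h1)
  mem₁ x := by rw [mem_sylN, h₁]; exact h.emb.mem _
  mem₂ x := by rw [mem_sylN, h₂]; exact h.emb.mem _
  t_eq := Subtype.ext (by rw [h₁, h₂, q1_z, q2_z])
  central g := by
    apply Subtype.ext
    rw [Subgroup.coe_mul, Subgroup.coe_mul, h₁, q1_z]
    exact h.cen _
  comm x y := by
    apply Subtype.ext
    rw [Subgroup.coe_mul, Subgroup.coe_mul, h₁, h₂, ← map_mul, ← map_mul, Q1_Q2_comm _ (q1_mem x) _ (q2_mem y)]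
  inf₁ x y e := by
    have h1 := congrArg Subtype.val e
    rw [h₁, h₂] at h1
    have h2 := h.emb.inj h1
    rcases Q1_Q2 _ (q1_mem x) (by rw [h2]; exact q2_mem y) with h3 | h3
    · left; exact q1_inj (by rw [h3, map_one])
    · right; exact q1_inj (by rw [h3, q1_z])
  inf₂ x y e := by
    have h1 := congrArg Subtype.val e
    rw [h₁, h₂] at h1
    have h2 := h.emb.inj h1
    rcases Q1_Q2 (q2 y) (by rw [← h2]; exact q1_mem x) (q2_mem y) with h3 | h3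
    · left; exact q2_inj (by rw [h3, map_one])
    · right; exact q2_inj (by rw [h3, q2_z])
  s_mem := h.emb.mem _
  s_a₁ i := by
    apply Subtype.ext
    rw [Subgroup.coe_mul, Subgroup.coe_mul, Subgroup.coe_inv, h₁]
    change ψ s * _ * (ψ s)⁻¹ = _
    rw [← map_inv, ← map_mul, ← map_mul, s_a1]
  s_a₂ i := by
    apply Subtype.ext
    rw [Subgroup.coe_mul, Subgroup.coe_mul, Subgroup.coe_inv, h₂]
    change ψ s * _ * (ψ s)⁻¹ = _
    rw [← map_inv, ← map_mul, ← map_mul, s_a2]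
  s_xa₁ i := by
    apply Subtype.ext
    rw [Subgroup.coe_mul, Subgroup.coe_mul, Subgroup.coe_inv, h₁, h₁]
    change ψ s * _ * (ψ s)⁻¹ = _
    rw [← map_inv, ← map_mul, ← map_mul, s_b1]
  s_xa₂ i := by
    apply Subtype.ext
    rw [Subgroup.coe_mul, Subgroup.coe_mul, Subgroup.coe_inv, h₂, h₂]
    change ψ s * _ * (ψ s)⁻¹ = _
    rw [← map_inv, ← map_mul, ← map_mul, s_b2]
  cases g hg := by
    rw [mem_sylN] at hg
    obtain ⟨m, hm⟩ := h.emb.exists_eq hg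
    have key : ∀ q ∈ Q, ∃ x y, ψ q = (φ₁ x : X) * (φ₂ y : X) := by
      intro q hq
      obtain ⟨h1, h2⟩ := Q_split q hq
      obtain ⟨x, hx⟩ := exists_q1 h1
      obtain ⟨y, hy⟩ := exists_q2 h2
      refine ⟨x, y, ?_⟩
      rw [h₁, h₂, hx, hy, ← map_mul, mul_inv_cancel_left]
    have hUm : tU m = true := by
      rw [← hU.iff, hm]
      exact g.2
    rcases tU_cases m hUm with h1 | h1
    · obtain ⟨x, y, e⟩ := key m h1
      refine ⟨x, y, Or.inl (Subtype.ext ?_)⟩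
      rw [Subgroup.coe_mul, ← e, hm]
    · obtain ⟨x, y, e⟩ := key _ h1
      refine ⟨x, y, Or.inr (Subtype.ext ?_)⟩
      rw [Subgroup.coe_mul, Subgroup.coe_mul, ← e]
      change _ = _ * ψ s
      rw [← map_mul, inv_mul_cancel_right, hm]
  closed₁ g x hg := by
    rw [mem_sylN] at hg
    obtain ⟨n, hn⟩ := h.emb.exists_eq hg
    rw [Subgroup.coe_mul, Subgroup.coe_mul, Subgroup.coe_inv, h₁] at hn
    obtain ⟨y, hy⟩ := exists_q1 ((closed h hU g.2 (Q1_le _ (q1_mem x)) hn.symm).1 (q1_mem x))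
    refine ⟨y, Subtype.ext ?_⟩
    rw [Subgroup.coe_mul, Subgroup.coe_mul, Subgroup.coe_inv, h₁, h₁, hy, hn]
  closed₂ g x hg := by
    rw [mem_sylN] at hg
    obtain ⟨n, hn⟩ := h.emb.exists_eq hg
    rw [Subgroup.coe_mul, Subgroup.coe_mul, Subgroup.coe_inv, h₂] at hn
    obtain ⟨y, hy⟩ := exists_q2 ((closed h hU g.2 (Q2_le _ (q2_mem x)) hn.symm).2 (q2_mem x))
    refine ⟨y, Subtype.ext ?_⟩
    rw [Subgroup.coe_mul, Subgroup.coe_mul, Subgroup.coe_inv, h₂, h₂, hy, hn]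
  inv x y x' y' hx hy' hx' hy'' := by
    have key : ∀ x y : QuaternionGroup (2 ^ 1),
        x ^ 2 = .a ((2 ^ 1 : ℕ) : ZMod (2 * 2 ^ 1)) → y ^ 2 = .a ((2 ^ 1 : ℕ) : ZMod (2 * 2 ^ 1)) →
        ∃ g : X, U g = 1 ∧ g * ψ x1 * g⁻¹ = (φ₁ x : X) * (φ₂ y : X) := by
      intro x y hx hy'
      have hx2 : q1 x * q1 x = z := by rw [← pow_two, ← map_pow, hx, q1_z]
      have hy2 : q2 y * q2 y = z := by rw [← pow_two, ← map_pow, hy', q2_z]
      have hc := Q1_Q2_comm _ (q1_mem x) _ (q2_mem y)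
      have h1 := invol hU hze hy hf (Q.mul_mem (Q1_le _ (q1_mem x)) (Q2_le _ (q2_mem y))) (by
        calc q1 x * q2 y * (q1 x * q2 y) = q1 x * (q2 y * q1 x) * q2 y := by group
          _ = q1 x * q1 x * (q2 y * q2 y) := by rw [← hc]; group
          _ = 1 := by rw [hx2, hy2, z_sq]) (by
        intro h2
        have h3 : q1 x ∈ Q2 := by
          have : q1 x = (q2 y)⁻¹ := eq_inv_of_mul_eq_one_left h2
          rw [this]
          exact Q2.inv_mem (q2_mem y)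
        exact (four_cases _ (Q1_le _ (q1_mem x)) hx2).1 (q1_mem x) h3) (by
        intro h2
        have h3 : q1 x ∈ Q2 := by
          have : q1 x = z * (q2 y)⁻¹ := eq_mul_inv_of_mul_eq h2
          rw [this]
          exact Q2.mul_mem z_mem_Q2 (Q2.inv_mem (q2_mem y))
        exact (four_cases _ (Q1_le _ (q1_mem x)) hx2).1 (q1_mem x) h3)
      obtain ⟨g, hg, e⟩ := h1
      exact ⟨g, hg, by rw [e, map_mul, h₁, h₂]⟩
    obtain ⟨g, hg, e⟩ := key x y hx hy'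
    obtain ⟨g', hg', e'⟩ := key x' y' hx' hy''
    refine ⟨⟨g' * g⁻¹, ?_⟩, Subtype.ext ?_⟩
    · rw [MonoidHom.mem_ker, map_mul, map_inv, hg, hg', inv_one, one_mul]
    · rw [Subgroup.coe_mul, Subgroup.coe_mul, Subgroup.coe_inv, Subgroup.coe_mul, Subgroup.coe_mul, ← e, ← e']
      change g' * g⁻¹ * _ * (g' * g⁻¹)⁻¹ = _
      group

set_option maxHeartbeats 1000000 in
theorem main
    (hC1 : ∀ (G : Type u) [Group G] [Finite G] (P : Sylow 2 G) (A B : Subgroup G), A ⊓ B = ⊥ →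
      Cfsg.IsStronglyClosed A (P : Subgroup G) → Cfsg.IsStronglyClosed B (P : Subgroup G) →
      ⁅Subgroup.normalClosure (A : Set G), Subgroup.normalClosure (B : Set G)⁆ ≤ Cfsg.oddCore G)
    (hGW : ∀ (X : Type u) [Group X] [Finite X] [Group.IsPerfect X]
      (S : Sylow 2 X) (n : ℕ), 2 ≤ n → Nonempty ((S : Subgroup X) ≃* DihedralGroup n) →
      (∃ (F : Type) (_ : Field F) (_ : Fintype F), Odd (Fintype.card F) ∧ 3 < Fintype.card F ∧
        Nonempty (X ⧸ Cfsg.oddCore X ≃* Matrix.ProjectiveSpecialLinearGroup (Fin 2) F)) ∨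
      Nonempty (X ⧸ Cfsg.oddCore X ≃* alternatingGroup (Fin 7)))
    (hO : Cfsg.oddCore X = ⊥) {P : Sylow 2 X} {ψ : M7 →* X} (h : Sep (P : Subgroup X) ψ)
    (hze : ∃ g : X, g * ψ x1 * g⁻¹ = ψ ze) (hy : ∃ g : X, g * ψ x1 * g⁻¹ = ψ y1)
    (hf : ∃ g : X, g * ψ x1 * g⁻¹ = ψ f) :
    ∃ (U : X →* ℤˣ) (L₁ L₂ : Subgroup X), Out ψ U L₁ L₂ := by
  obtain ⟨U, hU⟩ := exists_U h
  set t : X := ψ x2 with ht
  have hUt : U t ≠ 1 := by
    rw [Ne, ht, hU.iff, tU_x2]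
    decide
  have hmem : ∀ m, tU m = true → ψ m ∈ U.ker := fun m hm => (hU.iff m).2 hm
  let H : Subgroup X := U.ker
  let φ₁ : QuaternionGroup (2 ^ 1) →* H := (ψ.comp q1).codRestrict H (fun x => hmem _ (tU_Q _ (Q1_le _ (q1_mem x))))
  let φ₂ : QuaternionGroup (2 ^ 1) →* H := (ψ.comp q2).codRestrict H (fun x => hmem _ (tU_Q _ (Q2_le _ (q2_mem x))))
  have h₁ : ∀ x, (φ₁ x : X) = ψ (q1 x) := fun x => rfl
  have h₂ : ∀ x, (φ₂ x : X) = ψ (q2 x) := fun x => rfl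
  have hconf := conf hO h hze hy hf hU φ₁ φ₂ h₁ h₂ (hmem s tU_s)
  -- the automorphism
  let α : H ≃* H := MulAut.conjNormal t
  have hαc : ∀ x : H, (α x : X) = t * x * t⁻¹ := fun x => MulAut.conjNormal_apply t x
  have hα : φ₁.range.map α.toMonoidHom = φ₂.range := by
    apply Subgroup.eq_of_le_of_card_ge
    · rintro _ ⟨_, ⟨x, rfl⟩, rfl⟩
      obtain ⟨y, hy⟩ := exists_q2 (swap1 _ (q1_mem x) x2 tU_x2)
      refine ⟨y, Subtype.ext ?_⟩
      change (φ₂ y : X) = (α (φ₁ x) : X)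
      rw [hαc, h₁, h₂, hy, map_mul, map_mul, map_inv]
    · have e1 : Nat.card (φ₁.range.map α.toMonoidHom : Subgroup H) = Nat.card φ₁.range :=
        Subgroup.card_map_of_injective (f := α.toMonoidHom) α.injective
      rw [e1, Nat.card_congr (MonoidHom.ofInjective hconf.inj₁).toEquiv.symm,
        Nat.card_congr (MonoidHom.ofInjective hconf.inj₂).toEquiv.symm]
  have hα' : φ₂.range.map α.toMonoidHom = φ₁.range := by
    apply Subgroup.eq_of_le_of_card_ge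
    · rintro _ ⟨_, ⟨x, rfl⟩, rfl⟩
      obtain ⟨y, hy⟩ := exists_q1 (swap2 _ (q2_mem x) x2 tU_x2)
      refine ⟨y, Subtype.ext ?_⟩
      change (φ₁ y : X) = (α (φ₂ x) : X)
      rw [hαc, h₁, h₂, hy, map_mul, map_mul, map_inv]
    · have e1 : Nat.card (φ₂.range.map α.toMonoidHom : Subgroup H) = Nat.card φ₂.range :=
        Subgroup.card_map_of_injective (f := α.toMonoidHom) α.injective
      rw [e1, Nat.card_congr (MonoidHom.ofInjective hconf.inj₁).toEquiv.symm,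
        Nat.card_congr (MonoidHom.ofInjective hconf.inj₂).toEquiv.symm]
  obtain ⟨L₁, L₂, hL, hL12, hL21⟩ := exists_swap hC1 hGW hconf α hα hα'
  have hn₁ := hL.n₁
  have hn₂ := hL.n₂
  have hHU : ∀ x : H, U (x : X) = 1 := fun x => MonoidHom.mem_ker.1 x.2
  have norm : ∀ (L : Subgroup H) [L.Normal], ∀ g, U g = 1 → ∀ a ∈ L.map H.subtype, g * a * g⁻¹ ∈ L.map H.subtype := by
    rintro L hLn g hg _ ⟨x, hx, rfl⟩
    exact ⟨⟨g, hg⟩ * x * ⟨g, hg⟩⁻¹, hLn.conj_mem x hx _, rfl⟩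
  have swap : ∀ (L M : Subgroup H) [L.Normal], L.map α.toMonoidHom = M → ∀ g, U g ≠ 1 → ∀ a ∈ L.map H.subtype,
      g * a * g⁻¹ ∈ M.map H.subtype := by
    rintro L _ hLn rfl g hg a ha
    have h1 : U (t⁻¹ * g) = 1 := by
      rw [map_mul, map_inv]
      have h2 : (U t)⁻¹ ≠ 1 := inv_ne_one.2 hUt
      exact units_mul' h2 hg
    obtain ⟨x, hx, hxe⟩ := norm L (t⁻¹ * g) h1 a ha
    refine ⟨α x, ⟨x, hx, rfl⟩, ?_⟩
    change (α x : X) = _
    rw [hαc]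
    have h2 : (x : X) = t⁻¹ * g * a * (t⁻¹ * g)⁻¹ := hxe
    rw [h2]
    group
  have hcomm : ∀ a ∈ L₁.map H.subtype, ∀ b ∈ L₂.map H.subtype, a * b = b * a := by
    rintro _ ⟨x, hx, rfl⟩ _ ⟨y, hy, rfl⟩
    have h1 := Subgroup.commutator_mem_commutator hx hy
    rw [hL.comm, Subgroup.mem_bot, commutatorElement_eq_one_iff_mul_comm] at h1
    exact congrArg Subtype.val h1
  have hle₁ : ∀ m ∈ Q1, ψ m ∈ L₁.map H.subtype := by
    intro m hm
    obtain ⟨x, rfl⟩ := exists_q1 hm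
    exact ⟨φ₁ x, hL.le₁ ⟨x, rfl⟩, rfl⟩
  have hle₂ : ∀ m ∈ Q2, ψ m ∈ L₂.map H.subtype := by
    intro m hm
    obtain ⟨x, rfl⟩ := exists_q2 hm
    exact ⟨φ₂ x, hL.le₂ ⟨x, rfl⟩, rfl⟩
  have hinf₁ : ∀ m, ψ m ∈ L₁.map H.subtype → m ∈ Q1 := by
    rintro m ⟨y, hy, e⟩
    have hyP : y ∈ (sylN P U.ker : Subgroup U.ker) := by
      rw [mem_sylN, show (y : X) = ψ m from e]
      exact h.emb.mem m
    obtain ⟨x, hx⟩ := hL.inf₁ ⟨hy, hyP⟩
    have h1 : ψ (q1 x) = ψ m := by rw [← e, ← hx]; rfl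
    rw [← h.emb.inj h1]
    exact q1_mem x
  have hinf₂ : ∀ m, ψ m ∈ L₂.map H.subtype → m ∈ Q2 := by
    rintro m ⟨y, hy, e⟩
    have hyP : y ∈ (sylN P U.ker : Subgroup U.ker) := by
      rw [mem_sylN, show (y : X) = ψ m from e]
      exact h.emb.mem m
    obtain ⟨x, hx⟩ := hL.inf₂ ⟨hy, hyP⟩
    have h1 : ψ (q2 x) = ψ m := by rw [← e, ← hx]; rfl
    rw [← h.emb.inj h1]
    exact q2_mem x
  refine ⟨U, L₁.map H.subtype, L₂.map H.subtype, ?_⟩
  refine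
  { U_iff := hU
    U_L₁ := ?_
    U_L₂ := ?_
    norm₁ := norm L₁
    norm₂ := norm L₂
    swap₁ := swap L₁ L₂ hL12
    swap₂ := swap L₂ L₁ hL21
    comm := hcomm
    comm_le := ?_
    le₁ := hle₁
    le₂ := hle₂
    inf₁ := hinf₁
    inf₂ := hinf₂
    iso := ?_
    cent := ?_ }
  · rintro _ ⟨x, -, rfl⟩
    exact hHU x
  · rintro _ ⟨x, -, rfl⟩
    exact hHU x
  · intro g g' hg hg'
    rw [← Subgroup.map_sup, hL.sup]
    have h1 := Subgroup.commutator_mem_commutator (Subgroup.mem_top (⟨g, hg⟩ : H)) (Subgroup.mem_top (⟨g', hg'⟩ : H))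
    rw [commutatorElement_def] at h1
    exact ⟨_, h1, rfl⟩
  · obtain ⟨K, i1, i2, hodd, ⟨e⟩⟩ := hL.iso₁
    refine ⟨K, i1, i2, hodd, ?_, ?_⟩
    · exact ⟨(L₁.equivMapOfInjective _ H.subtype_injective).symm.trans e⟩
    · have e2 : L₁ ≃* L₂ := (L₁.equivMapOfInjective α.toMonoidHom α.injective).trans (MulEquiv.subgroupCongr hL12)
      exact ⟨(L₂.equivMapOfInjective _ H.subtype_injective).symm.trans (e2.symm.trans e)⟩
  · intro g hg₁ hg₂
    let C : Subgroup X := Subgroup.centralizer (L₁.map H.subtype : Set X) ⊓ Subgroup.centralizer (L₂.map H.subtype : Set X)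
    have hCm : ∀ y, y ∈ C ↔ (∀ a ∈ L₁.map H.subtype, y * a = a * y) ∧ (∀ b ∈ L₂.map H.subtype, y * b = b * y) := by
      intro y
      change (y ∈ Subgroup.centralizer _ ∧ y ∈ Subgroup.centralizer _) ↔ _
      rw [Subgroup.mem_centralizer_iff, Subgroup.mem_centralizer_iff]
      constructor
      · rintro ⟨h1, h2⟩
        exact ⟨fun a ha => (h1 a ha).symm, fun a ha => (h2 a ha).symm⟩
      · rintro ⟨h1, h2⟩
        exact ⟨fun a ha => (h1 a ha).symm, fun a ha => (h2 a ha).symm⟩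
    have hconj : ∀ y ∈ C, ∀ g, ∀ a, (g⁻¹ * a * g ∈ L₁.map H.subtype ∨ g⁻¹ * a * g ∈ L₂.map H.subtype) →
        g * y * g⁻¹ * a = a * (g * y * g⁻¹) := by
      intro y hy g a ha
      have h1 : y * (g⁻¹ * a * g) = g⁻¹ * a * g * y := by
        rcases ha with ha | ha
        · exact ((hCm y).1 hy).1 _ ha
        · exact ((hCm y).1 hy).2 _ ha
      calc g * y * g⁻¹ * a = g * (y * (g⁻¹ * a * g)) * g⁻¹ := by group
        _ = g * (g⁻¹ * a * g * y) * g⁻¹ := by rw [h1]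
        _ = a * (g * y * g⁻¹) := by group
    have hCn : C.Normal := by
      refine ⟨fun y hy g => ?_⟩
      rw [hCm]
      have hinv : g⁻¹⁻¹ = g := inv_inv g
      by_cases hg : U g⁻¹ = 1
      · refine ⟨fun a ha => hconj y hy g a (Or.inl ?_), fun a ha => hconj y hy g a (Or.inr ?_)⟩
        · have := norm L₁ g⁻¹ hg a ha
          rwa [hinv] at this
        · have := norm L₂ g⁻¹ hg a ha
          rwa [hinv] at this
      · refine ⟨fun a ha => hconj y hy g a (Or.inr ?_), fun a ha => hconj y hy g a (Or.inl ?_)⟩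
        · have := swap L₁ L₂ hL12 g⁻¹ hg a ha
          rwa [hinv] at this
        · have := swap L₂ L₁ hL21 g⁻¹ hg a ha
          rwa [hinv] at this
    have hkey : ∀ y ∈ C, y ∈ (P : Subgroup X) → y = 1 ∨ y = ψ z := by
      intro y hy hyP
      have hyU : U y = 1 := by
        by_contra hyU
        have h1 := swap L₁ L₂ hL12 y hyU _ (hle₁ a1 a1_mem)
        rw [((hCm y).1 hy).1 _ (hle₁ a1 a1_mem), mul_inv_cancel_right] at h1
        exact (four_cases a1 (Q1_le _ a1_mem) a1_sq).1 a1_mem (hinf₂ _ h1)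
      rcases GTwoConfBasic.eq_of_comm hconf ⟨y, hyU⟩ hyP
        (fun x => Subtype.ext (((hCm y).1 hy).1 _ (hle₁ _ (q1_mem x))))
        (fun x => Subtype.ext (((hCm y).1 hy).2 _ (hle₂ _ (q2_mem x))))
        with h1 | h1
      · left
        exact congrArg Subtype.val h1
      · right
        have h2 := congrArg Subtype.val h1
        rw [show (Conf.t φ₁ : H) = φ₁ (.a ((2 ^ 1 : ℕ) : ZMod (2 * 2 ^ 1))) from rfl, h₁, q1_z] at h2
        exact h2
    have hCP : C ≤ P := by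
      apply le_of_central hO P C
      intro y hy hyP g _
      rcases hkey y hy hyP with h1 | h1
      · rw [h1, mul_one, one_mul]
      · rw [h1, h.cen]
    have hgC : g ∈ C := (hCm g).2 ⟨hg₁, hg₂⟩
    exact hkey g hgC (hCP hgC)

end

end Cfsg.Agent.LFourB.StepSixTwo
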