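import Cfsg.Agent.LFourB.StepSixOne
import Cfsg.Agent.LFourB.StepSixTwo
import Cfsg.Agent.LFourA.CzFinal

/-!
# Type B5, step 6: the centraliser of `z` modulo its odd core, cases (a1) and (a2)

Input `In P φ`: in `C(z)` the elements `x2`, `y2` are conjugate to elements of `P` only inside `P`.

* `caseOne` (M22): if `N(Q) ⊓ C(z)` normalises `V1 ⊓ Q`, then `C(z) = O(C(z)) N(V1)`;
* `caseTwo` (L4, U4): if `x1, y1, ze, f` are conjugate in `C(z)`, then `C(z)/O(C(z))` has `SL(2,F) * SL(2,F)`.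
-/

set_option autoImplicit false

namespace Cfsg.Agent.LFourB.StepSixOut

open Subgroup Cfsg.Agent.LFourB M7 StepSixModel StepSix StepSixFus
open Cfsg.Agent.LFourA.Quot Cfsg.Agent.LFourA.CzCt

universe u

/-- lifting of normalising elements -/
theorem norm_lift {X : Type*} [Group X] [Finite X] (P : Sylow 2 X) (A : Subgroup X) (hA : A ≤ P)
    {n : X ⧸ Cfsg.oddCore X} (hn : ∀ a ∈ A, ∃ b ∈ A, n * pr X a * n⁻¹ = pr X b) :
    ∃ n', pr X n' = n ∧ ∀ a ∈ A, n' * a * n'⁻¹ ∈ A := by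
  obtain ⟨m, rfl⟩ := pr_surj n
  have hO : ∀ a ∈ Cfsg.oddCore X, pr X a = 1 := fun a ha => pr_eq_one.2 ha
  have hp : IsPGroup 2 A := P.isPGroup'.to_le hA
  let N : Subgroup X := A ⊔ Cfsg.oddCore X
  have hrel : ¬ 2 ∣ A.relIndex N := by
    rw [Cfsg.Agent.Lib.SylowNormalInf.relIndex_sup_of_normal]
    intro h
    have h1 := h.trans (Subgroup.relIndex_dvd_card A (Cfsg.oddCore X))
    have h2 : (Nat.card (Cfsg.oddCore X)).Coprime 2 := Cfsg.Agent.Lib.Cores.pPrimeCore_coprime 2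
    exact (Nat.Prime.coprime_iff_not_dvd Nat.prime_two).1 h2.symm h1
  have hD : A.map (MulAut.conj m).toMonoidHom ≤ N := by
    rintro _ ⟨a, ha, rfl⟩
    obtain ⟨b, hb, e⟩ := hn a ha
    have h1 : b⁻¹ * (m * a * m⁻¹) ∈ Cfsg.oddCore X := by
      rw [← pr_eq_one, map_mul, map_mul, map_mul, map_inv, map_inv, e, inv_mul_cancel]
    have h2 := mul_mem (mem_sup_left hb : b ∈ N) (mem_sup_right h1)
    rwa [mul_inv_cancel_left] at h2
  obtain ⟨y, hy, hyA⟩ := Cfsg.Agent.Lib.GoldschmidtFusion.exists_conj_le_in (p := 2) hp hrel hD (hp.map _)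
  obtain ⟨q, hq, o, ho, rfl⟩ := Subgroup.mem_sup_of_normal_right.1 hy
  refine ⟨q⁻¹ * (q * o) * m, ?_, ?_⟩
  · rw [inv_mul_cancel_left, map_mul, hO o ho, one_mul]
  · intro a ha
    have h1 := hyA ⟨_, ⟨a, ha, rfl⟩, rfl⟩
    have h2 := A.mul_mem (A.mul_mem (A.inv_mem hq) h1) hq
    have h3 : q⁻¹ * (MulAut.conj (q * o)).toMonoidHom ((MulAut.conj m).toMonoidHom a) * q =
        q⁻¹ * (q * o) * m * a * (q⁻¹ * (q * o) * m)⁻¹ := by
      change q⁻¹ * (q * o * (m * a * m⁻¹) * (q * o)⁻¹) * q = _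
      group
    rwa [h3] at h2

theorem sep_quot {X : Type*} [Group X] [Finite X] {P : Sylow 2 X} {ψ : M7 →* X}
    (h : Sep (P : Subgroup X) ψ) :
    Sep (syl P : Subgroup (X ⧸ Cfsg.oddCore X)) ((pr X).comp ψ) where
  emb :=
    { inj := by
        intro a b e
        exact h.emb.inj (inj_of_mem P (h.emb.mem a) (h.emb.mem b) e)
      range := by
        rw [syl_coe, ← h.emb.range, MonoidHom.range_comp] }
  cen g := by
    obtain ⟨g, rfl⟩ := pr_surj g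
    rw [MonoidHom.comp_apply, ← map_mul, ← map_mul, h.cen]
  sx g m e := by
    obtain ⟨g', -, e'⟩ := conj_lift P (h.emb.mem x2) (h.emb.mem m) e
    exact h.sx g' m e'
  sy g m e := by
    obtain ⟨g', -, e'⟩ := conj_lift P (h.emb.mem y2) (h.emb.mem m) e
    exact h.sy g' m e'

variable {G : Type u} [Group G]

/-- the input -/
structure In (P : Subgroup G) (φ : M7 →* G) : Prop where
  emb : Emb7 P φ
  sx : ∀ (g : G) (m : M7), g * φ z = φ z * g → g * φ x2 * g⁻¹ = φ m → cx m = true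
  sy : ∀ (g : G) (m : M7), g * φ z = φ z * g → g * φ y2 * g⁻¹ = φ m → cy m = true

theorem mem_cent (φ : M7 →* G) (m : M7) : φ m ∈ centralizer ({φ z} : Set G) := by
  rw [mem_centralizer_singleton_iff, ← map_mul, ← map_mul, z_comm]

/-- the embedding in `C(z)` -/
def res (φ : M7 →* G) : M7 →* centralizer ({φ z} : Set G) := φ.codRestrict _ (mem_cent φ)

theorem res_coe (φ : M7 →* G) (m : M7) : (res φ m : G) = φ m := rfl

variable {P : Sylow 2 G} {φ : M7 →* G} (h : In (P : Subgroup G) φ)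

include h

theorem le_cent : (P : Subgroup G) ≤ centralizer ({φ z} : Set G) := by
  intro g hg
  obtain ⟨m, rfl⟩ := h.emb.exists_eq hg
  exact mem_cent φ m

theorem sep : Sep ((P.subtype (le_cent h) : Sylow 2 (centralizer ({φ z} : Set G))) :
    Subgroup (centralizer ({φ z} : Set G))) (res φ) where
  emb :=
    { inj := fun a b e => h.emb.inj (congrArg Subtype.val e)
      range := by
        ext g
        constructor
        · rintro ⟨m, rfl⟩
          exact h.emb.mem m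
        · intro hg
          obtain ⟨m, hm⟩ := h.emb.exists_eq (show (g : G) ∈ (P : Subgroup G) from hg)
          exact ⟨m, Subtype.ext hm⟩ }
  cen g := Subtype.ext (mem_centralizer_singleton_iff.1 g.2)
  sx g m e := h.sx g m (mem_centralizer_singleton_iff.1 g.2) (congrArg Subtype.val e)
  sy g m e := h.sy g m (mem_centralizer_singleton_iff.1 g.2) (congrArg Subtype.val e)

variable [Finite G]

/-- case (a1) -/
theorem caseOne
    (hC1 : ∀ (G : Type u) [Group G] [Finite G] (P : Sylow 2 G) (A B : Subgroup G), A ⊓ B = ⊥ →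
      Cfsg.IsStronglyClosed A (P : Subgroup G) → Cfsg.IsStronglyClosed B (P : Subgroup G) →
      ⁅Subgroup.normalClosure (A : Set G), Subgroup.normalClosure (B : Set G)⁆ ≤ Cfsg.oddCore G)
    (hN : ∀ n : G, n * φ z = φ z * n → n ∈ normalizer (Q.map φ : Set G) → ∀ m ∈ B1, ∃ m' ∈ B1, n * φ m * n⁻¹ = φ m')
    (c : G) (hc : c * φ z = φ z * c) :
    ∃ o ∈ Cfsg.centralizerPPrimeCore 2 (φ z), ∃ n : G, n * φ z = φ z * n ∧
      n ∈ normalizer (V1.map φ : Set G) ∧ c = o * n := by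
  set H := centralizer ({φ z} : Set G) with hH
  have hs := sep h
  have hq := sep_quot hs
  have hA : ∀ A : Subgroup M7, A.map (res φ) ≤ (P.subtype (le_cent h) : Sylow 2 H) := fun A => hs.emb.map_le A
  have hmemN : ∀ (A : Subgroup M7) (n : H), (∀ a ∈ A.map (res φ), n * a * n⁻¹ ∈ A.map (res φ)) →
      (n : G) ∈ normalizer (A.map φ : Set G) := by
    intro A n hn
    have h1 : (A.map φ).map (MulAut.conj (n : G)).toMonoidHom = A.map φ := by
      apply Subgroup.eq_of_le_of_card_ge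
      · rintro _ ⟨_, ⟨m, hm, rfl⟩, rfl⟩
        obtain ⟨m', hm', e⟩ := hn _ ⟨m, hm, rfl⟩
        exact ⟨m', hm', congrArg Subtype.val e⟩
      · have hinj : Function.Injective (MulAut.conj (n : G)).toMonoidHom := (MulAut.conj (n : G)).injective
        rw [Subgroup.card_map_of_injective hinj]
    rw [Subgroup.mem_normalizer_iff]
    intro x
    constructor
    · intro hx
      rw [← h1]
      exact ⟨x, hx, rfl⟩
    · intro hx
      rw [← h1] at hx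
      obtain ⟨y, hy, e⟩ := hx
      have h2 : y = x := (MulAut.conj (n : G)).injective e
      rwa [← h2]
  have hV := StepSixOne.V1_normal hq hC1 oddCore_quot (by
    intro n hn m hm
    obtain ⟨n', rfl, hn'⟩ := norm_lift (P.subtype (le_cent h)) (Q.map (res φ)) (hA Q) (n := n) (by
      rintro _ ⟨q, hq', rfl⟩
      obtain ⟨q', hq'', e⟩ := (Subgroup.mem_normalizer_iff.1 hn _).1 ⟨q, hq', rfl⟩
      exact ⟨_, ⟨q', hq'', rfl⟩, e.symm⟩)
    obtain ⟨m', hm', e⟩ := hN n' (mem_centralizer_singleton_iff.1 n'.2) (hmemN Q n' hn') m hm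
    refine ⟨m', hm', ?_⟩
    rw [MonoidHom.comp_apply, MonoidHom.comp_apply, ← map_inv, ← map_mul, ← map_mul]
    congr 1
    exact Subtype.ext e)
  obtain ⟨n', hn', hn''⟩ := norm_lift (P.subtype (le_cent h)) (V1.map (res φ)) (hA V1)
    (n := pr H ⟨c, mem_centralizer_singleton_iff.2 hc⟩) (by
      rintro _ ⟨q, hq', rfl⟩
      obtain ⟨q', hq'', e⟩ := hV.conj_mem _ ⟨q, hq', rfl⟩ (pr H ⟨c, mem_centralizer_singleton_iff.2 hc⟩)
      exact ⟨_, ⟨q', hq'', rfl⟩, e.symm⟩)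
  refine ⟨c * (n' : G)⁻¹, ?_, n', mem_centralizer_singleton_iff.1 n'.2, hmemN V1 n' hn'', by group⟩
  refine ⟨⟨c, mem_centralizer_singleton_iff.2 hc⟩ * n'⁻¹, ?_, rfl⟩
  change _ ∈ Cfsg.oddCore H
  rw [← pr_eq_one, map_mul, map_inv, hn', mul_inv_cancel]

/-- The position of the Sylow subgroup in case (a2). -/
structure SPos {G X : Type*} [Group G] [Group X] (φ : M7 →* G) (p : centralizer ({φ z} : Set G) →* X)
    (K₁ K₂ : Subgroup X) : Prop where
  q₁ : ∀ m ∈ Q1, φ m ∈ up p K₁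
  q₂ : ∀ m ∈ Q2, φ m ∈ up p K₂
  inf₁ : ∀ m, φ m ∈ up p K₁ → m ∈ Q1
  inf₂ : ∀ m, φ m ∈ up p K₂ → m ∈ Q2
  keep : ∀ m, tU m = true → ∀ x, (x ∈ K₁ → p (res φ m) * x * (p (res φ m))⁻¹ ∈ K₁) ∧
    (x ∈ K₂ → p (res φ m) * x * (p (res φ m))⁻¹ ∈ K₂)
  swap : ∀ m, tU m = false → ∀ x, (x ∈ K₁ → p (res φ m) * x * (p (res φ m))⁻¹ ∈ K₂) ∧
    (x ∈ K₂ → p (res φ m) * x * (p (res φ m))⁻¹ ∈ K₁)
  char : ∃ U : X →* ℤˣ, (∀ m, U (p (res φ m)) = 1 ↔ tU m = true) ∧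
    (∀ g, U g = 1 → ∀ x, (x ∈ K₁ → g * x * g⁻¹ ∈ K₁) ∧ (x ∈ K₂ → g * x * g⁻¹ ∈ K₂)) ∧
    (∀ g, U g ≠ 1 → ∀ x, (x ∈ K₁ → g * x * g⁻¹ ∈ K₂) ∧ (x ∈ K₂ → g * x * g⁻¹ ∈ K₁)) ∧
    (∀ g g', U g = 1 → U g' = 1 → g * g' * g⁻¹ * g'⁻¹ ∈ K₁ ⊔ K₂)

/-- case (a2) -/
theorem caseTwo
    (hC1 : ∀ (G : Type u) [Group G] [Finite G] (P : Sylow 2 G) (A B : Subgroup G), A ⊓ B = ⊥ →
      Cfsg.IsStronglyClosed A (P : Subgroup G) → Cfsg.IsStronglyClosed B (P : Subgroup G) →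
      ⁅Subgroup.normalClosure (A : Set G), Subgroup.normalClosure (B : Set G)⁆ ≤ Cfsg.oddCore G)
    (hGW : ∀ (X : Type u) [Group X] [Finite X] [Group.IsPerfect X]
      (S : Sylow 2 X) (n : ℕ), 2 ≤ n → Nonempty ((S : Subgroup X) ≃* DihedralGroup n) →
      (∃ (F : Type) (_ : Field F) (_ : Fintype F), Odd (Fintype.card F) ∧ 3 < Fintype.card F ∧
        Nonempty (X ⧸ Cfsg.oddCore X ≃* Matrix.ProjectiveSpecialLinearGroup (Fin 2) F)) ∨
      Nonempty (X ⧸ Cfsg.oddCore X ≃* alternatingGroup (Fin 7)))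
    (hze : ∃ g : G, g * φ z = φ z * g ∧ g * φ x1 * g⁻¹ = φ ze)
    (hy : ∃ g : G, g * φ z = φ z * g ∧ g * φ x1 * g⁻¹ = φ y1)
    (hf : ∃ g : G, g * φ z = φ z * g ∧ g * φ x1 * g⁻¹ = φ f) :
    ∃ (X : Type u) (_ : Group X) (_ : Finite X) (p : centralizer ({φ z} : Set G) →* X) (K₁ K₂ : Subgroup X)
      (F : Type) (_ : Field F) (_ : Fintype F), Odd (Fintype.card F) ∧ CZL (φ z) F p K₁ K₂ ∧ SPos φ p K₁ K₂ := by
  set C := centralizer ({φ z} : Set G) with hC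
  have hs := sep h
  have hq := sep_quot hs
  have key : ∀ m : M7, (∃ g : G, g * φ z = φ z * g ∧ g * φ x1 * g⁻¹ = φ m) →
      ∃ g : C ⧸ Cfsg.oddCore C, g * ((pr C).comp (res φ)) x1 * g⁻¹ = ((pr C).comp (res φ)) m := by
    rintro m ⟨g, hg, e⟩
    refine ⟨pr C ⟨g, mem_centralizer_singleton_iff.2 hg⟩, ?_⟩
    rw [MonoidHom.comp_apply, MonoidHom.comp_apply, ← map_inv, ← map_mul, ← map_mul]
    congr 1
    exact Subtype.ext e
  obtain ⟨U, L₁, L₂, hL⟩ := StepSixTwo.main hC1 hGW oddCore_quot hq (key _ hze) (key _ hy) (key _ hf)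
  obtain ⟨F, i1, i2, hodd, hF₁, hF₂⟩ := hL.iso
  have hz : pr C (self (φ z)) ∈ L₂ := hL.le₂ z z_mem_Q2
  have hz' : pr C (self (φ z)) ∈ L₁ := hL.le₁ z z_mem_Q1
  refine ⟨C ⧸ Cfsg.oddCore C, inferInstance, inferInstance, pr C, L₁, L₂, F, i1, i2, hodd, ⟨⟨pr_surj, ?_, hL.comm, hz', hz,
    ?_, ?_, ?_⟩, hF₁, hF₂⟩, ⟨?_, ?_, ?_, ?_, ?_, ?_, ?_⟩⟩
  · intro x
    rw [Cfsg.Agent.LFourA.CzFinal.mem_core, pr_eq_one]
  · intro x hx hx'
    refine hL.cent x ?_ ?_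
    · intro a ha
      exact (hL.comm a ha x hx').symm
    · intro b hb
      exact hL.comm x hx b hb
  · intro g
    by_cases hg : U g = 1
    · exact Or.inl ⟨hL.norm₁ g hg, hL.norm₂ g hg⟩
    · exact Or.inr ⟨hL.swap₁ g hg, hL.swap₂ g hg⟩
  · intro g h1 h2
    exact hL.cent g h1 h2
  · intro m hm
    exact mem_up.2 ⟨mem_cent φ m, hL.le₁ m hm⟩
  · intro m hm
    exact mem_up.2 ⟨mem_cent φ m, hL.le₂ m hm⟩
  · intro m hm
    obtain ⟨_, h1⟩ := mem_up.1 hm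
    exact hL.inf₁ m h1
  · intro m hm
    obtain ⟨_, h1⟩ := mem_up.1 hm
    exact hL.inf₂ m h1
  · intro m hm x
    have h1 := (hL.U_iff.iff m).2 hm
    exact ⟨fun hx => hL.norm₁ _ h1 x hx, fun hx => hL.norm₂ _ h1 x hx⟩
  · intro m hm x
    have h1 : U ((pr C).comp (res φ) m) ≠ 1 := by
      rw [Ne, hL.U_iff.iff m, hm]
      decide
    exact ⟨fun hx => hL.swap₁ _ h1 x hx, fun hx => hL.swap₂ _ h1 x hx⟩
  · exact ⟨U, hL.U_iff.iff, fun g hg x => ⟨hL.norm₁ g hg x, hL.norm₂ g hg x⟩,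
      fun g hg x => ⟨hL.swap₁ g hg x, hL.swap₂ g hg x⟩, hL.comm_le⟩

end Cfsg.Agent.LFourB.StepSixOut
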