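import Cfsg.Agent.TwoFusion.StronglyEmbeddedBasic
import Cfsg.Prelude.Def_TwoFusion

/-!
# Strongly closed class of an involution: version with S1174

As `XKill.false_of_class`, but with S1174 (`Gen G`) instead of Goldschmidt's theorem: here a proper subgroup `M` of `G`
containing the centralizers of the involutions of `V` is needed (and `V`, `S` need not be commutative).
-/

set_option autoImplicit false

namespace Cfsg.Agent.LFourB.XKillGen

open Subgroup

universe u

variable {G : Type u} [Group G] [Finite G]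

/-- `V` strongly closed in `S`, the centralizers of the involutions of `V` lie in a proper subgroup: all involutions are
conjugate. -/
theorem isConj_of_stronglyClosed
    (hgen : ∀ (S : Sylow 2 G) (T : Subgroup G), T ≠ ⊥ → Cfsg.IsStronglyClosed T (S : Subgroup G) →
      (⨆ t : {t : G // t ∈ T ∧ orderOf t = 2}, Subgroup.centralizer ({(t : G)} : Set G)) ≠ ⊤ →
      ∃ H : Subgroup G, Cfsg.IsStronglyEmbedded H)
    (S : Sylow 2 G) {V : Subgroup G} (hV1 : V ≠ ⊥) (hsc : Cfsg.IsStronglyClosed V (S : Subgroup G))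
    {M : Subgroup G} (hM : M ≠ ⊤) (hC : ∀ v ∈ V, orderOf v = 2 → centralizer ({v} : Set G) ≤ M)
    (x y : G) (hx : orderOf x = 2) (hy : orderOf y = 2) : IsConj x y := by
  obtain ⟨H, hH⟩ := hgen S V hV1 hsc (by
    intro htop
    apply hM
    rw [eq_top_iff, ← htop]
    exact iSup_le fun t => hC t t.2.1 t.2.2)
  exact Cfsg.Agent.TwoFusion.StronglyEmbeddedBasic.isConj_of_involutions hH x y hx hy

/-- The class of the involution `z` cannot meet `S` exactly in `V \ {1}` if the centralizers of the involutions of `V` lie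
in a proper subgroup and `S` has an involution outside `V`. -/
theorem false_of_class
    (hgen : ∀ (S : Sylow 2 G) (T : Subgroup G), T ≠ ⊥ → Cfsg.IsStronglyClosed T (S : Subgroup G) →
      (⨆ t : {t : G // t ∈ T ∧ orderOf t = 2}, Subgroup.centralizer ({(t : G)} : Set G)) ≠ ⊤ →
      ∃ H : Subgroup G, Cfsg.IsStronglyEmbedded H)
    (S : Sylow 2 G) {V : Subgroup G} (hVS : V ≤ S) {z : G} (hz : z ∈ V) (hz2 : orderOf z = 2)
    (hcl : ∀ s ∈ S, IsConj z s → s ∈ V) (hV : ∀ v ∈ V, v ≠ 1 → IsConj z v)
    {M : Subgroup G} (hM : M ≠ ⊤) (hC : ∀ v ∈ V, orderOf v = 2 → centralizer ({v} : Set G) ≤ M)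
    {y : G} (hy : y ∈ S) (hy2 : orderOf y = 2) (hyV : y ∉ V) : False := by
  have hsc : Cfsg.IsStronglyClosed V (S : Subgroup G) := by
    refine ⟨hVS, fun x hx g hg => ?_⟩
    by_cases h1 : x = 1
    · rw [h1]; simp
    · exact hcl _ hg ((hV x hx h1).trans (isConj_iff.mpr ⟨g, rfl⟩))
  have hV1 : V ≠ ⊥ := by
    rintro rfl
    rw [mem_bot] at hz
    rw [hz, orderOf_one] at hz2
    exact absurd hz2 (by norm_num)
  exact hyV (hcl y hy (isConj_of_stronglyClosed hgen S hV1 hsc hM hC z y hz2 hy2))

end Cfsg.Agent.LFourB.XKillGen
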